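import Cfsg.Agent.Cores.PSolvable

/-!
Hall–Higman Lemma 1.2.3, `O_{p',p}` and `IsPConstrained`.
-/

namespace Cfsg.Agent.Cores

open Subgroup
open scoped commutatorElement

set_option linter.style.haveILetI false

variable {G : Type*} [Group G] {H : Type*} [Group H] {p : ℕ}

/-- Hall–Higman Lemma 1.2.3, assuming only that `C_G(O_p(G))` is `p`-solvable. -/
theorem centralizer_pCore_le_of_centralizer [Finite G] [Fact p.Prime]
    (hs : IsPSolvable p (centralizer (pCore p G : Set G)))
    (h : pPrimeCore p G = ⊥) : centralizer (pCore p G : Set G) ≤ pCore p G := by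
  set F := pCore p G with hF
  set C := centralizer (F : Set G) with hC
  set Q := C.map (QuotientGroup.mk' F) with hQ
  rw [show (C ≤ F) ↔ Q = ⊥ by rw [hQ, Subgroup.map_eq_bot_iff, QuotientGroup.ker_mk']]
  by_contra hne
  haveI : Q.Normal := (inferInstance : C.Normal).map _ (QuotientGroup.mk'_surjective F)
  haveI : Nontrivial Q := (Subgroup.nontrivial_iff_ne_bot Q).mpr hne
  have hQs : IsPSolvable p Q := isPSolvable_of_surjective hs
    ((QuotientGroup.mk' F).subgroupMap C) (MonoidHom.subgroupMap_surjective _ C)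
  rcases pCore_ne_bot_or_pPrimeCore_ne_bot hQs with h' | h'
  · have h1 : (pCore p Q).map Q.subtype ≤ pCore p (G ⧸ F) := map_pCore_le_of_normal Q
    rw [pCore_quotient_pCore, le_bot_iff,
      Subgroup.map_eq_bot_iff_of_injective _ Q.subtype_injective] at h1
    exact h' h1
  · apply h'
    rw [← Subgroup.map_eq_bot_iff_of_injective _ Q.subtype_injective]
    set K := (pPrimeCore p Q).map Q.subtype with hK
    set D := K.comap (QuotientGroup.mk' F) ⊓ C with hD
    have hmapD : D.map (QuotientGroup.mk' F) = K := by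
      refine le_antisymm (Subgroup.map_le_iff_le_comap.mpr inf_le_left) fun z hz => ?_
      obtain ⟨c, hc, rfl⟩ : z ∈ Q := Subgroup.map_subtype_le _ hz
      exact ⟨c, ⟨hz, hc⟩, rfl⟩
    haveI : D.Normal := inferInstance
    set Z := F.subgroupOf D with hZ
    have hZp : IsPGroup p Z := pCore_isPGroup.comap_subtype
    have hZidx : (Z.index).Coprime p := by
      change (F.relIndex D).Coprime p
      rw [← card_map_mk', hmapD, hK, card_map_eq _ Q.subtype_injective]
      exact coprime_card_pPrimeCore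
    obtain ⟨k, hk⟩ := IsPGroup.iff_card.mp hZp
    obtain ⟨L, hL⟩ := Subgroup.exists_right_complement'_of_coprime (N := Z)
      (by rw [hk]; exact hZidx.symm.pow_left k)
    have hLn : L.Normal := by
      refine Subgroup.normalizer_eq_top_iff.mp (top_le_iff.mp ?_)
      rw [← hL.sup_eq_top]
      refine sup_le (fun z hz => ?_) Subgroup.le_normalizer
      refine Subgroup.mem_normalizer_iff.mpr fun l => ?_
      have hcomm : z * l * z⁻¹ = l := by
        rw [mul_inv_eq_iff_eq_mul]
        exact Subtype.ext (l.2.2 (z : G) hz)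
      rw [hcomm]
    have hLcard : (Nat.card L).Coprime p := by rwa [← hL.symm.index_eq_card]
    have hLb : L.map D.subtype ≤ pPrimeCore p G :=
      (Subgroup.map_mono (le_pPrimeCore hLcard)).trans (map_pPrimeCore_le_of_normal D)
    rw [h, le_bot_iff, Subgroup.map_eq_bot_iff_of_injective _ D.subtype_injective] at hLb
    have hDF : D ≤ F := by
      rw [← Subgroup.subgroupOf_eq_top, ← hL.sup_eq_top, hLb, sup_bot_eq]
    rw [← hmapD, Subgroup.map_eq_bot_iff, QuotientGroup.ker_mk']
    exact hDF

/-- Hall–Higman Lemma 1.2.3 for `p`-solvable groups. -/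
theorem centralizer_pCore_le [Finite G] [Fact p.Prime] (hs : IsPSolvable p G)
    (h : pPrimeCore p G = ⊥) : centralizer (pCore p G : Set G) ≤ pCore p G :=
  centralizer_pCore_le_of_centralizer (isPSolvable_subgroup hs _) h

/-- Coprime lifting of centralizers: if `N` is a normal `p'`-subgroup and `P` a `p`-subgroup,
the centralizer of the image of `P` in `G/N` is the image of `C_G(P)`. -/
theorem map_centralizer_of_coprime [Finite G] [hp : Fact p.Prime] (N : Subgroup G) [N.Normal]
    (hN : (Nat.card N).Coprime p) {P : Subgroup G} (hP : IsPGroup p P) :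
    (centralizer (P : Set G)).map (QuotientGroup.mk' N) =
      centralizer ((P.map (QuotientGroup.mk' N) : Subgroup (G ⧸ N)) : Set (G ⧸ N)) := by
  refine le_antisymm ?_ fun z hz => ?_
  · rintro _ ⟨g, hg, rfl⟩ _ ⟨x, hx, rfl⟩
    rw [← map_mul, ← map_mul, hg x hx]
  obtain ⟨g, rfl⟩ := QuotientGroup.mk'_surjective N z
  set M := P ⊔ N with hM
  -- every `g`-conjugate of an element of `P` lies in `P ⊔ N`
  have hconj : P.map (MulAut.conj g).toMonoidHom ≤ M := by
    rintro _ ⟨x, hx, rfl⟩
    have h1 : QuotientGroup.mk' N (g * x * g⁻¹ * x⁻¹) = 1 := by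
      simp only [map_mul, map_inv]
      rw [← hz _ ⟨x, hx, rfl⟩]
      group
    have h2 : g * x * g⁻¹ * x⁻¹ ∈ N := by rwa [← QuotientGroup.eq_one_iff]
    simpa using mul_mem (show g * x * g⁻¹ * x⁻¹ ∈ M from (le_sup_right : N ≤ M) h2)
      ((le_sup_left : P ≤ M) hx)
  have hidx : ∀ R : Subgroup G, R ≤ M → Nat.card R = Nat.card P →
      ¬ p ∣ (R.subgroupOf M).index := by
    intro R hR hRc hdvd
    have h1 : Nat.card R * R.relIndex M = Nat.card M := by
      rw [← relIndex_bot_left R, relIndex_mul_relIndex ⊥ R M bot_le hR, relIndex_bot_left]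
    have h2 : R.relIndex M ∣ Nat.card N := by
      have := card_sup_dvd P N
      rw [← hM, ← h1, hRc] at this
      exact (Nat.mul_dvd_mul_iff_left Nat.card_pos).mp this
    exact hp.out.not_dvd_one (hN.symm ▸ Nat.dvd_gcd dvd_rfl (hdvd.trans h2))
  let S₁ : Sylow p M := (hP.comap_subtype (K := M)).toSylow (hidx P le_sup_left rfl)
  let S₂ : Sylow p M := ((hP.map (MulAut.conj g).toMonoidHom).comap_subtype (K := M)).toSylow
    (hidx _ hconj (card_map_eq _ (MulAut.conj g).injective))
  obtain ⟨m, hm⟩ := MulAction.exists_smul_eq M S₂ S₁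
  obtain ⟨v, hv, u, hu, hvu⟩ : ∃ v ∈ P, ∃ u ∈ N, (v : G) * u = m := by
    obtain ⟨v, hv, u, hu, h3⟩ := Subgroup.mem_sup_of_normal_right.mp m.2
    exact ⟨v, hv, u, hu, h3⟩
  refine ⟨u * g, fun x hx => ?_, ?_⟩
  · -- `u * g` normalizes `P`
    have h4 : ∀ x ∈ P, u * g * x * (u * g)⁻¹ ∈ P := by
      intro x hx
      have h5 : (⟨g * x * g⁻¹, hconj ⟨x, hx, rfl⟩⟩ : M) ∈ (S₂ : Subgroup M) := ⟨x, hx, rfl⟩
      have h6 : m * ⟨g * x * g⁻¹, hconj ⟨x, hx, rfl⟩⟩ * m⁻¹ ∈ (S₁ : Subgroup M) := by
        rw [← hm, Sylow.coe_subgroup_smul]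
        exact ⟨_, h5, rfl⟩
      have h7 : (m : G) * (g * x * g⁻¹) * (m : G)⁻¹ ∈ P := h6
      rw [← hvu] at h7
      have h8 := P.mul_mem (P.mul_mem (P.inv_mem hv) h7) hv
      simpa [mul_assoc] using h8
    have h9 : u * g * x * (u * g)⁻¹ * x⁻¹ ∈ P ⊓ N := by
      refine ⟨P.mul_mem (h4 x hx) (P.inv_mem hx), ?_⟩
      change u * g * x * (u * g)⁻¹ * x⁻¹ ∈ N
      have h10 : QuotientGroup.mk' N (u * g * x * (u * g)⁻¹ * x⁻¹) = 1 := by
        have hu1 : QuotientGroup.mk' N u = 1 := (QuotientGroup.eq_one_iff u).mpr hu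
        simp only [map_mul, map_inv, hu1, one_mul]
        rw [← hz _ ⟨x, hx, rfl⟩]
        group
      rwa [← QuotientGroup.eq_one_iff]
    rw [disjoint_of_isPGroup_of_coprime hP hN, Subgroup.mem_bot, mul_inv_eq_one,
      mul_inv_eq_iff_eq_mul] at h9
    exact h9.symm
  · rw [map_mul, show QuotientGroup.mk' N u = 1 from (QuotientGroup.eq_one_iff u).mpr hu, one_mul]

/-! ### `O_{p',p}` -/

instance pPrimePCore_normal : (pPrimePCore p G).Normal :=
  (inferInstance : (pCore p (G ⧸ pPrimeCore p G)).Normal).comap _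

theorem pPrimeCore_le_pPrimePCore : pPrimeCore p G ≤ pPrimePCore p G := by
  intro x hx
  simp [pPrimePCore, (QuotientGroup.eq_one_iff x).mpr hx, one_mem]

theorem map_pPrimePCore :
    (pPrimePCore p G).map (QuotientGroup.mk' (pPrimeCore p G)) = pCore p (G ⧸ pPrimeCore p G) :=
  map_comap_eq_self_of_surjective (QuotientGroup.mk'_surjective _) _

theorem pCore_le_pPrimePCore : pCore p G ≤ pPrimePCore p G :=
  Subgroup.map_le_iff_le_comap.mp (pCore_map_le (QuotientGroup.mk'_surjective _))

theorem pPrimePCore_map_le [Finite G] {f : G →* H} (hf : Function.Surjective f) :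
    (pPrimePCore p G).map f ≤ pPrimePCore p H := by
  haveI : Finite H := Finite.of_surjective f hf
  let φ := QuotientGroup.map (pPrimeCore p G) (pPrimeCore p H) f
    (Subgroup.map_le_iff_le_comap.mp (pPrimeCore_map_le hf))
  have hφ : Function.Surjective φ := fun y => by
    induction y using QuotientGroup.induction_on with | _ y => ?_
    obtain ⟨x, rfl⟩ := hf y
    exact ⟨x, rfl⟩
  rintro _ ⟨x, hx, rfl⟩
  exact pCore_map_le hφ ⟨QuotientGroup.mk' _ x, hx, rfl⟩

instance pPrimePCore_characteristic [Finite G] : (pPrimePCore p G).Characteristic := by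
  rw [characteristic_iff_map_le]
  exact fun e => pPrimePCore_map_le e.surjective

theorem pPrimePCore_eq_top_iff [Finite G] [Fact p.Prime] :
    pPrimePCore p G = ⊤ ↔ IsPGroup p (G ⧸ pPrimeCore p G) := by
  rw [← pCore_eq_top_iff]
  refine ⟨fun h => ?_, fun h => ?_⟩
  · rw [← map_pPrimePCore, h, Subgroup.map_top_of_surjective _ (QuotientGroup.mk'_surjective _)]
  · rw [pPrimePCore, h, Subgroup.comap_top]

/-- The image of a Sylow subgroup of `O_{p',p}(G)` is `O_p(G/O_{p'}(G))`. -/
theorem map_sylow_pPrimePCore [Finite G] [hp : Fact p.Prime] (P : Sylow p (pPrimePCore p G)) :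
    ((P : Subgroup (pPrimePCore p G)).map (pPrimePCore p G).subtype).map
      (QuotientGroup.mk' (pPrimeCore p G)) = pCore p (G ⧸ pPrimeCore p G) := by
  set P₀ := (P : Subgroup (pPrimePCore p G)).map (pPrimePCore p G).subtype with hP₀
  have hle : P₀.map (QuotientGroup.mk' (pPrimeCore p G)) ≤ pCore p (G ⧸ pPrimeCore p G) :=
    (Subgroup.map_mono (Subgroup.map_subtype_le _)).trans map_pPrimePCore.le
  refine le_antisymm hle ?_
  obtain ⟨k, hk⟩ := IsPGroup.iff_card.mp
    (pCore_isPGroup (p := p) (G := G ⧸ pPrimeCore p G))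
  rw [← relIndex_eq_one]
  have h1 : (P₀.map (QuotientGroup.mk' (pPrimeCore p G))).relIndex
      (pCore p (G ⧸ pPrimeCore p G)) ∣ p ^ k := hk ▸ relIndex_dvd_card _ _
  have h2 : (P₀.map (QuotientGroup.mk' (pPrimeCore p G))).relIndex
      (pCore p (G ⧸ pPrimeCore p G)) ∣ (P : Subgroup (pPrimePCore p G)).index := by
    rw [← map_pPrimePCore, Subgroup.relIndex_map_map, QuotientGroup.ker_mk',
      sup_eq_left.mpr pPrimeCore_le_pPrimePCore]
    refine (relIndex_dvd_of_le_left _ le_sup_left).trans (dvd_of_eq ?_)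
    change (((P : Subgroup (pPrimePCore p G)).map (pPrimePCore p G).subtype).subgroupOf
      (pPrimePCore p G)).index = _
    rw [Subgroup.subgroupOf, Subgroup.comap_map_eq_self_of_injective (subtype_injective _)]
  exact Nat.eq_one_of_dvd_coprimes
    ((hp.out.coprime_iff_not_dvd.mpr P.not_dvd_index).pow_left k) h1 h2

/-- `p`-constraint in terms of `G/O_{p'}(G)`. -/
theorem isPConstrained_iff [Finite G] [Fact p.Prime] :
    IsPConstrained p G ↔
      centralizer (pCore p (G ⧸ pPrimeCore p G) : Set (G ⧸ pPrimeCore p G)) ≤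
        pCore p (G ⧸ pPrimeCore p G) := by
  have key : ∀ P : Sylow p (pPrimePCore p G),
      centralizer (((P : Subgroup (pPrimePCore p G)).map (pPrimePCore p G).subtype : Subgroup G) :
          Set G) ≤ pPrimePCore p G ↔
      centralizer (pCore p (G ⧸ pPrimeCore p G) : Set (G ⧸ pPrimeCore p G)) ≤
        pCore p (G ⧸ pPrimeCore p G) := by
    intro P
    rw [← map_sylow_pPrimePCore P, ← map_centralizer_of_coprime _ coprime_card_pPrimeCore
      (P.isPGroup'.map _), map_sylow_pPrimePCore P, Subgroup.map_le_iff_le_comap]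
    rfl
  exact ⟨fun h => (key (Classical.arbitrary _)).mp (h _), fun h P => (key P).mpr h⟩

theorem isPConstrained_iff_of_pPrimeCore_eq_bot [Finite G] [Fact p.Prime]
    (h : pPrimeCore p G = ⊥) :
    IsPConstrained p G ↔ centralizer (pCore p G : Set G) ≤ pCore p G := by
  rw [isPConstrained_iff]
  have hcomap : (pCore p (G ⧸ pPrimeCore p G)).comap (QuotientGroup.mk' (pPrimeCore p G)) =
      pCore p G := comap_pCore_quotient _ (by rw [h]; exact IsPGroup.of_bot)
  have hmap : (pCore p G).map (QuotientGroup.mk' (pPrimeCore p G)) =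
      pCore p (G ⧸ pPrimeCore p G) := by
    rw [← hcomap, map_comap_eq_self_of_surjective (QuotientGroup.mk'_surjective _)]
  rw [← hmap, ← map_centralizer_of_coprime _ coprime_card_pPrimeCore pCore_isPGroup, hmap,
    Subgroup.map_le_iff_le_comap, hcomap]

theorem isPConstrained_iff_quotient [Finite G] [Fact p.Prime] :
    IsPConstrained p G ↔ IsPConstrained p (G ⧸ pPrimeCore p G) := by
  rw [isPConstrained_iff,
    isPConstrained_iff_of_pPrimeCore_eq_bot (G := G ⧸ pPrimeCore p G)
      pPrimeCore_quotient_pPrimeCore]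

theorem isPConstrained_of_isPSolvable [Finite G] [Fact p.Prime] (h : IsPSolvable p G) :
    IsPConstrained p G :=
  isPConstrained_iff.mpr
    (centralizer_pCore_le (isPSolvable_quotient h _) pPrimeCore_quotient_pPrimeCore)

theorem isPConstrained_of_centralizer_sylow [Finite G] [Fact p.Prime]
    (P : Sylow p (pPrimePCore p G))
    (h : IsPSolvable p (centralizer
      (((P : Subgroup (pPrimePCore p G)).map (pPrimePCore p G).subtype : Subgroup G) : Set G))) :
    IsPConstrained p G := by
  refine isPConstrained_iff.mpr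
    (centralizer_pCore_le_of_centralizer ?_ pPrimeCore_quotient_pPrimeCore)
  rw [← map_sylow_pPrimePCore P, ← map_centralizer_of_coprime _ coprime_card_pPrimeCore
    (P.isPGroup'.map _)]
  exact isPSolvable_of_surjective h _ (MonoidHom.subgroupMap_surjective _ _)

end Cfsg.Agent.Cores
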