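import Cfsg.Agent.Cores.Basic

/-!
API for `pCore` and `pPrimeCore` (and so `oddCore`, which is `pPrimeCore 2`).
-/

namespace Cfsg.Agent.Cores

open Subgroup

variable {G : Type*} [Group G] {H : Type*} [Group H] {p : ℕ}

/-! ### p-core -/

theorem le_pCore {N : Subgroup G} [hN : N.Normal] (h : IsPGroup p N) : N ≤ pCore p G :=
  le_sSup ⟨hN, h⟩

theorem pCore_le {K : Subgroup G}
    (h : ∀ N : Subgroup G, N.Normal → IsPGroup p N → N ≤ K) : pCore p G ≤ K :=
  sSup_le fun N hN => h N hN.1 hN.2

theorem pCore_isPGroup : IsPGroup p (pCore p G) := by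
  have hne : {N : Subgroup G | N.Normal ∧ IsPGroup p N}.Nonempty :=
    ⟨⊥, inferInstance, IsPGroup.of_bot⟩
  have hdir : DirectedOn (· ≤ ·) {N : Subgroup G | N.Normal ∧ IsPGroup p N} := by
    rintro A ⟨hA, hA'⟩ B ⟨hB, hB'⟩
    exact ⟨A ⊔ B, ⟨inferInstance, hA'.to_sup_of_normal_right hB'⟩, le_sup_left, le_sup_right⟩
  rintro ⟨x, hx⟩
  obtain ⟨N, hN, hxN⟩ := (Subgroup.mem_sSup_of_directedOn hne hdir).mp hx
  obtain ⟨k, hk⟩ := hN.2 ⟨x, hxN⟩
  refine ⟨k, Subtype.ext ?_⟩
  simpa using congrArg Subtype.val hk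

instance pCore_characteristic : (pCore p G).Characteristic := by
  rw [characteristic_iff_map_le]
  intro e
  have : ((pCore p G).map e.toMonoidHom).Normal := (pCore_normal p G).map _ e.surjective
  exact le_pCore (pCore_isPGroup.map _)

theorem pCore_map_le {f : G →* H} (hf : Function.Surjective f) :
    (pCore p G).map f ≤ pCore p H := by
  have : ((pCore p G).map f).Normal := (pCore_normal p G).map _ hf
  exact le_pCore (pCore_isPGroup.map _)

theorem pCore_map_mulEquiv (e : G ≃* H) : (pCore p G).map e.toMonoidHom = pCore p H := by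
  refine le_antisymm (pCore_map_le e.surjective) ?_
  have h := Subgroup.map_mono (f := e.toMonoidHom) (pCore_map_le (p := p) (f := e.symm.toMonoidHom)
    e.symm.surjective)
  rw [Subgroup.map_map, show e.toMonoidHom.comp e.symm.toMonoidHom = MonoidHom.id H from
    MonoidHom.ext e.apply_symm_apply, Subgroup.map_id] at h
  exact h

theorem subgroupOf_pCore_le (K : Subgroup G) : (pCore p G).subgroupOf K ≤ pCore p K :=
  le_pCore pCore_isPGroup.comap_subtype

theorem map_pCore_le_of_normal (N : Subgroup G) [N.Normal] :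
    (pCore p N).map N.subtype ≤ pCore p G :=
  le_pCore (pCore_isPGroup.map _)

theorem pCore_of_normal (N : Subgroup G) [N.Normal] :
    pCore p N = (pCore p G).subgroupOf N :=
  le_antisymm (fun x hx => map_pCore_le_of_normal N ⟨x, hx, rfl⟩) (subgroupOf_pCore_le N)

theorem map_pCore_of_normal (N : Subgroup G) [N.Normal] :
    (pCore p N).map N.subtype = pCore p G ⊓ N := by
  rw [pCore_of_normal, subgroupOf_map_subtype]

theorem map_pCore_le_of_isSubnormal {B : Subgroup G} (hB : B.IsSubnormal) :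
    (pCore p B).map B.subtype ≤ pCore p G := by
  induction hB with
  | top => exact map_pCore_le_of_normal ⊤
  | step B K hBK hK hN ih =>
    have h1 : (pCore p (B.subgroupOf K)).map (B.subgroupOf K).subtype ≤ pCore p K :=
      map_pCore_le_of_normal _
    rw [← pCore_map_mulEquiv (subgroupOfEquivOfLe hBK).symm, Subgroup.map_map] at h1
    refine le_trans ?_ ih
    refine le_trans (le_of_eq ?_) (Subgroup.map_mono h1)
    rw [Subgroup.map_map]
    rfl

theorem pCore_eq_top_iff : pCore p G = ⊤ ↔ IsPGroup p G := by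
  constructor
  · intro h
    have h' : IsPGroup p (pCore p G) := pCore_isPGroup
    rw [h] at h'
    exact h'.of_equiv Subgroup.topEquiv
  · intro h
    exact top_le_iff.mp (le_pCore (h.to_subgroup ⊤))

theorem le_pCore_of_isSubnormal {A : Subgroup G} (hA : A.IsSubnormal) (h : IsPGroup p A) :
    A ≤ pCore p G := by
  have h1 := map_pCore_le_of_isSubnormal (p := p) hA
  rwa [pCore_eq_top_iff.mpr h, ← MonoidHom.range_eq_map, range_subtype] at h1

theorem pCore_le_sylow (P : Sylow p G) : pCore p G ≤ P :=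
  sup_eq_right.mp <| P.is_maximal' (pCore_isPGroup.to_sup_of_normal_left P.isPGroup') le_sup_right

theorem pCore_eq_iInf_sylow [Finite G] [Fact p.Prime] :
    pCore p G = ⨅ P : Sylow p G, (P : Subgroup G) := by
  refine le_antisymm (le_iInf fun P => pCore_le_sylow P) ?_
  have hN : (⨅ P : Sylow p G, (P : Subgroup G)).Normal := by
    refine ⟨fun n hn g => ?_⟩
    rw [Subgroup.mem_iInf] at hn ⊢
    intro P
    have := hn (g⁻¹ • P)
    rw [Sylow.coe_subgroup_smul, Subgroup.mem_pointwise_smul_iff_inv_smul_mem] at this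
    simpa using this
  exact le_pCore ((Classical.arbitrary (Sylow p G)).isPGroup'.to_le (iInf_le _ _))

theorem comap_pCore_quotient (N : Subgroup G) [N.Normal] (hN : IsPGroup p N) :
    (pCore p (G ⧸ N)).comap (QuotientGroup.mk' N) = pCore p G := by
  refine le_antisymm (le_pCore (pCore_isPGroup.comap_of_ker_isPGroup _ ?_)) ?_
  · rwa [QuotientGroup.ker_mk']
  · rw [← Subgroup.map_le_iff_le_comap]
    exact pCore_map_le (QuotientGroup.mk'_surjective N)

theorem pCore_quotient_pCore : pCore p (G ⧸ pCore p G) = ⊥ := by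
  have h2 := congrArg (Subgroup.map (QuotientGroup.mk' (pCore p G)))
    (comap_pCore_quotient (pCore p G) pCore_isPGroup)
  rw [map_comap_eq_self_of_surjective (QuotientGroup.mk'_surjective _)] at h2
  rw [h2, Subgroup.map_eq_bot_iff, QuotientGroup.ker_mk']

theorem piCore_singleton [Finite G] (hp : p.Prime) : piCore {p} G = pCore p G := by
  refine le_antisymm (piCore_le fun N hN hN' => ?_) (pCore_le fun N hN hN' => ?_)
  · exact le_pCore ((isPGroup_iff_isPiNumber hp).mpr hN')
  · exact le_piCore ((isPGroup_iff_isPiNumber hp).mp hN')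

/-! ### p'-core -/

theorem le_pPrimeCore {N : Subgroup G} [hN : N.Normal] (h : (Nat.card N).Coprime p) :
    N ≤ pPrimeCore p G :=
  le_sSup ⟨hN, h⟩

theorem pPrimeCore_le {K : Subgroup G}
    (h : ∀ N : Subgroup G, N.Normal → (Nat.card N).Coprime p → N ≤ K) : pPrimeCore p G ≤ K :=
  sSup_le fun N hN => h N hN.1 hN.2

theorem pPrimeCore_eq_piCore (p : ℕ) (G : Type*) [Group G] :
    pPrimeCore p G = piCore {q : ℕ | ¬ q ∣ p} G :=
  le_antisymm
    (pPrimeCore_le fun _ _ hN' => le_piCore ((coprime_iff_isPiNumber p _).mp hN'))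
    (piCore_le fun _ _ hN' => le_pPrimeCore ((coprime_iff_isPiNumber p _).mpr hN'))

theorem coprime_card_pPrimeCore [Finite G] : (Nat.card (pPrimeCore p G)).Coprime p := by
  rw [pPrimeCore_eq_piCore, coprime_iff_isPiNumber]
  exact piCore_isPiNumber _

theorem not_dvd_card_pPrimeCore [Finite G] [hp : Fact p.Prime] :
    ¬ p ∣ Nat.card (pPrimeCore p G) :=
  hp.out.coprime_iff_not_dvd.mp coprime_card_pPrimeCore.symm

theorem odd_card_oddCore [Finite G] : Odd (Nat.card (oddCore G)) :=
  Nat.coprime_two_right.mp coprime_card_pPrimeCore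

theorem le_oddCore {N : Subgroup G} [N.Normal] (h : Odd (Nat.card N)) : N ≤ oddCore G :=
  le_pPrimeCore (Nat.coprime_two_right.mpr h)

instance pPrimeCore_characteristic : (pPrimeCore p G).Characteristic := by
  rw [pPrimeCore_eq_piCore]; infer_instance

theorem pPrimeCore_map_le [Finite G] {f : G →* H} (hf : Function.Surjective f) :
    (pPrimeCore p G).map f ≤ pPrimeCore p H := by
  rw [pPrimeCore_eq_piCore, pPrimeCore_eq_piCore]; exact piCore_map_le _ hf

theorem pPrimeCore_map_mulEquiv (e : G ≃* H) :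
    (pPrimeCore p G).map e.toMonoidHom = pPrimeCore p H := by
  rw [pPrimeCore_eq_piCore, pPrimeCore_eq_piCore]; exact piCore_map_mulEquiv _ e

theorem subgroupOf_pPrimeCore_le [Finite G] (K : Subgroup G) :
    (pPrimeCore p G).subgroupOf K ≤ pPrimeCore p K := by
  rw [pPrimeCore_eq_piCore, pPrimeCore_eq_piCore]; exact inf_piCore_le _ K

theorem pPrimeCore_of_normal [Finite G] (N : Subgroup G) [N.Normal] :
    pPrimeCore p N = (pPrimeCore p G).subgroupOf N := by
  rw [pPrimeCore_eq_piCore, pPrimeCore_eq_piCore]; exact piCore_of_normal _ N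

theorem map_pPrimeCore_of_normal [Finite G] (N : Subgroup G) [N.Normal] :
    (pPrimeCore p N).map N.subtype = pPrimeCore p G ⊓ N := by
  rw [pPrimeCore_of_normal, subgroupOf_map_subtype]

theorem map_pPrimeCore_le_of_normal [Finite G] (N : Subgroup G) [N.Normal] :
    (pPrimeCore p N).map N.subtype ≤ pPrimeCore p G :=
  (map_pPrimeCore_of_normal N).trans_le inf_le_left

theorem le_pPrimeCore_of_isSubnormal [Finite G] {A : Subgroup G} (hA : A.IsSubnormal)
    (h : (Nat.card A).Coprime p) : A ≤ pPrimeCore p G := by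
  rw [pPrimeCore_eq_piCore]
  exact le_piCore_of_isSubnormal hA ((coprime_iff_isPiNumber p _).mp h)

theorem map_pPrimeCore_le_of_isSubnormal [Finite G] {B : Subgroup G} (hB : B.IsSubnormal) :
    (pPrimeCore p B).map B.subtype ≤ pPrimeCore p G := by
  rw [pPrimeCore_eq_piCore, pPrimeCore_eq_piCore]; exact map_piCore_le_of_isSubnormal hB

theorem pPrimeCore_eq_top_iff [Finite G] : pPrimeCore p G = ⊤ ↔ (Nat.card G).Coprime p := by
  rw [pPrimeCore_eq_piCore, piCore_eq_top_iff, coprime_iff_isPiNumber]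

theorem comap_pPrimeCore_quotient [Finite G] (N : Subgroup G) [N.Normal]
    (hN : (Nat.card N).Coprime p) :
    (pPrimeCore p (G ⧸ N)).comap (QuotientGroup.mk' N) = pPrimeCore p G := by
  rw [pPrimeCore_eq_piCore, pPrimeCore_eq_piCore]
  exact comap_piCore_quotient _ N ((coprime_iff_isPiNumber p _).mp hN)

theorem pPrimeCore_quotient_pPrimeCore [Finite G] :
    pPrimeCore p (G ⧸ pPrimeCore p G) = ⊥ := by
  have h := congrArg (Subgroup.map (QuotientGroup.mk' (pPrimeCore p G)))
    (comap_pPrimeCore_quotient (p := p) (pPrimeCore p G) coprime_card_pPrimeCore)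
  rw [map_comap_eq_self_of_surjective (QuotientGroup.mk'_surjective _)] at h
  rw [h, Subgroup.map_eq_bot_iff, QuotientGroup.ker_mk']

theorem disjoint_of_isPGroup_of_coprime {A B : Subgroup G} (hA : IsPGroup p A)
    (hB : (Nat.card B).Coprime p) : A ⊓ B = ⊥ := by
  rw [eq_bot_iff]
  rintro x ⟨hxA, hxB⟩
  obtain ⟨k, hk⟩ := isPGroup_iff_orderOf_dvd_pow.mp hA ⟨x, hxA⟩
  rw [Subgroup.orderOf_mk] at hk
  have h2 : orderOf x ∣ Nat.card B := by
    rw [← Subgroup.orderOf_mk x hxB]; exact orderOf_dvd_natCard _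
  exact orderOf_eq_one_iff.mp (Nat.eq_one_of_dvd_coprimes (hB.pow_right k).symm hk h2)

theorem pCore_inf_pPrimeCore [Finite G] : pCore p G ⊓ pPrimeCore p G = ⊥ :=
  disjoint_of_isPGroup_of_coprime pCore_isPGroup coprime_card_pPrimeCore

theorem commute_pCore_pPrimeCore [Finite G] {x y : G} (hx : x ∈ pCore p G)
    (hy : y ∈ pPrimeCore p G) : Commute x y :=
  Subgroup.commute_of_normal_of_disjoint _ _ inferInstance inferInstance
    (disjoint_iff.mpr pCore_inf_pPrimeCore) x y hx hy

end Cfsg.Agent.Cores
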