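import Cfsg.Agent.Cores.PCore

/-!
The Fitting subgroup: Fitting's theorem and basic API.
-/

namespace Cfsg.Agent.Cores

open Subgroup
open scoped commutatorElement

set_option linter.style.haveILetI false

variable {G : Type*} [Group G] {H : Type*} [Group H] {p : ℕ}

theorem le_fittingSubgroup {N : Subgroup G} [hN : N.Normal] (h : Group.IsNilpotent N) :
    N ≤ fittingSubgroup G :=
  le_sSup ⟨hN, h⟩

theorem fittingSubgroup_le {K : Subgroup G}
    (h : ∀ N : Subgroup G, N.Normal → Group.IsNilpotent N → N ≤ K) : fittingSubgroup G ≤ K :=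
  sSup_le fun N hN => h N hN.1 hN.2

instance fittingSubgroup_characteristic : (fittingSubgroup G).Characteristic := by
  rw [characteristic_iff_map_le]
  intro e
  rw [Subgroup.map_le_iff_le_comap]
  refine fittingSubgroup_le fun N hN hN' => ?_
  rw [← Subgroup.map_le_iff_le_comap]
  have : (N.map e.toMonoidHom).Normal := hN.map _ e.surjective
  have h2 : Group.IsNilpotent (N.map e.toMonoidHom) :=
    (Group.isNilpotent_congr (N.equivMapOfInjective e.toMonoidHom e.injective)).mp hN'
  exact le_fittingSubgroup h2

/-- A subgroup generated by the Sylow subgroups of a finite group is everything. -/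
theorem eq_top_of_sylow_le [Finite G] {K : Subgroup G}
    (h : ∀ (p : ℕ) [Fact p.Prime] (P : Sylow p G), (P : Subgroup G) ≤ K) : K = ⊤ := by
  rw [← Subgroup.index_eq_one]
  by_contra hne
  obtain ⟨q, hq, hqd⟩ := Nat.exists_prime_and_dvd hne
  haveI := Fact.mk hq
  obtain ⟨P⟩ := (inferInstance : Nonempty (Sylow q G))
  exact P.not_dvd_index (hqd.trans (index_dvd_of_le (h q P)))

theorem iSup_pCore_le_fittingSubgroup [Finite G] :
    ⨆ p : Nat.Primes, pCore (p : ℕ) G ≤ fittingSubgroup G :=
  iSup_le fun p => le_fittingSubgroup (@IsPGroup.isNilpotent _ _ _ _ ⟨p.2⟩ pCore_isPGroup)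

theorem le_iSup_pCore_of_nilpotent [Finite G] {N : Subgroup G} [N.Normal]
    (hN : Group.IsNilpotent N) : N ≤ ⨆ p : Nat.Primes, pCore (p : ℕ) G := by
  have h : (⨆ p : Nat.Primes, pCore (p : ℕ) G).subgroupOf N = ⊤ := by
    refine eq_top_of_sylow_le fun q hq P => ?_
    haveI : (P : Subgroup N).Normal := inferInstance
    have h1 : (P : Subgroup N) ≤ pCore q N := le_pCore P.isPGroup'
    intro x hx
    have h2 : (x : G) ∈ pCore q G := map_pCore_le_of_normal N ⟨x, h1 hx, rfl⟩
    exact Subgroup.mem_subgroupOf.mpr (le_iSup (fun p : Nat.Primes => pCore (p : ℕ) G) ⟨q, hq.out⟩ h2)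
  exact Subgroup.subgroupOf_eq_top.mp h

theorem iSup_pCore_eq_fittingSubgroup [Finite G] :
    fittingSubgroup G = ⨆ p : Nat.Primes, pCore (p : ℕ) G :=
  le_antisymm (fittingSubgroup_le fun N hN hN' => by
    haveI := hN
    exact le_iSup_pCore_of_nilpotent hN') iSup_pCore_le_fittingSubgroup

theorem iSup_pCore_le_sup [Finite G] (q : ℕ) [hq : Fact q.Prime] :
    ⨆ p : Nat.Primes, pCore (p : ℕ) G ≤ pPrimeCore q G ⊔ pCore q G := by
  refine iSup_le fun r => ?_
  by_cases hrq : (r : ℕ) = q
  · subst hrq; exact le_sup_right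
  · refine le_trans (le_pPrimeCore ?_) le_sup_left
    haveI := Fact.mk r.2
    obtain ⟨k, hk⟩ := IsPGroup.iff_card.mp (pCore_isPGroup (p := (r : ℕ)) (G := G))
    rw [hk]
    exact Nat.Coprime.pow_left _ ((Nat.coprime_primes r.2 hq.out).mpr hrq)

/-- A `q`-subgroup of `O_{q'}(G) ⊔ O_q(G)` lies in `O_q(G)`. -/
theorem le_pCore_of_le_sup [Finite G] {q : ℕ} [Fact q.Prime] {A : Subgroup G} (hA : IsPGroup q A)
    (h : A ≤ pPrimeCore q G ⊔ pCore q G) : A ≤ pCore q G := by
  have h1 : IsPGroup q (A.map (QuotientGroup.mk' (pCore q G))) := hA.map _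
  have h2 : A.map (QuotientGroup.mk' (pCore q G)) ≤ pPrimeCore q (G ⧸ pCore q G) := by
    refine (Subgroup.map_mono h).trans ?_
    rw [Subgroup.map_sup, (Subgroup.map_eq_bot_iff _).mpr (QuotientGroup.ker_mk' _).ge, sup_bot_eq]
    exact pPrimeCore_map_le (QuotientGroup.mk'_surjective _)
  have h3 := disjoint_of_isPGroup_of_coprime h1 (coprime_card_pPrimeCore (p := q))
  rw [inf_eq_left.mpr h2, Subgroup.map_eq_bot_iff, QuotientGroup.ker_mk'] at h3
  exact h3

/-- Fitting's theorem. -/
theorem fittingSubgroup_isNilpotent [Finite G] : Group.IsNilpotent (fittingSubgroup G) := by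
  refine (Group.isNilpotent_of_finite_tfae.out 0 3 rfl rfl).mpr fun q hq P => ?_
  have hP : (P : Subgroup (fittingSubgroup G)).map (fittingSubgroup G).subtype ≤ pCore q G := by
    refine le_pCore_of_le_sup (P.isPGroup'.map _) ?_
    refine (Subgroup.map_subtype_le _).trans ?_
    rw [iSup_pCore_eq_fittingSubgroup]
    exact iSup_pCore_le_sup q
  have heq : (P : Subgroup (fittingSubgroup G)) = (pCore q G).subgroupOf (fittingSubgroup G) := by
    refine (P.is_maximal' pCore_isPGroup.comap_subtype ?_).symm
    intro x hx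
    exact hP ⟨x, hx, rfl⟩
  rw [heq]
  infer_instance

theorem fittingSubgroup_normal : (fittingSubgroup G).Normal := inferInstance

theorem pCore_le_fittingSubgroup [Finite G] (hp : p.Prime) : pCore p G ≤ fittingSubgroup G :=
  le_fittingSubgroup (@IsPGroup.isNilpotent _ _ _ _ ⟨hp⟩ pCore_isPGroup)

theorem fittingSubgroup_eq_top_iff [Finite G] : fittingSubgroup G = ⊤ ↔ Group.IsNilpotent G := by
  constructor
  · intro h
    have h' := fittingSubgroup_isNilpotent (G := G)
    rw [h] at h'
    exact Group.isNilpotent_top.mp h'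
  · intro h
    exact top_le_iff.mp (le_fittingSubgroup (Group.isNilpotent_top.mpr h))

theorem fittingSubgroup_map_le [Finite G] {f : G →* H} (hf : Function.Surjective f) :
    (fittingSubgroup G).map f ≤ fittingSubgroup H := by
  have : ((fittingSubgroup G).map f).Normal := fittingSubgroup_normal.map _ hf
  haveI := fittingSubgroup_isNilpotent (G := G)
  exact le_fittingSubgroup
    (Group.nilpotent_of_surjective _ (f.subgroupMap_surjective (fittingSubgroup G)))

theorem fittingSubgroup_map_mulEquiv (e : G ≃* H) :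
    (fittingSubgroup G).map e.toMonoidHom = fittingSubgroup H := by
  refine le_antisymm ?_ (fittingSubgroup_le fun N hN hN' => ?_)
  · rw [Subgroup.map_le_iff_le_comap]
    refine fittingSubgroup_le fun N hN hN' => ?_
    rw [← Subgroup.map_le_iff_le_comap]
    have : (N.map e.toMonoidHom).Normal := hN.map _ e.surjective
    exact le_fittingSubgroup
      ((Group.isNilpotent_congr (N.equivMapOfInjective e.toMonoidHom e.injective)).mp hN')
  · have : (N.map e.symm.toMonoidHom).Normal := hN.map _ e.symm.surjective
    have h := Subgroup.map_mono (f := e.toMonoidHom) (le_fittingSubgroup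
      ((Group.isNilpotent_congr (N.equivMapOfInjective e.symm.toMonoidHom e.symm.injective)).mp hN'))
    rw [Subgroup.map_map, show e.toMonoidHom.comp e.symm.toMonoidHom = MonoidHom.id H from
      MonoidHom.ext e.apply_symm_apply, Subgroup.map_id] at h
    exact h

theorem subgroupOf_fittingSubgroup_le [Finite G] (K : Subgroup G) :
    (fittingSubgroup G).subgroupOf K ≤ fittingSubgroup K := by
  haveI := fittingSubgroup_isNilpotent (G := G)
  refine le_fittingSubgroup ?_
  haveI : Group.IsNilpotent ((fittingSubgroup G ⊓ K).subgroupOf (fittingSubgroup G)) :=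
    Subgroup.isNilpotent _
  have e1 := (Subgroup.subgroupOfEquivOfLe (inf_le_left : fittingSubgroup G ⊓ K ≤ fittingSubgroup G))
  have e2 := (Subgroup.subgroupOfEquivOfLe (inf_le_right : fittingSubgroup G ⊓ K ≤ K))
  rw [← Subgroup.inf_subgroupOf_right]
  exact (Group.isNilpotent_congr (e1.trans e2.symm)).mp inferInstance

theorem map_fittingSubgroup_le_of_normal [Finite G] (N : Subgroup G) [N.Normal] :
    (fittingSubgroup N).map N.subtype ≤ fittingSubgroup G :=
  le_fittingSubgroup ((Group.isNilpotent_congr
    ((fittingSubgroup N).equivMapOfInjective N.subtype N.subtype_injective)).mp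
      fittingSubgroup_isNilpotent)

theorem fittingSubgroup_of_normal [Finite G] (N : Subgroup G) [N.Normal] :
    fittingSubgroup N = (fittingSubgroup G).subgroupOf N :=
  le_antisymm (fun x hx => map_fittingSubgroup_le_of_normal N ⟨x, hx, rfl⟩)
    (subgroupOf_fittingSubgroup_le N)

theorem map_fittingSubgroup_of_normal [Finite G] (N : Subgroup G) [N.Normal] :
    (fittingSubgroup N).map N.subtype = fittingSubgroup G ⊓ N := by
  rw [fittingSubgroup_of_normal, subgroupOf_map_subtype]

theorem map_fittingSubgroup_le_of_isSubnormal [Finite G] {B : Subgroup G} (hB : B.IsSubnormal) :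
    (fittingSubgroup B).map B.subtype ≤ fittingSubgroup G := by
  induction hB with
  | top => exact map_fittingSubgroup_le_of_normal ⊤
  | step B K hBK hK hN ih =>
    have h1 : (fittingSubgroup (B.subgroupOf K)).map (B.subgroupOf K).subtype ≤ fittingSubgroup K :=
      map_fittingSubgroup_le_of_normal _
    rw [← fittingSubgroup_map_mulEquiv (subgroupOfEquivOfLe hBK).symm, Subgroup.map_map] at h1
    refine le_trans ?_ ih
    refine le_trans (le_of_eq ?_) (Subgroup.map_mono h1)
    rw [Subgroup.map_map]
    rfl

theorem le_fittingSubgroup_of_isSubnormal [Finite G] {A : Subgroup G} (hA : A.IsSubnormal)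
    (h : Group.IsNilpotent A) : A ≤ fittingSubgroup G := by
  have h1 := map_fittingSubgroup_le_of_isSubnormal hA
  rwa [fittingSubgroup_eq_top_iff.mpr h, ← MonoidHom.range_eq_map, range_subtype] at h1

/-- A nontrivial finite solvable group has nontrivial Fitting subgroup. -/
theorem exists_abelian_normal_ne_bot [Finite G] [Nontrivial G] [hG : Group.IsSolvable G] :
    ∃ A : Subgroup G, A.Characteristic ∧ A ≠ ⊥ ∧ IsMulCommutative A := by
  obtain ⟨n, hn⟩ := Group.IsSolvable.solvable (G := G)
  induction n with
  | zero => exact absurd hn (by simp [derivedSeries_zero])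
  | succ n ih =>
    by_cases h : derivedSeries G n = ⊥
    · exact ih h
    · refine ⟨derivedSeries G n, ?_, h, ?_⟩
      · exact derivedSeries_characteristic G n
      · rw [derivedSeries_succ, Subgroup.commutator_eq_bot_iff_le_centralizer] at hn
        exact ⟨⟨fun a b => Subtype.ext (hn b.2 a a.2)⟩⟩

theorem fittingSubgroup_ne_bot [Finite G] [Nontrivial G] [Group.IsSolvable G] :
    fittingSubgroup G ≠ ⊥ := by
  obtain ⟨A, hA, hne, hc⟩ := exists_abelian_normal_ne_bot (G := G)
  intro h
  haveI := hA
  letI : CommGroup A := { (inferInstance : Group A) with mul_comm := hc.is_comm.comm }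
  exact hne (le_bot_iff.mp (h ▸ le_fittingSubgroup
    (CommGroup.isNilpotent (G := A))))

theorem pCore_subsingleton_of_coprime [Finite G] [hp : Fact p.Prime]
    (h : (Nat.card G).Coprime p) : pCore p G = ⊥ := by
  have h1 := pCore_inf_pPrimeCore (G := G) (p := p)
  rwa [pPrimeCore_eq_top_iff.mpr h, inf_top_eq] at h1

/-- If `G` is solvable, `C_G(F(G)) ≤ F(G)`. -/
theorem centralizer_fittingSubgroup_le [Finite G] [Group.IsSolvable G] :
    centralizer (fittingSubgroup G : Set G) ≤ fittingSubgroup G := by
  set F := fittingSubgroup G with hF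
  set C := centralizer (F : Set G) with hC
  set Q := C.map (QuotientGroup.mk' F) with hQ
  rw [show (C ≤ F) ↔ Q = ⊥ by rw [hQ, Subgroup.map_eq_bot_iff, QuotientGroup.ker_mk']]
  by_contra hne
  haveI : Q.Normal := (inferInstance : C.Normal).map _ (QuotientGroup.mk'_surjective F)
  haveI : Nontrivial Q := (Subgroup.nontrivial_iff_ne_bot Q).mpr hne
  obtain ⟨A, hA, hAne, hAc⟩ := exists_abelian_normal_ne_bot (G := Q)
  -- `D` is the preimage of `A` inside `C`
  set D := ((A.map Q.subtype).comap (QuotientGroup.mk' F)) ⊓ C with hD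
  have hmapD : ∀ d ∈ D, ∀ e ∈ D, ⁅d, e⁆ ∈ F := by
    intro d hd e he
    obtain ⟨a, ha, ha'⟩ := hd.1
    obtain ⟨b, hb, hb'⟩ := he.1
    rw [← QuotientGroup.eq_one_iff]
    change QuotientGroup.mk' F ⁅d, e⁆ = 1
    rw [map_commutatorElement, ← ha', ← hb', ← map_commutatorElement,
      commutatorElement_eq_one_iff_commute.mpr (show Commute a b from
        congrArg Subtype.val (hAc.is_comm.comm ⟨a, ha⟩ ⟨b, hb⟩)), map_one]
  -- `D` is nilpotent of class at most two
  have hDnil : Group.IsNilpotent D := by
    haveI : Group.IsNilpotent (D ⧸ Subgroup.center D) := by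
      letI : CommGroup (D ⧸ Subgroup.center D) :=
        { (inferInstance : Group (D ⧸ Subgroup.center D)) with
          mul_comm := fun x y => by
            induction x using QuotientGroup.induction_on with | _ x => ?_
            induction y using QuotientGroup.induction_on with | _ y => ?_
            rw [← commutatorElement_eq_one_iff_mul_comm]
            change QuotientGroup.mk' (Subgroup.center D) x * QuotientGroup.mk' _ y *
              (QuotientGroup.mk' _ x)⁻¹ * (QuotientGroup.mk' _ y)⁻¹ = 1
            simp only [← map_mul, ← map_inv]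
            rw [QuotientGroup.mk'_apply, QuotientGroup.eq_one_iff, Subgroup.mem_center_iff]
            intro z
            have hxy : ⁅(x : G), (y : G)⁆ ∈ F := hmapD _ x.2 _ y.2
            exact Subtype.ext (z.2.2 _ hxy).symm }
      infer_instance
    exact Group.of_quotient_center_nilpotent inferInstance
  haveI : A.Characteristic := hA
  haveI : (A.map Q.subtype).Normal := inferInstance
  have hDF : D ≤ F := le_fittingSubgroup hDnil
  refine hAne ((Subgroup.map_eq_bot_iff_of_injective _ Q.subtype_injective).mp ?_)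
  rw [eq_bot_iff]
  intro z hz
  obtain ⟨c, hc, hcz⟩ : z ∈ Q := Subgroup.map_subtype_le _ hz
  have : c ∈ D := ⟨Subgroup.mem_comap.mpr (by rw [hcz]; exact hz), hc⟩
  rw [Subgroup.mem_bot, ← hcz]
  exact (QuotientGroup.eq_one_iff c).mpr (hDF this)

end Cfsg.Agent.Cores
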