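import Cfsg.Agent.Cores.PCore
import Cfsg.Prelude.Def_Transfer

/-!
`pResidual` (`O^p`) and `HasNormalPComplement`.
-/

namespace Cfsg.Agent.Cores

open Subgroup

set_option linter.style.haveILetI false

variable {G : Type*} [Group G] {H : Type*} [Group H] {p : ℕ}

/-! ### O^p -/

theorem mem_pResidual_of_coprime {g : G} (h : (orderOf g).Coprime p) : g ∈ pResidual p G :=
  Subgroup.subset_closure h

theorem pResidual_le {K : Subgroup G} (h : ∀ g : G, (orderOf g).Coprime p → g ∈ K) :
    pResidual p G ≤ K :=
  (Subgroup.closure_le K).mpr h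

theorem pResidual_map_le (f : G →* H) : (pResidual p G).map f ≤ pResidual p H := by
  rw [Subgroup.map_le_iff_le_comap]
  exact pResidual_le fun g hg => mem_pResidual_of_coprime (hg.coprime_dvd_left (orderOf_map_dvd f g))

instance pResidual_characteristic : (pResidual p G).Characteristic := by
  rw [characteristic_iff_map_le]
  exact fun e => pResidual_map_le _

theorem pResidual_normal : (pResidual p G).Normal := inferInstance

theorem map_pResidual_subtype_le (K : Subgroup G) :
    (pResidual p K).map K.subtype ≤ pResidual p G :=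
  pResidual_map_le _

theorem isPGroup_quotient_pResidual [Finite G] [hp : Fact p.Prime] :
    IsPGroup p (G ⧸ pResidual p G) := by
  intro x
  induction x using QuotientGroup.induction_on with | _ g => ?_
  have hn : orderOf g ≠ 0 := (orderOf_pos g).ne'
  refine ⟨(orderOf g).factorization p, ?_⟩
  rw [← QuotientGroup.mk_pow, QuotientGroup.eq_one_iff]
  refine mem_pResidual_of_coprime ?_
  rw [orderOf_pow_of_dvd (pow_ne_zero _ hp.out.ne_zero) (Nat.ordProj_dvd _ p)]
  exact (Nat.coprime_ordCompl hp.out hn).symm

theorem pResidual_le_of_isPGroup_quotient (N : Subgroup G) [N.Normal]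
    (h : IsPGroup p (G ⧸ N)) : pResidual p G ≤ N :=
  pResidual_le fun g hg => by
    rw [← QuotientGroup.eq_one_iff]
    obtain ⟨k, hk⟩ := h g
    exact orderOf_eq_one_iff.mp (Nat.eq_one_of_dvd_coprimes (hg.pow_right k).symm
      (orderOf_dvd_of_pow_eq_one hk) (orderOf_map_dvd (QuotientGroup.mk' N) g))

theorem pResidual_le_of_index_eq_pow (N : Subgroup G) [N.Normal] {k : ℕ}
    (h : N.index = p ^ k) : pResidual p G ≤ N :=
  pResidual_le_of_isPGroup_quotient N (IsPGroup.of_card (n := k) h)

theorem exists_index_pResidual_eq_pow [Finite G] [Fact p.Prime] :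
    ∃ k : ℕ, (pResidual p G).index = p ^ k :=
  IsPGroup.iff_card.mp isPGroup_quotient_pResidual

theorem pResidual_map_eq [Finite G] [Fact p.Prime] {f : G →* H} (hf : Function.Surjective f) :
    (pResidual p G).map f = pResidual p H := by
  refine le_antisymm (pResidual_map_le f) ?_
  haveI : ((pResidual p G).map f).Normal := pResidual_normal.map _ hf
  refine pResidual_le_of_isPGroup_quotient _ ?_
  refine IsPGroup.of_surjective isPGroup_quotient_pResidual
    (QuotientGroup.map (pResidual p G) _ f fun x hx => ⟨x, hx, rfl⟩) ?_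
  intro y
  induction y using QuotientGroup.induction_on with | _ y => ?_
  obtain ⟨x, rfl⟩ := hf y
  exact ⟨x, rfl⟩

theorem pResidual_eq_bot_iff [Finite G] [hp : Fact p.Prime] :
    pResidual p G = ⊥ ↔ IsPGroup p G := by
  constructor
  · intro h
    have := isPGroup_quotient_pResidual (G := G) (p := p)
    refine this.of_injective (QuotientGroup.mk' _) ?_
    rw [← MonoidHom.ker_eq_bot_iff, QuotientGroup.ker_mk', h]
  · intro h
    exact le_bot_iff.mp (pResidual_le_of_isPGroup_quotient ⊥ (h.to_quotient ⊥))

theorem pResidual_eq_top_of_coprime (h : (Nat.card G).Coprime p) : pResidual p G = ⊤ :=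
  top_le_iff.mp fun g _ => mem_pResidual_of_coprime (h.coprime_dvd_left (orderOf_dvd_natCard g))

theorem le_pResidual_of_coprime {K : Subgroup G} (h : (Nat.card K).Coprime p) :
    K ≤ pResidual p G := fun g hg => mem_pResidual_of_coprime (h.coprime_dvd_left (by
      rw [← Subgroup.orderOf_mk g hg]; exact orderOf_dvd_natCard _))

theorem pResidual_pResidual : pResidual p ↥(pResidual p G) = ⊤ := by
  have h : pResidual p G ≤ (pResidual p ↥(pResidual p G)).map (pResidual p G).subtype :=
    pResidual_le fun g hg => ⟨⟨g, mem_pResidual_of_coprime hg⟩,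
      mem_pResidual_of_coprime (by rwa [Subgroup.orderOf_mk]), rfl⟩
  refine top_le_iff.mp fun x _ => ?_
  obtain ⟨y, hy, hyx⟩ := h x.2
  obtain rfl : y = x := Subtype.ext hyx
  exact hy

theorem sylow_sup_pResidual [Finite G] [hp : Fact p.Prime] (P : Sylow p G) :
    (P : Subgroup G) ⊔ pResidual p G = ⊤ := by
  rw [← Subgroup.index_eq_one]
  obtain ⟨k, hk⟩ := exists_index_pResidual_eq_pow (G := G) (p := p)
  have h1 : ((P : Subgroup G) ⊔ pResidual p G).index ∣ (P : Subgroup G).index :=
    index_dvd_of_le le_sup_left
  have h2 : ((P : Subgroup G) ⊔ pResidual p G).index ∣ p ^ k :=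
    hk ▸ index_dvd_of_le le_sup_right
  exact Nat.eq_one_of_dvd_coprimes
    ((hp.out.coprime_iff_not_dvd.mpr P.not_dvd_index).pow_left k).symm h1 h2

/-! ### Normal p-complements -/

theorem hasNormalPComplement_iff_coprime [Finite G] [hp : Fact p.Prime] :
    HasNormalPComplement p G ↔ (Nat.card (pResidual p G)).Coprime p := by
  constructor
  · rintro ⟨P, N, hN, hNP⟩
    obtain ⟨k, hk⟩ := IsPGroup.iff_card.mp P.isPGroup'
    have hidx : N.index = p ^ k := by rw [hNP.symm.index_eq_card, hk]
    have hcop : (Nat.card N).Coprime p := by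
      rw [← hNP.index_eq_card]
      exact (hp.out.coprime_iff_not_dvd.mpr P.not_dvd_index).symm
    exact hcop.coprime_dvd_left (Subgroup.card_dvd_of_le (pResidual_le_of_index_eq_pow N hidx))
  · intro h
    obtain ⟨P⟩ := (inferInstance : Nonempty (Sylow p G))
    refine ⟨P, pResidual p G, inferInstance, ?_⟩
    refine Subgroup.isComplement'_of_disjoint_and_mul_eq_univ ?_ ?_
    · exact disjoint_iff.mpr (by
        rw [inf_comm]; exact disjoint_of_isPGroup_of_coprime P.isPGroup' h)
    · rw [← Subgroup.normal_mul, sup_comm, sylow_sup_pResidual P, Subgroup.coe_top]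

theorem hasNormalPComplement_iff_pResidual_le [Finite G] [Fact p.Prime] :
    HasNormalPComplement p G ↔ pResidual p G ≤ pPrimeCore p G := by
  rw [hasNormalPComplement_iff_coprime]
  exact ⟨fun h => le_pPrimeCore h,
    fun h => coprime_card_pPrimeCore.coprime_dvd_left (Subgroup.card_dvd_of_le h)⟩

theorem pPrimeCore_le_pResidual [Finite G] : pPrimeCore p G ≤ pResidual p G :=
  le_pResidual_of_coprime coprime_card_pPrimeCore

theorem hasNormalPComplement_iff_eq [Finite G] [Fact p.Prime] :
    HasNormalPComplement p G ↔ pResidual p G = pPrimeCore p G := by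
  rw [hasNormalPComplement_iff_pResidual_le]
  exact ⟨fun h => le_antisymm h pPrimeCore_le_pResidual, fun h => h.le⟩

theorem hasNormalPComplement_iff_isPGroup_quotient [Finite G] [Fact p.Prime] :
    HasNormalPComplement p G ↔ IsPGroup p (G ⧸ pPrimeCore p G) := by
  rw [hasNormalPComplement_iff_pResidual_le]
  refine ⟨fun h => ?_, pResidual_le_of_isPGroup_quotient _⟩
  refine IsPGroup.of_surjective isPGroup_quotient_pResidual
    (QuotientGroup.map (pResidual p G) _ (MonoidHom.id G) (by simpa using h)) ?_
  intro y
  induction y using QuotientGroup.induction_on with | _ y => ?_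
  exact ⟨y, rfl⟩

theorem hasNormalPComplement_iff_forall_mem [Finite G] [Fact p.Prime] :
    HasNormalPComplement p G ↔ ∀ g : G, (orderOf g).Coprime p → g ∈ pPrimeCore p G := by
  rw [hasNormalPComplement_iff_pResidual_le]
  exact ⟨fun h g hg => h (mem_pResidual_of_coprime hg), pResidual_le⟩

theorem hasNormalPComplement_of_normal [Finite G] [Fact p.Prime] (N : Subgroup G) [N.Normal]
    (hN : (Nat.card N).Coprime p) (h : IsPGroup p (G ⧸ N)) : HasNormalPComplement p G :=
  hasNormalPComplement_iff_coprime.mpr
    (hN.coprime_dvd_left (Subgroup.card_dvd_of_le (pResidual_le_of_isPGroup_quotient N h)))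

theorem hasNormalPComplement_of_isPGroup [Finite G] [Fact p.Prime] (h : IsPGroup p G) :
    HasNormalPComplement p G :=
  hasNormalPComplement_iff_coprime.mpr (by
    rw [pResidual_eq_bot_iff.mpr h, Subgroup.card_bot]; exact Nat.coprime_one_left p)

theorem hasNormalPComplement_of_coprime [Finite G] [Fact p.Prime] (h : (Nat.card G).Coprime p) :
    HasNormalPComplement p G :=
  hasNormalPComplement_iff_coprime.mpr (h.coprime_dvd_left (Subgroup.card_subgroup_dvd_card _))

theorem hasNormalPComplement_subgroup [Finite G] [Fact p.Prime] (h : HasNormalPComplement p G)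
    (K : Subgroup G) : HasNormalPComplement p K := by
  rw [hasNormalPComplement_iff_coprime] at h ⊢
  rw [← card_map_eq _ K.subtype_injective]
  exact h.coprime_dvd_left (Subgroup.card_dvd_of_le (map_pResidual_subtype_le K))

theorem hasNormalPComplement_of_surjective [Finite G] [Fact p.Prime]
    (h : HasNormalPComplement p G) (f : G →* H) (hf : Function.Surjective f) :
    HasNormalPComplement p H := by
  haveI : Finite H := Finite.of_surjective f hf
  rw [hasNormalPComplement_iff_coprime] at h ⊢
  rw [← pResidual_map_eq hf]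
  exact h.coprime_dvd_left (card_map_dvd _ f)

theorem hasNormalPComplement_quotient [Finite G] [Fact p.Prime] (h : HasNormalPComplement p G)
    (N : Subgroup G) [N.Normal] : HasNormalPComplement p (G ⧸ N) :=
  hasNormalPComplement_of_surjective h _ (QuotientGroup.mk'_surjective N)

theorem hasNormalPComplement_congr [Finite G] [Fact p.Prime] (e : G ≃* H) :
    HasNormalPComplement p G ↔ HasNormalPComplement p H := by
  haveI : Finite H := Finite.of_equiv G e.toEquiv
  exact ⟨fun h => hasNormalPComplement_of_surjective h e.toMonoidHom e.surjective,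
    fun h => hasNormalPComplement_of_surjective h e.symm.toMonoidHom e.symm.surjective⟩

theorem hasNormalPComplement_iff_quotient [Finite G] [Fact p.Prime] (N : Subgroup G) [N.Normal]
    (hN : (Nat.card N).Coprime p) :
    HasNormalPComplement p G ↔ HasNormalPComplement p (G ⧸ N) := by
  refine ⟨fun h => hasNormalPComplement_quotient h N, fun h => ?_⟩
  rw [hasNormalPComplement_iff_pResidual_le] at h ⊢
  rw [← comap_pPrimeCore_quotient N hN, ← Subgroup.map_le_iff_le_comap]
  exact (pResidual_map_le _).trans h

theorem exists_normal_isComplement'_sylow [Finite G] [Fact p.Prime]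
    (h : HasNormalPComplement p G) (P : Sylow p G) :
    (pPrimeCore p G).IsComplement' (P : Subgroup G) := by
  rw [hasNormalPComplement_iff_eq] at h
  refine Subgroup.isComplement'_of_disjoint_and_mul_eq_univ ?_ ?_
  · exact disjoint_iff.mpr (by
      rw [inf_comm]; exact disjoint_of_isPGroup_of_coprime P.isPGroup' coprime_card_pPrimeCore)
  · rw [← Subgroup.normal_mul, sup_comm, ← h, sylow_sup_pResidual P, Subgroup.coe_top]

end Cfsg.Agent.Cores
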