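import Cfsg.Agent.Cores.ZStar
import Cfsg.Agent.Cores.Residual
import Cfsg.Agent.S0016
import Mathlib.GroupTheory.Transfer
import Mathlib.GroupTheory.SpecificGroups.Quaternion

/-!
# The unique involution case of the Z*-theorem

A Sylow 2-subgroup with a unique involution is cyclic (Burnside) or quaternion (Brauer-Suzuki,
taken here as the hypothesis `QuaternionCase`).
-/

namespace Cfsg.Agent.Cores

universe u

/-- The Brauer-Suzuki theorem in the form of statement S0201. -/
def QuaternionCase : Prop :=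
  ∀ (G : Type u) [Group G] [Finite G] (S : Sylow 2 G) (n : ℕ),
    ((S : Subgroup G) ≃* QuaternionGroup (2 ^ (n + 1))) →
    (∀ N : Subgroup G, N.Normal → Odd (Nat.card N) → N = ⊥) →
    Nat.card (Subgroup.center G) = 2

theorem mem_center_of_isCyclic_sylow {G : Type u} [Group G] [Finite G] (S : Sylow 2 G)
    (hS : IsCyclic (S : Subgroup G)) (hO : oddCore G = ⊥) (h2 : 2 ∣ Nat.card G) {u : G} :
    u ∈ Subgroup.center G := by
  have hmin : (Nat.card G).minFac = 2 := (Nat.minFac_eq_two_iff _).2 h2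
  have hc := MonoidHom.ker_transferSylow_isComplement' S (hS.normalizer_le_centralizer hmin)
  set K := (MonoidHom.transferSylow S (hS.normalizer_le_centralizer hmin)).ker
  have hK : K = ⊥ := by
    refine eq_bot_iff.2 (hO ▸ le_oddCore (N := K) ?_)
    have hidx : (S : Subgroup G).index = Nat.card K := hc.index_eq_card
    rw [← Nat.not_even_iff_odd, even_iff_two_dvd, ← hidx]
    exact S.not_dvd_index
  have hStop : (S : Subgroup G) = ⊤ := by
    rw [← Subgroup.index_eq_one, hc.index_eq_card, hK, Subgroup.card_bot]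
  haveI := hS
  have hcomm : ∀ a b : (S : Subgroup G), a * b = b * a := fun a b =>
    (IsMulCommutative.is_comm (M := (S : Subgroup G))).comm a b
  exact Subgroup.mem_center_iff.2 fun g =>
    congrArg Subtype.val (hcomm ⟨g, hStop ▸ Subgroup.mem_top g⟩ ⟨u, hStop ▸ Subgroup.mem_top u⟩)

theorem uniqueInvolutionCase (hQ : QuaternionCase.{u}) : UniqueInvolutionCase.{u} := by
  intro G _ _ hO u hu huniq
  have hup : IsPGroup 2 (Subgroup.zpowers u) :=
    IsPGroup.of_card (n := 1) (by rw [Nat.card_zpowers, hu.1]; rfl)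
  obtain ⟨S, hS⟩ := hup.exists_le_sylow
  have huS : u ∈ (S : Subgroup G) := hS (Subgroup.mem_zpowers u)
  have h2 : 2 ∣ Nat.card G := hu.1 ▸ orderOf_dvd_natCard u
  -- `u` is central in `S`
  have hcen : ∀ a ∈ (S : Subgroup G), Commute u a := by
    intro a ha
    set b := a * u * a⁻¹ with hb
    have hd : b * u ∈ (S : Subgroup G) := mul_mem (mul_mem (mul_mem ha huS) (inv_mem ha)) huS
    obtain ⟨k, hk⟩ := IsPGroup.iff_orderOf.1 S.isPGroup' ⟨b * u, hd⟩
    rw [Subgroup.orderOf_mk] at hk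
    have hodd := H39.isolated_odd hu a
    rw [← hb, hk] at hodd
    have hk0 : k = 0 := by
      by_contra h
      exact Nat.not_even_iff_odd.2 hodd (Nat.even_pow.2 ⟨even_two, h⟩)
    rw [hk0, pow_zero, orderOf_eq_one_iff, mul_eq_one_iff_eq_inv,
      inv_eq_of_mul_eq_one_left (by rw [← sq, ← hu.1, pow_orderOf_eq_one]), hb,
      mul_inv_eq_iff_eq_mul] at hk
    exact hk.symm
  have hone : ∀ a : (S : Subgroup G), orderOf a = 2 → (a : G) = u := fun a ha =>
    huniq a (by rw [Subgroup.orderOf_coe, ha]) (hcen a a.2)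
  have hsub : ∀ H K : Subgroup (S : Subgroup G), Nat.card H = 2 → Nat.card K = 2 → H = K := by
    have key : ∀ H : Subgroup (S : Subgroup G), Nat.card H = 2 →
        H = Subgroup.zpowers ⟨u, huS⟩ := by
      intro H hH
      obtain ⟨x, hx⟩ := exists_prime_orderOf_dvd_card' (G := H) 2 (by rw [hH])
      have hxu : (x : (S : Subgroup G)) = ⟨u, huS⟩ :=
        Subtype.ext (hone x (by rw [Subgroup.orderOf_coe, hx]))
      refine (Subgroup.eq_of_le_of_card_ge (Subgroup.zpowers_le.2 (hxu ▸ x.2)) ?_).symm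
      rw [hH, Nat.card_zpowers, Subgroup.orderOf_mk, hu.1]
    exact fun H K hH hK => (key H hH).trans (key K hK).symm
  rcases Cfsg.Agent.S0016.result 2 S.isPGroup' hsub with hc | ⟨-, l, ⟨e⟩⟩
  · exact mem_center_of_isCyclic_sylow S hc hO h2
  rcases l with _ | n
  · haveI : IsCyclic (QuaternionGroup (2 ^ 0)) := by
      rw [pow_zero]; exact QuaternionGroup.quaternionGroup_one_isCyclic
    exact mem_center_of_isCyclic_sylow S (isCyclic_of_surjective e.symm.toMonoidHom e.symm.surjective)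
      hO h2
  have hZ := hQ G S n e fun N hN hodd => eq_bot_iff.2 (hO ▸ le_oddCore (N := N) hodd)
  obtain ⟨z, hz⟩ := exists_prime_orderOf_dvd_card' (G := Subgroup.center G) 2 (by rw [hZ])
  have hzu : (z : G) = u := huniq z (by rw [Subgroup.orderOf_coe, hz])
    (Subgroup.mem_center_iff.1 z.2 u)
  exact hzu ▸ z.2

/-- Glauberman's Z*-theorem, from the Brauer-Suzuki theorem. -/
theorem zStar (hQ : QuaternionCase.{u}) {G : Type u} [Group G] [Finite G] (P : Sylow 2 G) {u : G}
    (hu : orderOf u = 2) (huP : u ∈ P) (hiso : ∀ g : G, g * u * g⁻¹ ∈ P → g * u * g⁻¹ = u) :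
    ∀ g : G, u * g * u⁻¹ * g⁻¹ ∈ oddCore G := by
  refine zStarProp (uniqueInvolutionCase hQ) G u ⟨hu, fun g hg => ?_⟩
  have hu2 : u * u = 1 := by rw [← sq, ← hu, pow_orderOf_eq_one]
  set b := g * u * g⁻¹ with hb
  have hb2 : b * b = 1 := by
    rw [hb, show g * u * g⁻¹ * (g * u * g⁻¹) = g * (u * u) * g⁻¹ by group, hu2]; simp
  have hpg : IsPGroup 2 (Subgroup.closure ({u, b} : Set G)) :=
    H26.isPGroup_closure_pair hu2 hb2 (a := 1)
      (by rw [pow_one, hg.mul_pow, sq, sq, hu2, hb2, one_mul])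
  obtain ⟨Q, hQ'⟩ := hpg.exists_le_sylow
  exact H26.isolated_in_every_sylow P hiso Q (hQ' (Subgroup.subset_closure (by simp)))
    (isConj_iff.2 ⟨g, rfl⟩) (hQ' (Subgroup.subset_closure (by simp)))

end Cfsg.Agent.Cores
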