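import Cfsg.Agent.Cores.ZStarMain
import Cfsg.Agent.Cores.PCore
import Cfsg.Agent.H25.BrauerSuzuki

/-!
# Glauberman's Z*-theorem
-/

namespace Cfsg.Agent.Cores

universe u

/-- The Brauer–Suzuki theorem supplies the quaternion case. -/
theorem quaternionCase : QuaternionCase.{u} := fun G _ _ S _ e hO => by
  haveI : (oddCore G).Characteristic := pPrimeCore_characteristic
  exact H25.brauerSuzuki_card_center S e (hO _ inferInstance odd_card_oddCore)

/-- **Glauberman's Z*-theorem**. -/
theorem glaubermanZStar {G : Type u} [Group G] [Finite G] (P : Sylow 2 G) {u : G}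
    (hu : orderOf u = 2) (huP : u ∈ P) (hiso : ∀ g : G, g * u * g⁻¹ ∈ P → g * u * g⁻¹ = u) :
    ∀ g : G, u * g * u⁻¹ * g⁻¹ ∈ oddCore G :=
  zStar quaternionCase P hu huP hiso

end Cfsg.Agent.Cores
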