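import Cfsg.Agent.Cores.Fitting
import Cfsg.Prelude.Def_Local

/-!
`IsPSolvable`: equivalent criterion and closure properties.
-/

namespace Cfsg.Agent.Cores

open Subgroup

set_option linter.style.haveILetI false

variable {G : Type*} [Group G] {H : Type*} [Group H] {p : ℕ}

theorem card_map_mk' (N K : Subgroup G) [N.Normal] :
    Nat.card (K.map (QuotientGroup.mk' N)) = N.relIndex K := by
  rw [← Subgroup.relIndex_ker, QuotientGroup.ker_mk']

theorem relIndex_dvd_relIndex_of_le_right (A : Subgroup G) [A.Normal] {B C : Subgroup G}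
    (h : C ≤ B) : A.relIndex C ∣ A.relIndex B := by
  rw [← card_map_mk', ← card_map_mk']
  exact Subgroup.card_dvd_of_le (Subgroup.map_mono h)

theorem card_dvd_pow_or_coprime_ne_bot [Finite G] [hp : Fact p.Prime] {M : Subgroup G} [M.Normal]
    (hM : M ≠ ⊥) {m : ℕ}
    (h : Nat.card M ∣ p ^ m ∨ (Nat.card M).Coprime p) :
    pCore p G ≠ ⊥ ∨ pPrimeCore p G ≠ ⊥ := by
  rcases h with h | h
  · exact Or.inl fun hb => hM (le_bot_iff.mp (hb ▸ le_pCore (IsPGroup.of_card_dvd_pow h)))
  · exact Or.inr fun hb => hM (le_bot_iff.mp (hb ▸ le_pPrimeCore h))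

/-- `G` is `p`-solvable iff every nontrivial quotient has a nontrivial `p`- or `p'`-core. -/
theorem isPSolvable_iff [Finite G] [hp : Fact p.Prime] :
    IsPSolvable p G ↔
      ∀ (N : Subgroup G) [N.Normal], N ≠ ⊤ →
        pCore p (G ⧸ N) ≠ ⊥ ∨ pPrimeCore p (G ⧸ N) ≠ ⊥ := by
  constructor
  · rintro ⟨n, K, h0, hn, hmono, hnorm, hstep⟩ N _ hN
    obtain ⟨i, hi, hi'⟩ : ∃ i : Fin n, K i.castSucc ≤ N ∧ ¬ K i.succ ≤ N := by
      by_contra! hc
      have : ∀ j, K j ≤ N := fun j => by
        induction j using Fin.induction with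
        | zero => exact h0 ▸ bot_le
        | succ j ih => exact hc j ih
      exact hN (top_le_iff.mp (hn ▸ this (Fin.last n)))
    haveI : (K i.succ).Normal := hnorm _
    haveI : ((K i.succ).map (QuotientGroup.mk' N)).Normal :=
      (hnorm _).map _ (QuotientGroup.mk'_surjective N)
    have hdvd : Nat.card ((K i.succ).map (QuotientGroup.mk' N)) ∣
        (K i.castSucc).relIndex (K i.succ) := by
      rw [card_map_mk']; exact relIndex_dvd_of_le_left _ hi
    have hne : (K i.succ).map (QuotientGroup.mk' N) ≠ ⊥ := by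
      rw [Ne, Subgroup.map_eq_bot_iff, QuotientGroup.ker_mk']; exact hi'
    rcases hstep i with ⟨m, hm⟩ | hc
    · exact card_dvd_pow_or_coprime_ne_bot hne (m := m) (Or.inl (hm ▸ hdvd))
    · exact card_dvd_pow_or_coprime_ne_bot hne (m := 0) (Or.inr (hc.coprime_dvd_left hdvd))
  · intro h
    suffices ∀ N : Subgroup G, N.Normal → ∃ (n : ℕ) (K : Fin (n + 1) → Subgroup G),
        K 0 = N ∧ K (Fin.last n) = ⊤ ∧ Monotone K ∧ (∀ i, (K i).Normal) ∧
        ∀ i : Fin n, (∃ m : ℕ, (K i.castSucc).relIndex (K i.succ) = p ^ m) ∨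
          ((K i.castSucc).relIndex (K i.succ)).Coprime p from this ⊥ inferInstance
    intro N
    induction N using WellFoundedGT.induction with
    | _ N ih => ?_
    intro hN
    by_cases htop : N = ⊤
    · exact ⟨0, fun _ => ⊤, htop.symm, rfl, monotone_const, fun _ => inferInstance,
        fun i => i.elim0⟩
    obtain ⟨Q, hQn, hQ, hcard⟩ : ∃ Q : Subgroup (G ⧸ N), Q.Normal ∧ Q ≠ ⊥ ∧
        ((∃ m : ℕ, Nat.card Q = p ^ m) ∨ (Nat.card Q).Coprime p) := by
      rcases h N htop with h' | h'
      · exact ⟨pCore p (G ⧸ N), inferInstance, h', Or.inl (IsPGroup.iff_card.mp pCore_isPGroup)⟩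
      · exact ⟨pPrimeCore p (G ⧸ N), inferInstance, h', Or.inr coprime_card_pPrimeCore⟩
    set M := Q.comap (QuotientGroup.mk' N) with hM
    have hmap : M.map (QuotientGroup.mk' N) = Q :=
      map_comap_eq_self_of_surjective (QuotientGroup.mk'_surjective N) _
    have hle : N ≤ M := fun x hx => by
      simp [hM, (QuotientGroup.eq_one_iff x).mpr hx, one_mem]
    have hlt : N < M := lt_of_le_of_ne hle fun hEq => hQ (by
      rw [← hmap, ← hEq, Subgroup.map_eq_bot_iff, QuotientGroup.ker_mk'])
    obtain ⟨n, K, h0, hn, hmono, hnorm, hstep⟩ := ih M hlt inferInstance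
    refine ⟨n + 1, Fin.cons N K, rfl, ?_, ?_, ?_, ?_⟩
    · rw [← Fin.succ_last, Fin.cons_succ, hn]
    · rw [Fin.monotone_iff_le_succ]
      intro i
      induction i using Fin.cases with
      | zero => rw [Fin.castSucc_zero, Fin.cons_zero, Fin.cons_succ, h0]; exact hle
      | succ i =>
        rw [← Fin.succ_castSucc, Fin.cons_succ, Fin.cons_succ]
        exact hmono (Fin.castSucc_le_succ i)
    · intro i
      induction i using Fin.cases with
      | zero => simpa using hN
      | succ i => simpa using hnorm i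
    · intro i
      induction i using Fin.cases with
      | zero =>
        rw [Fin.castSucc_zero, Fin.cons_zero, Fin.cons_succ, h0, ← card_map_mk', hmap]
        exact hcard
      | succ i =>
        rw [← Fin.succ_castSucc, Fin.cons_succ, Fin.cons_succ]
        exact hstep i

/-- A nontrivial `p`-solvable group has a nontrivial `p`- or `p'`-core. -/
theorem pCore_ne_bot_or_pPrimeCore_ne_bot [Finite G] [Nontrivial G] [Fact p.Prime]
    (h : IsPSolvable p G) : pCore p G ≠ ⊥ ∨ pPrimeCore p G ≠ ⊥ := by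
  have e : G ⧸ (⊥ : Subgroup G) ≃* G := QuotientGroup.quotientBot
  rcases isPSolvable_iff.mp h ⊥ bot_ne_top with h' | h'
  · left; intro hb
    rw [← pCore_map_mulEquiv e, Subgroup.map_eq_bot_iff_of_injective _ e.injective] at hb
    exact h' hb
  · right; intro hb
    rw [← pPrimeCore_map_mulEquiv e, Subgroup.map_eq_bot_iff_of_injective _ e.injective] at hb
    exact h' hb

theorem pCore_ne_bot_of_pPrimeCore_eq_bot [Finite G] [Nontrivial G] [Fact p.Prime]
    (h : IsPSolvable p G) (h' : pPrimeCore p G = ⊥) : pCore p G ≠ ⊥ :=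
  (pCore_ne_bot_or_pPrimeCore_ne_bot h).resolve_right (fun hn => hn h')

theorem isPSolvable_subgroup [hp : Fact p.Prime] (h : IsPSolvable p G) (L : Subgroup G) :
    IsPSolvable p L := by
  obtain ⟨n, K, h0, hn, hmono, hnorm, hstep⟩ := h
  refine ⟨n, fun i => (K i).subgroupOf L, by simp [h0], by simp [hn],
    fun a b hab => Subgroup.comap_mono (hmono hab), fun i => (hnorm i).comap _, fun i => ?_⟩
  haveI := hnorm i.castSucc
  have hdvd : ((K i.castSucc).subgroupOf L).relIndex ((K i.succ).subgroupOf L) ∣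
      (K i.castSucc).relIndex (K i.succ) := by
    refine (dvd_of_eq ?_).trans
      (relIndex_dvd_relIndex_of_le_right _ (inf_le_left : K i.succ ⊓ L ≤ K i.succ))
    rw [Subgroup.subgroupOf, relIndex_comap, subgroupOf_map_subtype]
  rcases hstep i with ⟨m, hm⟩ | hc
  · obtain ⟨k, -, hk⟩ := (Nat.dvd_prime_pow hp.out).mp (hm ▸ hdvd)
    exact Or.inl ⟨k, hk⟩
  · exact Or.inr (hc.coprime_dvd_left hdvd)

theorem isPSolvable_of_surjective [Finite G] [Fact p.Prime] (h : IsPSolvable p G) (f : G →* H)
    (hf : Function.Surjective f) : IsPSolvable p H := by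
  haveI : Finite H := Finite.of_surjective f hf
  rw [isPSolvable_iff] at h ⊢
  intro N _ hN
  have hne : N.comap f ≠ ⊤ := fun ht => hN (by
    rw [← Subgroup.map_comap_eq_self_of_surjective hf N, ht, Subgroup.map_top_of_surjective _ hf])
  let φ := QuotientGroup.map (N.comap f) N f le_rfl
  have hφs : Function.Surjective φ := fun y => by
    induction y using QuotientGroup.induction_on with | _ y => ?_
    obtain ⟨x, rfl⟩ := hf y
    exact ⟨x, rfl⟩
  have hφi : Function.Injective φ := by
    rw [injective_iff_map_eq_one]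
    intro y hy
    induction y using QuotientGroup.induction_on with | _ y => ?_
    rw [QuotientGroup.eq_one_iff]
    exact (QuotientGroup.eq_one_iff (f y)).mp hy
  let e := MulEquiv.ofBijective φ ⟨hφi, hφs⟩
  rcases h (N.comap f) hne with h' | h'
  · exact Or.inl fun hb => h' ((Subgroup.map_eq_bot_iff_of_injective _ e.injective).mp
      ((pCore_map_mulEquiv e).trans hb))
  · exact Or.inr fun hb => h' ((Subgroup.map_eq_bot_iff_of_injective _ e.injective).mp
      ((pPrimeCore_map_mulEquiv e).trans hb))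

theorem isPSolvable_quotient [Finite G] [Fact p.Prime] (h : IsPSolvable p G) (N : Subgroup G)
    [N.Normal] : IsPSolvable p (G ⧸ N) :=
  isPSolvable_of_surjective h _ (QuotientGroup.mk'_surjective N)

theorem isPSolvable_congr [Finite G] [Fact p.Prime] (e : G ≃* H) :
    IsPSolvable p G ↔ IsPSolvable p H := by
  haveI : Finite H := Finite.of_equiv G e.toEquiv
  exact ⟨fun h => isPSolvable_of_surjective h e.toMonoidHom e.surjective,
    fun h => isPSolvable_of_surjective h e.symm.toMonoidHom e.symm.surjective⟩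

theorem isPSolvable_of_normal_of_quotient [Finite G] [Fact p.Prime] (N : Subgroup G) [N.Normal]
    (h₁ : IsPSolvable p N) (h₂ : IsPSolvable p (G ⧸ N)) : IsPSolvable p G := by
  rw [isPSolvable_iff]
  intro L _ hL
  haveI : Nontrivial (G ⧸ L) := QuotientGroup.nontrivial_iff.mpr hL
  by_cases hNL : N ≤ L
  · exact pCore_ne_bot_or_pPrimeCore_ne_bot (isPSolvable_of_surjective h₂
      (QuotientGroup.map N L (MonoidHom.id G) (by simpa using hNL)) (fun y => by
        induction y using QuotientGroup.induction_on with | _ y => ?_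
        exact ⟨y, rfl⟩))
  · set Q := N.map (QuotientGroup.mk' L) with hQ
    haveI : Q.Normal := (inferInstance : N.Normal).map _ (QuotientGroup.mk'_surjective L)
    haveI : Nontrivial Q := (Subgroup.nontrivial_iff_ne_bot Q).mpr (by
      rw [hQ, Ne, Subgroup.map_eq_bot_iff, QuotientGroup.ker_mk']; exact hNL)
    rcases pCore_ne_bot_or_pPrimeCore_ne_bot (isPSolvable_of_surjective h₁
      ((QuotientGroup.mk' L).subgroupMap N)
      (MonoidHom.subgroupMap_surjective _ N)) with h' | h'
    · exact Or.inl fun hb => h' ((Subgroup.map_eq_bot_iff_of_injective _ Q.subtype_injective).mp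
        (le_bot_iff.mp (hb ▸ map_pCore_le_of_normal Q)))
    · exact Or.inr fun hb => h' ((Subgroup.map_eq_bot_iff_of_injective _ Q.subtype_injective).mp
        (le_bot_iff.mp (hb ▸ map_pPrimeCore_le_of_normal Q)))

theorem isPSolvable_iff_normal_quotient [Finite G] [Fact p.Prime] (N : Subgroup G) [N.Normal] :
    IsPSolvable p G ↔ IsPSolvable p N ∧ IsPSolvable p (G ⧸ N) :=
  ⟨fun h => ⟨isPSolvable_subgroup h N, isPSolvable_quotient h N⟩,
    fun h => isPSolvable_of_normal_of_quotient N h.1 h.2⟩

theorem isPSolvable_of_card {n : ℕ} (h : Nat.card G = n)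
    (hn : (∃ m : ℕ, n = p ^ m) ∨ n.Coprime p) : IsPSolvable p G :=
  ⟨1, ![⊥, ⊤], rfl, rfl, by
      rw [Fin.monotone_iff_le_succ]; intro i; exact (Fin.fin_one_eq_zero i) ▸ bot_le,
    fun i => by fin_cases i <;> simp <;> infer_instance, fun i => by
      rw [Fin.fin_one_eq_zero i]
      simp only [Fin.castSucc_zero, Fin.succ_zero_eq_one, Matrix.cons_val_zero,
        Matrix.cons_val_one, relIndex_bot_left, Subgroup.card_top, h]
      exact hn⟩

theorem isPSolvable_of_isPGroup [Finite G] [Fact p.Prime] (h : IsPGroup p G) : IsPSolvable p G :=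
  isPSolvable_of_card rfl (Or.inl (IsPGroup.iff_card.mp h))

theorem isPSolvable_of_coprime (h : (Nat.card G).Coprime p) : IsPSolvable p G :=
  isPSolvable_of_card rfl (Or.inr h)

theorem pCore_ne_bot_or_of_solvable [Finite G] [Nontrivial G] [hp : Fact p.Prime]
    [Group.IsSolvable G] : pCore p G ≠ ⊥ ∨ pPrimeCore p G ≠ ⊥ := by
  by_contra! hc
  apply fittingSubgroup_ne_bot (G := G)
  rw [iSup_pCore_eq_fittingSubgroup, iSup_eq_bot]
  intro q
  by_cases hq : (q : ℕ) = p
  · rw [hq]; exact hc.1
  · refine le_bot_iff.mp (hc.2 ▸ le_pPrimeCore ?_)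
    haveI := Fact.mk q.2
    obtain ⟨k, hk⟩ := IsPGroup.iff_card.mp (pCore_isPGroup (p := (q : ℕ)) (G := G))
    rw [hk]
    exact Nat.Coprime.pow_left _ ((Nat.coprime_primes q.2 hp.out).mpr hq)

theorem isPSolvable_of_isSolvable [Finite G] [Fact p.Prime] [Group.IsSolvable G] :
    IsPSolvable p G := by
  rw [isPSolvable_iff]
  intro N _ hN
  haveI : Nontrivial (G ⧸ N) := QuotientGroup.nontrivial_iff.mpr hN
  haveI : Group.IsSolvable (G ⧸ N) :=
    Group.isSolvable_of_surjective (QuotientGroup.mk'_surjective N)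
  exact pCore_ne_bot_or_of_solvable

/-- A minimal normal subgroup of a `p`-solvable group is a `p`-group or a `p'`-group. -/
theorem isPGroup_or_coprime_of_minimal_normal [Finite G] [Fact p.Prime] (h : IsPSolvable p G)
    (M : Subgroup G) [M.Normal] (hM : M ≠ ⊥)
    (hmin : ∀ K : Subgroup G, K.Normal → K ≤ M → K = ⊥ ∨ K = M) :
    IsPGroup p M ∨ (Nat.card M).Coprime p := by
  haveI : Nontrivial M := (Subgroup.nontrivial_iff_ne_bot M).mpr hM
  rcases pCore_ne_bot_or_pPrimeCore_ne_bot (isPSolvable_subgroup h M) with h' | h'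
  · left
    rcases hmin _ (inferInstance : ((pCore p M).map M.subtype).Normal) (Subgroup.map_subtype_le _)
      with h1 | h1
    · exact absurd ((Subgroup.map_eq_bot_iff_of_injective _ M.subtype_injective).mp h1) h'
    · rw [← h1]; exact pCore_isPGroup.map _
  · right
    rcases hmin _ (inferInstance : ((pPrimeCore p M).map M.subtype).Normal)
      (Subgroup.map_subtype_le _) with h1 | h1
    · exact absurd ((Subgroup.map_eq_bot_iff_of_injective _ M.subtype_injective).mp h1) h'
    · rw [← h1, card_map_eq _ M.subtype_injective]; exact coprime_card_pPrimeCore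

end Cfsg.Agent.Cores
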