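import Mathlib.GroupTheory.Sylow
import Mathlib.GroupTheory.SchurZassenhaus
import Mathlib.GroupTheory.IsSubnormal
import Mathlib.GroupTheory.Nilpotent
import Cfsg.Prelude.Def_OddOrderLocal
import Cfsg.Prelude.Def_CaseTheorems

/-!
Basic API for `pCore`, `pPrimeCore`, `piCore`, `oddCore`.
-/

namespace Cfsg.Agent.Cores

open Subgroup

variable {G : Type*} [Group G] {H : Type*} [Group H]

/-! ### π-numbers -/

/-- Every prime divisor of `n` lies in `π`. -/
def IsPiNumber (π : Set ℕ) (n : ℕ) : Prop :=
  ∀ p : ℕ, p.Prime → p ∣ n → p ∈ π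

theorem isPiNumber_one (π : Set ℕ) : IsPiNumber π 1 :=
  fun _ hp h => absurd (Nat.dvd_one.mp h) hp.ne_one

theorem IsPiNumber.of_dvd {π : Set ℕ} {m n : ℕ} (h : IsPiNumber π n) (hd : m ∣ n) :
    IsPiNumber π m :=
  fun p hp hpm => h p hp (hpm.trans hd)

theorem IsPiNumber.mul {π : Set ℕ} {m n : ℕ} (hm : IsPiNumber π m) (hn : IsPiNumber π n) :
    IsPiNumber π (m * n) :=
  fun p hp h => ((hp.dvd_mul).mp h).elim (hm p hp) (hn p hp)

theorem IsPiNumber.coprime {π ρ : Set ℕ} {m n : ℕ} (hm : IsPiNumber π m) (hn : IsPiNumber ρ n)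
    (hd : ∀ p : ℕ, p.Prime → p ∈ π → p ∉ ρ) : m.Coprime n :=
  Nat.coprime_of_dvd fun p hp h₁ h₂ => hd p hp (hm p hp h₁) (hn p hp h₂)

theorem IsPiNumber.eq_one {π : Set ℕ} {n : ℕ} (hm : IsPiNumber π n)
    (hn : IsPiNumber πᶜ n) : n = 1 :=
  by simpa using (hm.coprime hn fun p _ h h' => h' h : n.Coprime n)

theorem coprime_iff_isPiNumber (p n : ℕ) :
    n.Coprime p ↔ IsPiNumber {q : ℕ | ¬ q ∣ p} n := by
  constructor
  · intro h q hq hqn hqp
    exact hq.ne_one (Nat.dvd_one.mp (h ▸ Nat.dvd_gcd hqn hqp))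
  · intro h
    exact Nat.coprime_of_dvd fun q hq h₁ h₂ => h q hq h₁ h₂

theorem exists_eq_pow_iff_isPiNumber {p n : ℕ} (hp : p.Prime) (hn : n ≠ 0) :
    (∃ k : ℕ, n = p ^ k) ↔ IsPiNumber {p} n := by
  constructor
  · rintro ⟨k, rfl⟩ q hq h
    exact (Nat.prime_dvd_prime_iff_eq hq hp).mp (hq.dvd_of_dvd_pow h)
  · intro h
    exact ⟨_, Nat.eq_prime_pow_of_unique_prime_dvd hn (fun {q} hq hqn => h q hq hqn)⟩

theorem isPGroup_iff_isPiNumber [Finite G] {p : ℕ} (hp : p.Prime) :
    IsPGroup p G ↔ IsPiNumber {p} (Nat.card G) := by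
  haveI := Fact.mk hp
  rw [IsPGroup.iff_card, exists_eq_pow_iff_isPiNumber hp Nat.card_pos.ne']

/-! ### Cardinalities -/

/-- `|H ⊔ N|` divides `|H| * |N|` for `N` normal. -/
theorem card_sup_dvd (A N : Subgroup G) [N.Normal] :
    Nat.card ↥(A ⊔ N) ∣ Nat.card A * Nat.card N := by
  have h := Subgroup.relIndex_mul_relIndex (⊥ : Subgroup G) N (A ⊔ N) bot_le le_sup_right
  rw [relIndex_bot_left, relIndex_bot_left, relIndex_sup_right] at h
  rw [← h, mul_comm (Nat.card A)]
  exact Nat.mul_dvd_mul_left _ (relIndex_dvd_card N A)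

/-- `|H ⊔ N| * |H ⊓ N| = |H| * |N|` for `N` normal. -/
theorem card_sup_mul_card_inf (A N : Subgroup G) [N.Normal] :
    Nat.card ↥(A ⊔ N) * Nat.card ↥(A ⊓ N) = Nat.card A * Nat.card N := by
  have h := Subgroup.relIndex_mul_relIndex (⊥ : Subgroup G) N (A ⊔ N) bot_le le_sup_right
  rw [relIndex_bot_left, relIndex_bot_left, relIndex_sup_right] at h
  have h2 := Subgroup.relIndex_mul_relIndex (⊥ : Subgroup G) (A ⊓ N) A bot_le inf_le_left
  rw [relIndex_bot_left, relIndex_bot_left, inf_relIndex_left] at h2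
  rw [← h, ← h2]; ring

theorem card_map_eq (N : Subgroup G) {f : G →* H} (hf : Function.Injective f) :
    Nat.card (N.map f) = Nat.card N :=
  (Nat.card_congr (N.equivMapOfInjective f hf).toEquiv).symm

/-- The map of a characteristic subgroup of a normal subgroup is normal. -/
theorem map_subtype_normal {N : Subgroup G} [N.Normal] {K : Subgroup N} [K.Characteristic] :
    (K.map N.subtype).Normal :=
  inferInstance

/-! ### π-core -/

theorem le_piCore {π : Set ℕ} {N : Subgroup G} [hN : N.Normal]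
    (h : IsPiNumber π (Nat.card N)) : N ≤ piCore π G :=
  le_sSup ⟨hN, h⟩

theorem piCore_le {π : Set ℕ} {K : Subgroup G}
    (h : ∀ N : Subgroup G, N.Normal → IsPiNumber π (Nat.card N) → N ≤ K) : piCore π G ≤ K :=
  sSup_le fun N hN => h N hN.1 hN.2

/-- Induction principle: a set of normal subgroups closed under `⊔`. -/
theorem sSup_mem_of_closed [Finite G] {S : Set (Subgroup G)} (hbot : ⊥ ∈ S)
    (hsup : ∀ A ∈ S, ∀ B ∈ S, A ⊔ B ∈ S) : sSup S ∈ S := by
  obtain ⟨m, hm⟩ := (Set.toFinite S).exists_maximal ⟨⊥, hbot⟩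
  have : sSup S = m := by
    refine le_antisymm (sSup_le fun A hA => ?_) (le_sSup hm.1)
    exact le_sup_right.trans (hm.2 (hsup m hm.1 A hA) le_sup_left)
  exact this ▸ hm.1

theorem piCore_isPiNumber [Finite G] (π : Set ℕ) : IsPiNumber π (Nat.card (piCore π G)) := by
  refine (sSup_mem_of_closed (S := {N : Subgroup G | N.Normal ∧ IsPiNumber π (Nat.card N)})
    ⟨inferInstance, by rw [Subgroup.card_bot]; exact isPiNumber_one π⟩ ?_).2
  rintro A ⟨hA, hA'⟩ B ⟨hB, hB'⟩
  exact ⟨inferInstance, (hA'.mul hB').of_dvd (card_sup_dvd A B)⟩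

instance piCore_characteristic (π : Set ℕ) : (piCore π G).Characteristic := by
  rw [characteristic_iff_map_le]
  intro e
  rw [Subgroup.map_le_iff_le_comap]
  refine piCore_le fun N hN hN' => ?_
  rw [← Subgroup.map_le_iff_le_comap]
  have : (N.map e.toMonoidHom).Normal := hN.map _ e.surjective
  exact le_piCore (by rwa [card_map_eq N e.injective])

/-- The image of the π-core under a surjection lies in the π-core. -/
theorem piCore_map_le [Finite G] (π : Set ℕ) {f : G →* H} (hf : Function.Surjective f) :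
    (piCore π G).map f ≤ piCore π H := by
  have : ((piCore π G).map f).Normal := (piCore_normal π G).map _ hf
  exact le_piCore ((piCore_isPiNumber π).of_dvd (card_map_dvd _ f))

theorem piCore_map_mulEquiv (π : Set ℕ) (e : G ≃* H) :
    (piCore π G).map e.toMonoidHom = piCore π H := by
  have key : ∀ {A B : Type _} [Group A] [Group B] (f : A ≃* B) (N : Subgroup A), N.Normal →
      IsPiNumber π (Nat.card N) → N.map f.toMonoidHom ≤ piCore π B := by
    intro A B _ _ f N hN hN'
    have : (N.map f.toMonoidHom).Normal := hN.map _ f.surjective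
    exact le_piCore (by rwa [card_map_eq N f.injective])
  apply le_antisymm
  · rw [Subgroup.map_le_iff_le_comap]
    refine piCore_le fun N hN hN' => ?_
    rw [← Subgroup.map_le_iff_le_comap]
    exact key e N hN hN'
  · refine piCore_le fun N hN hN' => ?_
    have hnorm : (N.comap e.toMonoidHom).Normal := hN.comap _
    have hcard : Nat.card (N.comap e.toMonoidHom) = Nat.card N := by
      rw [← card_map_eq (N.comap e.toMonoidHom) (f := e.toMonoidHom) e.injective,
        map_comap_eq_self_of_surjective e.surjective]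
    calc N = (N.comap e.toMonoidHom).map e.toMonoidHom :=
            (map_comap_eq_self_of_surjective (f := e.toMonoidHom) e.surjective _).symm
      _ ≤ _ := Subgroup.map_mono (le_piCore (by rwa [hcard]))

theorem piCore_eq_top_iff [Finite G] (π : Set ℕ) :
    piCore π G = ⊤ ↔ IsPiNumber π (Nat.card G) := by
  constructor
  · intro h
    have := piCore_isPiNumber (G := G) π
    rwa [h, Subgroup.card_top] at this
  · intro h
    exact top_le_iff.mp (le_piCore (by rwa [Subgroup.card_top]))

theorem piCore_mono {π ρ : Set ℕ} (h : π ⊆ ρ) : piCore π G ≤ piCore ρ G :=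
  piCore_le fun _ _ hN' => le_piCore fun p hp hd => h (hN' p hp hd)

/-- The π-core of a normal subgroup lies in the π-core. -/
theorem map_piCore_le_of_normal [Finite G] (π : Set ℕ) (N : Subgroup G) [N.Normal] :
    (piCore π N).map N.subtype ≤ piCore π G :=
  le_piCore (by rw [card_map_eq _ N.subtype_injective]; exact piCore_isPiNumber π)

/-- A normal π-subgroup of `G` contained in `K` lies in the π-core of `K`. -/
theorem inf_piCore_le [Finite G] (π : Set ℕ) (K : Subgroup G) :
    (piCore π G).subgroupOf K ≤ piCore π K :=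
  le_piCore ((piCore_isPiNumber (G := G) π).of_dvd (by
    rw [← card_map_eq _ K.subtype_injective, subgroupOf_map_subtype]
    exact Subgroup.card_dvd_of_le inf_le_left))

theorem piCore_of_normal [Finite G] (π : Set ℕ) (N : Subgroup G) [N.Normal] :
    piCore π N = (piCore π G).subgroupOf N := by
  refine le_antisymm ?_ (inf_piCore_le π N)
  intro x hx
  exact map_piCore_le_of_normal π N ⟨x, hx, rfl⟩

theorem map_piCore_of_normal [Finite G] (π : Set ℕ) (N : Subgroup G) [N.Normal] :
    (piCore π N).map N.subtype = piCore π G ⊓ N := by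
  rw [piCore_of_normal, subgroupOf_map_subtype]

theorem map_piCore_le_of_isSubnormal [Finite G] {π : Set ℕ} {B : Subgroup G} (hB : B.IsSubnormal) :
    (piCore π B).map B.subtype ≤ piCore π G := by
  induction hB with
  | top => exact map_piCore_le_of_normal π ⊤
  | step B K hBK hK hN ih =>
    have h1 : (piCore π (B.subgroupOf K)).map (B.subgroupOf K).subtype ≤ piCore π K :=
      map_piCore_le_of_normal π _
    rw [← piCore_map_mulEquiv π (subgroupOfEquivOfLe hBK).symm, Subgroup.map_map] at h1
    refine le_trans ?_ ih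
    refine le_trans (le_of_eq ?_) (Subgroup.map_mono h1)
    rw [Subgroup.map_map]
    rfl

/-- A subnormal π-subgroup lies in the π-core. -/
theorem le_piCore_of_isSubnormal [Finite G] {π : Set ℕ} {A : Subgroup G} (hA : A.IsSubnormal)
    (h : IsPiNumber π (Nat.card A)) : A ≤ piCore π G := by
  have h1 := map_piCore_le_of_isSubnormal (π := π) hA
  rwa [(piCore_eq_top_iff π).mpr h, ← MonoidHom.range_eq_map, range_subtype] at h1

/-- For `N` a normal π-subgroup, the π-core of the quotient is the image of the π-core. -/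
theorem comap_piCore_quotient [Finite G] (π : Set ℕ) (N : Subgroup G) [N.Normal]
    (hN : IsPiNumber π (Nat.card N)) :
    (piCore π (G ⧸ N)).comap (QuotientGroup.mk' N) = piCore π G := by
  refine le_antisymm (le_piCore ?_) ?_
  · set K := (piCore π (G ⧸ N)).comap (QuotientGroup.mk' N) with hKdef
    have hle : N ≤ K := by
      intro x hx
      simp [hKdef, (QuotientGroup.eq_one_iff x).mpr hx, one_mem]
    have h1 := Subgroup.relIndex_mul_relIndex (⊥ : Subgroup G) N K bot_le hle
    rw [relIndex_bot_left, relIndex_bot_left] at h1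
    have h2 : Nat.card (K.map (QuotientGroup.mk' N)) = N.relIndex K := by
      rw [← Subgroup.relIndex_ker, QuotientGroup.ker_mk']
    rw [hKdef, map_comap_eq_self_of_surjective (QuotientGroup.mk'_surjective N)] at h2
    rw [← h1, ← h2]
    exact hN.mul (piCore_isPiNumber π)
  · rw [← Subgroup.map_le_iff_le_comap]
    exact piCore_map_le π (QuotientGroup.mk'_surjective N)

theorem piCore_quotient_piCore [Finite G] (π : Set ℕ) : piCore π (G ⧸ piCore π G) = ⊥ := by
  have h := comap_piCore_quotient π (piCore π G) (piCore_isPiNumber π)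
  have h2 := congrArg (Subgroup.map (QuotientGroup.mk' (piCore π G))) h
  rw [map_comap_eq_self_of_surjective (QuotientGroup.mk'_surjective _)] at h2
  rw [h2, Subgroup.map_eq_bot_iff, QuotientGroup.ker_mk']

theorem piCore_inf_piCore [Finite G] {π ρ : Set ℕ} (hd : ∀ p : ℕ, p.Prime → p ∈ π → p ∉ ρ) :
    piCore π G ⊓ piCore ρ G = ⊥ :=
  (disjoint_of_coprime_natCard
    ((piCore_isPiNumber π).coprime (piCore_isPiNumber ρ) hd)).eq_bot

end Cfsg.Agent.Cores
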