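import Cfsg.Agent.Cores.Constrained

/-!
The upper `p`-series and `p`-length.
-/

namespace Cfsg.Agent.Cores

open Subgroup

set_option linter.style.haveILetI false

variable {G : Type*} [Group G] {H : Type*} [Group H] {p : ℕ}

theorem upperPSeries_zero_eq : (upperPSeries p G 0).1 = ⊥ := rfl

theorem upperPSeries_succ_of_even {n : ℕ} (h : Even n) :
    (upperPSeries p G (n + 1)).1 =
      (pPrimeCore p (G ⧸ (upperPSeries p G n).1)).comap (QuotientGroup.mk' _) := by
  simp only [upperPSeries, if_pos h]

theorem upperPSeries_succ_of_odd {n : ℕ} (h : ¬ Even n) :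
    (upperPSeries p G (n + 1)).1 =
      (pCore p (G ⧸ (upperPSeries p G n).1)).comap (QuotientGroup.mk' _) := by
  simp only [upperPSeries, if_neg h]

theorem upperPSeries_le_succ (n : ℕ) :
    (upperPSeries p G n).1 ≤ (upperPSeries p G (n + 1)).1 := by
  by_cases h : Even n
  · rw [upperPSeries_succ_of_even h]
    exact fun x hx => by
      rw [Subgroup.mem_comap, (show QuotientGroup.mk' _ x = 1 from (QuotientGroup.eq_one_iff x).mpr hx)]
      exact one_mem _
  · rw [upperPSeries_succ_of_odd h]
    exact fun x hx => by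
      rw [Subgroup.mem_comap, (show QuotientGroup.mk' _ x = 1 from (QuotientGroup.eq_one_iff x).mpr hx)]
      exact one_mem _

theorem upperPSeries_mono : Monotone fun n => (upperPSeries p G n).1 :=
  monotone_nat_of_le_succ upperPSeries_le_succ

theorem map_surjective_of {A : Subgroup G} [A.Normal] {B : Subgroup H} [B.Normal] {f : G →* H}
    (hf : Function.Surjective f) (h : A ≤ B.comap f) :
    Function.Surjective (QuotientGroup.map A B f h) := fun y => by
  induction y using QuotientGroup.induction_on with | _ y => ?_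
  obtain ⟨x, rfl⟩ := hf y
  exact ⟨x, rfl⟩

theorem map_comap_le_comap {A : Subgroup G} [A.Normal] {B : Subgroup H} [B.Normal] (f : G →* H)
    (h : A ≤ B.comap f) {X : Subgroup (G ⧸ A)} {Y : Subgroup (H ⧸ B)}
    (hXY : X.map (QuotientGroup.map A B f h) ≤ Y) :
    (X.comap (QuotientGroup.mk' A)).map f ≤ Y.comap (QuotientGroup.mk' B) := by
  rintro _ ⟨x, hx, rfl⟩
  exact hXY ⟨_, hx, rfl⟩

theorem upperPSeries_map_le [Finite G] {f : G →* H} (hf : Function.Surjective f) (n : ℕ) :
    (upperPSeries p G n).1.map f ≤ (upperPSeries p H n).1 := by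
  induction n with
  | zero => rw [upperPSeries_zero_eq, Subgroup.map_bot]; exact bot_le
  | succ n ih =>
    have h := Subgroup.map_le_iff_le_comap.mp ih
    have hφ := map_surjective_of hf h
    by_cases hn : Even n
    · rw [upperPSeries_succ_of_even hn, upperPSeries_succ_of_even hn]
      exact map_comap_le_comap f h (pPrimeCore_map_le hφ)
    · rw [upperPSeries_succ_of_odd hn, upperPSeries_succ_of_odd hn]
      exact map_comap_le_comap f h (pCore_map_le hφ)

/-- Shift: if `ker f = U_(2 j)(G)` then `U_(2 j + m)(G)` is the preimage of `U_m(H)`. -/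
theorem upperPSeries_add {f : G →* H} (hf : Function.Surjective f) {j : ℕ}
    (hker : f.ker = (upperPSeries p G (2 * j)).1) (m : ℕ) :
    (upperPSeries p G (2 * j + m)).1 = (upperPSeries p H m).1.comap f := by
  induction m with
  | zero => rw [upperPSeries_zero_eq, MonoidHom.comap_bot, hker]; rfl
  | succ m ih =>
    have hle : (upperPSeries p G (2 * j + m)).1 ≤ (upperPSeries p H m).1.comap f := ih.le
    let φ := QuotientGroup.map _ _ f hle
    have hφi : Function.Injective φ := by
      rw [injective_iff_map_eq_one]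
      intro y hy
      induction y using QuotientGroup.induction_on with | _ y => ?_
      rw [QuotientGroup.eq_one_iff, ih, Subgroup.mem_comap]
      exact (QuotientGroup.eq_one_iff (f y)).mp hy
    let e := MulEquiv.ofBijective φ ⟨hφi, map_surjective_of hf hle⟩
    have heven : Even (2 * j + m) ↔ Even m := by
      constructor <;> intro h <;> [skip; skip] <;> simpa [Nat.even_add] using h
    rw [← Nat.add_assoc]
    by_cases hm : Even m
    · rw [upperPSeries_succ_of_even (heven.mpr hm), upperPSeries_succ_of_even hm]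
      ext x
      simp only [Subgroup.mem_comap]
      rw [← pPrimeCore_map_mulEquiv e]
      exact (Subgroup.mem_map_iff_mem e.injective).symm
    · rw [upperPSeries_succ_of_odd (heven.not.mpr hm), upperPSeries_succ_of_odd hm]
      ext x
      simp only [Subgroup.mem_comap]
      rw [← pCore_map_mulEquiv e]
      exact (Subgroup.mem_map_iff_mem e.injective).symm

theorem upperPSeries_one : (upperPSeries p G 1).1 = pPrimeCore p G := by
  rw [upperPSeries_succ_of_even (by decide : Even 0)]
  ext x
  rw [Subgroup.mem_comap]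
  let e : G ⧸ (upperPSeries p G 0).1 ≃* G :=
    (QuotientGroup.quotientMulEquivOfEq upperPSeries_zero_eq).trans QuotientGroup.quotientBot
  rw [← pPrimeCore_map_mulEquiv e]
  exact (Subgroup.mem_map_iff_mem e.injective).symm

theorem upperPSeries_two : (upperPSeries p G 2).1 = pPrimePCore p G := by
  rw [upperPSeries_succ_of_odd (by decide : ¬ Even 1)]
  ext x
  rw [Subgroup.mem_comap, pPrimePCore, Subgroup.mem_comap]
  let e : G ⧸ (upperPSeries p G 1).1 ≃* G ⧸ pPrimeCore p G :=
    QuotientGroup.quotientMulEquivOfEq upperPSeries_one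
  rw [← pCore_map_mulEquiv e]
  exact (Subgroup.mem_map_iff_mem e.injective).symm

theorem subgroupOf_upperPSeries_le [Finite G] (K : Subgroup G) (n : ℕ) :
    (upperPSeries p G n).1.subgroupOf K ≤ (upperPSeries p K n).1 := by
  induction n with
  | zero => rw [upperPSeries_zero_eq, bot_subgroupOf, upperPSeries_zero_eq]
  | succ n ih =>
    set A := (upperPSeries p G n).1.subgroupOf K with hA
    haveI : A.Normal := (upperPSeries p G n).2.comap _
    let ι := QuotientGroup.map A (upperPSeries p G n).1 K.subtype le_rfl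
    have hι : Function.Injective ι := by
      rw [injective_iff_map_eq_one]
      intro y hy
      induction y using QuotientGroup.induction_on with | _ y => ?_
      rw [QuotientGroup.eq_one_iff]
      exact (QuotientGroup.eq_one_iff (N := (upperPSeries p G n).1) (K.subtype y)).mp hy
    have h : A ≤ (upperPSeries p K n).1.comap (MonoidHom.id K) := ih
    have hψ : Function.Surjective (QuotientGroup.map A _ (MonoidHom.id K) h) :=
      map_surjective_of Function.surjective_id h
    by_cases hn : Even n
    · rw [upperPSeries_succ_of_even hn, upperPSeries_succ_of_even hn]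
      intro x hx
      refine pPrimeCore_map_le hψ ⟨QuotientGroup.mk' A x, ?_, rfl⟩
      haveI : ((pPrimeCore p (G ⧸ (upperPSeries p G n).1)).comap ι).Normal :=
        (inferInstance : (pPrimeCore p _).Normal).comap _
      refine le_pPrimeCore (N := (pPrimeCore p (G ⧸ (upperPSeries p G n).1)).comap ι) ?_ hx
      rw [← card_map_eq _ hι]
      exact coprime_card_pPrimeCore.coprime_dvd_left (card_dvd_of_le (map_comap_le _ _))
    · rw [upperPSeries_succ_of_odd hn, upperPSeries_succ_of_odd hn]
      intro x hx
      refine pCore_map_le hψ ⟨QuotientGroup.mk' A x, ?_, rfl⟩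
      haveI : ((pCore p (G ⧸ (upperPSeries p G n).1)).comap ι).Normal :=
        (inferInstance : (pCore p _).Normal).comap _
      exact le_pCore (N := (pCore p (G ⧸ (upperPSeries p G n).1)).comap ι)
        (pCore_isPGroup.comap_of_injective ι hι) hx

theorem pLengthLE_mono {j k : ℕ} (h : j ≤ k) (hj : PLengthLE p j G) : PLengthLE p k G :=
  top_le_iff.mp (hj ▸ upperPSeries_mono (by omega : 2 * j + 1 ≤ 2 * k + 1))

theorem pLengthLE_of_surjective [Finite G] {k : ℕ} (h : PLengthLE p k G) {f : G →* H}
    (hf : Function.Surjective f) : PLengthLE p k H := by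
  refine top_le_iff.mp ?_
  rw [← Subgroup.map_top_of_surjective f hf, ← h]
  exact upperPSeries_map_le hf _

theorem pLengthLE_subgroup [Finite G] {k : ℕ} (h : PLengthLE p k G) (K : Subgroup G) :
    PLengthLE p k K := by
  refine top_le_iff.mp fun x _ => subgroupOf_upperPSeries_le K _ ?_
  rw [Subgroup.mem_subgroupOf, h]
  exact Subgroup.mem_top _

theorem pLengthLE_zero_iff [Finite G] : PLengthLE p 0 G ↔ (Nat.card G).Coprime p := by
  rw [PLengthLE, upperPSeries_one, pPrimeCore_eq_top_iff]

/-- `G` is `p`-length at most one iff `G / O_{p',p}(G)` is a `p'`-group. -/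
theorem pLengthLE_one_iff [Finite G] :
    PLengthLE p 1 G ↔ (Nat.card (G ⧸ pPrimePCore p G)).Coprime p := by
  rw [PLengthLE, upperPSeries_add (f := QuotientGroup.mk' (pPrimePCore p G))
    (QuotientGroup.mk'_surjective _) (j := 1) (by rw [QuotientGroup.ker_mk', upperPSeries_two]) 1,
    upperPSeries_one, ← pPrimeCore_eq_top_iff]
  exact ⟨fun h => by
    rw [← map_comap_eq_self_of_surjective (QuotientGroup.mk'_surjective (pPrimePCore p G))
      (pPrimeCore p _), h, Subgroup.map_top_of_surjective _ (QuotientGroup.mk'_surjective _)],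
    fun h => by rw [h, Subgroup.comap_top]⟩

theorem isPSolvable_upperPSeries_quot [Finite G] [Fact p.Prime] (hs : IsPSolvable p G) (k : ℕ)
    (h : (upperPSeries p G (2 * k)).1 ≠ ⊤) :
    (upperPSeries p G (2 * k)).1 < (upperPSeries p G (2 * (k + 1))).1 := by
  refine lt_of_le_of_ne (upperPSeries_mono (by omega)) fun he => ?_
  set U := (upperPSeries p G (2 * k)).1 with hU
  haveI : Nontrivial (G ⧸ U) := QuotientGroup.nontrivial_iff.mpr h
  have hadd := upperPSeries_add (p := p) (f := QuotientGroup.mk' U)
    (QuotientGroup.mk'_surjective U) (j := k) (QuotientGroup.ker_mk' U) 2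
  rw [show 2 * k + 2 = 2 * (k + 1) by ring, ← he, upperPSeries_two] at hadd
  have hb : pPrimePCore p (G ⧸ U) = ⊥ := by
    rw [← map_comap_eq_self_of_surjective (QuotientGroup.mk'_surjective U) (pPrimePCore p _),
      ← hadd, Subgroup.map_eq_bot_iff, QuotientGroup.ker_mk']
  rcases pCore_ne_bot_or_pPrimeCore_ne_bot (isPSolvable_quotient hs U) with h' | h'
  · exact h' (le_bot_iff.mp (hb ▸ pCore_le_pPrimePCore))
  · exact h' (le_bot_iff.mp (hb ▸ pPrimeCore_le_pPrimePCore))

theorem exists_pLengthLE [Finite G] [Fact p.Prime] (hs : IsPSolvable p G) :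
    ∃ k, PLengthLE p k G := by
  obtain ⟨m, hm⟩ := (Set.toFinite (Set.range fun k => (upperPSeries p G (2 * k)).1)).exists_maximal
    (Set.range_nonempty _)
  obtain ⟨k, rfl⟩ := hm.1
  by_cases h : (upperPSeries p G (2 * k)).1 = ⊤
  · exact ⟨k, top_le_iff.mp (h ▸ upperPSeries_le_succ _)⟩
  · exact absurd (hm.2 ⟨k + 1, rfl⟩ (isPSolvable_upperPSeries_quot hs k h).le)
      (isPSolvable_upperPSeries_quot hs k h).not_ge

theorem isPSolvable_of_pLengthLE [Finite G] [Fact p.Prime] {k : ℕ} (h : PLengthLE p k G) :
    IsPSolvable p G := by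
  refine ⟨2 * k + 1, fun i => (upperPSeries p G i).1, rfl, h,
    fun a b hab => upperPSeries_mono hab, fun i => (upperPSeries p G i).2, fun i => ?_⟩
  show (∃ m, (upperPSeries p G i).1.relIndex (upperPSeries p G (i + 1)).1 = p ^ m) ∨ _
  by_cases hi : Even (i : ℕ)
  · right
    show ((upperPSeries p G i).1.relIndex (upperPSeries p G ((i : ℕ) + 1)).1).Coprime p
    rw [upperPSeries_succ_of_even hi, ← card_map_mk',
      map_comap_eq_self_of_surjective (QuotientGroup.mk'_surjective _)]
    exact coprime_card_pPrimeCore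
  · left
    rw [upperPSeries_succ_of_odd hi, ← card_map_mk',
      map_comap_eq_self_of_surjective (QuotientGroup.mk'_surjective _)]
    exact IsPGroup.iff_card.mp pCore_isPGroup

theorem isPSolvable_iff_exists_pLengthLE [Finite G] [Fact p.Prime] :
    IsPSolvable p G ↔ ∃ k, PLengthLE p k G :=
  ⟨exists_pLengthLE, fun ⟨_, h⟩ => isPSolvable_of_pLengthLE h⟩

end Cfsg.Agent.Cores
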