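import Cfsg.Agent.Cores.FixingSylow

/-!
# The structure of the group of automorphisms fixing a Sylow 2-subgroup
-/

namespace Cfsg.Agent.Cores

open Subgroup
open scoped commutatorElement

universe u

variable {G : Type u} [Group G] [Finite G] (S : Sylow 2 G)

/-- **Glauberman**: for `O(G) = 1` the automorphisms fixing `S` form a group with abelian Sylow
`2`-subgroups and a normal `2`-complement. -/
theorem fixing_sylow_structure (hO : oddCore G = ⊥) {C : Subgroup (MulAut G)}
    (hC : ∀ φ ∈ C, ∀ s ∈ (S : Subgroup G), φ s = s) (T : Sylow 2 ↥C) :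
    (∀ a b : ↥T, a * b = b * a) ∧
      ∃ N : Subgroup ↥C, N.Normal ∧ Subgroup.IsComplement' N (T : Subgroup ↥C) := by
  haveI : Fact (Nat.Prime 2) := ⟨Nat.prime_two⟩
  have hodd := odd_card_commutator_fixing S hO hC
  have key : ∀ x y : ↥C, ⁅x, y⁆ ∈ (T : Subgroup ↥C) → ⁅x, y⁆ = 1 := by
    intro x y hxy
    have hmem : ((⁅x, y⁆ : ↥C) : MulAut G) ∈ ⁅C, C⁆ :=
      Subgroup.commutator_mem_commutator x.2 y.2
    have h1 : Odd (orderOf ⁅x, y⁆) := by
      refine hodd.of_dvd_nat ?_
      have h := orderOf_dvd_natCard (⟨_, hmem⟩ : ↥⁅C, C⁆)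
      rw [← Subgroup.orderOf_coe] at h
      rwa [← Subgroup.orderOf_coe]
    obtain ⟨k, hk⟩ := IsPGroup.iff_orderOf.1 T.isPGroup' ⟨_, hxy⟩
    rw [Subgroup.orderOf_mk] at hk
    rw [hk] at h1
    rcases k with _ | k
    · exact orderOf_eq_one_iff.1 (by simpa using hk)
    · exact absurd h1 (by simp [pow_succ])
  have hab : ∀ a b : ↥T, a * b = b * a := fun a b => by
    have h := key (a : ↥C) b
      (mul_mem (mul_mem (mul_mem a.2 b.2) (inv_mem a.2)) (inv_mem b.2))
    exact Subtype.ext (commutatorElement_eq_one_iff_mul_comm.1 h)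
  have hP : normalizer ((T : Subgroup ↥C) : Set ↥C) ≤ centralizer ((T : Subgroup ↥C) : Set ↥C) := by
    intro n hn
    rw [mem_centralizer_iff]
    intro t ht
    have h := key n t (mul_mem ((mem_normalizer_iff.1 hn t).1 ht) (inv_mem ht))
    exact (commutatorElement_eq_one_iff_mul_comm.1 h).symm
  exact ⟨hab, _, inferInstance, MonoidHom.ker_transferSylow_isComplement' T hP⟩

/-- The automorphisms fixing `S` form a solvable group, granted that groups of odd order are. -/
theorem fixing_sylow_isSolvable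
    (hodd : ∀ (H : Type u) [Group H] [Finite H], Odd (Nat.card H) → Group.IsSolvable H)
    (hO : oddCore G = ⊥) {C : Subgroup (MulAut G)}
    (hC : ∀ φ ∈ C, ∀ s ∈ (S : Subgroup G), φ s = s) : Group.IsSolvable ↥C := by
  haveI : Fact (Nat.Prime 2) := ⟨Nat.prime_two⟩
  obtain ⟨hab, N, hN, hcompl⟩ := fixing_sylow_structure S hO hC (default : Sylow 2 ↥C)
  haveI := hN
  haveI : Group.IsSolvable N := hodd N (by
    rw [Nat.odd_iff, ← Nat.two_dvd_ne_zero, ← hcompl.index_eq_card]
    exact (default : Sylow 2 ↥C).not_dvd_index)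
  haveI : Group.IsSolvable (↥C ⧸ N) := by
    refine Group.isSolvable_of_comm fun a b => ?_
    obtain ⟨x, rfl⟩ := hcompl.symm.QuotientMulEquiv.symm.surjective a
    obtain ⟨y, rfl⟩ := hcompl.symm.QuotientMulEquiv.symm.surjective b
    rw [← map_mul, ← map_mul, hab]
  exact solvable_of_ker_le_range (N.subtype) (QuotientGroup.mk' N) (by simp)

end Cfsg.Agent.Cores
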