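import Cfsg.Agent.PGroups.Basic
import Cfsg.Prelude.Def_Transfer

/-!
A criterion for extraspecial 2-groups.
-/

set_option autoImplicit false

namespace Cfsg.Agent.Cores.SquareExtraspecial

open Subgroup
open scoped commutatorElement

theorem isExtraspecial_of_squares {T : Type*} [Group T] [Finite T] (hp : IsPGroup 2 T) {z : T}
    (hc : center T = zpowers z) (hz1 : z ≠ 1) (hz : z ^ 2 = 1)
    (hsq : ∀ x : T, x ^ 2 ∈ center T) (hna : 2 < Nat.card T) : Cfsg.IsExtraspecial 2 T := by
  haveI : Fact (Nat.Prime 2) := ⟨Nat.prime_two⟩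
  have hzcard : Nat.card ↥(center T) = 2 := by
    rw [hc, Nat.card_zpowers]; exact orderOf_eq_prime hz hz1
  have hcomm' : commutator T ≤ center T := by
    rw [_root_.commutator_def, commutator_le]
    intro a _ c _
    have e : ⁅a, c⁆ = (a * c) ^ 2 * (c ^ 2)⁻¹ * (c * (a ^ 2)⁻¹ * c⁻¹) := by
      rw [commutatorElement_def, pow_two, pow_two, pow_two]; group
    rw [e]
    exact mul_mem (mul_mem (hsq _) (inv_mem (hsq c))) ((center T).normal_of_characteristic.conj_mem
      _ (inv_mem (hsq a)) c)
  have hfr : frattini T ≤ center T := PGroups.frattini_le_of_commutator_le (p := 2) _ hcomm' hsq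
  have hge : center T ≤ commutator T := by
    have hne : commutator T ≠ ⊥ := fun h => by
      have htop : center T = ⊤ := eq_top_iff.2 fun x _ => mem_center_iff.2 fun y => by
        apply commutatorElement_eq_one_iff_commute.1
        rw [← mem_bot, ← h, _root_.commutator_def]
        exact commutator_mem_commutator (mem_top _) (mem_top _)
      rw [htop, card_top] at hzcard
      omega
    refine (eq_of_le_of_card_ge hcomm' ?_).ge
    rw [hzcard]
    exact Finite.one_lt_card_iff_nontrivial.2 ((nontrivial_iff_ne_bot _).2 hne)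
  exact ⟨⟨hp, le_antisymm hfr (hge.trans (PGroups.commutator_le_frattini hp)),
    le_antisymm hcomm' hge⟩, hzcard⟩

end Cfsg.Agent.Cores.SquareExtraspecial
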