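import Cfsg.Agent.Cores.ThirdMain

/-!
# Sections of the principal block

For a `p`-element `x` with centraliser `H`, the columns of the principal block of `G` in the section
of `x` have the same inner products as those of the principal block of `H` on `p`-regular elements.
-/

open scoped ComplexConjugate

namespace Cfsg.Agent.Cores

open MonoidAlgebra BlockBasic CharBasic

universe u

variable {G : Type u} [Group G] [Finite G] {p : ℕ} {M : Ideal AlgInt} [Fact p.Prime] {x : G}

theorem isClassFunction_shift {φ : G → ℂ} (hφ : IsClassFunction G φ) :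
    IsClassFunction (Subgroup.centralizer ({x} : Set G))
      (fun c : Subgroup.centralizer ({x} : Set G) => φ (x * (c : G))) := fun g k => by
  show φ (x * ((k * g * k⁻¹ : Subgroup.centralizer ({x} : Set G)) : G)) = _
  have hk := Subgroup.mem_centralizer_singleton_iff.mp k.2
  rw [show x * ((k * g * k⁻¹ : Subgroup.centralizer ({x} : Set G)) : G) =
    (k : G) * (x * (g : G)) * (k : G)⁻¹ by push_cast; rw [← mul_assoc (k : G) x, hk]; group]
  exact hφ _ _

open scoped Classical in
/-- Second and third main theorem: the principal part of `c ↦ ζ (x c)` at `p`-regular elements. -/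
theorem principal_part_eq (hM : IsPModular p M) {e : ℕ} (hx : orderOf x = p ^ e)
    (ζ : IrrCharacter G) [Fintype (Subgroup.centralizer ({x} : Set G))]
    (y : Subgroup.centralizer ({x} : Set G)) (hy : ¬ p ∣ orderOf y) :
    ∑ ψ : IrrCharacter (Subgroup.centralizer ({x} : Set G)) with
        ψ ∈ principalBlock M (Subgroup.centralizer ({x} : Set G)),
      classInner (fun c : Subgroup.centralizer ({x} : Set G) => (ζ : G → ℂ) (x * (c : G)))
        (ψ : _ → ℂ) * (ψ : _ → ℂ) y =
      if ζ ∈ principalBlock M G then (ζ : G → ℂ) (x * (y : G)) else 0 := by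
  cases nonempty_fintype G
  set θ : Subgroup.centralizer ({x} : Set G) → ℂ := fun c => (ζ : G → ℂ) (x * (c : G)) with hθ
  have hθc : IsClassFunction (Subgroup.centralizer ({x} : Set G)) θ :=
    isClassFunction_shift (IsIrr.isClassFunction ζ.2)
  have hpart : ∀ b, IsPBlock M b →
      ¬ IsInducedBlock M (Subgroup.centralizer ({x} : Set G)) b (blockOf M (ζ : G → ℂ)) →
      ∑ ψ : IrrCharacter (Subgroup.centralizer ({x} : Set G)) with ψ ∈ b,
        classInner θ (ψ : _ → ℂ) * (ψ : _ → ℂ) y = 0 := by
    intro b hb hnot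
    have h2 := second_main hM hx (isPBlock_blockOf M ζ) (self_mem_blockOf hM ζ) hb hnot y hy
    rw [blockPart, finsum_mem_eq_sum_ite,
      Subsingleton.elim (Fintype.ofFinite (Subgroup.centralizer ({x} : Set G)))
        ‹Fintype (Subgroup.centralizer ({x} : Set G))›, ← Finset.sum_filter] at h2
    exact h2
  split_ifs with hζ
  · have hB : blockOf M (ζ : G → ℂ) = principalBlock M G :=
      (isPBlock_eq_blockOf hM (isPBlock_principalBlock M) hζ).symm
    conv_rhs => rw [show (ζ : G → ℂ) (x * (y : G)) = θ y from rfl, classFunction_expansion hθc]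
    simp only [Finset.sum_apply, Pi.smul_apply, smul_eq_mul]
    symm
    refine sum_eq_sum_of_block hM (isPBlock_principalBlock M) _ fun b hb hne => hpart b hb fun h => ?_
    exact hne ((third_main hM h).1 hB)
  · refine hpart _ (isPBlock_principalBlock M) fun h => hζ ?_
    have := (third_main hM h).2 rfl
    exact this ▸ self_mem_blockOf hM ζ

/-- Inner products of the columns of the principal block in the section of `x`. -/
theorem principal_column_inner (hM : IsPModular p M) {e : ℕ} (hx : orderOf x = p ^ e)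
    (y : Subgroup.centralizer ({x} : Set G)) (hy : ¬ p ∣ orderOf y) :
    ∑ᶠ ζ ∈ principalBlock M G,
        (ζ : G → ℂ) (x * (y : G)) * conj ((ζ : G → ℂ) (x * (y : G))) =
      blockKernel (principalBlock M (Subgroup.centralizer ({x} : Set G))) y y := by
  classical
  cases nonempty_fintype G
  haveI : Fintype (Subgroup.centralizer ({x} : Set G)) := Fintype.ofFinite _
  set b := principalBlock M (Subgroup.centralizer ({x} : Set G)) with hb
  have hbB : IsPBlock M b := isPBlock_principalBlock M
  have hHne : (Nat.card (Subgroup.centralizer ({x} : Set G)) : ℂ) ≠ 0 := Nat.cast_ne_zero.2 Nat.card_pos.ne'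
  have hP : ∀ ζ : IrrCharacter G,
      (if ζ ∈ principalBlock M G then (ζ : G → ℂ) (x * (y : G)) else 0) =
        (Nat.card (Subgroup.centralizer ({x} : Set G)) : ℂ)⁻¹ * ∑ c : (Subgroup.centralizer ({x} : Set G)), (ζ : G → ℂ) (x * (c : G)) * blockKernel b y c := by
    intro ζ
    rw [← principal_part_eq hM hx ζ y hy]
    simp only [classInner_def, blockKernel, finsum_mem_eq_sum_ite, Finset.mul_sum, Finset.sum_mul]
    rw [Finset.sum_comm]
    refine Finset.sum_congr rfl fun c _ => ?_
    rw [Finset.sum_filter]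
    refine Finset.sum_congr rfl fun ψ _ => ?_
    split_ifs
    · ring
    · simp
  have hstep : ∑ᶠ ζ ∈ principalBlock M G,
      (ζ : G → ℂ) (x * (y : G)) * conj ((ζ : G → ℂ) (x * (y : G))) =
      (Nat.card (Subgroup.centralizer ({x} : Set G)) : ℂ)⁻¹ * ∑ c : (Subgroup.centralizer ({x} : Set G)), (∑ ζ : IrrCharacter G,
        (ζ : G → ℂ) (x * (c : G)) * conj ((ζ : G → ℂ) (x * (y : G)))) * blockKernel b y c := by
    rw [finsum_mem_eq_sum_ite]
    simp only [Finset.sum_mul, Finset.mul_sum]
    rw [Finset.sum_comm]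
    refine Finset.sum_congr rfl fun ζ _ => ?_
    have h2 := congrArg (· * conj ((ζ : G → ℂ) (x * (y : G)))) (hP ζ)
    simp only [ite_mul, zero_mul] at h2
    rw [h2, Finset.mul_sum, Finset.sum_mul]
    exact Finset.sum_congr rfl fun c _ => by ring
  rw [hstep]
  obtain ⟨k, hk⟩ : ∃ k, orderOf x = p ^ k := ⟨e, hx⟩
  have hxc : ∀ c : (Subgroup.centralizer ({x} : Set G)), Commute x (c : G) := fun c =>
    (Subgroup.mem_centralizer_singleton_iff.mp c.2).symm
  -- a singular `c` gives nothing; for regular `c` fusion happens inside `(Subgroup.centralizer ({x} : Set G))`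
  have hterm : ∀ c : (Subgroup.centralizer ({x} : Set G)), (∑ ζ : IrrCharacter G,
      (ζ : G → ℂ) (x * (c : G)) * conj ((ζ : G → ℂ) (x * (y : G)))) * blockKernel b y c =
      if IsConj y c then
        (Nat.card (Subgroup.centralizer ({y} : Set (Subgroup.centralizer ({x} : Set G)))) : ℂ) * blockKernel b y y else 0 := by
    intro c
    by_cases hc : p ∣ orderOf c
    · rw [blockKernel_eq_zero_of_regular_of_singular hM hbB hy hc, mul_zero, if_neg fun h => hy ?_]
      obtain ⟨d, rfl⟩ := isConj_iff.1 h
      rwa [← MulAut.conj_apply, MulEquiv.orderOf_eq] at hc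
    have hconj : IsConj (x * (c : G)) (x * (y : G)) ↔ IsConj y c := by
      constructor
      · intro h
        obtain ⟨g, hg⟩ := isConj_iff.1 h
        have hpx : g * x * g⁻¹ = x := by
          have h1 := congrArg (pPart (p := p)) hg
          rwa [pPart_conj, pPart_mul_of (hxc c) ⟨k, hk⟩ (by rwa [Subgroup.orderOf_coe]),
            pPart_mul_of (hxc y) ⟨k, hk⟩ (by rwa [Subgroup.orderOf_coe])] at h1
        have hgH : g ∈ (Subgroup.centralizer ({x} : Set G)) :=
          Subgroup.mem_centralizer_singleton_iff.2 (mul_inv_eq_iff_eq_mul.1 hpx)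
        refine (isConj_iff.2 ⟨(⟨g, hgH⟩ : (Subgroup.centralizer ({x} : Set G))), Subtype.ext ?_⟩).symm
        rw [show g * (x * (c : G)) * g⁻¹ = (g * x * g⁻¹) * (g * (c : G) * g⁻¹) by group, hpx,
          mul_right_inj] at hg
        simpa using hg
      · intro h
        obtain ⟨g, rfl⟩ := isConj_iff.1 h
        refine (isConj_iff.2 ⟨(g : G), ?_⟩).symm
        push_cast
        rw [← mul_assoc (g : G) x, ← (hxc g).eq]
        group
    split_ifs with h
    · rw [second_orthogonality_isConj (hconj.2 h)]
      obtain ⟨g, hg⟩ := isConj_iff.1 h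
      congr 1
      · norm_cast
        rw [show x * (c : G) = (g : G) * (x * (y : G)) * (g : G)⁻¹ by
          rw [← mul_assoc (g : G) x, ← (hxc g).eq, ← hg]; push_cast; group,
          ← card_conj_eq_centralizer, ← card_conj_eq_centralizer]
        -- transport along conjugation and restriction to `(Subgroup.centralizer ({x} : Set G))`
        refine Nat.card_congr
          { toFun := fun z => ⟨⟨(g : G)⁻¹ * z.1 * (g : G), ?_⟩, ?_⟩
            invFun := fun w => ⟨(g : G) * (w.1 : G) * (g : G)⁻¹, ?_⟩
            left_inv := fun z => Subtype.ext (by simp [mul_assoc])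
            right_inv := fun w => Subtype.ext (Subtype.ext (by simp [mul_assoc])) }
        · have hz := z.2
          have hz' : (g : G)⁻¹ * z.1 * (g : G) * (x * (y : G)) * ((g : G)⁻¹ * z.1 * (g : G))⁻¹ =
              x * (y : G) := by
            calc _ = (g : G)⁻¹ * (z.1 * ((g : G) * (x * (y : G)) * (g : G)⁻¹) * z.1⁻¹) * (g : G) := by
                  group
              _ = _ := by rw [hz]; group
          refine Subgroup.mem_centralizer_singleton_iff.2 (mul_inv_eq_iff_eq_mul.1 ?_)
          have h1 := congrArg (pPart (p := p)) hz'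
          rwa [pPart_conj, pPart_mul_of (hxc y) ⟨k, hk⟩ (by rwa [Subgroup.orderOf_coe])] at h1
        · refine Subtype.ext ?_
          push_cast
          have hz := z.2
          have hmem : (g : G)⁻¹ * z.1 * (g : G) ∈ (Subgroup.centralizer ({x} : Set G)) := by
            refine Subgroup.mem_centralizer_singleton_iff.2 (mul_inv_eq_iff_eq_mul.1 ?_)
            have h1 := congrArg (pPart (p := p))
              (show (g : G)⁻¹ * z.1 * (g : G) * (x * (y : G)) * ((g : G)⁻¹ * z.1 * (g : G))⁻¹ =
                x * (y : G) by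
              calc _ = (g : G)⁻¹ * (z.1 * ((g : G) * (x * (y : G)) * (g : G)⁻¹) * z.1⁻¹) * (g : G) := by
                    group
                _ = _ := by rw [hz]; group)
            rwa [pPart_conj, pPart_mul_of (hxc y) ⟨k, hk⟩ (by rwa [Subgroup.orderOf_coe])] at h1
          have hcx := (hxc ⟨_, hmem⟩).eq
          apply mul_left_cancel (a := x)
          calc x * ((g : G)⁻¹ * z.1 * (g : G) * (y : G) * ((g : G)⁻¹ * z.1 * (g : G))⁻¹)
              = ((g : G)⁻¹ * z.1 * (g : G)) * (x * (y : G)) *
                  ((g : G)⁻¹ * z.1 * (g : G))⁻¹ := by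
                rw [← mul_assoc, ← mul_assoc x, hcx]; group
            _ = (g : G)⁻¹ * (z.1 * ((g : G) * (x * (y : G)) * (g : G)⁻¹) * z.1⁻¹) * (g : G) := by
                group
            _ = _ := by rw [hz]; group
        · have hw : (w.1 : G) * (y : G) * (w.1 : G)⁻¹ = (y : G) := congrArg Subtype.val w.2
          calc (g : G) * (w.1 : G) * (g : G)⁻¹ * ((g : G) * (x * (y : G)) * (g : G)⁻¹) *
                ((g : G) * (w.1 : G) * (g : G)⁻¹)⁻¹
              = (g : G) * ((w.1 : G) * x * (w.1 : G)⁻¹ * ((w.1 : G) * (y : G) * (w.1 : G)⁻¹)) *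
                  (g : G)⁻¹ := by group
            _ = _ := by rw [← (hxc w.1).eq, mul_inv_cancel_right, hw]
      · simp only [blockKernel, finsum_mem_eq_sum_ite]
        refine Finset.sum_congr rfl fun ψ _ => ?_
        rw [← hg, IsIrr.isClassFunction ψ.2 y g]
    · rw [second_orthogonality_not_isConj fun hh => h (hconj.1 hh), zero_mul]
  simp only [hterm, ← Finset.sum_filter]
  rw [Finset.sum_const, nsmul_eq_mul, card_class, ← mul_assoc _ (Nat.card _ : ℂ) (blockKernel b y y),
    ← Nat.cast_mul, Subgroup.index_mul_card, ← mul_assoc, inv_mul_cancel₀ hHne, one_mul]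

/-- The degree-square sum over the characters trivial on a normal subgroup. -/
theorem sum_sq_degree_trivial_on {H : Type*} [Group H] [Fintype H] (N : Subgroup H) [N.Normal]
    [DecidablePred fun χ : IrrCharacter H => ∀ n ∈ N, (χ : H → ℂ) n = (χ : H → ℂ) 1] :
    ∑ χ ∈ Finset.univ.filter (fun χ : IrrCharacter H => ∀ n ∈ N, (χ : H → ℂ) n = (χ : H → ℂ) 1),
      (χ : H → ℂ) 1 * (χ : H → ℂ) 1 = (N.index : ℂ) := by
  classical
  have hsum : ∀ χ : IrrCharacter H, ∑ n : H with n ∈ N, (χ : H → ℂ) n =
      if ∀ n ∈ N, (χ : H → ℂ) n = (χ : H → ℂ) 1 then (Nat.card N : ℂ) * (χ : H → ℂ) 1 else 0 := by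
    intro χ
    split_ifs with h
    · rw [Finset.sum_congr rfl fun n hn => h n (Finset.mem_filter.1 hn).2, Finset.sum_const,
        nsmul_eq_mul, Nat.card_eq_fintype_card, Fintype.card_subtype]
    · by_contra hne
      exact h fun n hn => H82.eq_one_of_sum_ne_zero N χ.2 hne hn
  have key : ∑ χ : IrrCharacter H, (χ : H → ℂ) 1 * ∑ n : H with n ∈ N, (χ : H → ℂ) n =
      (Nat.card H : ℂ) := by
    simp only [Finset.mul_sum]
    rw [Finset.sum_comm]
    simp only [sum_degree_mul_apply]
    rw [Finset.sum_ite_eq', if_pos (Finset.mem_filter.2 ⟨Finset.mem_univ _, N.one_mem⟩)]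
  simp only [hsum, mul_ite, mul_zero, ← Finset.sum_filter] at key
  refine mul_left_cancel₀ (Nat.cast_ne_zero.2 (Nat.card_pos (α := N)).ne' : (Nat.card N : ℂ) ≠ 0) ?_
  rw [Finset.mul_sum, ← Nat.cast_mul, Subgroup.card_mul_index, ← key]
  exact Finset.sum_congr rfl fun χ _ => by ring

/-- `∑ |ζ(u)|²` over the principal block for a `p`-element `u`. -/
theorem blockKernel_principal_self (hM : IsPModular p M) {u : G} {e : ℕ} (hu : orderOf u = p ^ e) :
    blockKernel (principalBlock M G) u u =
      ((∑ᶠ ψ ∈ principalBlock M (Subgroup.centralizer ({u} : Set G)),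
        charDegree (ψ : Subgroup.centralizer ({u} : Set G) → ℂ) ^ 2 : ℕ) : ℂ) := by
  classical
  cases nonempty_fintype G
  have h := principal_column_inner hM hu 1 (by rw [orderOf_one, Nat.dvd_one]; exact (Fact.out : p.Prime).ne_one)
  rw [OneMemClass.coe_one, mul_one] at h
  rw [blockKernel, h, blockKernel, finsum_mem_eq_sum_ite,
    finsum_mem_eq_finite_toFinset_sum _ (Set.toFinite _), Nat.cast_sum]
  rw [← Finset.sum_filter]
  refine Finset.sum_congr (by ext; simp) fun ψ _ => ?_
  rw [apply_one_eq_charDegree, Complex.conj_natCast, Nat.cast_pow, sq]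

open scoped Classical in
/-- The principal block columns of two `p`-elements. -/
theorem blockKernel_principal_pElement (hM : IsPModular p M) {u v : G} (hu : ∃ k, orderOf u = p ^ k)
    (hv : ∃ k, orderOf v = p ^ k) :
    blockKernel (principalBlock M G) u v = if IsConj u v then
      ((∑ᶠ ψ ∈ principalBlock M (Subgroup.centralizer ({u} : Set G)),
        charDegree (ψ : Subgroup.centralizer ({u} : Set G) → ℂ) ^ 2 : ℕ) : ℂ) else 0 := by
  split_ifs with h
  · obtain ⟨e, he⟩ := hu
    obtain ⟨c, rfl⟩ := isConj_iff.1 h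
    rw [← blockKernel_principal_self hM he, blockKernel, blockKernel]
    exact finsum_mem_congr rfl fun χ _ => by rw [IsIrr.isClassFunction χ.2 u c]
  · refine blockKernel_eq_zero hM (isPBlock_principalBlock M) ?_
    rwa [(pPart_eq_self_iff u).2 hu, (pPart_eq_self_iff v).2 hv]

end Cfsg.Agent.Cores
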