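import Cfsg.Agent.Cores.PrincipalSection
import Cfsg.Agent.Cores.PCore
import Cfsg.Agent.Cores.Residual
import Cfsg.Agent.Fusion.PComplement
import Cfsg.Agent.BlockBasic.Kernel
import Cfsg.Agent.S0947

/-!
# The principal 2-block for a Klein four Sylow subgroup
-/

open scoped ComplexConjugate

namespace Cfsg.Agent.Cores

open BlockBasic CharBasic

universe u

variable {G : Type u} [Group G] [Finite G]

theorem card_klein {P : Sylow 2 G} (hP : IsKleinFour (P : Subgroup G)) :
    (Nat.card G).factorization 2 = 2 := by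
  have h := P.card_eq_multiplicity
  rw [hP.card_four] at h
  exact (Nat.pow_right_injective le_rfl (show 2 ^ (Nat.card G).factorization 2 = 2 ^ 2 from h.symm))

theorem hasNormalPComplement_centralizer_involution (P : Sylow 2 G)
    (hP : IsKleinFour (P : Subgroup G)) {z : G} (hz : orderOf z = 2) (hzP : z ∈ P) :
    HasNormalPComplement 2 (Subgroup.centralizer ({z} : Set G)) := by
  have hPC : (P : Subgroup G) ≤ Subgroup.centralizer ({z} : Set G) := fun a ha => by
    refine Subgroup.mem_centralizer_singleton_iff.2 ?_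
    exact congrArg Subtype.val (hP.isMulCommutative.is_comm.comm (⟨a, ha⟩ : (P : Subgroup G)) ⟨z, hzP⟩)
  refine Fusion.hasNormalPComplement_of_normalizer_le_centralizer (P.subtype hPC) fun n hn => ?_
  rw [Subgroup.mem_centralizer_iff]
  intro a ha
  have hzS : (⟨z, Subgroup.mem_centralizer_singleton_iff.2 rfl⟩ :
      Subgroup.centralizer ({z} : Set G)) ∈ (P.subtype hPC : Subgroup _) := hzP
  have hcases : ∀ m : Subgroup.centralizer ({z} : Set G),
      m ∈ Subgroup.normalizer ((P.subtype hPC : Subgroup (Subgroup.centralizer ({z} : Set G))) : Set (Subgroup.centralizer ({z} : Set G))) → Odd (orderOf m) →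
      Commute m a := by
    intro m hm hodd
    set b := m * a * m⁻¹ with hb
    have hbS : b ∈ (P.subtype hPC : Subgroup _) := (Subgroup.mem_normalizer_iff.1 hm a).1 ha
    set z' : Subgroup.centralizer ({z} : Set G) := ⟨z, Subgroup.mem_centralizer_singleton_iff.2 rfl⟩
    have hmz : m * z' * m⁻¹ = z' := by
      rw [mul_inv_eq_iff_eq_mul]
      exact Subtype.ext (Subgroup.mem_centralizer_singleton_iff.1 m.2)
    by_cases ha1 : (a : G) = 1
    · rw [show a = 1 from Subtype.ext ha1]; exact Commute.one_right m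
    by_cases haz : (a : G) = z
    · rw [show a = z' from Subtype.ext haz]; exact mul_inv_eq_iff_eq_mul.1 hmz
    have key : ∀ x : G, x ∈ (P : Subgroup G) → x ≠ 1 → x ≠ z → x = a ∨ x = z * a := by
      intro x hx hx1 hxz
      by_contra hcon
      push Not at hcon
      classical
      haveI : Fintype (P : Subgroup G) := Fintype.ofFinite _
      haveI := hP
      have hz1 : z ≠ 1 := fun h => by rw [h, orderOf_one] at hz; omega
      have huniv := IsKleinFour.eq_finset_univ (x := (⟨z, hzP⟩ : (P : Subgroup G)))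
        (y := (⟨a, ha⟩ : (P : Subgroup G))) (fun h => hz1 (congrArg Subtype.val h))
        (fun h => ha1 (congrArg Subtype.val h)) (fun h => haz (congrArg Subtype.val h).symm)
      have hxm := huniv ▸ Finset.mem_univ (⟨x, hx⟩ : (P : Subgroup G))
      simp only [Finset.mem_insert, Finset.mem_singleton] at hxm
      rcases hxm with h | h | h | h
      · exact hcon.2 (congrArg Subtype.val h)
      · exact hxz (congrArg Subtype.val h)
      · exact hcon.1 (congrArg Subtype.val h)
      · exact hx1 (congrArg Subtype.val h)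
    have hb1 : (b : G) ≠ 1 := fun h => ha1 (by
      have h0 : b = 1 := Subtype.ext h
      rw [hb, mul_inv_eq_one] at h0
      exact congrArg Subtype.val (mul_eq_left.1 h0))
    have hbz : (b : G) ≠ z := fun h => haz (by
      have h0 : m * a * m⁻¹ = m * z' * m⁻¹ := by rw [hmz]; exact Subtype.ext h
      exact congrArg Subtype.val (mul_left_cancel (mul_right_cancel h0)))
    rcases key (b : G) hbS hb1 hbz with h | h
    · exact mul_inv_eq_iff_eq_mul.1 (Subtype.ext h : m * a * m⁻¹ = a)
    · have h0 : m * a * m⁻¹ = z' * a := Subtype.ext h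
      have hsq : m ^ 2 * a * (m ^ 2)⁻¹ = a := by
        calc m ^ 2 * a * (m ^ 2)⁻¹ = m * (m * a * m⁻¹) * m⁻¹ := by rw [sq]; group
          _ = (m * z' * m⁻¹) * (m * a * m⁻¹) := by (conv_lhs => rw [h0]); group
          _ = a := by
            rw [hmz, h0, ← mul_assoc,
              show z' * z' = 1 from Subtype.ext (show z * z = 1 by rw [← sq, ← hz, pow_orderOf_eq_one]),
              one_mul]
      obtain ⟨j, hj⟩ := hodd
      have hm2 : (m ^ 2) ^ (j + 1) = m := by
        rw [← pow_mul, show 2 * (j + 1) = (2 * j + 1) + 1 by ring, pow_succ, ← hj, pow_orderOf_eq_one,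
          one_mul]
      exact hm2 ▸ Commute.pow_left (mul_inv_eq_iff_eq_mul.1 hsq) _
  set S := P.subtype hPC
  have hreg : pReg (p := 2) n ∈ Subgroup.normalizer ((S : Subgroup (Subgroup.centralizer ({z} : Set G))) : Set (Subgroup.centralizer ({z} : Set G))) ∧
      pPart (p := 2) n ∈ Subgroup.normalizer ((S : Subgroup (Subgroup.centralizer ({z} : Set G))) : Set (Subgroup.centralizer ({z} : Set G))) := by
    obtain ⟨k, hk⟩ : ∃ k : ℤ, pPart (p := 2) n = n ^ k := by
      obtain ⟨v, m, hm, hvm⟩ := Nat.exists_eq_pow_mul_and_not_dvd (orderOf_pos n).ne' 2 (by norm_num)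
      obtain ⟨k, l, hk1, hk2, hl1, hl2⟩ := exists_pPart_exponent Nat.prime_two v m hm
      refine ⟨(k : ℤ), ?_⟩
      have hco : Nat.Coprime (2 ^ v) m := ((Nat.prime_two.coprime_iff_not_dvd).2 hm).pow_left v
      rw [zpow_natCast]
      refine pPart_eq_of_isPPart ⟨n ^ l, ?_, (Commute.refl n).pow_pow k l, ?_, ?_⟩
      · rw [← pow_add]
        conv_rhs => rw [← pow_one n]
        rw [pow_eq_pow_iff_modEq, hvm]
        exact (Nat.modEq_and_modEq_iff_modEq_mul hco).1
          ⟨by simpa using hk1.add hl1, by simpa using hk2.add hl2⟩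
      · have h1 : (n ^ k) ^ (2 ^ v) = 1 := by
          rw [← pow_mul, ← orderOf_dvd_iff_pow_eq_one, hvm, mul_comm k]
          exact Nat.mul_dvd_mul_left _ (Nat.modEq_zero_iff_dvd.1 hk2)
        obtain ⟨i, -, hi⟩ := (Nat.dvd_prime_pow Nat.prime_two).1 (orderOf_dvd_of_pow_eq_one h1)
        exact ⟨i, hi⟩
      · have h1 : (n ^ l) ^ m = 1 := by
          rw [← pow_mul, ← orderOf_dvd_iff_pow_eq_one, hvm]
          exact Nat.mul_dvd_mul_right (Nat.modEq_zero_iff_dvd.1 hl1) _
        exact fun h => hm (h.trans (orderOf_dvd_of_pow_eq_one h1))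
    refine ⟨?_, hk ▸ Subgroup.zpow_mem _ hn k⟩
    rw [pReg, hk, ← zpow_neg, ← zpow_add_one]
    exact Subgroup.zpow_mem _ hn _
  have h1 : Commute (pReg (p := 2) n) a :=
    hcases _ hreg.1 (Nat.not_even_iff_odd.1 fun h => not_dvd_orderOf_pReg n (even_iff_two_dvd.1 h))
  have hpS : pPart (p := 2) n ∈ (S : Subgroup _) := by
    obtain ⟨k, hk⟩ := exists_orderOf_pPart (p := 2) n
    have hyp : IsPGroup 2 (Subgroup.zpowers (pPart (p := 2) n)) :=
      IsPGroup.of_card (n := k) (by rw [Nat.card_zpowers, hk])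
    exact ((hyp.inf_normalizer_sylow S).le ⟨Subgroup.mem_zpowers _, hreg.2⟩).2
  have h2 : Commute (pPart (p := 2) n) a := Subtype.ext (by
    simpa using congrArg Subtype.val
      (hP.isMulCommutative.is_comm.comm (⟨_, hpS⟩ : (P : Subgroup G)) ⟨_, ha⟩))
  have := h2.mul_left h1
  rw [pPart_mul_pReg] at this
  exact this.eq.symm

/-- The value of a character at an involution. -/
theorem exists_int_value {z : G} (hz : orderOf z = 2) (χ : IrrCharacter G) :
    ∃ a : ℤ, (χ : G → ℂ) z = (a : ℂ) := by
  classical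
  haveI : Fintype (Subgroup.zpowers z) := Fintype.ofFinite _
  obtain ⟨n, hn⟩ := isIrr_sum_sylow χ (Subgroup.zpowers z)
  have hset : (Finset.univ : Finset (Subgroup.zpowers z)) =
      {1, ⟨z, Subgroup.mem_zpowers z⟩} := by
    refine (Finset.eq_univ_of_card _ ?_).symm
    rw [Finset.card_pair, ← Nat.card_eq_fintype_card, Nat.card_zpowers, hz]
    intro h
    have h0 : z = 1 := (congrArg Subtype.val h).symm
    rw [h0, orderOf_one] at hz; omega
  rw [hset, Finset.sum_pair (fun h => by
    have h0 : z = 1 := (congrArg Subtype.val h).symm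
    rw [h0, orderOf_one] at hz; omega), Nat.card_zpowers, hz] at hn
  refine ⟨2 * (n : ℤ) - charDegree (χ : G → ℂ), ?_⟩
  rw [OneMemClass.coe_one, apply_one_eq_charDegree] at hn
  push_cast at hn ⊢
  linear_combination hn

/-- The degree congruence on a Klein four Sylow subgroup with all involutions conjugate. -/
theorem four_dvd_degree (P : Sylow 2 G) (hP : IsKleinFour (P : Subgroup G))
    (hone : ∀ s t : G, orderOf s = 2 → orderOf t = 2 → IsConj s t) {z : G} (hz : orderOf z = 2)
    (χ : IrrCharacter G) {a : ℤ} (ha : (χ : G → ℂ) z = (a : ℂ)) :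
    (4 : ℤ) ∣ (charDegree (χ : G → ℂ) : ℤ) + 3 * a := by
  classical
  haveI : Fintype (P : Subgroup G) := Fintype.ofFinite _
  obtain ⟨n, hn⟩ := isIrr_sum_sylow χ (P : Subgroup G)
  rw [← Finset.add_sum_erase Finset.univ _ (Finset.mem_univ (1 : (P : Subgroup G))),
    Finset.sum_congr rfl (g := fun _ => (a : ℂ)) (fun x hx => ?_), Finset.sum_const,
    Finset.card_erase_of_mem (Finset.mem_univ _), Finset.card_univ, ← Nat.card_eq_fintype_card,
    hP.card_four, OneMemClass.coe_one, apply_one_eq_charDegree] at hn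
  · refine ⟨n, ?_⟩
    have h : (((charDegree (χ : G → ℂ) : ℤ) + 3 * a : ℤ) : ℂ) = ((4 * n : ℤ) : ℂ) := by
      push_cast
      simp only [nsmul_eq_mul] at hn
      push_cast at hn
      linear_combination hn
    exact_mod_cast h
  · have hne : x ≠ 1 := Finset.ne_of_mem_erase hx
    haveI := hP
    have hord : orderOf (x : G) = 2 := by
      rw [Subgroup.orderOf_coe]
      exact orderOf_eq_prime (by rw [sq, IsKleinFour.mul_self]) hne
    obtain ⟨c, hc⟩ := isConj_iff.1 (hone z (x : G) hz hord)
    rw [← hc, IsIrr.isClassFunction χ.2, ha]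

end Cfsg.Agent.Cores
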