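import Mathlib.Algebra.BigOperators.Fin
import Mathlib.Algebra.Order.BigOperators.Group.Finset
import Mathlib.Algebra.Ring.Parity
import Mathlib.Data.Fintype.Card
import Mathlib.Tactic.Ring
import Mathlib.Tactic.Linarith

/-!
# Integral vectors with the Gram matrix of a dihedral principal 2-block
-/

namespace Cfsg.Agent.Cores

open Finset

/-- The integer vectors `A i` (for `i ≠ i₀` of norm 2, `A i₀` of norm 3, all inner products 1) of a
dihedral principal block share one common entry. -/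
theorem dihedral_star {X ι : Type*} [DecidableEq X] [Fintype ι] [DecidableEq ι] (i₀ : ι)
    (hev : Even (Fintype.card ι)) (F : Finset X) (A : ι → X → ℤ) (x : X → ℤ)
    (hx : ∀ χ ∈ F, 0 < x χ)
    (hgram : ∀ i j, ∑ χ ∈ F, A i χ * A j χ =
      1 + (if i = j then (if i = i₀ then 2 else 1) else 0))
    (hrel : ∀ i, 1 + ∑ χ ∈ F, A i χ * x χ = 0) :
    ∃ (a t₂ t₃ : X) (e : {i // i ≠ i₀} → X) (δ δ₂ δ₃ : ℤ),
      (δ = 1 ∨ δ = -1) ∧ (δ₂ = 1 ∨ δ₂ = -1) ∧ (δ₃ = 1 ∨ δ₃ = -1) ∧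
      a ∈ F ∧ t₂ ∈ F ∧ t₃ ∈ F ∧ (∀ i, e i ∈ F) ∧ Function.Injective e ∧
      a ≠ t₂ ∧ a ≠ t₃ ∧ t₂ ≠ t₃ ∧ (∀ i, e i ≠ a ∧ e i ≠ t₂ ∧ e i ≠ t₃) ∧
      (∀ χ ∈ F, A i₀ χ = if χ = a then δ else if χ = t₂ then δ₂ else if χ = t₃ then δ₃ else 0) ∧
      (∀ i : {i // i ≠ i₀}, ∀ χ ∈ F, A i χ = if χ = a then δ else if χ = e i then -δ else 0) := by
  classical
  -- entries are at most 1 in absolute value
  have hval : ∀ i, ∀ χ ∈ F, A i χ = 0 ∨ A i χ = 1 ∨ A i χ = -1 := by
    intro i χ hχ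
    have h1 : A i χ * A i χ ≤ 3 := by
      refine le_trans (single_le_sum (f := fun ψ => A i ψ * A i ψ)
        (fun ψ _ => mul_self_nonneg _) hχ) ?_
      rw [hgram, if_pos rfl]
      split_ifs <;> norm_num
    have h2 : -2 < A i χ ∧ A i χ < 2 := ⟨by nlinarith, by nlinarith⟩
    omega
  have hcard : ∀ i, ((F.filter fun χ => A i χ ≠ 0).card : ℤ) = if i = i₀ then 3 else 2 := by
    intro i
    have h1 : ∑ χ ∈ F, A i χ * A i χ = ((F.filter fun χ => A i χ ≠ 0).card : ℤ) := by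
      rw [card_filter, Nat.cast_sum]
      refine sum_congr rfl fun χ hχ => ?_
      rcases hval i χ hχ with h | h | h <;> simp [h]
    rw [← h1, hgram, if_pos rfl]
    split_ifs <;> norm_num
  -- the two entries of a short vector
  have hpair : ∀ k, k ≠ i₀ → ∀ p ∈ F, A k p ≠ 0 → ∃ q ∈ F, q ≠ p ∧ A k q ≠ 0 ∧
      ∀ χ ∈ F, χ ≠ p → χ ≠ q → A k χ = 0 := by
    intro k hk p hp hkp
    have h2 : ((F.filter fun χ => A k χ ≠ 0).erase p).card = 1 := by
      rw [card_erase_of_mem (mem_filter.2 ⟨hp, hkp⟩)]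
      have := hcard k
      rw [if_neg hk] at this
      omega
    obtain ⟨q, hq⟩ := card_eq_one.1 h2
    have hqm := hq ▸ mem_singleton_self q
    simp only [mem_erase, mem_filter] at hqm
    refine ⟨q, hqm.2.1, hqm.1, hqm.2.2, fun χ hχ h1 h3 => ?_⟩
    by_contra h4
    exact h3 (mem_singleton.1 (hq ▸ mem_erase.2 ⟨h1, mem_filter.2 ⟨hχ, h4⟩⟩))
  have hex : ∀ k, ∃ p ∈ F, A k p ≠ 0 := by
    intro k
    by_contra hcon
    push Not at hcon
    have := hcard k
    rw [filter_false_of_mem (fun χ hχ => by simpa using hcon χ hχ), card_empty] at this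
    split_ifs at this <;> simp at this
  -- two vectors meet in exactly one entry, with the same sign
  have hmeet : ∀ i k, i ≠ k → k ≠ i₀ → ∃ c ∈ F, A i c ≠ 0 ∧ A i c = A k c ∧
      ∀ d ∈ F, A i d ≠ 0 → A k d ≠ 0 → d = c := by
    intro i k hik hk
    obtain ⟨p, hp, hkp⟩ := hex k
    obtain ⟨q, hq, hqp, hkq, hrest⟩ := hpair k hk p hp hkp
    have hsum := hgram i k
    rw [if_neg hik, add_zero, ← sum_subset (s₁ := ({p, q} : Finset X))
      (by simp [insert_subset_iff, hp, hq])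
      (fun χ hχ hn => by
        simp only [mem_insert, mem_singleton, not_or] at hn
        rw [hrest χ hχ hn.1 hn.2, mul_zero]), sum_pair hqp.symm] at hsum
    have hd : ∀ d ∈ F, A k d ≠ 0 → d = p ∨ d = q := fun d hd hkd => by
      by_contra hn
      push Not at hn
      exact hkd (hrest d hd hn.1 hn.2)
    rcases hval i p hp with h1 | h1 | h1 <;> rcases hval i q hq with h2 | h2 | h2 <;>
      rcases hval k p hp with h3 | h3 | h3 <;> rcases hval k q hq with h4 | h4 | h4 <;>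
      first
        | exact absurd h3 hkp
        | exact absurd h4 hkq
        | (exfalso; rw [h1, h2, h3, h4] at hsum; omega)
        | (refine ⟨p, hp, by omega, by omega, fun d hdF hid hkd => ?_⟩
           rcases hd d hdF hkd with rfl | rfl
           · rfl
           · exact absurd h2 hid)
        | (refine ⟨q, hq, by omega, by omega, fun d hdF hid hkd => ?_⟩
           rcases hd d hdF hkd with rfl | rfl
           · exact absurd h1 hid
           · rfl)
  -- the relation on a short vector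
  have hrel2 : ∀ k, k ≠ i₀ → ∀ p ∈ F, ∀ q ∈ F, q ≠ p → A k p ≠ 0 → A k q ≠ 0 →
      A k p * x p + A k q * x q = -1 := by
    intro k hk p hp q hq hqp hkp hkq
    obtain ⟨r, hr, hrp, hkr, hrest⟩ := hpair k hk p hp hkp
    have hqr : q = r := by
      by_contra hne
      exact hkq (hrest q hq hqp hne)
    subst hqr
    have := hrel k
    rw [← sum_subset (s₁ := ({p, q} : Finset X)) (by simp [insert_subset_iff, hp, hq])
      (fun χ hχ hn => by
        simp only [mem_insert, mem_singleton, not_or] at hn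
        rw [hrest χ hχ hn.1 hn.2, zero_mul]), sum_pair hqp.symm] at this
    linarith
  have hK : Fintype.card {i // i ≠ i₀} = Fintype.card ι - 1 := by
    rw [Fintype.card_subtype_compl, Fintype.card_subtype_eq]
  have hι : 0 < Fintype.card ι := Fintype.card_pos_iff.2 ⟨i₀⟩
  obtain ⟨r, hr⟩ := hev
  obtain ⟨⟨k₁, hk₁⟩⟩ : Nonempty {i // i ≠ i₀} := Fintype.card_pos_iff.1 (by omega)
  -- the common entry
  obtain ⟨a, ha, hak, ha₀⟩ : ∃ a ∈ F, (∀ k, k ≠ i₀ → A k a ≠ 0) ∧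
      (Fintype.card {i // i ≠ i₀} = 1 → A i₀ a ≠ 0) := by
    by_cases hone : Fintype.card {i // i ≠ i₀} = 1
    · obtain ⟨c, hc, h0, h0e, -⟩ := hmeet i₀ k₁ (Ne.symm hk₁) hk₁
      refine ⟨c, hc, fun k hk => ?_, fun _ => h0⟩
      have he : (⟨k, hk⟩ : {i // i ≠ i₀}) = ⟨k₁, hk₁⟩ :=
        Fintype.card_le_one_iff.1 hone.le _ _
      rw [show k = k₁ from congrArg Subtype.val he, ← h0e]
      exact h0
    obtain ⟨⟨k₂, hk₂⟩, hne⟩ := Fintype.exists_ne_of_one_lt_card
      (show 1 < Fintype.card {i // i ≠ i₀} by omega) ⟨k₁, hk₁⟩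
    have h12 : k₁ ≠ k₂ := fun h => hne (Subtype.ext h.symm)
    obtain ⟨c, hc, h1c, h12c, huni⟩ := hmeet k₁ k₂ h12 hk₂
    refine ⟨c, hc, fun k hk hkc => ?_, fun h => absurd h hone⟩
    have hk1 : k ≠ k₁ := fun h => h1c (h ▸ hkc)
    have hk2 : k ≠ k₂ := fun h => h1c (by rw [h12c, ← h]; exact hkc)
    obtain ⟨b, hb, hkb, hkb1, -⟩ := hmeet k k₁ hk1 hk₁
    obtain ⟨d, hd, hkd, hkd2, -⟩ := hmeet k k₂ hk2 hk₂
    have hbc : b ≠ c := fun h => hkb (h ▸ hkc)
    have hdc : d ≠ c := fun h => hkd (h ▸ hkc)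
    have hbd : d ≠ b := fun h =>
      hbc (huni b hb (hkb1 ▸ hkb) (by rw [← h, ← hkd2]; exact hkd))
    have e1 := hrel2 k₁ hk₁ c hc b hb hbc h1c (hkb1 ▸ hkb)
    have e2 := hrel2 k₂ hk₂ c hc d hd hdc (h12c ▸ h1c) (hkd2 ▸ hkd)
    have e3 := hrel2 k hk b hb d hd hbd hkb hkd
    rw [← hkb1] at e1
    rw [← hkd2, ← h12c] at e2
    rcases hval k₁ c hc with h | h | h
    · exact h1c h
    · rw [h] at e1 e2; omega
    · rw [h] at e1 e2; omega
  set δ := A k₁ a with hδdef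
  have hδ : δ = 1 ∨ δ = -1 := (hval k₁ a ha).resolve_left (hak k₁ hk₁)
  have hconst : ∀ k, k ≠ i₀ → A k a = δ := by
    intro k hk
    by_cases h : k = k₁
    · rw [h]
    obtain ⟨c, hc, h1, h2, huni⟩ := hmeet k k₁ h hk₁
    rw [huni a ha (hak k hk) (hak k₁ hk₁), h2, ← huni a ha (hak k hk) (hak k₁ hk₁)]
  choose e heF hea hek hrest using fun k : {i // i ≠ i₀} => hpair k.1 k.2 a ha (hak k.1 k.2)
  have heinj : Function.Injective e := by
    intro k l hkl
    by_contra hne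
    obtain ⟨c, hc, h1, h2, huni⟩ := hmeet k.1 l.1 (fun h => hne (Subtype.ext h)) l.2
    have := huni (e k) (heF k) (hek k) (by rw [hkl]; exact hek l)
    exact hea k (this.trans (huni a ha (hak _ k.2) (hak _ l.2)).symm)
  have hesign : ∀ k, A k.1 (e k) = -δ := by
    intro k
    have h := hrel2 k.1 k.2 a ha (e k) (heF k) (hea k) (hak _ k.2) (hek k)
    rw [hconst k.1 k.2] at h
    have hxa := hx a ha
    have hxe := hx (e k) (heF k)
    rcases hδ with hd | hd <;> rcases (hval k.1 (e k) (heF k)).resolve_left (hek k) with he | he <;>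
      rw [hd, he] at h <;> rw [hd, he] <;> omega
  have hA0 : A i₀ a ≠ 0 := by
    intro h0
    have hne1 : Fintype.card {i // i ≠ i₀} ≠ 1 := fun h => ha₀ h h0
    have hin : ∀ k : {i // i ≠ i₀}, A i₀ (e k) = -δ := by
      intro k
      obtain ⟨c, hc, h1, h2, -⟩ := hmeet i₀ k.1 k.2.symm k.2
      have hce : c = e k := by
        by_contra hne
        refine h1 (h2.trans (hrest k c hc (fun h => h1 (h ▸ h0)) hne))
      rw [← hesign k, ← hce, h2]
    have himg : univ.image e ⊆ F.filter fun χ => A i₀ χ ≠ 0 := by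
      intro χ hχ
      obtain ⟨k, -, rfl⟩ := mem_image.1 hχ
      exact mem_filter.2 ⟨heF k, by rw [hin k]; rcases hδ with hd | hd <;> omega⟩
    have hle := card_le_card himg
    rw [card_image_of_injective _ heinj, card_univ] at hle
    have h3 := hcard i₀
    rw [if_pos rfl] at h3
    have hK3 : Fintype.card {i // i ≠ i₀} = 3 := by omega
    have heq := eq_of_subset_of_card_le himg
      (by rw [card_image_of_injective _ heinj, card_univ]; omega)
    have hr0 := hrel i₀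
    rw [← sum_filter_of_ne (p := fun χ => A i₀ χ ≠ 0)
      (fun χ _ hne => fun h => hne (by rw [h, zero_mul])), ← heq,
      sum_image (fun k _ l _ h => heinj h)] at hr0
    have hxk : ∀ k, x (e k) = x (e ⟨k₁, hk₁⟩) := by
      intro k
      have h1 := hrel2 k.1 k.2 a ha (e k) (heF k) (hea k) (hak _ k.2) (hek k)
      have h2 := hrel2 k₁ hk₁ a ha (e ⟨k₁, hk₁⟩) (heF _) (hea _) (hak _ hk₁) (hek ⟨k₁, hk₁⟩)
      rw [hconst k.1 k.2, hesign k] at h1
      rw [show A k₁ (e ⟨k₁, hk₁⟩) = -δ from hesign ⟨k₁, hk₁⟩, ← hδdef] at h2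
      rcases hδ with hd | hd <;> rw [hd] at h1 h2 <;> omega
    rw [sum_congr rfl (g := fun _ => -δ * x (e ⟨k₁, hk₁⟩)) (fun k _ => by rw [hin k, hxk k]),
      sum_const, card_univ, hK3] at hr0
    rcases hδ with hd | hd <;> simp [hd] at hr0 <;> omega
  have hA0δ : A i₀ a = δ := by
    obtain ⟨c, hc, h1, h2, huni⟩ := hmeet i₀ k₁ (Ne.symm hk₁) hk₁
    rw [huni a ha hA0 (hak k₁ hk₁), h2, hδdef, huni a ha hA0 (hak k₁ hk₁)]
  have he0 : ∀ k, A i₀ (e k) = 0 := by
    intro k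
    by_contra hne
    obtain ⟨c, hc, h1, h2, huni⟩ := hmeet i₀ k.1 k.2.symm k.2
    exact hea k ((huni (e k) (heF k) hne (hek k)).trans (huni a ha hA0 (hak _ k.2)).symm)
  have h2 : ((F.filter fun χ => A i₀ χ ≠ 0).erase a).card = 2 := by
    rw [card_erase_of_mem (mem_filter.2 ⟨ha, hA0⟩)]
    have := hcard i₀
    rw [if_pos rfl] at this
    omega
  obtain ⟨t₂, t₃, h23, ht⟩ := card_eq_two.1 h2
  have ht2 : t₂ ∈ (F.filter fun χ => A i₀ χ ≠ 0).erase a := ht ▸ mem_insert_self _ _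
  have ht3 : t₃ ∈ (F.filter fun χ => A i₀ χ ≠ 0).erase a :=
    ht ▸ mem_insert_of_mem (mem_singleton_self _)
  simp only [mem_erase, mem_filter] at ht2 ht3
  refine ⟨a, t₂, t₃, e, δ, A i₀ t₂, A i₀ t₃, hδ, (hval _ _ ht2.2.1).resolve_left ht2.2.2,
    (hval _ _ ht3.2.1).resolve_left ht3.2.2, ha, ht2.2.1, ht3.2.1, heF, heinj, ht2.1.symm,
    ht3.1.symm, h23, fun i => ⟨hea i, fun h => ht2.2.2 (h ▸ he0 i), fun h => ht3.2.2 (h ▸ he0 i)⟩,
    fun χ hχ => ?_, fun i χ hχ => ?_⟩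
  · split_ifs with h1 h4 h5
    · rw [h1, hA0δ]
    · rw [h4]
    · rw [h5]
    · by_contra hne
      have hm : χ ∈ (F.filter fun χ => A i₀ χ ≠ 0).erase a :=
        mem_erase.2 ⟨h1, mem_filter.2 ⟨hχ, hne⟩⟩
      rw [ht, mem_insert, mem_singleton] at hm
      exact hm.elim h4 h5
  · split_ifs with h1 h4
    · rw [h1, hconst i.1 i.2]
    · rw [h4, hesign i]
    · exact hrest i χ hχ h1 h4

end Cfsg.Agent.Cores
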