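import Cfsg.Agent.Cores.DihedralFourier
import Cfsg.Agent.Cores.DihedralStar
import Cfsg.Agent.Cores.KleinBlock

/-!
# The principal 2-block of a group with dihedral Sylow 2-subgroups
-/

open scoped ComplexConjugate

namespace Cfsg.Agent.Cores

open BlockBasic CharBasic H39

universe u

variable {G : Type u} [Group G] [Finite G]

theorem even_of_dGen {P : Sylow 2 G} {h : ℕ} {σ τ : G} (hD : DGen (P : Subgroup G) h σ τ)
    (hh : 2 ≤ h) : Even h := by
  haveI : Fact (Nat.Prime 2) := ⟨Nat.prime_two⟩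
  obtain ⟨k, hk⟩ := IsPGroup.iff_card.1 P.isPGroup'
  rw [card_dihedral hD hh] at hk
  match k, hk with
  | 0, hk => omega
  | 1, hk => omega
  | 2, hk => omega
  | k + 3, hk =>
    refine ⟨2 ^ k, ?_⟩
    rw [pow_add] at hk
    omega

theorem exists_eq_or_neg {h : ℕ} [NeZero (2 * h)] {j : ZMod (2 * h)} (hj : j ≠ 0) :
    ∃ i : Fin h, j = ((i.1 + 1 : ℕ) : ZMod (2 * h)) ∨ j = -((i.1 + 1 : ℕ) : ZMod (2 * h)) := by
  have hlt := ZMod.val_lt j
  have hne : j.val ≠ 0 := fun h0 => hj ((ZMod.val_eq_zero j).1 h0)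
  by_cases hle : j.val ≤ h
  · exact ⟨⟨j.val - 1, by omega⟩, Or.inl (by
      rw [show j.val - 1 + 1 = j.val by omega, ZMod.natCast_zmod_val])⟩
  · refine ⟨⟨2 * h - j.val - 1, by omega⟩, Or.inr ?_⟩
    rw [show 2 * h - j.val - 1 + 1 = 2 * h - j.val by omega, Nat.cast_sub hlt.le, ZMod.natCast_self,
      zero_sub, neg_neg, ZMod.natCast_zmod_val]

theorem natCast_zmod_inj {m : ℕ} {a b : ℕ} (ha : a < m) (hb : b < m)
    (hab : (a : ZMod m) = b) : a = b := by
  rw [ZMod.natCast_eq_natCast_iff'] at hab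
  rwa [Nat.mod_eq_of_lt ha, Nat.mod_eq_of_lt hb] at hab

/-- Brauer's theorem on the principal 2-block of a group with dihedral Sylow 2-subgroups. -/
theorem dihedral_principal_block {P : Sylow 2 G} {h : ℕ} {σ τ : G}
    (hD : DGen (P : Subgroup G) h σ τ) (hh : 2 ≤ h) {M : Ideal AlgInt} (hM : IsPModular 2 M)
    {ζ : ℂ} (hζ : IsPrimitiveRoot ζ (2 * h)) :
    ∃ (χ₁ χ₂ χ₃ : IrrCharacter G) (χ' : Fin (h - 1) → IrrCharacter G) (δ₁ δ₂ δ₃ : ℤ),
      (δ₁ = 1 ∨ δ₁ = -1) ∧ (δ₂ = 1 ∨ δ₂ = -1) ∧ (δ₃ = 1 ∨ δ₃ = -1) ∧ Function.Injective χ' ∧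
      (χ₁ ≠ trivialIrr ∧ χ₂ ≠ trivialIrr ∧ χ₃ ≠ trivialIrr ∧ χ₁ ≠ χ₂ ∧ χ₁ ≠ χ₃ ∧ χ₂ ≠ χ₃) ∧
      (∀ j, χ' j ≠ χ₁ ∧ χ' j ≠ χ₂ ∧ χ' j ≠ χ₃ ∧ χ' j ≠ trivialIrr) ∧
      (∀ χ : IrrCharacter G, χ ∈ principalBlock M G ↔
        χ = trivialIrr ∨ χ = χ₁ ∨ χ = χ₂ ∨ χ = χ₃ ∨ ∃ j, χ = χ' j) ∧
      (∀ l : ℕ, 0 < l → l < 2 * h →
        (χ₁ : G → ℂ) (σ ^ l) = δ₁ ∧ (χ₂ : G → ℂ) (σ ^ l) = δ₂ * (-1) ^ (l + 1) ∧
        (χ₃ : G → ℂ) (σ ^ l) = δ₃ * (-1) ^ (l + 1) ∧
        ∀ j : Fin (h - 1), (χ' j : G → ℂ) (σ ^ l) =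
          δ₁ * (ζ ^ (((j : ℕ) + 1) * l) + (ζ ^ (((j : ℕ) + 1) * l))⁻¹)) ∧
      ∀ ρ : G, Odd (orderOf ρ) →
        1 + δ₁ * (χ₁ : G → ℂ) ρ = -δ₂ * (χ₂ : G → ℂ) ρ - δ₃ * (χ₃ : G → ℂ) ρ ∧
        ∀ j : Fin (h - 1), 1 + δ₁ * (χ₁ : G → ℂ) ρ = δ₁ * (χ' j : G → ℂ) ρ := by
  classical
  cases nonempty_fintype G
  haveI : Fact (Nat.Prime 2) := ⟨Nat.prime_two⟩
  haveI : NeZero (2 * h) := ⟨by omega⟩
  haveI : NeZero h := ⟨by omega⟩
  let ψ : AddChar (ZMod (2 * h)) ℂ := AddChar.zmodChar (2 * h) hζ.pow_eq_one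
  have hψ : ψ.IsPrimitive := AddChar.zmodChar_primitive_of_primitive_root (2 * h) hζ
  choose c hc using fun (χ : IrrCharacter G) => dCoef_int hD (ψ := ψ) χ
  let A : Fin h → IrrCharacter G → ℤ := fun i χ => c χ ((i.1 + 1 : ℕ) : ZMod (2 * h))
  let i₀ : Fin h := ⟨h - 1, by omega⟩
  have hA : ∀ i χ, (A i χ : ℂ) = dCoef σ ψ (χ : G → ℂ) ((i.1 + 1 : ℕ) : ZMod (2 * h)) :=
    fun i χ => (hc χ _).symm
  let F : Finset (IrrCharacter G) :=
    Finset.univ.filter fun χ => χ ∈ principalBlock M G ∧ χ ≠ trivialIrr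
  have hmemF : ∀ χ, χ ∈ F ↔ χ ∈ principalBlock M G ∧ χ ≠ trivialIrr := fun χ => by simp [F]
  have htriv : (trivialIrr (G := G)) ∈ principalBlock M G := sameBlock_refl hM _
  have hsplit : ∀ f : IrrCharacter G → ℂ,
      ∑ᶠ χ ∈ principalBlock M G, f χ = f trivialIrr + ∑ χ ∈ F, f χ := by
    intro f
    rw [finsum_mem_eq_sum_ite,
      ← Finset.add_sum_erase Finset.univ _ (Finset.mem_univ (trivialIrr (G := G))),
      if_pos htriv, ← Finset.sum_filter]
    congr 1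
    refine Finset.sum_congr ?_ fun _ _ => rfl
    ext χ; simp [F, and_comm]
  have hji : ∀ i : Fin h, ((i.1 + 1 : ℕ) : ZMod (2 * h)) ≠ 0 := fun i e => by
    have := natCast_zmod_inj (m := 2 * h) (a := i.1 + 1) (b := 0) (by omega) (by omega)
      (by simpa using e)
    omega
  have htc : ∀ j : ZMod (2 * h), j ≠ 0 → dCoef σ ψ ((trivialIrr (G := G)) : G → ℂ) j = 1 := by
    intro j hj
    have hv : ∀ g : G, ((trivialIrr (G := G)) : G → ℂ) g = 1 := fun g => rfl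
    simp only [dCoef, hv, one_mul, Finset.sum_sub_distrib]
    rw [Finset.sum_congr rfl fun a _ => congrArg ψ (mul_comm j a), AddChar.sum_mulShift j hψ,
      if_neg hj]
    simp only [Finset.sum_const, Finset.card_univ, ZMod.card, nsmul_eq_mul, mul_one, Nat.cast_zero,
      sub_zero]
    exact inv_mul_cancel₀ (Nat.cast_ne_zero.2 (NeZero.ne _))
  -- the data of the star
  have hgram : ∀ i k, ∑ χ ∈ F, A i χ * A k χ =
      1 + (if i = k then (if i = i₀ then 2 else 1) else 0) := by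
    intro i k
    have hg := gram_dCoef hD hψ hM hh (hji i) (hji k)
    rw [hsplit, htc _ (hji i), htc _ (hji k)] at hg
    simp only [← hA, map_intCast, map_one, mul_one] at hg
    have e1 : ((i.1 + 1 : ℕ) : ZMod (2 * h)) = ((k.1 + 1 : ℕ) : ZMod (2 * h)) ↔ i = k := by
      refine ⟨fun e => Fin.ext ?_, fun e => by rw [e]⟩
      have := natCast_zmod_inj (by omega) (by omega) e
      omega
    have e2 : ((i.1 + 1 : ℕ) : ZMod (2 * h)) = -((k.1 + 1 : ℕ) : ZMod (2 * h)) ↔ i = k ∧ i = i₀ := by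
      rw [eq_neg_iff_add_eq_zero, ← Nat.cast_add, ZMod.natCast_eq_zero_iff]
      constructor
      · rintro ⟨q, hq⟩
        have hq1 : q = 1 := by
          rcases q with _ | _ | q
          · omega
          · rfl
          · have : 2 * h * (q + 1 + 1) = 2 * h * q + 4 * h := by ring
            omega
        rw [hq1, mul_one] at hq
        exact ⟨Fin.ext (by omega), Fin.ext (show i.1 = h - 1 by omega)⟩
      · rintro ⟨rfl, hi⟩
        refine ⟨1, ?_⟩
        have : i.1 = h - 1 := congrArg Fin.val hi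
        omega
    simp only [e1, e2] at hg
    apply Int.cast_injective (α := ℂ)
    push_cast
    by_cases hik : i = k
    · subst hik
      by_cases hi0 : i = i₀ <;> simp [hi0] at hg ⊢ <;> linear_combination hg
    · simp [hik] at hg ⊢
      linear_combination hg
  have hrelρ : ∀ i, ∀ ρ : G, Odd (orderOf ρ) → 1 + ∑ χ ∈ F, (A i χ : ℂ) * (χ : G → ℂ) ρ = 0 := by
    intro i ρ hρ
    have hr := sum_dCoef_mul_regular hD (ψ := ψ) hM hρ ((i.1 + 1 : ℕ) : ZMod (2 * h))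
    rw [hsplit, htc _ (hji i)] at hr
    simp only [← hA] at hr
    simpa [trivialIrr] using hr
  have hrel : ∀ i, 1 + ∑ χ ∈ F, A i χ * (charDegree (χ : G → ℂ) : ℤ) = 0 := by
    intro i
    have hr := hrelρ i 1 (by rw [orderOf_one]; exact odd_one)
    simp only [apply_one_eq_charDegree] at hr
    exact_mod_cast hr
  obtain ⟨χ₁, χ₂, χ₃, e, δ₁, δ₂, δ₃, hδ₁, hδ₂, hδ₃, h1F, h2F, h3F, heF, heinj, h12, h13, h23, hed,
    hA0, hAe⟩ := dihedral_star i₀ (by rw [Fintype.card_fin]; exact even_of_dGen hD hh) F A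
      (fun χ => (charDegree (χ : G → ℂ) : ℤ))
      (fun χ _ => by exact_mod_cast charDegree_pos χ) hgram hrel
  have hlift : ∀ j : Fin (h - 1), (⟨j.1, by omega⟩ : Fin h) ≠ i₀ := fun j hj => by
    have : j.1 = h - 1 := congrArg Fin.val hj
    omega
  let χ' : Fin (h - 1) → IrrCharacter G := fun j => e ⟨⟨j.1, by omega⟩, hlift j⟩
  have hsurj : ∀ i : {i : Fin h // i ≠ i₀}, ∃ j, e i = χ' j := fun i =>
    ⟨⟨i.1.1, by
      have := i.1.2
      have hne : i.1.1 ≠ h - 1 := fun e' => i.2 (Fin.ext e')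
      omega⟩, rfl⟩
  -- coefficients at all `j`
  have hcoef : ∀ (χ : IrrCharacter G) (j : ZMod (2 * h)), j ≠ 0 → ∃ i, dCoef σ ψ (χ : G → ℂ) j = A i χ := by
    intro χ j hj
    obtain ⟨i, rfl | rfl⟩ := exists_eq_or_neg hj
    · exact ⟨i, (hA i χ).symm⟩
    · exact ⟨i, by rw [dCoef_neg hD, hA]⟩
  have hvan : ∀ χ ∈ F, χ ≠ χ₁ → χ ≠ χ₂ → χ ≠ χ₃ → (∀ i, χ ≠ e i) → ∀ a : ZMod (2 * h), a ≠ 0 →
      (χ : G → ℂ) (dPow σ a) = 0 := by
    intro χ hχ h1 h2 h3 h4 a ha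
    rw [apply_dPow_eq hD hψ χ ha, neg_eq_zero]
    refine Finset.sum_eq_zero fun j _ => ?_
    by_cases hj : j = 0
    · rw [hj, dCoef_zero, zero_mul]
    obtain ⟨i, hi⟩ := hcoef χ j hj
    rw [hi]
    by_cases hi0 : i = i₀
    · rw [hi0, hA0 χ hχ, if_neg h1, if_neg h2, if_neg h3]; simp
    · rw [hAe ⟨i, hi0⟩ χ hχ, if_neg h1, if_neg (h4 _)]; simp
  -- values on the cyclic part
  have hl0 : ∀ l : ℕ, 0 < l → l < 2 * h → (l : ZMod (2 * h)) ≠ 0 := fun l h0 hl e => by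
    have := natCast_zmod_inj (m := 2 * h) (a := l) (b := 0) hl (by omega) (by simpa using e)
    omega
  have hψnat : ∀ k : ℕ, ψ (k : ZMod (2 * h)) = ζ ^ k := fun k =>
    AddChar.zmodChar_apply' hζ.pow_eq_one k
  have hv₁ : ∀ l : ℕ, 0 < l → l < 2 * h → (χ₁ : G → ℂ) (σ ^ l) = δ₁ := by
    intro l h0 hl
    rw [← dPow_natCast hD.oc, apply_dPow_eq hD hψ χ₁ (hl0 l h0 hl)]
    rw [← Finset.add_sum_erase Finset.univ _ (Finset.mem_univ (0 : ZMod (2 * h))), dCoef_zero,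
      zero_mul, zero_add, Finset.sum_congr rfl (g := fun j => (δ₁ : ℂ) * ψ (j * (l : ZMod (2 * h))))]
    · have hs := Finset.add_sum_erase Finset.univ (fun j : ZMod (2 * h) => ψ (j * (l : ZMod (2 * h))))
        (Finset.mem_univ (0 : ZMod (2 * h)))
      rw [AddChar.sum_mulShift _ hψ, if_neg (hl0 l h0 hl)] at hs
      rw [← Finset.mul_sum]
      simp only [zero_mul, AddChar.map_zero_eq_one, Nat.cast_zero] at hs
      linear_combination -(δ₁ : ℂ) * hs
    · intro j hj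
      congr 1
      obtain ⟨i, hi⟩ := hcoef χ₁ j (Finset.ne_of_mem_erase hj)
      rw [hi]
      by_cases hi0 : i = i₀
      · rw [hi0, hA0 χ₁ h1F, if_pos rfl]
      · rw [hAe ⟨i, hi0⟩ χ₁ h1F, if_pos rfl]
  have hζh : ζ ^ h = -1 := by
    have h2 : ζ ^ h * ζ ^ h = 1 := by rw [← pow_add, ← two_mul, hζ.pow_eq_one]
    exact (mul_self_eq_one_iff.1 h2).resolve_left (hζ.pow_ne_one_of_pos_of_lt (by omega) (by omega))
  have hv23 : ∀ (χ : IrrCharacter G) (δ : ℤ), χ ∈ F → A i₀ χ = δ →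
      (∀ i : {i : Fin h // i ≠ i₀}, A i χ = 0) → ∀ l : ℕ, 0 < l → l < 2 * h →
      (χ : G → ℂ) (σ ^ l) = δ * (-1) ^ (l + 1) := by
    intro χ δ _ hδ hz l h0 hl
    rw [← dPow_natCast hD.oc, apply_dPow_eq hD hψ χ (hl0 l h0 hl),
      Finset.sum_eq_single (h : ZMod (2 * h))]
    · rw [← Nat.cast_mul, hψnat, pow_mul, hζh]
      have : ((i₀.1 + 1 : ℕ) : ZMod (2 * h)) = (h : ZMod (2 * h)) := by
        rw [show i₀.1 + 1 = h by show h - 1 + 1 = h; omega]
      rw [← this, ← hA, hδ, pow_succ]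
      ring
    · intro j _ hj
      by_cases hj0 : j = 0
      · rw [hj0, dCoef_zero, zero_mul]
      obtain ⟨i, hi | hi⟩ := exists_eq_or_neg hj0
      all_goals
        have hne : i ≠ i₀ := fun e' => hj (by
          rw [hi, e', show i₀.1 + 1 = h by show h - 1 + 1 = h; omega]
          try exact neg_eq_of_add_eq_zero_left (natCast_half_add h))
        rw [hi]
        try rw [dCoef_neg hD]
        rw [← hA, hz ⟨i, hne⟩, Int.cast_zero, zero_mul]
    · exact fun hn => absurd (Finset.mem_univ _) hn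
  have hv2 := hv23 χ₂ δ₂ h2F (by rw [hA0 χ₂ h2F, if_neg h12.symm, if_pos rfl])
    (fun i => by rw [hAe i χ₂ h2F, if_neg h12.symm, if_neg (hed i).2.1.symm])
  have hv3 := hv23 χ₃ δ₃ h3F (by rw [hA0 χ₃ h3F, if_neg h13.symm, if_neg h23.symm, if_pos rfl])
    (fun i => by rw [hAe i χ₃ h3F, if_neg h13.symm, if_neg (hed i).2.2.symm])
  have hve : ∀ i : {i : Fin h // i ≠ i₀}, ∀ l : ℕ, 0 < l → l < 2 * h → (e i : G → ℂ) (σ ^ l) =
      δ₁ * (ζ ^ ((i.1.1 + 1) * l) + (ζ ^ ((i.1.1 + 1) * l))⁻¹) := by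
    intro i l h0 hl
    set q : ZMod (2 * h) := ((i.1.1 + 1 : ℕ) : ZMod (2 * h)) with hq
    have hqq : q ≠ -q := fun e' => by
      have h2 := eq_neg_iff_add_eq_zero.1 e'
      have h3 := eq_half_of_add_self (hji i.1) h2
      have := natCast_zmod_inj (by omega) (by omega) h3
      exact i.2 (Fin.ext (show i.1.1 = h - 1 by omega))
    rw [← dPow_natCast hD.oc, apply_dPow_eq hD hψ (e i) (hl0 l h0 hl)]
    rw [← Finset.sum_subset (s₁ := ({q, -q} : Finset (ZMod (2 * h)))) (Finset.subset_univ _),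
      Finset.sum_pair hqq, dCoef_neg hD, hq, ← hA, hAe i (e i) (heF i), if_neg (hed i).1, if_pos rfl,
      neg_mul, AddChar.map_neg_eq_inv, ← Nat.cast_mul, hψnat]
    · push_cast; ring
    · intro j _ hj
      simp only [Finset.mem_insert, Finset.mem_singleton, not_or] at hj
      by_cases hj0 : j = 0
      · rw [hj0, dCoef_zero, zero_mul]
      obtain ⟨k, hk | hk⟩ := exists_eq_or_neg hj0
      all_goals
        have hki : k ≠ i.1 := fun e' => by
          subst e'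
          first
            | exact hj.1 hk
            | exact hj.2 hk
        rw [hk]
        try rw [dCoef_neg hD]
        rw [← hA]
        by_cases hk0 : k = i₀
        · rw [hk0, hA0 (e i) (heF i), if_neg (hed i).1, if_neg (hed i).2.1, if_neg (hed i).2.2]; simp
        · rw [hAe ⟨k, hk0⟩ (e i) (heF i), if_neg (hed i).1,
            if_neg (fun e' => hki (congrArg Subtype.val (heinj e')).symm)]
          simp
  -- the rest of the block is empty
  have hJ2 : orderOf (σ ^ h) = 2 := hD.z_order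
  have hJ1 : σ ^ h ≠ 1 := fun e' => by rw [e', orderOf_one] at hJ2; omega
  have hrefl : ∀ u ∈ (P : Subgroup G), u ∉ Subgroup.zpowers σ → ∀ χ ∈ F,
      χ ≠ χ₁ → χ ≠ χ₂ → χ ≠ χ₃ → (∀ i, χ ≠ e i) → (χ : G → ℂ) u = 0 := by
    intro u huP huc χ hχF hn1 hn2 hn3 hn4
    by_cases hcz : IsConj u (σ ^ h)
    · obtain ⟨g, hg⟩ := isConj_iff.1 hcz
      rw [← IsIrr.isClassFunction χ.2 u g, hg, ← dPow_natCast hD.oc]
      exact hvan χ hχF hn1 hn2 hn3 hn4 _ (hl0 h (by omega) (by omega))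
    have hu2 : orderOf u = 2 := by
      obtain ⟨i, rfl⟩ := hD.out_form huP huc
      exact hD.orderOf_out i
    have hu1 : u ≠ 1 := fun e' => huc (e' ▸ one_mem _)
    obtain ⟨x, hxP, hlam⟩ := lambda_eq_two_part hD hM ⟨1, by rw [hu2, pow_one]⟩ hu1
    have hxc : x * u * x⁻¹ ∉ Subgroup.zpowers σ := fun hm => by
      rcases hD.sq_one_cases hm (mul_self_of_orderOf_eq_two (by rw [H39.orderOf_conj, hu2])) with e' | e'
      · exact hu1 (conj_eq_one_iff.1 e')
      · exact hcz (isConj_iff.2 ⟨x, e'⟩)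
    rw [card_inf_centralizer_reflection hD hh hxP hxc] at hlam
    choose a ha using exists_int_value hu2
    have hnorm : 1 + ∑ ψ ∈ F, (a ψ) ^ 2 = 4 := by
      have hk := blockKernel_principal_pElement hM (u := u) (v := u)
        ⟨1, by rw [hu2, pow_one]⟩ ⟨1, by rw [hu2, pow_one]⟩
      rw [if_pos (IsConj.refl u), hlam, blockKernel, hsplit] at hk
      simp only [ha, map_intCast] at hk
      have ht1 : a trivialIrr = 1 := by
        have h' := ha trivialIrr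
        simp only [trivialIrr] at h'
        exact_mod_cast h'.symm
      rw [ht1] at hk
      apply Int.cast_injective (α := ℂ)
      push_cast at hk ⊢
      simp only [sq]
      linear_combination hk
    have hodd : ∀ (ψ : IrrCharacter G) (δ : ℤ), (δ = 1 ∨ δ = -1) → (ψ : G → ℂ) (σ ^ h) = δ →
        1 ≤ a ψ ^ 2 := by
      intro ψ δ hδ hval
      have hd1 := two_dvd_degree_add hJ2 ψ hval
      have hd2 := two_dvd_degree_add hu2 ψ (ha ψ)
      have hne : a ψ ≠ 0 := fun e' => by rw [e'] at hd2; omega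
      nlinarith [Int.one_le_abs hne, sq_abs (a ψ)]
    have hh1 : (-1 : ℂ) ^ (h + 1) = -1 := by
      rw [pow_succ, (even_of_dGen hD hh).neg_one_pow, one_mul]
    have l1 := hodd χ₁ δ₁ hδ₁ (hv₁ h (by omega) (by omega))
    have l2 := hodd χ₂ (-δ₂) (by omega) (by rw [hv2 h (by omega) (by omega), hh1]; push_cast; ring)
    have l3 := hodd χ₃ (-δ₃) (by omega) (by rw [hv3 h (by omega) (by omega), hh1]; push_cast; ring)
    have hsub : ({χ₁, χ₂, χ₃, χ} : Finset (IrrCharacter G)) ⊆ F := by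
      simp [Finset.insert_subset_iff, h1F, h2F, h3F, hχF]
    have hle := Finset.sum_le_sum_of_subset_of_nonneg hsub
      (f := fun ψ => (a ψ) ^ 2) (fun ψ _ _ => sq_nonneg _)
    rw [Finset.sum_insert (by simp [h12, h13, hn1.symm]), Finset.sum_insert (by simp [h23, hn2.symm]),
      Finset.sum_insert (by simp [hn3.symm]), Finset.sum_singleton] at hle
    have h0 : a χ = 0 := by nlinarith [sq_nonneg (a χ)]
    rw [ha χ, h0, Int.cast_zero]
  have hall : ∀ χ ∈ F, χ = χ₁ ∨ χ = χ₂ ∨ χ = χ₃ ∨ ∃ j, χ = χ' j := by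
    intro χ hχF
    by_contra hcon
    push Not at hcon
    obtain ⟨hn1, hn2, hn3, hn4⟩ := hcon
    have hn4' : ∀ i, χ ≠ e i := fun i e' => by
      obtain ⟨j, hj⟩ := hsurj i
      exact hn4 j (e'.trans hj)
    haveI : Fintype (P : Subgroup G) := Fintype.ofFinite _
    obtain ⟨q, hq⟩ := isIrr_sum_sylow χ (P : Subgroup G)
    rw [Finset.sum_eq_single (1 : (P : Subgroup G)) (fun y _ hy => ?_)
      (fun hn => absurd (Finset.mem_univ _) hn), OneMemClass.coe_one, apply_one_eq_charDegree] at hq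
    · have hd : Nat.card (P : Subgroup G) ∣ charDegree (χ : G → ℂ) := ⟨q, by exact_mod_cast hq⟩
      have hsing : ¬ 2 ∣ Nat.card G / charDegree (χ : G → ℂ) := fun h2 => by
        obtain ⟨r, hr⟩ := hd
        obtain ⟨s, hs⟩ := BlockBasic.charDegree_dvd χ
        rw [hs, Nat.mul_div_cancel_left _ (charDegree_pos χ)] at h2
        obtain ⟨s', rfl⟩ := h2
        refine P.not_dvd_index (Dvd.intro (r * s') ?_)
        have hci := (P : Subgroup G).card_mul_index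
        rw [hs, hr] at hci
        refine (Nat.eq_of_mul_eq_mul_left (Nat.card_pos (α := (P : Subgroup G))) ?_).symm
        rw [hci]; ring
      have hb := (blockOf_eq_singleton_iff hM χ).2 hsing
      rw [← isPBlock_eq_blockOf hM (isPBlock_principalBlock M) ((hmemF χ).1 hχF).1] at hb
      exact ((hmemF χ).1 hχF).2 (Set.mem_singleton_iff.1 (hb ▸ htriv)).symm
    · have hy1 : (y : G) ≠ 1 := fun e' => hy (Subtype.ext e')
      by_cases hyc : (y : G) ∈ Subgroup.zpowers σ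
      · obtain ⟨k, hk⟩ := (IsOfFinOrder.mem_powers_iff_mem_zpowers (isOfFinOrder_of_finite σ)).2 hyc
        have hk' : (y : G) = σ ^ k := hk.symm
        rw [hk', ← dPow_natCast hD.oc]
        exact hvan χ hχF hn1 hn2 hn3 hn4' _ (fun e' => hy1 (by
          rw [hk', ← dPow_natCast hD.oc, e', dPow_zero]))
      · exact hrefl y y.2 hyc χ hχF hn1 hn2 hn3 hn4'
  refine ⟨χ₁, χ₂, χ₃, χ', δ₁, δ₂, δ₃, hδ₁, hδ₂, hδ₃, ?_,
    ⟨((hmemF _).1 h1F).2, ((hmemF _).1 h2F).2, ((hmemF _).1 h3F).2, h12, h13, h23⟩,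
    fun j => ⟨(hed _).1, (hed _).2.1, (hed _).2.2, ((hmemF _).1 (heF _)).2⟩, fun χ => ⟨?_, ?_⟩,
    fun l h0 hl => ⟨hv₁ l h0 hl, hv2 l h0 hl, hv3 l h0 hl, fun j => hve _ l h0 hl⟩, ?_⟩
  · intro j k hjk
    exact Fin.ext (congrArg (fun i => i.1.1) (heinj hjk) :)
  · intro hχ
    by_cases ht : χ = trivialIrr
    · exact Or.inl ht
    · exact Or.inr (hall χ ((hmemF χ).2 ⟨hχ, ht⟩))
  · rintro (rfl | rfl | rfl | rfl | ⟨j, rfl⟩)
    exacts [htriv, ((hmemF _).1 h1F).1, ((hmemF _).1 h2F).1, ((hmemF _).1 h3F).1,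
      ((hmemF _).1 (heF _)).1]
  · intro ρ hρ
    have hfil : ∀ (i : Fin h) (S : Finset (IrrCharacter G)), S ⊆ F → (∀ χ ∈ F, χ ∉ S → A i χ = 0) →
        1 + ∑ χ ∈ S, (A i χ : ℂ) * (χ : G → ℂ) ρ = 0 := by
      intro i S hS hz
      rw [Finset.sum_subset hS (fun χ hχ hn => by rw [hz χ hχ hn, Int.cast_zero, zero_mul])]
      exact hrelρ i ρ hρ
    refine ⟨?_, fun j => ?_⟩
    · have hr := hfil i₀ {χ₁, χ₂, χ₃} (by simp [Finset.insert_subset_iff, h1F, h2F, h3F])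
        (fun χ hχ hn => by
          simp only [Finset.mem_insert, Finset.mem_singleton, not_or] at hn
          rw [hA0 χ hχ, if_neg hn.1, if_neg hn.2.1, if_neg hn.2.2])
      rw [Finset.sum_insert (by simp [h12, h13]), Finset.sum_pair h23, hA0 χ₁ h1F, hA0 χ₂ h2F,
        hA0 χ₃ h3F, if_pos rfl, if_neg h12.symm, if_pos rfl, if_neg h13.symm, if_neg h23.symm,
        if_pos rfl] at hr
      linear_combination hr
    · set i : {i : Fin h // i ≠ i₀} := ⟨⟨j.1, by omega⟩, hlift j⟩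
      have hr := hfil i.1 {χ₁, e i} (by simp [Finset.insert_subset_iff, h1F, heF i])
        (fun χ hχ hn => by
          simp only [Finset.mem_insert, Finset.mem_singleton, not_or] at hn
          rw [hAe i χ hχ, if_neg hn.1, if_neg hn.2])
      rw [Finset.sum_pair (hed i).1.symm, hAe i χ₁ h1F, hAe i (e i) (heF i), if_pos rfl,
        if_neg (hed i).1, if_pos rfl] at hr
      push_cast at hr
      show _ = (δ₁ : ℂ) * (e i : G → ℂ) ρ
      linear_combination hr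

end Cfsg.Agent.Cores
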