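import Cfsg.Agent.Cores.DihedralLocal

/-!
# Generators of a dihedral Sylow 2-subgroup
-/

namespace Cfsg.Agent.Cores

open H39

universe u

variable {G : Type u} [Group G] [Finite G]

/-- A given element of maximal order may serve as generator. -/
theorem dGen_of_equiv {P : Sylow 2 G} {h : ℕ} (hh : 2 ≤ h)
    (e : (P : Subgroup G) ≃* DihedralGroup (2 * h)) {σ : G} (hσ : σ ∈ (P : Subgroup G))
    (hσo : orderOf σ = 2 * h) : ∃ τ, DGen (P : Subgroup G) h σ τ := by
  obtain ⟨l, c, s, hl, -, hD⟩ := exists_dGen (P : Subgroup G) P.isPGroup' (by omega) e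
  obtain rfl : h = l := by omega
  have hσc : σ ∈ Subgroup.zpowers c := by
    by_contra hn
    obtain ⟨i, rfl⟩ := hD.out_form hσ hn
    rw [hD.orderOf_out] at hσo; omega
  have hcσ : c ∈ Subgroup.zpowers σ :=
    mem_zpowers_of_orderOf_eq hσc (Subgroup.mem_zpowers c) (hD.oc.trans hσo.symm)
  have hz : Subgroup.zpowers c = Subgroup.zpowers σ :=
    le_antisymm (Subgroup.zpowers_le.2 hcσ) (Subgroup.zpowers_le.2 hσc)
  obtain ⟨j, rfl⟩ := hσc
  refine ⟨s, hD.lpos, hσ, hD.mem_s, hσo, hD.os, ?_, hz ▸ hD.out, hz ▸ hD.cases⟩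
  have hj := hD.out_conj 0 j
  rwa [zpow_zero, one_mul, zpow_neg] at hj

/-- A dihedral Sylow subgroup given by generators and relations. -/
theorem dGen_of_closure {P : Sylow 2 G} {h : ℕ} (hh : 2 ≤ h) {σ τ : G}
    (hσ : σ ∈ (P : Subgroup G)) (hτ : τ ∈ (P : Subgroup G)) (hσo : orderOf σ = 2 * h)
    (hτo : orderOf τ = 2) (hrel : τ * σ * τ⁻¹ = σ⁻¹)
    (hgen : Subgroup.closure ({σ, τ} : Set G) = (P : Subgroup G)) :
    DGen (P : Subgroup G) h σ τ := by
  have hττ : τ * τ = 1 := mul_self_of_orderOf_eq_two hτo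
  have hτi : τ⁻¹ = τ := inv_eq_of_mul_eq_one_right hττ
  have hconj : ∀ i : ℤ, τ * σ ^ i * τ = σ ^ (-i) := fun i => by
    nth_rw 2 [← hτi]
    rw [← conj_zpow, hrel, inv_zpow, ← zpow_neg]
  refine ⟨by omega, hσ, hτ, hσo, hτo, hrel, ?_, fun g hg => ?_⟩
  · intro hτc
    obtain ⟨i, hi⟩ := hτc
    have hc : τ * σ * τ⁻¹ = σ := by
      rw [← hi]
      show σ ^ i * σ * (σ ^ i)⁻¹ = σ
      group
    have h2 : σ ^ 2 = 1 := by
      rw [pow_two]
      nth_rewrite 1 [← hc]
      rw [hrel, inv_mul_cancel]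
    have := orderOf_le_of_pow_eq_one (by norm_num) h2
    omega
  · let H : Subgroup G :=
      { carrier := {x | x ∈ Subgroup.zpowers σ ∨ x * τ ∈ Subgroup.zpowers σ}
        one_mem' := Or.inl (one_mem _)
        mul_mem' := fun {a b} ha hb => by
          rcases hb with ⟨j, rfl⟩ | ⟨j, hj⟩
          · rcases ha with ⟨i, rfl⟩ | ⟨i, hi⟩
            · exact Or.inl (mul_mem ⟨i, rfl⟩ ⟨j, rfl⟩)
            · refine Or.inr ⟨i - j, ?_⟩
              show σ ^ (i - j) = a * σ ^ j * τ
              rw [sub_eq_add_neg, zpow_add, ← hconj j, show σ ^ i = a * τ from hi]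
              calc a * τ * (τ * σ ^ j * τ) = a * (τ * τ) * σ ^ j * τ := by group
                _ = a * σ ^ j * τ := by rw [hττ, mul_one]
          · have hb' : b = σ ^ j * τ := by
              rw [show σ ^ j = b * τ from hj, mul_assoc, hττ, mul_one]
            rcases ha with ⟨i, rfl⟩ | ⟨i, hi⟩
            · refine Or.inr ⟨i + j, ?_⟩
              show σ ^ (i + j) = σ ^ i * b * τ
              rw [hb', zpow_add, mul_assoc, mul_assoc, hττ, mul_one]
            · refine Or.inl ⟨i - j, ?_⟩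
              show σ ^ (i - j) = a * b
              rw [sub_eq_add_neg, zpow_add, ← hconj j, show σ ^ i = a * τ from hi, hb']
              calc a * τ * (τ * σ ^ j * τ) = a * (τ * τ) * (σ ^ j * τ) := by group
                _ = a * (σ ^ j * τ) := by rw [hττ, mul_one]
        inv_mem' := fun {a} ha => by
          rcases ha with ⟨i, rfl⟩ | ⟨i, hi⟩
          · exact Or.inl (inv_mem ⟨i, rfl⟩)
          · refine Or.inr ⟨i, ?_⟩
            have ha' : a = σ ^ i * τ := by
              rw [show σ ^ i = a * τ from hi, mul_assoc, hττ, mul_one]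
            show σ ^ i = a⁻¹ * τ
            rw [ha', mul_inv_rev, hτi, ← zpow_neg, hconj, neg_neg] }
    have hle : Subgroup.closure ({σ, τ} : Set G) ≤ H := by
      rw [Subgroup.closure_le]
      rintro x (rfl | rfl)
      · exact Or.inl (Subgroup.mem_zpowers _)
      · exact Or.inr (by rw [hττ]; exact one_mem _)
    exact hle (hgen ▸ hg)

end Cfsg.Agent.Cores
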