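import Cfsg.Agent.Cores.PrincipalSection
import Cfsg.Agent.Cores.PCore
import Cfsg.Agent.Cores.Residual
import Cfsg.Agent.BlockBasic.Kernel
import Cfsg.Agent.H80.TwoBlocks

/-!
# Sums of characters over cosets of a normal 2-complement of a centraliser
-/

open scoped ComplexConjugate

namespace Cfsg.Agent.Cores

open BlockBasic CharBasic

universe u

variable {G : Type u} [Group G] [Fintype G] [DecidableEq G]

/-- The elements of odd order commuting with `g`. -/
noncomputable def regCentral (g : G) : Finset G :=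
  Finset.univ.filter fun y => g * y = y * g ∧ Odd (orderOf y)

theorem mem_regCentral {g y : G} : y ∈ regCentral g ↔ g * y = y * g ∧ Odd (orderOf y) := by
  simp [regCentral]

/-- The sum of a character over the section of a 2-element whose centraliser has a normal
2-complement. -/
theorem sum_regCentral {M : Ideal AlgInt} (hM : IsPModular 2 M) {u : G}
    (hu : ∃ k, orderOf u = 2 ^ k)
    (hc : HasNormalPComplement 2 (Subgroup.centralizer ({u} : Set G))) (χ : IrrCharacter G)
    [Decidable (χ ∈ principalBlock M G)] :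
    ∑ y ∈ regCentral u, (χ : G → ℂ) (u * y) =
      if χ ∈ principalBlock M G then ((regCentral u).card : ℂ) * (χ : G → ℂ) u else 0 := by
  classical
  haveI : Fact (Nat.Prime 2) := ⟨Nat.prime_two⟩
  obtain ⟨e, he⟩ := hu
  haveI : Fintype (Subgroup.centralizer ({u} : Set G)) := Fintype.ofFinite _
  set H := Subgroup.centralizer ({u} : Set G) with hH
  set O := pPrimeCore 2 H with hO
  have hidx : ∃ k : ℕ, O.index = 2 ^ k := by
    obtain ⟨S⟩ : Nonempty (Sylow 2 H) := inferInstance
    exact ⟨_, by rw [hO, (exists_normal_isComplement'_sylow hc S).symm.index_eq_card]; exact S.card_eq_multiplicity⟩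
  have hO2 : ¬ 2 ∣ Nat.card O := not_dvd_card_pPrimeCore
  have hreg : ∀ y : H, ¬ 2 ∣ orderOf y ↔ y ∈ O := fun y =>
    ⟨fun h => mem_of_regular hidx h, fun h hd => hO2 (hd.trans (Subgroup.orderOf_dvd_natCard _ h))⟩
  have hre : ∑ y ∈ regCentral u, (χ : G → ℂ) (u * y) =
      ∑ y : H with y ∈ O, (χ : G → ℂ) (u * (y : G)) := by
    refine Finset.sum_bij' (fun y hy => (⟨y, Subgroup.mem_centralizer_singleton_iff.2
      (mem_regCentral.1 hy).1.symm⟩ : H)) (fun y _ => (y : G)) ?_ ?_ ?_ ?_ ?_
    · intro y hy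
      refine Finset.mem_filter.2 ⟨Finset.mem_univ _, (hreg _).1 ?_⟩
      rw [Subgroup.orderOf_mk]
      exact fun h => Nat.not_even_iff_odd.2 (mem_regCentral.1 hy).2 (even_iff_two_dvd.2 h)
    · intro y hy
      refine mem_regCentral.2 ⟨(Subgroup.mem_centralizer_singleton_iff.1 y.2).symm, ?_⟩
      rw [Subgroup.orderOf_coe]
      exact Nat.not_even_iff_odd.1 fun h => (hreg y).2 (Finset.mem_filter.1 hy).2 (even_iff_two_dvd.1 h)
    · exact fun _ _ => rfl
    · exact fun _ _ => rfl
    · exact fun _ _ => rfl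
  rw [hre]
  split_ifs with hχ
  · rw [Finset.sum_congr rfl fun y hy =>
      principalBlock_apply_mul hM he hχ O hO2 (Finset.mem_filter.1 hy).2, Finset.sum_const,
      nsmul_eq_mul]
    congr 2
    refine Finset.card_bij' (fun y _ => (y : G)) (fun y hy => (⟨y, Subgroup.mem_centralizer_singleton_iff.2
      (mem_regCentral.1 hy).1.symm⟩ : H)) ?_ ?_ ?_ ?_
    · intro y hy
      refine mem_regCentral.2 ⟨(Subgroup.mem_centralizer_singleton_iff.1 y.2).symm, ?_⟩
      rw [Subgroup.orderOf_coe]
      exact Nat.not_even_iff_odd.1 fun h => (hreg y).2 (Finset.mem_filter.1 hy).2 (even_iff_two_dvd.1 h)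
    · intro y hy
      refine Finset.mem_filter.2 ⟨Finset.mem_univ _, (hreg _).1 ?_⟩
      rw [Subgroup.orderOf_mk]
      exact fun h => Nat.not_even_iff_odd.2 (mem_regCentral.1 hy).2 (even_iff_two_dvd.2 h)
    · exact fun _ _ => rfl
    · exact fun _ _ => rfl
  · set θ : H → ℂ := fun c => (χ : G → ℂ) (u * (c : G)) with hθdef
    have hθ : IsClassFunction H θ := isClassFunction_shift (IsIrr.isClassFunction χ.2)
    set b0 := principalBlock M H with hb0
    have hvanish : ∀ ψ ∉ b0, ∑ y : H with y ∈ O, (ψ : _ → ℂ) y = 0 := by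
      intro ψ hψ
      have h := sum_regular_eq_zero hM (isPBlock_principalBlock M) (χ := trivialIrr)
        (sameBlock_refl hM _) hψ
      have h2 := congrArg (starRingEnd ℂ) h
      simp only [map_sum, map_mul, trivialIrr, map_one, Complex.conj_conj, one_mul, map_zero] at h2
      rw [← h2]
      refine Finset.sum_congr ?_ fun _ _ => rfl
      ext y
      simp only [Finset.mem_filter, Finset.mem_univ, true_and]
      exact (hreg y).symm
    calc ∑ y : H with y ∈ O, θ y
        = ∑ ψ : IrrCharacter H, classInner θ (ψ : _ → ℂ) * ∑ y : H with y ∈ O, (ψ : _ → ℂ) y := by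
          simp only [Finset.mul_sum]
          rw [Finset.sum_comm]
          refine Finset.sum_congr rfl fun y _ => ?_
          conv_lhs => rw [classFunction_expansion hθ]
          simp
      _ = ∑ ψ with ψ ∈ b0, classInner θ (ψ : _ → ℂ) * ∑ y : H with y ∈ O, (ψ : _ → ℂ) y := by
          refine (Finset.sum_filter_of_ne fun ψ _ hne => ?_).symm
          by_contra hψ
          exact hne (by rw [hvanish ψ hψ, mul_zero])
      _ = 0 := by
          simp only [Finset.mul_sum]
          rw [Finset.sum_comm]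
          refine Finset.sum_eq_zero fun y hy => ?_
          rw [principal_part_eq hM he χ y ((hreg y).2 (Finset.mem_filter.1 hy).2), if_neg hχ]

/-- The elements of a coset. -/
def cosetFinset (O : Subgroup G) [DecidablePred (· ∈ O)] (g : G) : Finset G :=
  Finset.univ.filter fun x => g⁻¹ * x ∈ O

theorem mem_cosetFinset {O : Subgroup G} [DecidablePred (· ∈ O)] {g x : G} :
    x ∈ cosetFinset O g ↔ g⁻¹ * x ∈ O := by
  simp [cosetFinset]

/-- The coset of a 2-element normalising a subgroup `O` of odd order, decomposed into conjugates of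
its section. -/
theorem coset_sum {O : Subgroup G} [DecidablePred (· ∈ O)] (hO : Odd (Nat.card O)) {g : G}
    (hg : ∃ k, orderOf g = 2 ^ k) (hgn : ∀ o ∈ O, g⁻¹ * o * g ∈ O)
    (hK : ∀ y ∈ regCentral g, y ∈ O) {F : G → ℂ} (hF : IsClassFunction G F) :
    ((regCentral g).card : ℂ) * ∑ x ∈ cosetFinset O g, F x =
      (Nat.card O : ℂ) * ∑ y ∈ regCentral g, F (g * y) := by
  classical
  haveI : Fact (Nat.Prime 2) := ⟨Nat.prime_two⟩
  set K := regCentral g
  set OF : Finset G := Finset.univ.filter (· ∈ O) with hOF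
  have hmO : ∀ {o : G}, o ∈ OF ↔ o ∈ O := fun {o} => by simp [hOF]
  have hcardO : OF.card = Nat.card O := by
    rw [Nat.card_eq_fintype_card, Fintype.card_subtype]
  have hodd : ∀ {o : G}, o ∈ O → Odd (orderOf o) := fun {o} ho =>
    hO.of_dvd_nat (Subgroup.orderOf_dvd_natCard _ ho)
  have hKO : ∀ {y : G}, y ∈ O → g * y = y * g → y ∈ K := fun {y} hy hc =>
    mem_regCentral.2 ⟨hc, hodd hy⟩
  let Φ : G × G → G := fun p => p.1 * (g * p.2) * p.1⁻¹
  have hmaps : ∀ p ∈ OF ×ˢ K, Φ p ∈ cosetFinset O g := by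
    intro p hp
    obtain ⟨h1, h2⟩ := Finset.mem_product.1 hp
    rw [mem_cosetFinset, show g⁻¹ * Φ p = g⁻¹ * p.1 * g * p.2 * p.1⁻¹ by simp only [Φ]; group]
    exact O.mul_mem (O.mul_mem (hgn _ (hmO.1 h1)) (hK _ h2)) (O.inv_mem (hmO.1 h1))
  have hfib : ∀ x ∈ (OF ×ˢ K).image Φ, ((OF ×ˢ K).filter fun p => Φ p = x).card = K.card := by
    intro x hx
    obtain ⟨⟨o₀, y₀⟩, hp₀, rfl⟩ := Finset.mem_image.1 hx
    obtain ⟨ho₀, hy₀⟩ := Finset.mem_product.1 hp₀
    rw [hmO] at ho₀
    refine Finset.card_bij' (fun p _ => o₀⁻¹ * p.1) (fun k _ => (o₀ * k, k⁻¹ * y₀ * k)) ?_ ?_ ?_ ?_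
    · intro p hp
      simp only [Finset.mem_filter, Finset.mem_product] at hp
      obtain ⟨⟨h1, h2⟩, he⟩ := hp
      simp only at ho₀
      refine hKO (O.mul_mem (O.inv_mem ho₀) (hmO.1 h1)) ?_
      set q := o₀⁻¹ * p.1 with hq
      have he' : q * (g * p.2) * q⁻¹ = g * y₀ := by
        simp only [Φ] at he
        calc q * (g * p.2) * q⁻¹ = o₀⁻¹ * (p.1 * (g * p.2) * p.1⁻¹) * o₀ := by rw [hq]; group
          _ = g * y₀ := by rw [he]; group
      have hr : ∀ {y : G}, y ∈ K → ¬ 2 ∣ orderOf y := fun hy h =>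
        Nat.not_even_iff_odd.2 (mem_regCentral.1 hy).2 (even_iff_two_dvd.2 h)
      have h3 := congrArg (pPart (p := 2)) he'
      rw [pPart_conj, pPart_mul_of (mem_regCentral.1 h2).1 hg (hr h2),
        pPart_mul_of (mem_regCentral.1 hy₀).1 hg (hr hy₀)] at h3
      exact (mul_inv_eq_iff_eq_mul.1 h3).symm
    · intro k hk
      have hkc : Commute g k := (mem_regCentral.1 hk).1
      simp only [Finset.mem_filter, Finset.mem_product]
      refine ⟨⟨hmO.2 (O.mul_mem ho₀ (hK _ hk)), hKO (O.mul_mem (O.mul_mem (O.inv_mem (hK _ hk))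
        (hK _ hy₀)) (hK _ hk)) ((hkc.inv_right.mul_right (mem_regCentral.1 hy₀).1).mul_right hkc).eq⟩, ?_⟩
      simp only [Φ]
      calc o₀ * k * (g * (k⁻¹ * y₀ * k)) * (o₀ * k)⁻¹ = o₀ * (k * g * k⁻¹ * y₀) * o₀⁻¹ := by group
        _ = o₀ * (g * y₀) * o₀⁻¹ := by rw [← hkc.eq, mul_inv_cancel_right]
    · intro p hp
      simp only [Finset.mem_filter, Finset.mem_product] at hp
      obtain ⟨⟨h1, h2⟩, he⟩ := hp
      set q := o₀⁻¹ * p.1 with hq
      refine Prod.ext (mul_inv_cancel_left _ _) ?_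
      show q⁻¹ * y₀ * q = p.2
      have hr : ∀ {y : G}, y ∈ K → ¬ 2 ∣ orderOf y := fun hy h =>
        Nat.not_even_iff_odd.2 (mem_regCentral.1 hy).2 (even_iff_two_dvd.2 h)
      have he' : q * (g * p.2) * q⁻¹ = g * y₀ := by
        simp only [Φ] at he
        calc q * (g * p.2) * q⁻¹ = o₀⁻¹ * (p.1 * (g * p.2) * p.1⁻¹) * o₀ := by rw [hq]; group
          _ = g * y₀ := by rw [he]; group
      have h3 := congrArg (pPart (p := 2)) he'
      rw [pPart_conj, pPart_mul_of (mem_regCentral.1 h2).1 hg (hr h2),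
        pPart_mul_of (mem_regCentral.1 hy₀).1 hg (hr hy₀)] at h3
      rw [show q * (g * p.2) * q⁻¹ = q * g * q⁻¹ * (q * p.2 * q⁻¹) by group, h3,
        mul_right_inj] at he'
      rw [← he']
      group
    · intro k _
      exact inv_mul_cancel_left _ _
  by_cases hne : K.card = 0
  · exact absurd (Finset.card_eq_zero.1 hne) (Finset.ne_empty_of_mem (hKO O.one_mem (by simp)))
  have hcoset : (cosetFinset O g).card = Nat.card O := by
    rw [← hcardO]
    exact Finset.card_bij' (fun x _ => g⁻¹ * x) (fun o _ => g * o)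
      (fun x hx => hmO.2 (mem_cosetFinset.1 hx))
      (fun o ho => mem_cosetFinset.2 (by rw [inv_mul_cancel_left]; exact hmO.1 ho))
      (fun x _ => mul_inv_cancel_left _ _) (fun o _ => inv_mul_cancel_left _ _)
  have himg : (OF ×ˢ K).image Φ = cosetFinset O g := by
    refine Finset.eq_of_subset_of_card_le (Finset.image_subset_iff.2 hmaps) (le_of_eq ?_)
    rw [hcoset]
    refine Nat.eq_of_mul_eq_mul_right (Nat.pos_of_ne_zero hne) ?_
    rw [← hcardO, ← Finset.card_product, Finset.card_eq_sum_card_image Φ, Finset.sum_congr rfl hfib,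
      Finset.sum_const, smul_eq_mul]
  calc (K.card : ℂ) * ∑ x ∈ cosetFinset O g, F x
      = ∑ x ∈ (OF ×ˢ K).image Φ, ((((OF ×ˢ K).filter fun p => Φ p = x).card : ℕ) : ℂ) * F x := by
        rw [← himg, Finset.mul_sum]
        exact Finset.sum_congr rfl fun x hx => by rw [hfib x hx]
    _ = ∑ p ∈ OF ×ˢ K, F (Φ p) := by
        rw [← Finset.sum_fiberwise_of_maps_to (g := Φ) (fun p hp => Finset.mem_image_of_mem Φ hp)]
        refine Finset.sum_congr rfl fun x _ => ?_
        rw [Finset.sum_congr rfl (g := fun _ => F x) fun p hp => by rw [(Finset.mem_filter.1 hp).2],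
          Finset.sum_const, nsmul_eq_mul]
    _ = _ := by
        rw [Finset.sum_product, ← hcardO]
        rw [Finset.sum_congr rfl (g := fun _ => ∑ y ∈ K, F (g * y))
          fun o _ => Finset.sum_congr rfl fun y _ => hF _ o, Finset.sum_const, nsmul_eq_mul]

/-- The involutions in a coset of an involution. -/
theorem card_invol_coset {O : Subgroup G} [DecidablePred (· ∈ O)] (hO : Odd (Nat.card O)) {g : G}
    (hg : orderOf g = 2) (hgn : ∀ o ∈ O, g⁻¹ * o * g ∈ O) (hK : ∀ y ∈ regCentral g, y ∈ O) :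
    (regCentral g).card * ((cosetFinset O g).filter fun x => x * x = 1).card = Nat.card O := by
  classical
  have hF : IsClassFunction G fun x : G => if x * x = 1 then (1 : ℂ) else 0 := by
    intro x k
    simp only [show k * x * k⁻¹ * (k * x * k⁻¹) = k * (x * x) * k⁻¹ by group, conj_eq_one_iff]
  have h := coset_sum hO ⟨1, by rw [hg, pow_one]⟩ hgn hK hF
  have hgg : g * g = 1 := by rw [← pow_two, ← hg, pow_orderOf_eq_one]
  rw [Finset.sum_eq_single_of_mem (1 : G) (mem_regCentral.2 ⟨by simp, by simp⟩)] at h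
  · rw [Finset.sum_boole, mul_one, if_pos hgg, mul_one] at h
    exact_mod_cast h
  · intro y hy hy1
    obtain ⟨hc, ho⟩ := mem_regCentral.1 hy
    refine if_neg fun he => hy1 ?_
    rw [show g * y * (g * y) = g * (y * g) * y by group, ← hc, ← mul_assoc g g y, hgg, one_mul,
      ← pow_two] at he
    have hd := orderOf_dvd_of_pow_eq_one he
    obtain ⟨k, hk⟩ := ho
    refine orderOf_eq_one_iff.1 ?_
    rcases (Nat.dvd_prime Nat.prime_two).1 hd with h1 | h1
    · exact h1
    · omega

end Cfsg.Agent.Cores
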