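import Cfsg.Agent.Cores.DihedralBlock
import Cfsg.Agent.Cores.CosetSum
import Cfsg.Agent.H39.DihedralFusion
import Cfsg.Agent.H83.ClassConst
import Mathlib.RingTheory.RootsOfUnity.Complex

/-!
# Counting products of two involutions for a dihedral Sylow 2-subgroup
-/

open scoped ComplexConjugate Pointwise

namespace Cfsg.Agent.Cores

open BlockBasic CharBasic H39

universe u

variable {G : Type u} [Group G] [Finite G]

/-- `C(J) = O ⋊ P` for the central involution `J` of a dihedral Sylow 2-subgroup. -/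
theorem dihedral_centralizer_decomp {P : Sylow 2 G} {h : ℕ} {σ τ : G}
    (hD : DGen (P : Subgroup G) h σ τ) :
    ∃ O : Subgroup G, O ≤ Subgroup.centralizer ({σ ^ h} : Set G) ∧ Odd (Nat.card O) ∧
      (∀ x ∈ Subgroup.centralizer ({σ ^ h} : Set G), ∀ o ∈ O, x * o * x⁻¹ ∈ O) ∧
      (∀ y ∈ Subgroup.centralizer ({σ ^ h} : Set G), Odd (orderOf y) → y ∈ O) ∧
      (∀ x ∈ Subgroup.centralizer ({σ ^ h} : Set G), ∃ p ∈ (P : Subgroup G), p⁻¹ * x ∈ O) ∧
      (∀ p ∈ (P : Subgroup G), p ∈ O → p = 1) ∧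
      Nat.card (Subgroup.centralizer ({σ ^ h} : Set G)) = Nat.card (P : Subgroup G) * Nat.card O := by
  classical
  haveI : Fact (Nat.Prime 2) := ⟨Nat.prime_two⟩
  set C := Subgroup.centralizer ({σ ^ h} : Set G) with hC
  have hPC : (P : Subgroup G) ≤ C := fun g hg =>
    Subgroup.mem_centralizer_singleton_iff.2 (hD.z_central hg)
  have hJ2 : ∃ k, orderOf (σ ^ h) = 2 ^ k := ⟨1, by rw [hD.z_order, pow_one]⟩
  have hc := dihedral_centralizer_complement hD hJ2 (ne_one_of_orderOf_eq_two hD.z_order)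
  have hcomp := exists_normal_isComplement'_sylow hc (P.subtype hPC)
  have hodd : Odd (Nat.card (pPrimeCore 2 C)) :=
    Nat.not_even_iff_odd.1 fun h2 => not_dvd_card_pPrimeCore (even_iff_two_dvd.1 h2)
  have hPmem : ∀ q : C, q ∈ ((P.subtype hPC : Sylow 2 C) : Subgroup C) ↔ (q : G) ∈ (P : Subgroup G) :=
    fun q => by rw [Sylow.coe_subtype, Subgroup.mem_subgroupOf]
  have hidx : ∃ k : ℕ, (pPrimeCore 2 C).index = 2 ^ k :=
    ⟨_, by rw [hcomp.symm.index_eq_card]; exact (P.subtype hPC).card_eq_multiplicity⟩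
  refine ⟨(pPrimeCore 2 C).map C.subtype, ?_, ?_, ?_, ?_, ?_, ?_, ?_⟩
  · rintro _ ⟨q, -, rfl⟩
    exact q.2
  · rwa [Subgroup.card_map_of_injective C.subtype_injective]
  · rintro x hx _ ⟨q, hq, rfl⟩
    exact ⟨⟨x, hx⟩ * q * ⟨x, hx⟩⁻¹, (inferInstance : (pPrimeCore 2 C).Normal).conj_mem q hq _, rfl⟩
  · intro y hy ho
    refine ⟨⟨y, hy⟩, mem_of_regular hidx ?_, rfl⟩
    rw [Subgroup.orderOf_mk]
    exact fun h2 => Nat.not_even_iff_odd.2 ho (even_iff_two_dvd.2 h2)
  · intro x hx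
    obtain ⟨⟨⟨p, hp⟩, ⟨q, hq⟩⟩, hpq⟩ := hcomp.symm.2 ⟨x, hx⟩
    refine ⟨p, (hPmem p).1 hp, q, hq, ?_⟩
    have he := congrArg Subtype.val hpq
    simp only [Subgroup.coe_mul] at he
    show (q : G) = (p : G)⁻¹ * x
    rw [← he, inv_mul_cancel_left]
  · rintro p hp ⟨q, hq, rfl⟩
    have hd := hcomp.disjoint
    rw [Subgroup.disjoint_def] at hd
    rw [hd hq ((hPmem q).2 hp), map_one]
  · rw [Subgroup.card_map_of_injective C.subtype_injective,
      ← hcomp.symm.card_mul, Sylow.coe_subtype,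
      Nat.card_congr (Subgroup.subgroupOfEquivOfLe hPC).toEquiv]

theorem isClassFunction_invol : IsClassFunction G fun x : G => if orderOf x = 2 then (1 : ℂ) else 0 := by
  intro x k
  simp only [H39.orderOf_conj]

theorem sum_range_parity (h : ℕ) (A B : ℂ) :
    ∑ i ∈ Finset.range (2 * h), (if Even i then A else B) = (h : ℂ) * (A + B) := by
  induction h with
  | zero => simp
  | succ k ih =>
    rw [show 2 * (k + 1) = 2 * k + 1 + 1 by ring, Finset.sum_range_succ, Finset.sum_range_succ, ih,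
      if_pos (even_two_mul k), if_neg (by simp [parity_simps])]
    push_cast
    ring

theorem sum_neg_one_pow (k : ℕ) :
    ∑ j ∈ Finset.range (2 * k + 1), (-1 : ℂ) ^ (j + 1) = -1 := by
  induction k with
  | zero => simp
  | succ k ih =>
    rw [show 2 * (k + 1) + 1 = 2 * k + 1 + 1 + 1 by ring, Finset.sum_range_succ,
      Finset.sum_range_succ, ih, pow_succ _ (2 * k + 1 + 1)]
    ring

theorem sum_block_eq {M : Ideal AlgInt} {h : ℕ} {χ₁ χ₂ χ₃ : IrrCharacter G}
    {χ' : Fin (h - 1) → IrrCharacter G} (hinj : Function.Injective χ')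
    (hne : χ₁ ≠ trivialIrr ∧ χ₂ ≠ trivialIrr ∧ χ₃ ≠ trivialIrr ∧ χ₁ ≠ χ₂ ∧ χ₁ ≠ χ₃ ∧ χ₂ ≠ χ₃)
    (hχ' : ∀ j, χ' j ≠ χ₁ ∧ χ' j ≠ χ₂ ∧ χ' j ≠ χ₃ ∧ χ' j ≠ trivialIrr)
    (hB : ∀ χ : IrrCharacter G, χ ∈ principalBlock M G ↔
      χ = trivialIrr ∨ χ = χ₁ ∨ χ = χ₂ ∨ χ = χ₃ ∨ ∃ j, χ = χ' j) (F : IrrCharacter G → ℂ) :
    ∑ᶠ χ ∈ principalBlock M G, F χ =
      F trivialIrr + F χ₁ + F χ₂ + F χ₃ + ∑ j, F (χ' j) := by
  classical
  obtain ⟨n1, n2, n3, h12, h13, h23⟩ := hne
  have hset : principalBlock M G =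
      ↑(({trivialIrr, χ₁, χ₂, χ₃} : Finset (IrrCharacter G)) ∪ Finset.univ.image χ') := by
    ext χ
    simp only [hB, Finset.coe_union, Set.mem_union, Finset.mem_coe, Finset.mem_insert,
      Finset.mem_singleton, Finset.mem_image, Finset.mem_univ, true_and, or_assoc, eq_comm (a := χ' _)]
  rw [hset, finsum_mem_coe_finset, Finset.sum_union, Finset.sum_image (fun a _ b _ e => hinj e),
    Finset.sum_insert (by simp [n1.symm, n2.symm, n3.symm]), Finset.sum_insert (by simp [h12, h13]),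
    Finset.sum_pair h23]
  · ring
  · rw [Finset.disjoint_left]
    intro χ hχ hχi
    obtain ⟨j, -, rfl⟩ := Finset.mem_image.1 hχi
    obtain ⟨q1, q2, q3, q4⟩ := hχ' j
    simp [q1, q2, q3, q4] at hχ

/-- The order formula when all involutions are conjugate. -/
theorem dihedral_order_formula {P : Sylow 2 G} {h : ℕ} {σ τ : G}
    (hD : DGen (P : Subgroup G) h σ τ) (hh : 2 ≤ h) {M : Ideal AlgInt} (hM : IsPModular 2 M)
    (hconj : IsConj (σ ^ h) τ ∧ IsConj (σ ^ h) (σ * τ)) (χ : IrrCharacter G)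
    (hχ : χ ∈ principalBlock M G) (hχt : χ ≠ trivialIrr) (δ : ℤ) (hδ : δ = 1 ∨ δ = -1)
    (hval : ∀ l : ℕ, 0 < l → l < 2 * h → (χ : G → ℂ) (σ ^ l) = δ) :
    (charDegree (χ : G → ℂ) : ℤ) ≠ δ ∧
    (Nat.card G : ℂ) * ((charDegree (χ : G → ℂ) : ℂ) - δ) ^ 2 =
      2 * (charDegree (χ : G → ℂ) : ℂ) * ((charDegree (χ : G → ℂ) : ℂ) + δ) *
        (Nat.card (Subgroup.centralizer ({σ ^ h} : Set G)) : ℂ) ^ 3 *
        (1 / (Nat.card (Subgroup.centralizer ({σ ^ h, τ} : Set G)) : ℂ) +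
          1 / (Nat.card (Subgroup.centralizer ({σ ^ h, σ * τ} : Set G)) : ℂ)) ^ 2 := by
  classical
  cases nonempty_fintype G
  haveI : Fact (Nat.Prime 2) := ⟨Nat.prime_two⟩
  have hζ := Complex.isPrimitiveRoot_exp (2 * h) (by omega)
  set ζ : ℂ := Complex.exp (2 * Real.pi * Complex.I / ((2 * h : ℕ) : ℂ)) with hζdef
  obtain ⟨χ₁, χ₂, χ₃, χ', δ₁, δ₂, δ₃, hδ₁, hδ₂, hδ₃, hinj, hne, hχ', hB, hv, hρ⟩ :=
    dihedral_principal_block hD hh hM hζ
  have hhe := even_of_dGen hD hh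
  have hζh : ζ ^ h = -1 := by
    have h2 : ζ ^ h * ζ ^ h = 1 := by rw [← pow_add, ← two_mul, hζ.pow_eq_one]
    exact (mul_self_eq_one_iff.1 h2).resolve_left (hζ.pow_ne_one_of_pos_of_lt (by omega) (by omega))
  have hh1 : (-1 : ℂ) ^ (h + 1) = -1 := by rw [pow_succ, hhe.neg_one_pow, one_mul]
  have hJval : ∀ j : Fin (h - 1), (χ' j : G → ℂ) (σ ^ h) = 2 * δ₁ * (-1) ^ ((j : ℕ) + 1) := fun j => by
    rw [(hv h (by omega) (by omega)).2.2.2 j, mul_comm ((j : ℕ) + 1) h, pow_mul, hζh]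
    rcases neg_one_pow_eq_or ℂ ((j : ℕ) + 1) with e | e <;> rw [e] <;> norm_num <;> ring
  -- the given character
  obtain ⟨rfl, rfl⟩ : χ = χ₁ ∧ δ = δ₁ := by
    have hc := (hB χ).1 hχ
    have hcontra : ∀ e : ℤ, (e = 1 ∨ e = -1) → ¬ ∀ l : ℕ, 0 < l → l < 2 * h →
        (δ : ℂ) = e * (-1) ^ (l + 1) := by
      intro e he hall
      have a1 := hall 1 one_pos (by omega)
      have a2 := hall 2 two_pos (by omega)
      rw [a1] at a2
      rcases he with rfl | rfl <;> norm_num at a2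
    rcases hc with e | e | e | e | ⟨j, e⟩
    · exact absurd e hχt
    · refine ⟨e, ?_⟩
      have h0 := (hv 1 one_pos (by omega)).1
      rw [← e, hval 1 one_pos (by omega)] at h0
      exact_mod_cast h0
    · exact absurd (fun l a b => by rw [← hval l a b, e]; exact (hv l a b).2.1) (hcontra δ₂ hδ₂)
    · exact absurd (fun l a b => by rw [← hval l a b, e]; exact (hv l a b).2.2.1) (hcontra δ₃ hδ₃)
    · have h0 := hval h (by omega) (by omega)
      rw [e, hJval] at h0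
      exfalso
      rcases hδ with rfl | rfl <;> rcases hδ₁ with rfl | rfl <;>
        rcases neg_one_pow_eq_or ℂ ((j : ℕ) + 1) with e' | e' <;> rw [e'] at h0 <;> norm_num at h0
  obtain ⟨O, hOC, hOodd, hOn, hreg, hdec, hPO, hcard⟩ := dihedral_centralizer_decomp hD
  set C := Subgroup.centralizer ({σ ^ h} : Set G) with hCdef
  rw [card_dihedral hD hh] at hcard
  have hPC : (P : Subgroup G) ≤ C := fun g hg =>
    Subgroup.mem_centralizer_singleton_iff.2 (hD.z_central hg)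
  have hJJ : σ ^ h * σ ^ h = 1 := mul_self_of_orderOf_eq_two hD.z_order
  -- all involutions are conjugate
  have hrefl : ∀ i : ℤ, IsConj (σ ^ h) (σ ^ i * τ) := by
    intro i
    rcases Int.even_or_odd' i with ⟨k, hk | hk⟩
    · refine hconj.1.trans (isConj_iff.2 ⟨σ ^ k, ?_⟩)
      have := hD.conj_reflection 0 k
      rw [zpow_zero, one_mul, zero_add] at this
      rw [this, hk]
    · refine hconj.2.trans (isConj_iff.2 ⟨σ ^ k, ?_⟩)
      have := hD.conj_reflection 1 k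
      rw [zpow_one] at this
      rw [this, hk, add_comm]
  have hinv : ∀ v : G, IsConj (σ ^ h) v ↔ orderOf v = 2 := by
    intro v
    constructor
    · intro hc
      obtain ⟨c, rfl⟩ := isConj_iff.1 hc
      rw [H39.orderOf_conj, hD.z_order]
    · intro hv2
      obtain ⟨x, hx⟩ := exists_conj_le_sylow (IsPGroup.of_card (p := 2) (n := 1)
        (by rw [Nat.card_zpowers, hv2, pow_one])) P (R := Subgroup.zpowers v)
      refine IsConj.trans ?_ (isConj_iff.mpr ⟨x, rfl⟩ : IsConj v (x * v * x⁻¹)).symm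
      have hw := hx v (Subgroup.mem_zpowers v)
      have hwo : orderOf (x * v * x⁻¹) = 2 := by rw [H39.orderOf_conj, hv2]
      by_cases hwc : x * v * x⁻¹ ∈ Subgroup.zpowers σ
      · rcases hD.sq_one_cases hwc (mul_self_of_orderOf_eq_two hwo) with e | e
        · exact absurd e (ne_one_of_orderOf_eq_two hwo)
        · rw [e]
      obtain ⟨i, hi⟩ := hD.out_form hw hwc
      rw [hi]; exact hrefl i
  -- sums of characters over the two cosets
  have hK : ∀ g : G, (∀ y, g * y = y * g → y ∈ C) → ∀ y ∈ regCentral g, y ∈ O := fun g hg y hy =>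
    hreg y (hg y (mem_regCentral.1 hy).1) (mem_regCentral.1 hy).2
  have hnorm : ∀ g ∈ C, ∀ o ∈ O, g⁻¹ * o * g ∈ O := fun g hg o ho => by
    simpa using hOn g⁻¹ (C.inv_mem hg) o ho
  have hchar : ∀ g ∈ (P : Subgroup G), g ≠ 1 → (∀ y, g * y = y * g → y ∈ C) →
      ∀ ξ : IrrCharacter G, ∑ x ∈ cosetFinset O g, (ξ : G → ℂ) x =
        if ξ ∈ principalBlock M G then (Nat.card O : ℂ) * (ξ : G → ℂ) g else 0 := by
    intro g hgP hg1 hgC ξ
    have hg2 : ∃ k, orderOf g = 2 ^ k := by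
      obtain ⟨k, hk⟩ := IsPGroup.iff_orderOf.1 P.isPGroup' ⟨g, hgP⟩
      exact ⟨k, by rwa [Subgroup.orderOf_mk] at hk⟩
    have hc := coset_sum hOodd hg2 (hnorm g (hPC hgP)) (hK g hgC) (IsIrr.isClassFunction ξ.2)
    rw [sum_regCentral hM hg2 (dihedral_centralizer_complement hD hg2 hg1) ξ] at hc
    have hne0 : ((regCentral g).card : ℂ) ≠ 0 := Nat.cast_ne_zero.2
      (Finset.card_ne_zero_of_mem (mem_regCentral.2 (show g * 1 = 1 * g ∧ Odd (orderOf (1 : G)) by simp)))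
    refine mul_left_cancel₀ hne0 (hc.trans ?_)
    split_ifs <;> ring
  have hσC : σ ∈ C := hPC hD.mem_c
  have hJmem : σ ^ h ∈ (P : Subgroup G) := hD.z_mem
  have hcσ : ∀ y, σ * y = y * σ → y ∈ C := fun y hy =>
    Subgroup.mem_centralizer_singleton_iff.2 ((show Commute σ y from hy).pow_left h).symm.eq
  have hcJ : ∀ y, σ ^ h * y = y * σ ^ h → y ∈ C := fun y hy =>
    Subgroup.mem_centralizer_singleton_iff.2 hy.symm
  -- the number of pairs over a coset
  let inv : G → Finset G := fun p => (cosetFinset O p).filter fun x => orderOf x = 2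
  let Pf : Finset G := Finset.univ.filter (· ∈ (P : Subgroup G))
  let Npair : G → ℕ := fun y => Nat.card {a : G // IsConj (σ ^ h) a ∧ IsConj (σ ^ h) (a⁻¹ * y)}
  have hpow : ∀ g ∈ C, ∀ k : ℕ, (σ ^ h)⁻¹ * g ^ k ∈ O → g ^ (k * Nat.card O) = σ ^ h := by
    intro g hg k hk
    have hc : Commute (σ ^ h) ((σ ^ h)⁻¹ * g ^ k) :=
      (Subgroup.mem_centralizer_singleton_iff.1 (hOC hk)).symm
    obtain ⟨r, hr⟩ := hOodd
    rw [pow_mul, ← mul_inv_cancel_left (σ ^ h) (g ^ k), hc.mul_pow,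
      orderOf_dvd_iff_pow_eq_one.1 (Subgroup.orderOf_dvd_natCard O hk), mul_one]
    conv_lhs => rw [hr, pow_succ, pow_mul, pow_two, hJJ, one_pow, one_mul]
  have hT : ∀ g ∈ (P : Subgroup G), ∀ k : ℕ, (∀ o ∈ O, (σ ^ h)⁻¹ * (g * o) ^ k ∈ O) →
      ∑ x ∈ cosetFinset O g, Npair x = ∑ p ∈ Pf, (inv p).card * (inv (p⁻¹ * g)).card := by
    intro g hg k hk
    have hgC : g ∈ C := hPC hg
    let S : G → Finset G := fun x => Finset.univ.filter fun a => IsConj (σ ^ h) a ∧ IsConj (σ ^ h) (a⁻¹ * x)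
    have hN : ∀ x, Npair x = (S x).card := fun x => by
      simp only [Npair, S, Nat.card_eq_fintype_card, Fintype.card_subtype]
    simp only [hN]
    rw [← Finset.card_sigma]
    simp only [← Finset.card_product]
    rw [← Finset.card_sigma]
    refine Finset.card_bij'
      (fun s _ => ⟨if hp : ∃ p ∈ (P : Subgroup G), p⁻¹ * s.2 ∈ O then hp.choose else 1, s.2, s.2⁻¹ * s.1⟩)
      (fun t _ => ⟨t.2.1 * t.2.2, t.2.1⟩) ?_ ?_ ?_ ?_
    · rintro ⟨x, a⟩ hs
      simp only [Finset.mem_sigma, S, Finset.mem_filter, Finset.mem_univ, true_and] at hs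
      obtain ⟨hx, h1, h2⟩ := hs
      rw [mem_cosetFinset] at hx
      rw [hinv] at h1 h2
      have hxC : x ∈ C := by
        rw [← mul_inv_cancel_left g x]; exact C.mul_mem hgC (hOC hx)
      have ha : a ∈ C := by
        have haa := mul_self_of_orderOf_eq_two h1
        have hbb := mul_self_of_orderOf_eq_two h2
        have hai : a⁻¹ = a := inv_eq_of_mul_eq_one_right haa
        have hxk : (σ ^ h)⁻¹ * x ^ k ∈ O := by
          have := hk _ hx
          rwa [mul_inv_cancel_left] at this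
        have he := hpow x hxC k hxk
        refine Subgroup.mem_centralizer_singleton_iff.2 (mul_inv_eq_iff_eq_mul.1 ?_)
        have hinvx : a * x * a⁻¹ = x⁻¹ := by
          rw [hai] at hbb ⊢
          exact eq_inv_of_mul_eq_one_left (by simpa [mul_assoc] using hbb)
        have h3 := congrArg (· ^ (k * Nat.card O)) hinvx
        simp only [conj_pow, inv_pow, he] at h3
        rwa [inv_eq_of_mul_eq_one_right hJJ] at h3
      have hex := hdec a ha
      simp only [Finset.mem_sigma, Finset.mem_product, inv, Finset.mem_filter, mem_cosetFinset, Pf,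
        Finset.mem_univ, true_and, dif_pos hex]
      obtain ⟨hp, hpa⟩ := hex.choose_spec
      refine ⟨hp, ⟨hpa, h1⟩, ?_, h2⟩
      set p := hex.choose
      have hai : a⁻¹ = (p⁻¹ * a)⁻¹ * p⁻¹ := by group
      rw [show (p⁻¹ * g)⁻¹ * (a⁻¹ * x) =
        ((p⁻¹ * g)⁻¹ * (p⁻¹ * a)⁻¹ * (p⁻¹ * g)) * (g⁻¹ * x) by group]
      exact O.mul_mem (hnorm _ (C.mul_mem (C.inv_mem (hPC hp)) hgC) _ (O.inv_mem hpa)) hx
    · rintro ⟨p, a, b⟩ ht
      simp only [Finset.mem_sigma, Finset.mem_product, inv, Finset.mem_filter, mem_cosetFinset, Pf,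
        Finset.mem_univ, true_and] at ht
      obtain ⟨hp, ⟨ha, ha2⟩, hb, hb2⟩ := ht
      simp only [Finset.mem_sigma, S, Finset.mem_filter, Finset.mem_univ, true_and, mem_cosetFinset,
        inv_mul_cancel_left, hinv]
      refine ⟨?_, ha2, hb2⟩
      rw [show g⁻¹ * (a * b) =
        ((p⁻¹ * g)⁻¹ * (p⁻¹ * a) * (p⁻¹ * g)) * ((p⁻¹ * g)⁻¹ * b) by group]
      exact O.mul_mem (hnorm _ (C.mul_mem (C.inv_mem (hPC hp)) hgC) _ ha) hb
    · rintro ⟨x, a⟩ _
      simp
    · rintro ⟨p, a, b⟩ ht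
      simp only [Finset.mem_sigma, Finset.mem_product, inv, Finset.mem_filter, mem_cosetFinset, Pf,
        Finset.mem_univ, true_and] at ht
      obtain ⟨hp, ⟨ha, ha2⟩, hb, hb2⟩ := ht
      have hex : ∃ q ∈ (P : Subgroup G), q⁻¹ * a ∈ O := ⟨p, hp, ha⟩
      simp only [dif_pos hex, inv_mul_cancel_left]
      obtain ⟨hq, hqa⟩ := hex.choose_spec
      set q := hex.choose
      have hqp : q = p := by
        have hmem := O.mul_mem ha (O.inv_mem hqa)
        rw [show p⁻¹ * a * (q⁻¹ * a)⁻¹ = p⁻¹ * q by group] at hmem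
        exact (inv_mul_eq_one.1 (hPO _ ((P : Subgroup G).mul_mem ((P : Subgroup G).inv_mem hp) hq) hmem)).symm
      rw [hqp]
  -- the involutions in a coset
  have hinv0 : ∀ p ∈ (P : Subgroup G), orderOf p ≠ 2 → (inv p).card = 0 := by
    intro p hp hp2
    refine Finset.card_eq_zero.2 (Finset.filter_eq_empty_iff.2 fun x hx hx2 => hp2 ?_)
    rw [mem_cosetFinset] at hx
    have hxx := mul_self_of_orderOf_eq_two hx2
    have hpp : p * p ∈ O := by
      have h1 : (p⁻¹)⁻¹ * (p⁻¹ * x) * p⁻¹ ∈ O := hnorm p⁻¹ (C.inv_mem (hPC hp)) _ hx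
      have h3 : (p * p)⁻¹ ∈ O := by
        rw [show (p * p)⁻¹ = p⁻¹ * (p⁻¹ * (x * x) * p⁻¹⁻¹) * p⁻¹ by rw [hxx]; group]
        have h4 : p⁻¹ * (x * x) * p⁻¹ ∈ O := by
          rw [show p⁻¹ * (x * x) * p⁻¹ = (p⁻¹ * x) * ((p⁻¹)⁻¹ * (p⁻¹ * x) * p⁻¹) by group]
          exact O.mul_mem hx h1
        rw [hxx, mul_one] at h4
        rw [hxx, mul_one, inv_inv, inv_mul_cancel, mul_one]
        exact h4
      exact inv_inv (p * p) ▸ O.inv_mem h3
    refine orderOf_eq_two_of_mul_self (hPO _ ((P : Subgroup G).mul_mem hp hp) hpp) fun e => ?_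
    subst e
    rw [inv_one, one_mul] at hx
    obtain ⟨r, hr⟩ := hOodd.of_dvd_nat (Subgroup.orderOf_dvd_natCard _ hx)
    omega
  have hinv1 : (inv 1).card = 0 := hinv0 1 (one_mem _) (by simp)
  have hinvI : ∀ p ∈ (P : Subgroup G), orderOf p = 2 → (∀ y ∈ regCentral p, y ∈ O) →
      (regCentral p).card * (inv p).card = Nat.card O := by
    intro p hp hp2 hKp
    rw [← card_invol_coset hOodd hp2 (hnorm p (hPC hp)) hKp]
    congr 2
    refine Finset.filter_congr fun x hx => ⟨mul_self_of_orderOf_eq_two, fun hxx => ?_⟩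
    refine orderOf_eq_two_of_mul_self hxx fun e => ?_
    subst e
    rw [mem_cosetFinset, mul_one] at hx
    have hd := Subgroup.orderOf_dvd_natCard _ hx
    rw [orderOf_inv, hp2] at hd
    exact Nat.not_even_iff_odd.2 hOodd (even_iff_two_dvd.2 hd)
  -- reflections: `C(J) ∩ C(r)` and the involutions in `r O`
  let Kc : G → Finset G := fun r => (regCentral r).filter (· ∈ O)
  have hrK : ∀ r ∈ (P : Subgroup G), r ∉ Subgroup.zpowers σ →
      (Kc r).card * (inv r).card = Nat.card O ∧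
      Nat.card (Subgroup.centralizer ({σ ^ h, r} : Set G)) = 4 * (Kc r).card := by
    intro r hr hrc
    have hr2 : orderOf r = 2 := by
      obtain ⟨i, rfl⟩ := hD.out_form hr hrc
      exact hD.orderOf_out i
    have hrr := mul_self_of_orderOf_eq_two hr2
    have hri : r⁻¹ = r := inv_eq_of_mul_eq_one_right hrr
    constructor
    · -- count inside `O ⋊ ⟨r⟩` directly
      let H : Finset G := Finset.univ.filter (· ∈ O)
      have hmH : ∀ {o : G}, o ∈ H ↔ o ∈ O := fun {o} => by simp [H]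
      have hcH : H.card = Nat.card O := by rw [Nat.card_eq_fintype_card, Fintype.card_subtype]
      rw [← hcH]
      have hmap : ∀ o ∈ H, o * r * o⁻¹ ∈ inv r := by
        intro o ho
        simp only [inv, Finset.mem_filter, mem_cosetFinset]
        refine ⟨?_, by rw [H39.orderOf_conj, hr2]⟩
        rw [show r⁻¹ * (o * r * o⁻¹) = (r⁻¹ * o * r) * o⁻¹ by group]
        exact O.mul_mem (hnorm r (hPC hr) o (hmH.1 ho)) (O.inv_mem (hmH.1 ho))
      have hsurj : ∀ x ∈ inv r, ∃ o ∈ H, o * r * o⁻¹ = x := by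
        intro x hx
        simp only [inv, Finset.mem_filter, mem_cosetFinset] at hx
        obtain ⟨ho, hx2⟩ := hx
        set o := r⁻¹ * x with hodef
        have hoinv : r * o * r⁻¹ = o⁻¹ := by
          rw [hodef, hri, mul_inv_rev, inv_eq_of_mul_eq_one_right (mul_self_of_orderOf_eq_two hx2), hri]
          calc r * (r * x) * r = r * r * (x * r) := by group
            _ = x * r := by rw [hrr, one_mul]
        obtain ⟨t, ht⟩ := hOodd
        -- `y = o ^ t` satisfies `y⁻¹ r y = x`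
        refine ⟨o ^ t, hmH.2 (O.pow_mem ho _), ?_⟩
        have hrt : r * (o ^ t)⁻¹ * r⁻¹ = o ^ t := by
          rw [← inv_pow, ← conj_pow, ← hoinv]
          congr 1
          rw [hri]
          calc r * (r * o * r) * r = r * r * o * (r * r) := by group
            _ = o := by rw [hrr, one_mul, mul_one]
        have hcardo : o ^ (2 * t + 1) = 1 :=
          ht ▸ orderOf_dvd_iff_pow_eq_one.1 (Subgroup.orderOf_dvd_natCard O ho)
        calc o ^ t * r * (o ^ t)⁻¹ = o ^ t * (r * (o ^ t)⁻¹ * r⁻¹) * r := by group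
          _ = o ^ (2 * t) * r := by rw [hrt, ← pow_add, two_mul]
          _ = o⁻¹ * r := by rw [← eq_inv_of_mul_eq_one_left ((pow_succ o (2 * t)).symm.trans hcardo)]
          _ = x := by
            rw [hodef, mul_inv_rev, inv_inv, inv_mul_cancel_right_of hrr,
              inv_eq_of_mul_eq_one_right (mul_self_of_orderOf_eq_two hx2)]
      rw [Finset.card_eq_sum_card_fiberwise hmap, Finset.sum_congr rfl (g := fun _ => (Kc r).card),
        Finset.sum_const, smul_eq_mul, mul_comm]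
      intro x hx
      obtain ⟨o₀, ho₀, rfl⟩ := hsurj x hx
      refine Finset.card_bij' (fun o _ => o₀⁻¹ * o) (fun k _ => o₀ * k) ?_ ?_ ?_ ?_
      · intro o ho
        simp only [Finset.mem_filter] at ho
        have hm := O.mul_mem (O.inv_mem (hmH.1 ho₀)) (hmH.1 ho.1)
        refine Finset.mem_filter.2 ⟨mem_regCentral.2 ⟨?_, hOodd.of_dvd_nat
          (Subgroup.orderOf_dvd_natCard _ hm)⟩, hm⟩
        refine (mul_inv_eq_iff_eq_mul.1 ?_).symm
        calc o₀⁻¹ * o * r * (o₀⁻¹ * o)⁻¹ = o₀⁻¹ * (o * r * o⁻¹) * o₀ := by group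
          _ = r := by rw [ho.2]; group
      · intro k hk
        obtain ⟨hk1, hk2⟩ := Finset.mem_filter.1 hk
        simp only [Finset.mem_filter]
        refine ⟨hmH.2 (O.mul_mem (hmH.1 ho₀) hk2), ?_⟩
        calc o₀ * k * r * (o₀ * k)⁻¹ = o₀ * (k * r * k⁻¹) * o₀⁻¹ := by group
          _ = o₀ * r * o₀⁻¹ := by rw [← (mem_regCentral.1 hk1).1, mul_inv_cancel_right]
      · exact fun o _ => mul_inv_cancel_left _ _
      · exact fun k _ => inv_mul_cancel_left _ _
    · -- `C(J, r) = (P ∩ C(r)) (O ∩ C(r))`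
      have h4 := card_inf_centralizer_reflection hD hh hr hrc
      rw [← h4, ← Nat.card_eq_finsetCard, ← Nat.card_prod]
      have hmem2 : ∀ q : ↥((P : Subgroup G) ⊓ Subgroup.centralizer ({r} : Set G)) × ↥(Kc r),
          (q.1 : G) * (q.2 : G) ∈ Subgroup.centralizer ({σ ^ h, r} : Set G) := by
        rintro ⟨⟨p, hpP, hpr⟩, ⟨o, ho⟩⟩
        obtain ⟨ho1, ho2⟩ := Finset.mem_filter.1 ho
        have a1 := Subgroup.mem_centralizer_singleton_iff.1 hpr
        have a2 := Subgroup.mem_centralizer_singleton_iff.1 (hOC ho2)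
        have a3 := hD.z_central hpP
        refine Subgroup.mem_centralizer_iff.2 fun y hy => ?_
        rcases hy with rfl | rfl
        · exact ((show Commute (σ ^ h) p from a3.symm).mul_right a2.symm).eq
        · exact ((show Commute y p from a1.symm).mul_right (mem_regCentral.1 ho1).1).eq
      refine (Nat.card_congr (Equiv.ofBijective (fun q => (⟨(q.1 : G) * (q.2 : G), hmem2 q⟩ :
        ↥(Subgroup.centralizer ({σ ^ h, r} : Set G)))) ⟨?_, ?_⟩)).symm
      · rintro ⟨⟨p, hp⟩, ⟨o, ho⟩⟩ ⟨⟨p', hp'⟩, ⟨o', ho'⟩⟩ he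
        have he' : p * o = p' * o' := congrArg Subtype.val he
        have hmem : p'⁻¹ * p ∈ O := by
          rw [show p'⁻¹ * p = p'⁻¹ * (p * o) * o⁻¹ by group, he', inv_mul_cancel_left]
          exact O.mul_mem (Finset.mem_filter.1 ho').2 (O.inv_mem (Finset.mem_filter.1 ho).2)
        obtain rfl : p' = p := inv_mul_eq_one.1
          (hPO _ ((P : Subgroup G).mul_mem ((P : Subgroup G).inv_mem hp'.1) hp.1) hmem)
        obtain rfl : o = o' := mul_left_cancel he'
        rfl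
      · rintro ⟨x, hx⟩
        have hxJ : σ ^ h * x = x * σ ^ h := Subgroup.mem_centralizer_iff.1 hx _ (by simp)
        have hxr : r * x = x * r := Subgroup.mem_centralizer_iff.1 hx _ (by simp)
        obtain ⟨p, hp, hpo⟩ := hdec x (hcJ x hxJ)
        -- uniqueness of the decomposition of `r x r⁻¹ = x`
        have hmem : p⁻¹ * (r * p * r⁻¹) ∈ O := by
          rw [show p⁻¹ * (r * p * r⁻¹) =
            p⁻¹ * (r * x * r⁻¹) * ((r⁻¹)⁻¹ * (p⁻¹ * x) * r⁻¹)⁻¹ by group, hxr, mul_inv_cancel_right]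
          exact O.mul_mem hpo (O.inv_mem (hnorm r⁻¹ (C.inv_mem (hPC hr)) _ hpo))
        have hpr : r * p * r⁻¹ = p := (inv_mul_eq_one.1 (hPO _ ((P : Subgroup G).mul_mem
          ((P : Subgroup G).inv_mem hp) ((P : Subgroup G).mul_mem ((P : Subgroup G).mul_mem hr hp)
            ((P : Subgroup G).inv_mem hr))) hmem)).symm
        have hpc : Commute r p := mul_inv_eq_iff_eq_mul.1 hpr
        refine ⟨(⟨p, hp, Subgroup.mem_centralizer_singleton_iff.2 hpc.eq.symm⟩,
          ⟨p⁻¹ * x, Finset.mem_filter.2 ⟨mem_regCentral.2 ⟨(hpc.inv_right.mul_right hxr).eq,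
            hOodd.of_dvd_nat (Subgroup.orderOf_dvd_natCard _ hpo)⟩, hpo⟩⟩), ?_⟩
        exact Subtype.ext (mul_inv_cancel_left p x)
  have hKinv : ∀ r c : G, c ∈ (P : Subgroup G) → (Kc (c * r * c⁻¹)).card = (Kc r).card := by
    intro r c hc
    refine Finset.card_bij' (fun y _ => c⁻¹ * y * c) (fun y _ => c * y * c⁻¹) ?_ ?_ ?_ ?_
    · intro y hy
      obtain ⟨h1, h2⟩ := Finset.mem_filter.1 hy
      refine Finset.mem_filter.2 ⟨mem_regCentral.2 ⟨?_, ?_⟩, hnorm c (hPC hc) y h2⟩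
      · have h3 := congrArg (fun t => c⁻¹ * t * c) (mem_regCentral.1 h1).1
        calc r * (c⁻¹ * y * c) = c⁻¹ * (c * r * c⁻¹ * y) * c := by group
          _ = c⁻¹ * (y * (c * r * c⁻¹)) * c := h3
          _ = c⁻¹ * y * c * r := by group
      · rw [show c⁻¹ * y * c = c⁻¹ * y * c⁻¹⁻¹ by rw [inv_inv], H39.orderOf_conj]
        exact (mem_regCentral.1 h1).2
    · intro y hy
      obtain ⟨h1, h2⟩ := Finset.mem_filter.1 hy
      refine Finset.mem_filter.2 ⟨mem_regCentral.2 ⟨?_, ?_⟩, hOn c (hPC hc) y h2⟩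
      · calc c * r * c⁻¹ * (c * y * c⁻¹) = c * (r * y) * c⁻¹ := by group
          _ = c * (y * r) * c⁻¹ := by rw [(mem_regCentral.1 h1).1]
          _ = c * y * c⁻¹ * (c * r * c⁻¹) := by group
      · rw [H39.orderOf_conj]; exact (mem_regCentral.1 h1).2
    · exact fun y _ => by group
    · exact fun y _ => by group
  have hτc : τ ∉ Subgroup.zpowers σ := hD.out
  have hστc : σ * τ ∉ Subgroup.zpowers σ := by simpa using hD.out_not_mem 1
  have hστP : σ * τ ∈ (P : Subgroup G) := (P : Subgroup G).mul_mem hD.mem_c hD.mem_s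
  obtain ⟨hIa, hCa⟩ := hrK τ hD.mem_s hτc
  obtain ⟨hIb, hCb⟩ := hrK (σ * τ) hστP hστc
  set A : ℂ := (Nat.card O : ℂ) / ((Kc τ).card : ℂ) with hA
  set B : ℂ := (Nat.card O : ℂ) / ((Kc (σ * τ)).card : ℂ) with hB'
  have hO0 : (Nat.card O : ℂ) ≠ 0 := Nat.cast_ne_zero.2 Nat.card_pos.ne'
  have hR : ∀ i : ℤ, ((inv (σ ^ i * τ)).card : ℂ) = if Even i then A else B := by
    intro i
    have hiP : σ ^ i * τ ∈ (P : Subgroup G) := (P : Subgroup G).mul_mem (hD.zpow_mem i) hD.mem_s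
    obtain ⟨hI, -⟩ := hrK _ hiP (hD.out_not_mem i)
    have hk0 : ((Kc (σ ^ i * τ)).card : ℂ) ≠ 0 := Nat.cast_ne_zero.2 fun e0 => by
      rw [e0, zero_mul] at hI; exact Nat.card_pos.ne hI
    have hI' : ((inv (σ ^ i * τ)).card : ℂ) = (Nat.card O : ℂ) / ((Kc (σ ^ i * τ)).card : ℂ) := by
      rw [eq_div_iff hk0, ← hI]; push_cast; ring
    rw [hI']
    rcases Int.even_or_odd' i with ⟨k, hk | hk⟩
    · rw [if_pos (hk ▸ even_two_mul k), hA]
      have := hD.conj_reflection 0 k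
      rw [zpow_zero, one_mul, zero_add] at this
      rw [hk, ← this, hKinv _ _ (hD.zpow_mem k)]
    · rw [if_neg (Int.not_even_iff_odd.2 ⟨k, hk⟩), hB']
      have := hD.conj_reflection 1 k
      rw [zpow_one] at this
      rw [hk, add_comm (2 * k), ← this, hKinv _ _ (hD.zpow_mem k)]
  -- sum over `P`
  have hPsum : ∀ f : G → ℂ, ∑ p ∈ Pf, f p =
      ∑ i ∈ Finset.range (2 * h), f (σ ^ i) + ∑ i ∈ Finset.range (2 * h), f (σ ^ (i : ℤ) * τ) := by
    intro f
    have hinjσ : Set.InjOn (fun i : ℕ => σ ^ i) (Finset.range (2 * h) : Finset ℕ) := by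
      intro a ha b hb hab
      simp only [Finset.coe_range, Set.mem_Iio] at ha hb
      exact pow_injOn_Iio_orderOf (Set.mem_Iio.2 (hD.oc ▸ ha)) (Set.mem_Iio.2 (hD.oc ▸ hb)) hab
    have hinjr : Set.InjOn (fun i : ℕ => σ ^ (i : ℤ) * τ) (Finset.range (2 * h) : Finset ℕ) := by
      intro a ha b hb hab
      refine hinjσ ha hb ?_
      have := mul_right_cancel hab
      simpa using this
    rw [← Finset.sum_image hinjσ, ← Finset.sum_image hinjr, ← Finset.sum_union]
    · refine Finset.sum_congr ?_ fun _ _ => rfl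
      ext p
      simp only [Pf, Finset.mem_filter, Finset.mem_univ, true_and, Finset.mem_union, Finset.mem_image,
        Finset.mem_range]
      constructor
      · intro hp
        by_cases hpc : p ∈ Subgroup.zpowers σ
        · obtain ⟨k, hk⟩ := (IsOfFinOrder.mem_powers_iff_mem_zpowers (isOfFinOrder_of_finite σ)).2 hpc
          exact Or.inl ⟨k % (2 * h), Nat.mod_lt _ (by omega), by rw [← hD.oc, pow_mod_orderOf]; exact hk⟩
        · obtain ⟨i, rfl⟩ := hD.out_form hp hpc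
          refine Or.inr ⟨(i % (2 * h : ℕ)).toNat, ?_, ?_⟩
          · have := Int.emod_lt_of_pos i (show (0 : ℤ) < ((2 * h : ℕ) : ℤ) by exact_mod_cast (show 0 < 2 * h by omega))
            omega
          · rw [Int.toNat_of_nonneg (Int.emod_nonneg _ (by omega)), ← hD.oc, zpow_mod_orderOf]
      · rintro (⟨i, -, rfl⟩ | ⟨i, -, rfl⟩)
        · exact (P : Subgroup G).pow_mem hD.mem_c i
        · exact (P : Subgroup G).mul_mem (hD.zpow_mem _) hD.mem_s
    · rw [Finset.disjoint_left]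
      intro p hp hp'
      obtain ⟨a, -, rfl⟩ := Finset.mem_image.1 hp
      obtain ⟨b, -, hb⟩ := Finset.mem_image.1 hp'
      exact hD.out_not_mem b (hb ▸ Subgroup.pow_mem _ (Subgroup.mem_zpowers σ) a)
  have hcyc0 : ∀ i : ℕ, (σ ^ i = σ ^ h) ∨ (inv (σ ^ i)).card = 0 := by
    intro i
    by_cases h2 : orderOf (σ ^ i) = 2
    · left
      exact (hD.sq_one_cases (Subgroup.pow_mem _ (Subgroup.mem_zpowers σ) i)
        (mul_self_of_orderOf_eq_two h2)).resolve_left (ne_one_of_orderOf_eq_two h2)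
    · exact Or.inr (hinv0 _ ((P : Subgroup G).pow_mem hD.mem_c i) h2)
  have hconjστ : ∀ (i : ℤ) (j : ℤ), (σ ^ i * τ)⁻¹ * σ ^ j = σ ^ (i - j) * τ := by
    intro i j
    have hc := hD.out_conj i j
    rw [inv_eq_of_mul_eq_one_right (hD.out_mul_self i)] at hc
    calc (σ ^ i * τ)⁻¹ * σ ^ j = σ ^ i * τ * σ ^ j := by
          rw [inv_eq_of_mul_eq_one_right (hD.out_mul_self i)]
      _ = σ ^ i * τ * σ ^ j * ((σ ^ i * τ) * (σ ^ i * τ)) := by rw [hD.out_mul_self, mul_one]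
      _ = (σ ^ i * τ * σ ^ j * (σ ^ i * τ)) * (σ ^ i * τ) := by group
      _ = _ := by rw [hc, ← mul_assoc, ← zpow_add, neg_add_eq_sub]
  have hTsum : (∑ x ∈ cosetFinset O σ, (Npair x : ℂ)) + ∑ x ∈ cosetFinset O (σ ^ h), (Npair x : ℂ) =
      (h : ℂ) * (A + B) ^ 2 := by
    have e1 := hT σ hD.mem_c h (fun o ho => by
      have hq : ∀ k : ℕ, (σ ^ k)⁻¹ * (σ * o) ^ k ∈ O := by
        intro k
        induction k with
        | zero => simp
        | succ k ih =>
          rw [show (σ ^ (k + 1))⁻¹ * (σ * o) ^ (k + 1) =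
            (σ⁻¹ * ((σ ^ k)⁻¹ * (σ * o) ^ k) * σ) * o by rw [pow_succ, pow_succ]; group]
          exact O.mul_mem (hnorm σ hσC _ ih) ho
      exact hq h)
    have e2 := hT (σ ^ h) hJmem 1 (fun o ho => by
      rw [pow_one, inv_mul_cancel_left]; exact ho)
    rw [← Nat.cast_sum, ← Nat.cast_sum, e1, e2]
    push_cast
    rw [hPsum, hPsum]
    have hz1 : ∀ i ∈ Finset.range (2 * h),
        ((inv (σ ^ i)).card : ℂ) * ((inv ((σ ^ i)⁻¹ * σ)).card : ℂ) = 0 := by
      intro i _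
      rcases hcyc0 i with e | e
      · have h2 : orderOf ((σ ^ i)⁻¹ * σ) ≠ 2 := by
          intro hc
          have hx := mul_self_of_orderOf_eq_two hc
          rw [e, inv_eq_of_mul_eq_one_right hJJ,
            show σ ^ h * σ * (σ ^ h * σ) = σ ^ h * σ ^ h * (σ * σ) by group, hJJ, one_mul, ← pow_two] at hx
          have hle := orderOf_le_of_pow_eq_one (by norm_num) hx
          rw [hD.oc] at hle; omega
        rw [hinv0 _ ((P : Subgroup G).mul_mem ((P : Subgroup G).inv_mem ((P : Subgroup G).pow_mem hD.mem_c i))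
          hD.mem_c) h2]; simp
      · rw [e]; simp
    have hz2 : ∀ i ∈ Finset.range (2 * h),
        ((inv (σ ^ i)).card : ℂ) * ((inv ((σ ^ i)⁻¹ * σ ^ h)).card : ℂ) = 0 := by
      intro i _
      rcases hcyc0 i with e | e
      · rw [e, inv_mul_cancel, hinv1]; simp
      · rw [e]; simp
    rw [Finset.sum_eq_zero hz1, Finset.sum_eq_zero hz2, zero_add, zero_add, ← Finset.sum_add_distrib,
      sq, ← mul_assoc, ← sum_range_parity h A B, Finset.sum_mul]
    refine Finset.sum_congr rfl fun i _ => ?_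
    have q1 : (σ ^ (i : ℤ) * τ)⁻¹ * σ = σ ^ ((i : ℤ) - 1) * τ := by simpa using hconjστ i 1
    have q2 : (σ ^ (i : ℤ) * τ)⁻¹ * σ ^ h = σ ^ ((i : ℤ) - h) * τ := by simpa using hconjστ i h
    rw [q1, q2, hR, hR, hR]
    have heh : Even (h : ℤ) := by exact_mod_cast hhe
    by_cases hi : Even i
    · have hi' : Even (i : ℤ) := by exact_mod_cast hi
      simp [hi, hi', Nat.not_odd_iff_even.2 hi, parity_simps, heh]; ring
    · have hi' : ¬ Even (i : ℤ) := by exact_mod_cast hi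
      simp [hi, hi', Nat.not_even_iff_odd.1 hi, parity_simps, heh]; ring
  -- the character side
  set idx : ℕ := C.index with hidx
  have hside : ∀ g ∈ (P : Subgroup G), g ≠ 1 → (∀ y, g * y = y * g → y ∈ C) →
      (Nat.card G : ℂ) * ∑ x ∈ cosetFinset O g, (Npair x : ℂ) =
        (idx : ℂ) * idx * (Nat.card O : ℂ) *
          ∑ᶠ ξ ∈ principalBlock M G, conj ((ξ : G → ℂ) (σ ^ h)) * conj ((ξ : G → ℂ) (σ ^ h)) *
            (ξ : G → ℂ) g / (ξ : G → ℂ) 1 := by
    intro g hg hg1 hgC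
    rw [Finset.mul_sum, finsum_mem_eq_sum_ite]
    simp only [Npair, H83.card_pairs_mul_card, ← hCdef, ← hidx, Finset.mul_sum]
    rw [Finset.sum_comm]
    refine Finset.sum_congr rfl fun ξ _ => ?_
    rw [Finset.sum_congr rfl (g := fun x => ((idx : ℂ) * idx * (conj ((ξ : G → ℂ) (σ ^ h)) *
      conj ((ξ : G → ℂ) (σ ^ h)) / (ξ : G → ℂ) 1)) * (ξ : G → ℂ) x) (fun x _ => by ring),
      ← Finset.mul_sum, hchar g hg hg1 hgC ξ]
    split_ifs <;> ring
  have hσ1 : σ ≠ 1 := fun e => by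
    have := hD.oc; rw [e, orderOf_one] at this; omega
  have hmain := congrArg ((Nat.card G : ℂ) * ·) hTsum
  simp only [mul_add] at hmain
  rw [hside σ hD.mem_c hσ1 hcσ, hside (σ ^ h) hJmem (ne_one_of_orderOf_eq_two hD.z_order) hcJ,
    ← mul_add, ← finsum_mem_add_distrib (Set.toFinite _), sum_block_eq hinj hne hχ' hB] at hmain
  set x : ℂ := (charDegree (χ : G → ℂ) : ℂ) with hxdef
  have hx : (χ : G → ℂ) 1 = x := apply_one_eq_charDegree χ
  have hdeg : ∀ j, (χ' j : G → ℂ) 1 = x + δ := fun j => by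
    have hj := (hρ 1 (by rw [orderOf_one]; exact odd_one)).2 j
    rw [hx] at hj
    rcases hδ with rfl | rfl <;> push_cast at hj ⊢
    · linear_combination -hj
    · linear_combination hj
  have hj0 : 0 < h - 1 := by omega
  have hxδ : x + δ ≠ 0 := by
    rw [← hdeg ⟨0, hj0⟩, apply_one_eq_charDegree]
    exact Nat.cast_ne_zero.2 (charDegree_pos _).ne'
  have hx0 : x ≠ 0 := Nat.cast_ne_zero.2 (charDegree_pos _).ne'
  have hv1 := hv 1 one_pos (by omega)
  have hvh := hv h (by omega) (by omega)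
  have hsq : ∀ e : ℤ, e = 1 ∨ e = -1 → (e : ℂ) * e = 1 := by rintro e (rfl | rfl) <;> simp
  have hsumj : ∑ j : Fin (h - 1), (ζ ^ ((j : ℕ) + 1) + (ζ ^ ((j : ℕ) + 1))⁻¹) = 0 := by
    rw [Finset.sum_add_distrib]
    have hr : ∀ j : Fin (h - 1), (ζ ^ ((j : ℕ) + 1))⁻¹ = -ζ ^ ((Fin.rev j : Fin (h - 1)).val + 1) := fun j => by
      refine inv_eq_of_mul_eq_one_right ?_
      rw [mul_neg, ← pow_add, Fin.val_rev, show (j : ℕ) + 1 + (h - 1 - ((j : ℕ) + 1) + 1) = h by omega,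
        hζh, neg_neg]
    rw [Finset.sum_congr rfl fun j _ => hr j, Finset.sum_neg_distrib,
      Fintype.sum_equiv Fin.revPerm (fun j => ζ ^ ((Fin.rev j : Fin (h - 1)).val + 1))
        (fun j : Fin (h - 1) => ζ ^ (j.val + 1)) (fun j => rfl), add_neg_cancel]
  have hsumn : ∑ j : Fin (h - 1), (-1 : ℂ) ^ ((j : ℕ) + 1) = -1 := by
    obtain ⟨k, hk⟩ := hhe
    rw [Fin.sum_univ_eq_sum_range fun j => (-1 : ℂ) ^ (j + 1), show h - 1 = 2 * (k - 1) + 1 by omega,
      sum_neg_one_pow]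
  have hterm : ∀ j : Fin (h - 1),
      (conj ((χ' j : G → ℂ) (σ ^ h)) * conj ((χ' j : G → ℂ) (σ ^ h)) * (χ' j : G → ℂ) σ /
          (χ' j : G → ℂ) 1 +
        conj ((χ' j : G → ℂ) (σ ^ h)) * conj ((χ' j : G → ℂ) (σ ^ h)) * (χ' j : G → ℂ) (σ ^ h) /
          (χ' j : G → ℂ) 1) =
      (4 * δ / (x + δ)) * ((ζ ^ ((j : ℕ) + 1) + (ζ ^ ((j : ℕ) + 1))⁻¹) + 2 * (-1) ^ ((j : ℕ) + 1)) := by
    intro j
    have hs := hv1.2.2.2 j
    rw [pow_one, mul_one] at hs
    rw [hs, hdeg, hJval]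
    have hn2 : ((-1 : ℂ) ^ ((j : ℕ) + 1)) ^ 2 = 1 := by rw [← pow_mul, mul_comm, pow_mul]; norm_num
    simp only [map_mul, map_intCast, map_pow, map_neg, map_one, map_ofNat]
    have hd2 := hsq δ hδ
    generalize ζ ^ ((j : ℕ) + 1) + (ζ ^ ((j : ℕ) + 1))⁻¹ = w
    generalize (-1 : ℂ) ^ ((j : ℕ) + 1) = r at hn2 ⊢
    field_simp
    linear_combination (4 * (δ : ℂ) * (w + 2 * r)) * (r ^ 2 * hd2 + hn2)
  rw [Finset.sum_congr rfl fun j _ => hterm j, ← Finset.mul_sum, Finset.sum_add_distrib, hsumj,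
    ← Finset.mul_sum, hsumn] at hmain
  have t1 : ((trivialIrr (G := G)) : G → ℂ) = fun _ => 1 := rfl
  have v1 := hv1.1; have v2 := hv1.2.1; have v3 := hv1.2.2.1
  have w1 := hvh.1; have w2 := hvh.2.1; have w3 := hvh.2.2.1
  rw [pow_one] at v1 v2 v3
  rw [hh1] at w2 w3
  norm_num at v2 v3 w2 w3
  simp only [t1, v1, v2, v3, w1, w2, w3, hx, map_one, map_neg, map_intCast, one_mul, mul_one,
    neg_mul, mul_neg, neg_neg, hsq δ hδ, hsq δ₂ hδ₂, hsq δ₃ hδ₃, div_one, zero_add] at hmain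
  -- final algebra
  have hGidx : (Nat.card G : ℂ) = (idx : ℂ) * (4 * h * Nat.card O) := by
    rw [← C.index_mul_card, hcard]; push_cast; ring
  have hKa : ((Kc τ).card : ℂ) ≠ 0 := Nat.cast_ne_zero.2 fun e0 => by
    rw [e0, zero_mul] at hIa; exact Nat.card_pos.ne hIa
  have hKb : ((Kc (σ * τ)).card : ℂ) ≠ 0 := Nat.cast_ne_zero.2 fun e0 => by
    rw [e0, zero_mul] at hIb; exact Nat.card_pos.ne hIb
  have hidx0 : (idx : ℂ) ≠ 0 := Nat.cast_ne_zero.2 Subgroup.index_ne_zero_of_finite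
  have hh0 : (h : ℂ) ≠ 0 := Nat.cast_ne_zero.2 (by omega)
  have hd2 := hsq δ hδ
  have key : 4 * (h : ℂ) * h * Nat.card O * Nat.card O *
      (1 / ((Kc τ).card : ℂ) + 1 / ((Kc (σ * τ)).card : ℂ)) ^ 2 * (x * (x + δ)) =
      2 * idx * (x - δ) ^ 2 := by
    have hA2 : (A + B) ^ 2 = (Nat.card O : ℂ) ^ 2 *
        (1 / ((Kc τ).card : ℂ) + 1 / ((Kc (σ * τ)).card : ℂ)) ^ 2 := by
      rw [hA, hB']; ring
    rw [hA2, hGidx] at hmain
    apply mul_left_cancel₀ (mul_ne_zero hidx0 hO0)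
    field_simp at hmain ⊢
    grind
  have hfin : (Nat.card G : ℂ) * (x - δ) ^ 2 = 2 * x * (x + δ) * (Nat.card C : ℂ) ^ 3 *
      (1 / (Nat.card (Subgroup.centralizer ({σ ^ h, τ} : Set G)) : ℂ) +
        1 / (Nat.card (Subgroup.centralizer ({σ ^ h, σ * τ} : Set G)) : ℂ)) ^ 2 := by
    rw [hCa, hCb, hGidx, hcard]
    push_cast
    rw [show 1 / (4 * ((Kc τ).card : ℂ)) + 1 / (4 * ((Kc (σ * τ)).card : ℂ)) =
      (1 / ((Kc τ).card : ℂ) + 1 / ((Kc (σ * τ)).card : ℂ)) / 4 by ring]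
    linear_combination -(2 * (h : ℂ) * (Nat.card O : ℂ)) * key
  refine ⟨fun e => ?_, hfin⟩
  have hxd : x = δ := by rw [hxdef]; exact_mod_cast e
  rw [hxd, sub_self, zero_pow two_ne_zero, mul_zero] at hfin
  have hne : ∀ n : ℕ, 0 < n → (n : ℂ) ≠ 0 := fun n hn => Nat.cast_ne_zero.2 hn.ne'
  rcases mul_eq_zero.1 hfin.symm with e' | e'
  · rcases mul_eq_zero.1 e' with e'' | e''
    · rcases mul_eq_zero.1 e'' with e3 | e3
      · exact hx0 (hxd.trans ((mul_eq_zero.1 e3).resolve_left two_ne_zero))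
      · exact hxδ (hxd ▸ e3)
    · exact hne _ Nat.card_pos (eq_zero_of_pow_eq_zero e'')
  · have hsum := eq_zero_of_pow_eq_zero e'
    rw [div_add_div _ _ (hne _ Nat.card_pos) (hne _ Nat.card_pos), div_eq_zero_iff, one_mul, mul_one,
      ← Nat.cast_add, ← Nat.cast_mul] at hsum
    rcases hsum with e'' | e''
    · exact hne _ (Nat.add_pos_left Nat.card_pos _) e''
    · exact hne _ (Nat.mul_pos Nat.card_pos Nat.card_pos) e''
where
  inv_mul_cancel_right_of {x r : G} (_hrr : r * r = 1) : x⁻¹ * r * r = x⁻¹ := by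
    rw [mul_assoc, _hrr, mul_one]

end Cfsg.Agent.Cores
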