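import Cfsg.Agent.Cores.PSolvable
import Cfsg.Agent.Cores.Constrained
import Cfsg.Agent.H31.JSub
import Cfsg.Agent.S0618
import Cfsg.Agent.Linear.Order
import Cfsg.Agent.S0144
import Cfsg.Agent.PGroups.Burnside
import Cfsg.Agent.Thompson.ZJ
import Cfsg.Agent.Hall.Basic

/-!
For a `p`-solvable `{p,q}`-group `Y` with `O_{p'}(Y) = 1` and `q ∣ |Y|`, where `{p,q} ≠ {2,3}`,
some characteristic subgroup of a Sylow `p`-subgroup has an automorphism of `q`-power order
induced by `Y` (iterated Thompson factorization), and the consequences for automizers.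
-/

set_option autoImplicit false

namespace Cfsg.Agent.Cores.AutomizerPrime

open Subgroup

universe u

/-- `K` is characteristic in `Q` (both subgroups of `G`). -/
def CharIn {G : Type*} [Group G] (K Q : Subgroup G) : Prop :=
  K ≤ Q ∧ ∀ (e : ↥Q ≃* ↥Q) (k : ↥Q), (k : G) ∈ K → ((e k : ↥Q) : G) ∈ K

/-- There is a `q`-element normalizing but not centralizing `K`. -/
def Moves {G : Type*} [Group G] (q : ℕ) (K : Subgroup G) : Prop :=
  ∃ x : G, (∃ n : ℕ, x ^ q ^ n = 1) ∧ x ∈ normalizer (K : Set G) ∧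
    x ∉ centralizer (K : Set G)

variable {G : Type u} [Group G] {H : Type u} [Group H] {p q : ℕ}

theorem charIn_normalizer_le {K Q : Subgroup G} (h : CharIn K Q) :
    normalizer (Q : Set G) ≤ normalizer (K : Set G) := by
  intro g hg
  rw [mem_normalizer_iff]
  intro x
  have key : ∀ g : G, g ∈ normalizer (Q : Set G) → ∀ x ∈ K, g * x * g⁻¹ ∈ K := by
    intro g hg x hx
    exact h.2 ((normalizerMonoidHom Q) ⟨g, hg⟩) ⟨x, h.1 hx⟩ hx
  refine ⟨key g hg x, fun hx => ?_⟩
  have := key g⁻¹ (inv_mem hg) _ hx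
  simpa [mul_assoc] using this

theorem charIn_refl (Q : Subgroup G) : CharIn Q Q := ⟨le_rfl, fun e k _ => (e k).2⟩

theorem charIn_omega (p : ℕ) (Q : Subgroup G) :
    CharIn (Cfsg.omegaOne p (Q ⊓ centralizer (Q : Set G))) Q := by
  have hle : Cfsg.omegaOne p (Q ⊓ centralizer (Q : Set G)) ≤ Q :=
    (closure_le _).2 fun x hx => hx.1.1
  refine ⟨hle, fun e k hk => ?_⟩
  have h : Cfsg.omegaOne p (Q ⊓ centralizer (Q : Set G)) ≤
      ((Cfsg.omegaOne p (Q ⊓ centralizer (Q : Set G))).subgroupOf Q |>.comap e.toMonoidHom).map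
        Q.subtype := by
    refine (closure_le _).2 ?_
    rintro x ⟨⟨hxQ, hxc⟩, hxp⟩
    refine ⟨⟨x, hxQ⟩, ?_, rfl⟩
    refine subset_closure ⟨⟨(e ⟨x, hxQ⟩).2, mem_centralizer_iff.2 fun y hy => ?_⟩, ?_⟩
    · obtain ⟨z, hz⟩ := e.surjective ⟨y, hy⟩
      have hcomm : z * ⟨x, hxQ⟩ = (⟨x, hxQ⟩ : ↥Q) * z :=
        Subtype.ext (mem_centralizer_iff.1 hxc _ z.2)
      have := congrArg (fun t => ((e t : ↥Q) : G)) hcomm
      simpa [map_mul, hz] using this
    · show ((e ⟨x, hxQ⟩ : ↥Q) : G) ^ p = 1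
      have : (⟨x, hxQ⟩ : ↥Q) ^ p = 1 := Subtype.ext hxp
      rw [← SubgroupClass.coe_pow, ← map_pow, this, map_one]
      rfl
  obtain ⟨k', hk', hkk⟩ := h hk
  have : k' = k := Subtype.ext hkk
  subst this
  exact hk'

theorem charIn_thompson (p : ℕ) (Q : Subgroup G) : CharIn (Cfsg.thompsonSubgroupOf p Q) Q := by
  refine ⟨map_subtype_le _, fun e k hk => ?_⟩
  have hmem : k ∈ Cfsg.thompsonSubgroup p ↥Q :=
    (mem_map_iff_mem Q.subtype_injective).1 hk
  have h : (Cfsg.thompsonSubgroup p ↥Q).map e.toMonoidHom = Cfsg.thompsonSubgroup p ↥Q := by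
    rw [← H31.thompsonSubgroupOf_top, H31.thompsonSubgroupOf_map e.injective,
      map_top_of_surjective _ e.surjective]
  have : e k ∈ Cfsg.thompsonSubgroup p ↥Q := h ▸ mem_map_of_mem _ hmem
  exact mem_map_of_mem Q.subtype this

/-- Characteristic subgroups pull back through quotient by a characteristic subgroup. -/
theorem charIn_comap {Z Q : Subgroup G} [Z.Normal] (hZ : CharIn Z Q) {K : Subgroup (G ⧸ Z)}
    (hK : CharIn K (Q.map (QuotientGroup.mk' Z))) :
    CharIn (Q ⊓ K.comap (QuotientGroup.mk' Z)) Q := by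
  refine ⟨inf_le_left, fun e k hk => ⟨(e k).2, ?_⟩⟩
  set π := QuotientGroup.mk' Z with hπ
  set f : ↥Q →* ↥(Q.map π) := π.subgroupMap Q with hfdef
  have hf : Function.Surjective f := π.subgroupMap_surjective Q
  have hker : ∀ x : ↥Q, x ∈ f.ker ↔ (x : G) ∈ Z := fun x => by
    rw [MonoidHom.mem_ker, Subtype.ext_iff]
    show π (x : G) = 1 ↔ _
    rw [← MonoidHom.mem_ker, hπ, QuotientGroup.ker_mk']
  have hkere : ∀ e : ↥Q ≃* ↥Q, f.ker ≤ (f.comp e.toMonoidHom).ker := fun e x hx => by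
    rw [MonoidHom.mem_ker, MonoidHom.comp_apply, ← MonoidHom.mem_ker, hker]
    exact hZ.2 e x ((hker x).1 hx)
  set g : ↥(Q.map π) →* ↥(Q.map π) := f.liftOfSurjective hf ⟨f.comp e.toMonoidHom, hkere e⟩
    with hgdef
  set g' : ↥(Q.map π) →* ↥(Q.map π) :=
    f.liftOfSurjective hf ⟨f.comp e.symm.toMonoidHom, hkere e.symm⟩ with hgdef'
  have hg : ∀ x, g (f x) = f (e x) := fun x => MonoidHom.liftOfRightInverse_comp_apply _ _ _ _ x
  have hg' : ∀ x, g' (f x) = f (e.symm x) := fun x =>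
    MonoidHom.liftOfRightInverse_comp_apply _ _ _ _ x
  let ψ : ↥(Q.map π) ≃* ↥(Q.map π) :=
    { toFun := g
      invFun := g'
      left_inv := fun y => by
        obtain ⟨x, rfl⟩ := hf y
        rw [hg, hg', e.symm_apply_apply]
      right_inv := fun y => by
        obtain ⟨x, rfl⟩ := hf y
        rw [hg', hg, e.apply_symm_apply]
      map_mul' := map_mul g }
  have h2 := hK.2 ψ (f k) hk.2
  have h3 : ψ (f k) = f (e k) := hg k
  rw [h3] at h2
  exact h2

/-- Transport of characteristic subgroups along an injective map. -/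
theorem charIn_map {f : G →* H} (hf : Function.Injective f) {K Q : Subgroup G} (h : CharIn K Q) :
    CharIn (K.map f) (Q.map f) := by
  refine ⟨map_mono h.1, fun e k hk => ?_⟩
  let i : ↥Q ≃* ↥(Q.map f) := Q.equivMapOfInjective f hf
  obtain ⟨k₀, hk₀, hkk⟩ := hk
  have hik : i ⟨k₀, h.1 hk₀⟩ = k := Subtype.ext (by simpa [i] using hkk)
  have h2 := h.2 (i.trans (e.trans i.symm)) ⟨k₀, h.1 hk₀⟩ hk₀
  refine ⟨_, h2, ?_⟩
  have h3 : f ((i.symm (e k) : ↥Q) : G) = ((e k : ↥(Q.map f)) : H) := by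
    conv_rhs => rw [← i.apply_symm_apply (e k)]
    rfl
  simpa [hik] using h3

theorem exists_qElement_of_not_le [Finite G] [Fact q.Prime] {L C : Subgroup G}
    (h : q ∣ (C.subgroupOf L).index) (hC : (C.subgroupOf L).Normal) :
    ∃ x ∈ L, (∃ n : ℕ, x ^ q ^ n = 1) ∧ x ∉ C := by
  obtain ⟨T⟩ := (inferInstance : Nonempty (Sylow q ↥L))
  by_contra hcon
  push Not at hcon
  have hle : (T : Subgroup ↥L) ≤ C.subgroupOf L := fun x hx => by
    obtain ⟨n, hn⟩ := T.isPGroup' ⟨x, hx⟩
    refine hcon (x : G) x.2 ⟨n, ?_⟩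
    have := congrArg (fun t : ↥(T : Subgroup ↥L) => ((t : ↥L) : G)) hn
    simpa using this
  exact T.not_dvd_index (h.trans (index_dvd_of_le hle))

theorem dvd_index_of_moves [Finite G] [Fact q.Prime] {K : Subgroup G} (h : Moves q K) :
    q ∣ ((centralizer (K : Set G)).subgroupOf (normalizer (K : Set G))).index := by
  obtain ⟨x, ⟨n, hn⟩, hxN, hxC⟩ := h
  set C := (centralizer (K : Set G)).subgroupOf (normalizer (K : Set G))
  have hxC' : (⟨x, hxN⟩ : ↥(normalizer (K : Set G))) ∉ C := hxC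
  have hCn : C.Normal := inferInstance
  have hb : (QuotientGroup.mk' C ⟨x, hxN⟩) ^ q ^ n = 1 := by
    rw [← map_pow, show (⟨x, hxN⟩ : ↥(normalizer (K : Set G))) ^ q ^ n = 1 from Subtype.ext hn,
      map_one]
  obtain ⟨j, -, hj⟩ := (Nat.dvd_prime_pow Fact.out).1 (orderOf_dvd_of_pow_eq_one hb)
  have hj0 : j ≠ 0 := by
    rintro rfl
    rw [pow_zero, orderOf_eq_one_iff] at hj
    exact hxC' ((QuotientGroup.eq_one_iff _).1 hj)
  rw [index_eq_card]
  exact (dvd_pow_self q hj0).trans (hj ▸ orderOf_dvd_natCard _)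

/-- A `q`-element of the image lifts to a `q`-element. -/
theorem exists_qElement_lift [Finite G] [hq : Fact q.Prime] (f : G →* H) (y : G)
    (hy : ∃ n : ℕ, (f y) ^ q ^ n = 1) :
    ∃ m : ℕ, f (y ^ m) = f y ∧ ∃ n : ℕ, (y ^ m) ^ q ^ n = 1 := by
  obtain ⟨n, hn⟩ := hy
  obtain ⟨a, r, hr, hor⟩ := Nat.exists_eq_pow_mul_and_not_dvd (orderOf_pos y).ne' q hq.out.ne_one
  have hco : (q ^ n).Coprime r := ((hq.out.coprime_iff_not_dvd).2 hr).pow_left n
  obtain ⟨m, hm1, hm0⟩ := Nat.chineseRemainder hco 1 0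
  refine ⟨m, ?_, a, ?_⟩
  · rw [map_pow]
    conv_rhs => rw [← pow_one (f y)]
    exact pow_eq_pow_iff_modEq.2 (hm1.of_dvd (orderOf_dvd_of_pow_eq_one hn))
  · rw [← pow_mul, ← orderOf_dvd_iff_pow_eq_one, hor, mul_comm]
    exact mul_dvd_mul_right (Nat.modEq_zero_iff_dvd.1 hm0) _

theorem prime_eq_of_dvd [Fact p.Prime] [Fact q.Prime] {n a b r : ℕ} (hn : n = p ^ a * q ^ b)
    (hr : r.Prime) (h : r ∣ n) : r = p ∨ r = q := by
  rcases hr.dvd_mul.1 (hn ▸ h) with h1 | h1
  · exact .inl ((Nat.prime_dvd_prime_iff_eq hr Fact.out).1 (hr.dvd_of_dvd_pow h1))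
  · exact .inr ((Nat.prime_dvd_prime_iff_eq hr Fact.out).1 (hr.dvd_of_dvd_pow h1))

theorem isPSolvable_of_two [Finite G] [Fact p.Prime] [Fact q.Prime]
    (h : ∃ a b : ℕ, Nat.card G = p ^ a * q ^ b) : Cfsg.IsPSolvable p G := by
  obtain ⟨a, b, h⟩ := h
  have : Group.IsSolvable G :=
    S0144.burnside p q Fact.out Fact.out (Nat.card G) G le_rfl a b h
  exact isPSolvable_of_isSolvable

/-- Thompson factorization holds for `{p,q} ≠ {2,3}`. -/
theorem isThompsonFactorizable [Finite G] [Fact p.Prime] [Fact q.Prime] (hpq : p ≠ q)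
    (h23 : ¬ ((p = 2 ∧ q = 3) ∨ (p = 3 ∧ q = 2)))
    (hc : ∃ a b : ℕ, Nat.card G = p ^ a * q ^ b) (hO : Cfsg.pPrimeCore p G = ⊥) :
    Cfsg.IsThompsonFactorizable p G := by
  by_contra hnf
  obtain ⟨hp, E, -, -, -, hn, ⟨e⟩⟩ := S0618.result (isPSolvable_of_two hc) hO hnf
  have hdvd : Nat.card (Matrix.SpecialLinearGroup (Fin 2) (ZMod p)) ∣ Nat.card G := by
    rw [← Nat.card_congr e.toEquiv, ← index_eq_card]
    exact (index_dvd_card _).trans (card_subgroup_dvd_card E)
  rw [Linear.card_SL_two, ZMod.card] at hdvd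
  obtain ⟨a, b, hab⟩ := hc
  have h2 := prime_eq_of_dvd (r := 2) hab Nat.prime_two
  have h3 := prime_eq_of_dvd (r := 3) hab Nat.prime_three
  rcases hp with rfl | rfl
  · have := h3 ((show 3 ∣ 2 * (2 ^ 2 - 1) by norm_num).trans hdvd)
    omega
  · have := h2 ((show 2 ∣ 3 * (3 ^ 2 - 1) by norm_num).trans hdvd)
    omega

theorem card_two_of_dvd [Fact p.Prime] [Fact q.Prime] {n d a b : ℕ} (hn : n = p ^ a * q ^ b)
    (h : d ∣ n) : ∃ a' b' : ℕ, d = p ^ a' * q ^ b' := by
  obtain ⟨d1, d2, h1, h2, rfl⟩ := exists_dvd_and_dvd_of_dvd_mul (hn ▸ h)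
  obtain ⟨a', -, rfl⟩ := (Nat.dvd_prime_pow Fact.out).mp h1
  obtain ⟨b', -, rfl⟩ := (Nat.dvd_prime_pow Fact.out).mp h2
  exact ⟨a', b', rfl⟩

theorem moves_map {f : G →* H} (hf : Function.Injective f) {K : Subgroup G} (h : Moves q K) :
    Moves q (K.map f) := by
  obtain ⟨x, ⟨n, hn⟩, hxN, hxC⟩ := h
  refine ⟨f x, ⟨n, by rw [← map_pow, hn, map_one]⟩,
    le_normalizer_map f (mem_map_of_mem f hxN), fun hc => hxC (mem_centralizer_iff.2 fun k hk => ?_)⟩
  apply hf
  simpa using mem_centralizer_iff.1 hc (f k) (mem_map_of_mem f hk)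

theorem omega_center_ne_bot [Finite G] [Fact p.Prime] {Q : Subgroup G} (hQ : IsPGroup p Q)
    (hne : Q ≠ ⊥) : Cfsg.omegaOne p (Q ⊓ centralizer (Q : Set G)) ≠ ⊥ := by
  have : Nontrivial ↥Q := (nontrivial_iff_ne_bot Q).2 hne
  have := hQ.center_nontrivial
  obtain ⟨k, hk0, hk⟩ := (hQ.to_subgroup (center ↥Q)).nontrivial_iff_card.1 this
  obtain ⟨z, hz⟩ := exists_prime_orderOf_dvd_card' (G := ↥(center ↥Q)) p
    (hk ▸ dvd_pow_self p hk0.ne')
  intro hbot
  have hzp : z ^ p = 1 := hz ▸ pow_orderOf_eq_one z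
  have hmem : ((z : ↥Q) : G) ∈ Cfsg.omegaOne p (Q ⊓ centralizer (Q : Set G)) := by
    refine subset_closure ⟨⟨(z : ↥Q).2, mem_centralizer_iff.2 fun y hy => ?_⟩, ?_⟩
    · exact congrArg (fun t : ↥Q => (t : G)) (mem_center_iff.1 z.2 ⟨y, hy⟩)
    · simpa using congrArg (fun t : ↥(center ↥Q) => ((t : ↥Q) : G)) hzp
  rw [hbot, mem_bot] at hmem
  have : z = 1 := Subtype.ext (Subtype.ext hmem)
  rw [this, orderOf_one] at hz
  exact (Fact.out : p.Prime).one_lt.ne hz

theorem thompson_ne_bot [Finite G] [Fact p.Prime] {Q : Subgroup G} (hQ : IsPGroup p Q)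
    (hne : Q ≠ ⊥) : Cfsg.thompsonSubgroupOf p Q ≠ ⊥ := by
  intro hbot
  obtain ⟨A, hA⟩ := H31.exists_maxIn p Q
  have hA0 : A = ⊥ := le_bot_iff.1 ((H31.le_thompsonSubgroupOf hA).trans hbot.le)
  have : Nontrivial ↥Q := (nontrivial_iff_ne_bot Q).2 hne
  obtain ⟨k, hk0, hk⟩ := hQ.nontrivial_iff_card.1 this
  obtain ⟨x, hx⟩ := exists_prime_orderOf_dvd_card' (G := ↥Q) p (hk ▸ dvd_pow_self p hk0.ne')
  have hxp : (x : G) ^ p = 1 := by
    rw [← SubgroupClass.coe_pow, ← hx, pow_orderOf_eq_one]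
    rfl
  have helem : Cfsg.IsElementaryAbelian p (closure {(x : G)}) :=
    H31.elem_closure (by simp) (by simpa using hxp)
  have h1 := hA.2.2 _ ((closure_le _).2 (by simp)) helem
  rw [hA0, card_bot] at h1
  have h2 : closure {(x : G)} = ⊥ := eq_bot_of_card_le _ h1
  have h3 : (x : G) = 1 := mem_bot.1 (h2 ▸ subset_closure rfl)
  rw [Subtype.ext (show (x : G) = ((1 : ↥Q) : G) from h3), orderOf_one] at hx
  exact (Fact.out : p.Prime).one_lt.ne hx

theorem le_centralizer_omega (p : ℕ) (Q : Subgroup G) :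
    Q ≤ centralizer (Cfsg.omegaOne p (Q ⊓ centralizer (Q : Set G)) : Set G) := by
  refine le_centralizer_iff.1 ((closure_le _).2 fun x hx => hx.1.2)

/-- **The iterated Thompson factorization.** -/
theorem exists_charIn_moves : ∀ (n : ℕ) (Y : Type u) [Group Y] [Finite Y] (p q : ℕ)
    [Fact p.Prime] [Fact q.Prime], p ≠ q → ¬ ((p = 2 ∧ q = 3) ∨ (p = 3 ∧ q = 2)) →
    Nat.card Y = n → (∃ a b : ℕ, Nat.card Y = p ^ a * q ^ b) → Cfsg.pPrimeCore p Y = ⊥ →
    q ∣ Nat.card Y → ∀ Q : Sylow p Y,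
    ∃ K : Subgroup Y, CharIn K (Q : Subgroup Y) ∧ Moves q K := by
  intro n
  induction n using Nat.strong_induction_on with | _ n ih => ?_
  intro Y _ _ p q _ _ hpq h23 hn hc hO hq Q
  have hp : p.Prime := Fact.out
  have hqp : q.Prime := Fact.out
  have hntY : Nontrivial Y := Finite.one_lt_card_iff_nontrivial.1
    (hqp.one_lt.trans_le (Nat.le_of_dvd Nat.card_pos hq))
  have hsol : Cfsg.IsPSolvable p Y := isPSolvable_of_two hc
  have hOp : Cfsg.pCore p Y ≤ (Q : Subgroup Y) := pCore_le_sylow Q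
  have hQne : (Q : Subgroup Y) ≠ ⊥ := fun h =>
    pCore_ne_bot_of_pPrimeCore_eq_bot hsol hO (le_bot_iff.1 (h ▸ hOp))
  obtain ⟨a, b, hab⟩ := hc
  -- a characteristic subgroup which is normal in `Y`
  have stepA : ∀ Z : Subgroup Y, CharIn Z (Q : Subgroup Y) → Z ≠ ⊥ → Z.Normal →
      ∃ K : Subgroup Y, CharIn K (Q : Subgroup Y) ∧ Moves q K := by
    intro Z hZ hZne hZn
    by_cases hmv : Moves q Z
    · exact ⟨Z, hZ, hmv⟩
    have hcent : ∀ x : Y, (∃ n : ℕ, x ^ q ^ n = 1) → x ∈ centralizer (Z : Set Y) := fun x hx => by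
      by_contra hxc
      exact hmv ⟨x, hx, (normalizer_eq_top (H := Z)) ▸ mem_top x, hxc⟩
    have hZp : IsPGroup p ↥Z := Q.isPGroup'.to_le hZ.1
    set π := QuotientGroup.mk' Z with hπ
    have hker : π.ker = Z := QuotientGroup.ker_mk' Z
    have hO' : Cfsg.pPrimeCore p (Y ⧸ Z) = ⊥ := by
      set L := (Cfsg.pPrimeCore p (Y ⧸ Z)).comap π with hL
      have hLn : L.Normal := Subgroup.Normal.comap inferInstance _
      have hZL : Z ≤ L := hker ▸ π.ker_le_comap _
      obtain ⟨T⟩ := (inferInstance : Nonempty (Sylow q ↥L))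
      have hTn : (T : Subgroup ↥L).Normal := by
        rw [← normalizer_eq_top_iff, eq_top_iff]
        intro l _
        have hTC : ∀ t ∈ (T : Subgroup ↥L), (t : Y) ∈ centralizer (Z : Set Y) := fun t ht => by
          obtain ⟨m, hm⟩ := T.isPGroup' ⟨t, ht⟩
          refine hcent _ ⟨m, ?_⟩
          simpa using congrArg (fun s : ↥(T : Subgroup ↥L) => ((s : ↥L) : Y)) hm
        have hgen : (⊤ : Subgroup ↥L) ≤ (T : Subgroup ↥L) ⊔ Z.subgroupOf L := by
          refine (eq_top_iff.1 ?_)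
          rw [← index_eq_one, Nat.eq_one_iff_not_exists_prime_dvd]
          intro r hr hdvd
          have hdG : (((T : Subgroup ↥L) ⊔ Z.subgroupOf L)).index ∣ Nat.card Y :=
            (index_dvd_card _).trans (card_subgroup_dvd_card L)
          rcases prime_eq_of_dvd hab hr (hdvd.trans hdG) with rfl | rfl
          · have h1 := hdvd.trans (index_dvd_of_le (le_sup_right : Z.subgroupOf L ≤ _))
            have h2 : (Z.subgroupOf L).index = Nat.card (Cfsg.pPrimeCore r (Y ⧸ Z)) := by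
              have h3 := relIndex_ker (f := π) (K := L)
              rw [hker] at h3
              rw [hL, map_comap_eq_self_of_surjective (QuotientGroup.mk'_surjective Z)] at h3
              exact h3
            exact not_dvd_card_pPrimeCore (h2 ▸ h1)
          · exact T.not_dvd_index (hdvd.trans (index_dvd_of_le le_sup_left))
        refine (hgen.trans (sup_le le_normalizer ?_)) (mem_top l)
        intro z hz
        rw [mem_normalizer_iff]
        intro t
        have key : ∀ t ∈ (T : Subgroup ↥L), z * t * z⁻¹ = t := fun t ht => by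
          rw [mul_inv_eq_iff_eq_mul]
          exact Subtype.ext (mem_centralizer_iff.1 (hTC t ht) _ hz)
        refine ⟨fun ht => (key t ht).symm ▸ ht, fun ht => ?_⟩
        have h := key _ ht
        have h2 : z * t * z⁻¹ = t := by
          have h3 := congrArg (fun s => z⁻¹ * s * z) h
          simpa [mul_assoc] using h3
        exact h2 ▸ ht
      have hTc : (T : Subgroup ↥L).Characteristic := T.characteristic_of_normal hTn
      have hTY : ((T : Subgroup ↥L).map L.subtype).Normal := inferInstance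
      have hT1 : (T : Subgroup ↥L) = ⊥ := by
        have h1 : (T : Subgroup ↥L).map L.subtype ≤ Cfsg.pPrimeCore p Y := by
          refine le_pPrimeCore ?_
          rw [card_map_of_injective L.subtype_injective]
          obtain ⟨m, hm⟩ := T.isPGroup'.exists_card_eq
          rw [hm]
          exact ((Nat.coprime_primes hqp hp).2 hpq.symm).pow_left m
        exact map_injective L.subtype_injective (by simpa [hO] using h1)
      have hLq : ¬ q ∣ Nat.card ↥L := fun h => T.not_dvd_index (by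
        rw [hT1, index_bot]; exact h)
      rw [eq_bot_iff_card, Nat.eq_one_iff_not_exists_prime_dvd]
      intro r hr hdvd
      have hdvd' : r ∣ Nat.card ↥L := by
        refine hdvd.trans ?_
        rw [← map_comap_eq_self_of_surjective (QuotientGroup.mk'_surjective Z)
          (Cfsg.pPrimeCore p (Y ⧸ Z))]
        exact card_map_dvd _ _
      rcases prime_eq_of_dvd hab hr (hdvd'.trans (card_subgroup_dvd_card L)) with rfl | rfl
      · exact not_dvd_card_pPrimeCore hdvd
      · exact hLq hdvd'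
    have hcard := card_eq_card_quotient_mul_card_subgroup Z
    have hq' : q ∣ Nat.card (Y ⧸ Z) := by
      refine (hqp.dvd_mul.1 (hcard ▸ hq)).resolve_right fun h => hpq ?_
      obtain ⟨m, hm⟩ := hZp.exists_card_eq
      exact ((Nat.prime_dvd_prime_iff_eq hqp hp).1 (hqp.dvd_of_dvd_pow (hm ▸ h))).symm
    have hlt : Nat.card (Y ⧸ Z) < n := by
      rw [← hn, hcard]
      exact lt_mul_of_one_lt_right Nat.card_pos ((one_lt_card_iff_ne_bot Z).2 hZne)
    obtain ⟨K, hK, x, ⟨m, hm⟩, hxN, hxC⟩ := ih _ hlt (Y ⧸ Z) p q hpq h23 rfl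
      (card_two_of_dvd hab ⟨_, hcard⟩) hO' hq' (Q.mapSurjective (QuotientGroup.mk'_surjective Z))
    have hKQ : K ≤ (Q : Subgroup Y).map π := hK.1
    refine ⟨(Q : Subgroup Y) ⊓ K.comap π, charIn_comap hZ hK, ?_⟩
    obtain ⟨y, rfl⟩ := QuotientGroup.mk'_surjective Z x
    obtain ⟨i, hi, hi'⟩ := exists_qElement_lift π y ⟨m, hm⟩
    have hle : K.comap π ≤ (Q : Subgroup Y) := by
      refine (comap_mono hKQ).trans ?_
      rw [comap_map_eq, hker]
      exact sup_le le_rfl hZ.1
    rw [inf_eq_right.2 hle]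
    refine ⟨y ^ i, hi', ?_, fun hc => hxC (mem_centralizer_iff.2 fun k hk => ?_)⟩
    · rw [mem_normalizer_iff]
      intro t
      simp only [mem_comap, map_mul, map_inv, hi]
      exact mem_normalizer_iff.1 hxN _
    · obtain ⟨t, rfl⟩ := QuotientGroup.mk'_surjective Z k
      rw [← hi, ← map_mul, ← map_mul, mem_centralizer_iff.1 hc t hk]
  set U := Cfsg.omegaOne p ((Q : Subgroup Y) ⊓ centralizer ((Q : Subgroup Y) : Set Y)) with hU
  set J := Cfsg.thompsonSubgroupOf p (Q : Subgroup Y) with hJ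
  by_cases hA : centralizer (U : Set Y) = ⊤
  · refine stepA U (charIn_omega p _) (omega_center_ne_bot Q.isPGroup' hQne) ?_
    rw [← normalizer_eq_top_iff, eq_top_iff, ← hA]
    exact centralizer_le_normalizer _
  by_cases hB : normalizer (J : Set Y) = ⊤
  · exact stepA J (charIn_thompson p _) (thompson_ne_bot Q.isPGroup' hQne)
      (normalizer_eq_top_iff.1 hB)
  -- an overgroup `L` of `Q` of order divisible by `q`
  have stepB : ∀ L : Subgroup Y, (Q : Subgroup Y) ≤ L → L ≠ ⊤ → q ∣ Nat.card ↥L →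
      ∃ K : Subgroup Y, CharIn K (Q : Subgroup Y) ∧ Moves q K := by
    intro L hQL hLt hqL
    have hOL : Cfsg.pPrimeCore p ↥L = ⊥ := by
      set W := (Cfsg.pPrimeCore p ↥L).map L.subtype with hW
      have hWcop : (Nat.card ↥W).Coprime p := by
        rw [hW, card_map_of_injective L.subtype_injective]
        exact coprime_card_pPrimeCore
      have hdisj : Cfsg.pCore p Y ⊓ W = ⊥ :=
        disjoint_of_isPGroup_of_coprime pCore_isPGroup hWcop
      have hWn : ∀ g ∈ L, g ∈ normalizer (W : Set Y) := fun g hg => by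
        have : ((Cfsg.pPrimeCore p ↥L)).Normal := inferInstance
        rw [mem_normalizer_iff]
        intro x
        constructor
        · rintro ⟨t, ht, rfl⟩
          exact ⟨⟨g, hg⟩ * t * ⟨g, hg⟩⁻¹, this.conj_mem t ht _, rfl⟩
        · rintro ⟨t, ht, htx⟩
          refine ⟨⟨g, hg⟩⁻¹ * t * ⟨g, hg⟩, by simpa using this.conj_mem t ht ⟨g, hg⟩⁻¹, ?_⟩
          simp only [map_mul, map_inv, coe_subtype] at htx ⊢
          rw [htx]; group
      have hcomm : W ≤ centralizer (Cfsg.pCore p Y : Set Y) := by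
        rw [← commutator_eq_bot_iff_le_centralizer, eq_bot_iff, ← hdisj]
        refine commutator_le.2 fun w hw z hz => ⟨?_, ?_⟩
        · rw [commutatorElement_def]
          exact mul_mem ((inferInstance : (Cfsg.pCore p Y).Normal).conj_mem z hz w)
            ((Cfsg.pCore p Y).inv_mem hz)
        · rw [commutatorElement_def, show w * z * w⁻¹ * z⁻¹ = w * (z * w⁻¹ * z⁻¹) by group]
          exact mul_mem hw ((mem_normalizer_iff.1 (hWn z (hQL (hOp hz))) _).1 (inv_mem hw))
      have hW0 : W ≤ ⊥ :=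
        hdisj ▸ le_inf (hcomm.trans (centralizer_pCore_le hsol hO)) le_rfl
      exact (map_eq_bot_iff_of_injective _ L.subtype_injective).1 (le_bot_iff.1 hW0)
    have hlt : Nat.card ↥L < n := by
      rw [← hn]
      exact lt_of_le_of_ne (card_le_card_group L) fun h => hLt (eq_top_of_card_eq _ h)
    obtain ⟨K, hK, hmv⟩ := ih _ hlt ↥L p q hpq h23 rfl
      (card_two_of_dvd hab (card_subgroup_dvd_card L)) hOL hqL (Q.subtype hQL)
    refine ⟨K.map L.subtype, ?_, moves_map L.subtype_injective hmv⟩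
    have := charIn_map L.subtype_injective hK
    rwa [Sylow.coe_subtype, subgroupOf_map_subtype, inf_eq_left.2 hQL] at this
  have hQA : (Q : Subgroup Y) ≤ centralizer (U : Set Y) := le_centralizer_omega p _
  have hQB : (Q : Subgroup Y) ≤ normalizer (J : Set Y) :=
    le_normalizer.trans (charIn_normalizer_le (charIn_thompson p _))
  by_contra hcon
  have hA' : ¬ q ∣ Nat.card ↥(centralizer (U : Set Y)) := fun h => hcon (stepB _ hQA hA h)
  have hB' : ¬ q ∣ Nat.card ↥(normalizer (J : Set Y)) := fun h => hcon (stepB _ hQB hB h)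
  have key : ∀ L : Subgroup Y, (Q : Subgroup Y) ≤ L → ¬ q ∣ Nat.card ↥L → L = (Q : Subgroup Y) := by
    intro L hQL hL
    refine (eq_of_le_of_card_ge hQL ?_).symm
    obtain ⟨a', b', hab'⟩ := card_two_of_dvd hab (card_subgroup_dvd_card L)
    have hb' : b' = 0 := by
      by_contra h
      exact hL (hab' ▸ Dvd.dvd.mul_left (dvd_pow_self q h) _)
    have hLp : IsPGroup p ↥L := IsPGroup.of_card (n := a') (by simpa [hb'] using hab')
    exact (card_le_of_le (Q.is_maximal' hLp hQL).le)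
  have htop : (Q : Subgroup Y) = ⊤ := by
    refine eq_top_iff.2 fun g _ => ?_
    obtain ⟨x, hx, c, hc', m, hm, rfl⟩ := isThompsonFactorizable hpq h23 ⟨a, b, hab⟩ hO Q g
    rw [hO, mem_bot] at hx
    rw [hx, one_mul]
    exact mul_mem ((key _ hQA hA').le hc') ((key _ hQB hB').le hm)
  obtain ⟨m, hm⟩ := Q.isPGroup'.exists_card_eq
  rw [htop, card_top] at hm
  exact hpq ((Nat.prime_dvd_prime_iff_eq hqp hp).1 (hqp.dvd_of_dvd_pow (hm ▸ hq))).symm


/-- A `p`-solvable group has a Hall `{p,q}`-subgroup (no conjugacy claimed). -/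
theorem exists_twoPrime_hall : ∀ (n : ℕ) (M : Type u) [Group M] [Finite M] (p q : ℕ)
    [Fact p.Prime] [Fact q.Prime], Nat.card M = n → Cfsg.IsPSolvable p M →
    ∃ X : Subgroup M, (∃ a b : ℕ, Nat.card ↥X = p ^ a * q ^ b) ∧ ¬ p ∣ X.index ∧
      ¬ q ∣ X.index := by
  intro n
  induction n using Nat.strong_induction_on with | _ n ih => ?_
  intro M _ _ p q _ _ hn hs
  have hp : p.Prime := Fact.out
  have hqp : q.Prime := Fact.out
  rcases subsingleton_or_nontrivial M with h1 | h1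
  · refine ⟨⊤, ⟨0, 0, by simp⟩, ?_, ?_⟩
    · rw [index_top]; exact hp.not_dvd_one
    · rw [index_top]; exact hqp.not_dvd_one
  obtain ⟨N, hN, hNne, hNmin⟩ : ∃ N : Subgroup M, N.Normal ∧ N ≠ ⊥ ∧
      ∀ K : Subgroup M, K.Normal → K ≤ N → K = ⊥ ∨ K = N := by
    obtain ⟨N, hN, hmin⟩ := Set.exists_min_image {N : Subgroup M | N.Normal ∧ N ≠ ⊥}
      (fun N => Nat.card ↥N) (Set.toFinite _) ⟨⊤, inferInstance, top_ne_bot⟩
    refine ⟨N, hN.1, hN.2, fun K hK hKN => or_iff_not_imp_left.2 fun hK0 => ?_⟩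
    exact eq_of_le_of_card_ge hKN (hmin K ⟨hK, hK0⟩)
  set π := QuotientGroup.mk' N with hπ
  have hker : π.ker = N := QuotientGroup.ker_mk' N
  -- if `N` is a `{p,q}`-group
  have case1 : (∃ a b : ℕ, Nat.card ↥N = p ^ a * q ^ b) →
      ∃ X : Subgroup M, (∃ a b : ℕ, Nat.card ↥X = p ^ a * q ^ b) ∧ ¬ p ∣ X.index ∧
        ¬ q ∣ X.index := by
    rintro ⟨a, b, hab⟩
    have hcard := card_eq_card_quotient_mul_card_subgroup N
    have hlt : Nat.card (M ⧸ N) < n := by
      rw [← hn, hcard]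
      exact lt_mul_of_one_lt_right Nat.card_pos ((one_lt_card_iff_ne_bot N).2 hNne)
    obtain ⟨X, ⟨a', b', hX⟩, hXp, hXq⟩ := ih _ hlt (M ⧸ N) p q rfl (isPSolvable_quotient hs N)
    refine ⟨X.comap π, ⟨a' + a, b' + b, ?_⟩, ?_, ?_⟩
    · have h := PGroups.card_comap_mk' N X
      rw [h, hX, hab]; ring
    · rw [index_comap_of_surjective _ (QuotientGroup.mk'_surjective N)]; exact hXp
    · rw [index_comap_of_surjective _ (QuotientGroup.mk'_surjective N)]; exact hXq
  rcases isPGroup_or_coprime_of_minimal_normal hs N hNne hNmin with h | h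
  · obtain ⟨a, ha⟩ := h.exists_card_eq
    exact case1 ⟨a, 0, by simpa using ha⟩
  obtain ⟨T⟩ := (inferInstance : Nonempty (Sylow q ↥N))
  by_cases hT0 : (T : Subgroup ↥N) = ⊥
  · -- `N` is a `{p,q}'`-group: Schur–Zassenhaus
    have hqN : ¬ q ∣ Nat.card ↥N := by
      rw [← index_bot (G := ↥N), ← hT0]; exact T.not_dvd_index
    have hcard := card_eq_card_quotient_mul_card_subgroup N
    have hlt : Nat.card (M ⧸ N) < n := by
      rw [← hn, hcard]
      exact lt_mul_of_one_lt_right Nat.card_pos ((one_lt_card_iff_ne_bot N).2 hNne)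
    obtain ⟨X, ⟨a', b', hX⟩, hXp, hXq⟩ := ih _ hlt (M ⧸ N) p q rfl (isPSolvable_quotient hs N)
    set L := X.comap π with hL
    have hNL : N ≤ L := hker ▸ π.ker_le_comap _
    have hidx : (N.subgroupOf L).index = Nat.card ↥X := by
      have h3 := relIndex_ker (f := π) (K := L)
      rw [hker, hL, map_comap_eq_self_of_surjective (QuotientGroup.mk'_surjective N)] at h3
      exact h3
    have hNc : Nat.card ↥(N.subgroupOf L) = Nat.card ↥N := Hall.card_subgroupOf_of_le hNL
    have hcop : (Nat.card ↥(N.subgroupOf L)).Coprime (N.subgroupOf L).index := by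
      rw [hidx, hNc, hX]
      exact Nat.Coprime.mul_right (h.pow_right a')
        ((Nat.Coprime.symm ((hqp.coprime_iff_not_dvd).2 hqN)).pow_right b')
    obtain ⟨K, hK⟩ := exists_right_complement'_of_coprime hcop
    have hKc : Nat.card ↥K = Nat.card ↥X := by
      rw [← hidx, hK.symm.index_eq_card]
    have hKi : (K.map L.subtype).index = Nat.card ↥N * X.index := by
      rw [index_map_subtype, hK.index_eq_card, hNc, hL,
        index_comap_of_surjective _ (QuotientGroup.mk'_surjective N)]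
    refine ⟨K.map L.subtype,
      ⟨a', b', by rw [card_map_of_injective L.subtype_injective, hKc, hX]⟩, ?_, ?_⟩
    · rw [hKi, hp.dvd_mul, not_or]
      exact ⟨fun hd => hp.coprime_iff_not_dvd.1 h.symm hd, hXp⟩
    · rw [hKi, hqp.dvd_mul, not_or]
      exact ⟨hqN, hXq⟩
  by_cases hTN : (T : Subgroup ↥N) = ⊤
  · obtain ⟨b, hb⟩ := T.isPGroup'.exists_card_eq
    rw [hTN, card_top] at hb
    exact case1 ⟨0, b, by simpa using hb⟩
  set L := normalizer (((T : Subgroup ↥N).map N.subtype : Subgroup M) : Set M) with hL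
  have htop : L ⊔ N = ⊤ := Sylow.normalizer_sup_eq_top T
  have hLt : L ≠ ⊤ := fun h => by
    have hn' : ((T : Subgroup ↥N).map N.subtype).Normal := normalizer_eq_top_iff.1 h
    rcases hNmin _ hn' (map_subtype_le _) with h2 | h2
    · exact hT0 ((map_eq_bot_iff_of_injective _ N.subtype_injective).1 h2)
    · exact hTN (map_injective N.subtype_injective (by
        rw [h2, ← MonoidHom.range_eq_map, range_subtype]))
  have hlt : Nat.card ↥L < n := by
    rw [← hn]
    exact lt_of_le_of_ne (card_le_card_group L) fun h => hLt (eq_top_of_card_eq _ h)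
  obtain ⟨X, hX, hXp, hXq⟩ := ih _ hlt ↥L p q rfl (isPSolvable_subgroup hs L)
  have hLi : L.index ∣ (T : Subgroup ↥N).index := by
    have h1 : L.index = L.relIndex N := by
      have e1 := card_sup_mul_card_inf L N
      have e2 := card_mul_index L
      have e3 := card_mul_index (L.subgroupOf N)
      rw [htop, card_top, ← e2, mul_assoc] at e1
      have e1' := Nat.eq_of_mul_eq_mul_left Nat.card_pos e1
      rw [← relIndex, ← inf_subgroupOf_right, Nat.card_congr (subgroupOfEquivOfLe inf_le_right).toEquiv,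
        mul_comm] at e3
      exact Nat.eq_of_mul_eq_mul_right Nat.card_pos (e1'.trans e3.symm)
    rw [h1, relIndex]
    refine index_dvd_of_le fun x hx => ?_
    exact le_normalizer (mem_map_of_mem N.subtype hx)
  refine ⟨X.map L.subtype, by rwa [card_map_of_injective L.subtype_injective], ?_, ?_⟩
  · rw [index_map_subtype, hp.dvd_mul, not_or]
    exact ⟨hXp, fun hd => hp.coprime_iff_not_dvd.1 h.symm
      ((hd.trans hLi).trans (index_dvd_card _))⟩
  · rw [index_map_subtype, hqp.dvd_mul, not_or]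
    exact ⟨hXq, fun hd => T.not_dvd_index (hd.trans hLi)⟩

/-- Transport of characteristic subgroups back along a map which is injective on `Q`. -/
theorem charIn_of_map {f : G →* H} {Q : Subgroup G} (hf : Q ⊓ f.ker = ⊥) {K : Subgroup H}
    (hK : CharIn K (Q.map f)) : CharIn (Q ⊓ K.comap f) Q := by
  refine ⟨inf_le_left, fun e k hk => ⟨(e k).2, ?_⟩⟩
  have hb : Function.Bijective (f.subgroupMap Q) := by
    refine ⟨(injective_iff_map_eq_one _).2 fun x hx => Subtype.ext ?_, f.subgroupMap_surjective Q⟩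
    have : (x : G) ∈ Q ⊓ f.ker := ⟨x.2, congrArg (fun t : ↥(Q.map f) => (t : H)) hx⟩
    rw [hf, mem_bot] at this
    exact this
  let i : ↥Q ≃* ↥(Q.map f) := MulEquiv.ofBijective _ hb
  have h2 := hK.2 (i.symm.trans (e.trans i)) (i k) hk.2
  have h3 : (i.symm.trans (e.trans i)) (i k) = i (e k) := by simp
  rw [h3] at h2
  exact h2

/-- Frattini argument, one element at a time. -/
theorem exists_mul_mem_normalizer [Finite G] [Fact p.Prime] {A : Subgroup G} (P : Sylow p ↥A)
    {y : G} (hy : y ∈ normalizer (A : Set G)) :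
    ∃ a ∈ A, a * y ∈ normalizer (((P : Subgroup ↥A).map A.subtype : Subgroup G) : Set G) := by
  set φ := normalizerMonoidHom A ⟨y, hy⟩ with hφ
  obtain ⟨a, ha⟩ := MulAction.exists_smul_eq ↥A
    (P.mapSurjective (f := φ.toMonoidHom) φ.surjective) P
  refine ⟨a, a.2, H31.mem_normalizer_of_map_conj ?_⟩
  have hmain : (P : Subgroup ↥A) =
      ((P : Subgroup ↥A).map φ.toMonoidHom).map (MulAut.conj a).toMonoidHom :=
    (congrArg (fun S : Sylow p ↥A => (S : Subgroup ↥A)) ha).symm
  conv_rhs => rw [hmain]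
  ext x
  constructor
  · rintro ⟨-, ⟨w, hw, rfl⟩, rfl⟩
    refine ⟨_, ⟨_, ⟨w, hw, rfl⟩, rfl⟩, ?_⟩
    show (a : G) * (y * w * y⁻¹) * (a : G)⁻¹ = (a : G) * y * w * ((a : G) * y)⁻¹
    group
  · rintro ⟨-, ⟨-, ⟨w, hw, rfl⟩, rfl⟩, rfl⟩
    refine ⟨_, ⟨w, hw, rfl⟩, ?_⟩
    show (a : G) * y * w * ((a : G) * y)⁻¹ = (a : G) * (y * w * y⁻¹) * (a : G)⁻¹
    group

/-- The core step: if `q` divides the automizer of `H` and `Q` is a Sylow `p`-subgroup of `N(H)`
then some characteristic subgroup of `Q` has automizer order divisible by `q`. -/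
theorem exists_charIn_automizer [Finite G] [Fact p.Prime] [Fact q.Prime] (hpq : p ≠ q)
    (h23 : ¬ ((p = 2 ∧ q = 3) ∨ (p = 3 ∧ q = 2))) {Hs : Subgroup G} (hH : IsPGroup p ↥Hs)
    (hsol : Cfsg.IsPSolvable p (↥(normalizer (Hs : Set G)) ⧸
      (centralizer (Hs : Set G)).subgroupOf (normalizer (Hs : Set G))))
    (hq : q ∣ ((centralizer (Hs : Set G)).subgroupOf (normalizer (Hs : Set G))).index)
    {Q : Subgroup G} (hQ : IsPGroup p ↥Q) (hQN : Q ≤ normalizer (Hs : Set G))
    (hmax : ∀ R : Subgroup G, R ≤ normalizer (Hs : Set G) → IsPGroup p ↥R →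
      Nat.card ↥R ≤ Nat.card ↥Q) :
    ∃ K : Subgroup G, CharIn K Q ∧
      q ∣ ((centralizer (K : Set G)).subgroupOf (normalizer (K : Set G))).index := by
  have hp : p.Prime := Fact.out
  have hqp : q.Prime := Fact.out
  set N := normalizer (Hs : Set G) with hN
  set C := (centralizer (Hs : Set G)).subgroupOf N with hC
  have hCn : C.Normal := inferInstance
  set π := QuotientGroup.mk' C with hπ
  have hker : π.ker = C := QuotientGroup.ker_mk' C
  obtain ⟨Qs⟩ : Nonempty (Sylow p ↥N) := inferInstance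
  obtain ⟨Qb, hQb⟩ := (hQ.of_equiv (subgroupOfEquivOfLe hQN).symm).exists_le_sylow
  have hQeq : (Qb : Subgroup ↥N).map N.subtype = Q := by
    refine (eq_of_le_of_card_ge ?_ ?_).symm
    · have := map_mono (f := N.subtype) hQb
      rwa [subgroupOf_map_subtype, inf_eq_left.2 hQN] at this
    · exact hmax _ (map_subtype_le _) (Qb.isPGroup'.map _)
  -- `M₁`: normalizer of a Sylow `p`-subgroup of `C`
  obtain ⟨R, hR⟩ := Thompson.exists_sylow_inf_normal Qb C
  set M1 := normalizer (((R : Subgroup ↥C).map C.subtype : Subgroup ↥N) : Set ↥N) with hM1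
  have hQM1 : (Qb : Subgroup ↥N) ≤ M1 := by
    rw [hM1, hR]
    intro x hx
    rw [mem_normalizer_iff]
    intro y
    rw [mem_inf, mem_inf]
    refine and_congr ?_ ?_
    · exact ⟨fun hy => mul_mem (mul_mem hx hy) (inv_mem hx), fun hy => by
        have := mul_mem (mul_mem (inv_mem hx) hy) hx
        simpa [mul_assoc] using this⟩
    · exact ⟨fun h => hCn.conj_mem y h x, fun h => by
        simpa [mul_assoc] using hCn.conj_mem _ h x⁻¹⟩
  have htop : M1 ⊔ C = ⊤ := Sylow.normalizer_sup_eq_top R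
  have hsurj : M1.map π = ⊤ := by
    have h := congrArg (Subgroup.map π) htop
    rwa [Subgroup.map_sup, (map_eq_bot_iff C).2 hker.ge, sup_bot_eq,
      map_top_of_surjective _ (QuotientGroup.mk'_surjective C)] at h
  have hM1s : Cfsg.IsPSolvable p ↥M1 := by
    set f := π.comp M1.subtype with hf
    have hfs : Function.Surjective f := by
      rw [← MonoidHom.range_eq_top, hf, MonoidHom.range_comp, range_subtype, hsurj]
    refine (isPSolvable_iff_normal_quotient f.ker).2 ⟨?_,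
      (isPSolvable_congr (QuotientGroup.quotientKerEquivOfSurjective f hfs).symm).1 hsol⟩
    -- the kernel has a normal Sylow `p`-subgroup
    set Rm := (R : Subgroup ↥C).map C.subtype with hRm
    set R' := (Rm.subgroupOf M1).subgroupOf f.ker with hR'
    have : (Rm.subgroupOf M1).Normal := inferInstance
    have hR'n : R'.Normal := inferInstance
    refine (isPSolvable_iff_normal_quotient R').2 ⟨isPSolvable_of_isPGroup
      ((R.isPGroup'.map C.subtype).comap_subtype).comap_subtype, isPSolvable_of_coprime ?_⟩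
    rw [← index_eq_card, Nat.coprime_comm, hp.coprime_iff_not_dvd]
    intro hdvd
    refine R.not_dvd_index (hdvd.trans ?_)
    have h1 : R'.index = Rm.relIndex (f.ker.map M1.subtype) := by
      rw [hR', ← relIndex, subgroupOf, relIndex_comap]
    have hle : f.ker.map M1.subtype ≤ C := by
      rintro - ⟨w, hw, rfl⟩
      exact (QuotientGroup.eq_one_iff _).1 hw
    have hRK : Rm ≤ f.ker.map M1.subtype := fun w hw => by
      refine ⟨⟨w, le_normalizer hw⟩, (QuotientGroup.eq_one_iff _).2 ?_, rfl⟩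
      exact map_subtype_le _ hw
    have h2 : Rm.relIndex C = (R : Subgroup ↥C).index := by
      rw [relIndex, hRm]
      congr 1
      exact comap_map_eq_self_of_injective C.subtype_injective _
    rw [h1, ← h2, ← relIndex_mul_relIndex Rm _ C hRK hle]
    exact dvd_mul_right _ _
  -- a Hall `{p,q}`-subgroup of `M₁` containing `Qb`
  obtain ⟨X, hX, hXp, hXq⟩ := exists_twoPrime_hall (Nat.card ↥M1) ↥M1 p q rfl hM1s
  obtain ⟨Xp⟩ : Nonempty (Sylow p ↥X) := inferInstance
  have hXpi : ¬ p ∣ ((Xp : Subgroup ↥X).map X.subtype).index := by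
    rw [index_map_subtype, hp.dvd_mul, not_or]
    exact ⟨Xp.not_dvd_index, hXp⟩
  obtain ⟨g, hg⟩ := MulAction.exists_smul_eq ↥M1 ((Xp.isPGroup'.map X.subtype).toSylow hXpi)
    (Qb.subtype hQM1)
  set X' := X.map (MulAut.conj g).toMonoidHom with hX'
  have hQX : (Qb.subtype hQM1 : Subgroup ↥M1) ≤ X' := by
    rw [← hg, Sylow.coe_subgroup_smul, IsPGroup.toSylow_coe]
    exact map_mono (f := (MulAut.conj g).toMonoidHom) (map_subtype_le _)
  obtain ⟨a, b, hab⟩ := hX
  have hX'c : Nat.card ↥X' = p ^ a * q ^ b :=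
    (card_map_of_injective (MulAut.conj g).injective).trans hab
  have hX'q : ¬ q ∣ X'.index := by
    rwa [hX', show (MulAut.conj g).toMonoidHom = ((MulAut.conj g : MulAut ↥M1) : ↥M1 →* ↥M1)
      from rfl, index_map_equiv]
  set f := π.comp M1.subtype with hf
  have hfs : Function.Surjective f := by
    rw [← MonoidHom.range_eq_top, hf, MonoidHom.range_comp, range_subtype, hsurj]
  obtain ⟨T⟩ : Nonempty (Sylow q ↥X') := inferInstance
  have hTker : ¬ (T : Subgroup ↥X').map X'.subtype ≤ f.ker := by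
    intro hle
    have h1 : q ∣ f.ker.index := by
      rw [index_ker, MonoidHom.range_eq_top.2 hfs, card_top, ← index_eq_card]
      exact hq
    have h2 := h1.trans (index_dvd_of_le hle)
    rw [index_map_subtype, hqp.dvd_mul] at h2
    exact h2.elim T.not_dvd_index hX'q
  obtain ⟨-, ⟨t, htT, rfl⟩, htk⟩ := SetLike.not_le_iff_exists.1 hTker
  obtain ⟨m, hm⟩ := T.isPGroup' ⟨t, htT⟩
  set W := (X'.map M1.subtype).map N.subtype with hW
  set x : G := (((t : ↥M1) : ↥N) : G) with hx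
  have hxW : x ∈ W := mem_map_of_mem _ (mem_map_of_mem _ t.2)
  have hxC : x ∉ centralizer (Hs : Set G) := fun h =>
    htk ((QuotientGroup.eq_one_iff _).2 h)
  have hxm : x ^ q ^ m = 1 := by
    have := congrArg (fun s : ↥(T : Subgroup ↥X') => ((((s : ↥X') : ↥M1) : ↥N) : G)) hm
    simpa using this
  have hQW : Q ≤ W := by
    rw [← hQeq, hW]
    refine map_mono ?_
    intro w hw
    exact ⟨⟨w, hQM1 hw⟩, hQX hw, rfl⟩
  have hWN : W ≤ N := map_subtype_le _
  have hWc : Nat.card ↥W = p ^ a * q ^ b := by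
    rw [hW, card_map_of_injective N.subtype_injective, card_map_of_injective M1.subtype_injective,
      hX'c]
  have hHQ : Hs ≤ Q := by
    have hn : (Hs.subgroupOf N).Normal := inferInstance
    have := map_mono (f := N.subtype)
      ((le_pCore (N := Hs.subgroupOf N) hH.comap_subtype).trans (pCore_le_sylow Qb))
    rwa [subgroupOf_map_subtype, inf_eq_left.2 le_normalizer, hQeq] at this
  -- work in `W / O_{p'}(W)`
  set O := Cfsg.pPrimeCore p ↥W with hOdef
  have hnorm : (Hs.subgroupOf W).Normal :=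
    (normal_subgroupOf_iff_le_normalizer (hHQ.trans hQW)).2 hWN
  have hxO : (⟨x, hxW⟩ : ↥W) ∉ O := fun h => hxC (mem_centralizer_iff.2 fun h' hh' =>
    congrArg (fun s : ↥W => (s : G)) (commute_pCore_pPrimeCore
      (le_pCore (N := Hs.subgroupOf W) hH.comap_subtype
        (show (⟨h', hQW (hHQ hh')⟩ : ↥W) ∈ Hs.subgroupOf W from hh')) h))
  set ρ := QuotientGroup.mk' O with hρ
  have hkρ : ρ.ker = O := QuotientGroup.ker_mk' O
  have hqY : q ∣ Nat.card (↥W ⧸ O) := by
    have h1 : (ρ ⟨x, hxW⟩) ^ q ^ m = 1 := by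
      rw [← map_pow, show (⟨x, hxW⟩ : ↥W) ^ q ^ m = 1 from Subtype.ext hxm, map_one]
    obtain ⟨j, -, hj⟩ := (Nat.dvd_prime_pow hqp).1 (orderOf_dvd_of_pow_eq_one h1)
    have hj0 : j ≠ 0 := by
      rintro rfl
      rw [pow_zero, orderOf_eq_one_iff] at hj
      exact hxO ((QuotientGroup.eq_one_iff _).1 hj)
    exact (dvd_pow_self q hj0).trans (hj ▸ orderOf_dvd_natCard _)
  obtain ⟨Qw, hQw⟩ : ∃ Qw : Sylow p ↥W, (Qw : Subgroup ↥W) = Q.subgroupOf W := by
    obtain ⟨S, hS⟩ := (hQ.comap_subtype (K := W)).exists_le_sylow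
    refine ⟨S, (eq_of_le_of_card_ge hS ?_).symm⟩
    have h1 := hmax ((S : Subgroup ↥W).map W.subtype) ((map_subtype_le _).trans hWN)
      (S.isPGroup'.map _)
    rw [card_map_of_injective W.subtype_injective] at h1
    exact h1.trans (Nat.card_congr (subgroupOfEquivOfLe hQW).toEquiv).ge
  obtain ⟨K, hK, yb, ⟨i, hi⟩, hyN, hyC⟩ := exists_charIn_moves (Nat.card (↥W ⧸ O)) (↥W ⧸ O) p q
    hpq h23 rfl (card_two_of_dvd hWc ⟨_, card_eq_card_quotient_mul_card_subgroup O⟩)
    pPrimeCore_quotient_pPrimeCore hqY (Qw.mapSurjective (QuotientGroup.mk'_surjective O))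
  set A := K.comap ρ with hA
  set K0 := (Qw : Subgroup ↥W) ⊓ A with hK0
  have hQO : (Qw : Subgroup ↥W) ⊓ ρ.ker = ⊥ :=
    hkρ.symm ▸ disjoint_of_isPGroup_of_coprime Qw.isPGroup' coprime_card_pPrimeCore
  have hK0char : CharIn K0 (Qw : Subgroup ↥W) := charIn_of_map hQO hK
  have hK0map : K0.map ρ = K := by
    refine le_antisymm ?_ fun k hk => ?_
    · rintro - ⟨w, hw, rfl⟩
      exact hw.2
    · obtain ⟨w, hw, rfl⟩ := hK.1 hk
      exact mem_map_of_mem ρ ⟨hw, hk⟩
  have hK0c : Nat.card ↥K = Nat.card ↥K0 := by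
    rw [← hK0map, ← relIndex_ker, ← inf_relIndex_right]
    have : ρ.ker ⊓ K0 = ⊥ := le_bot_iff.1 ((le_inf (inf_le_right.trans inf_le_left) inf_le_left).trans hQO.le)
    rw [this, relIndex_bot_left]
  have hK0A : K0 ≤ A := inf_le_right
  have hKp : IsPGroup p ↥(K0.subgroupOf A) := (Qw.isPGroup'.to_le inf_le_left).comap_subtype
  have hKi : ¬ p ∣ (K0.subgroupOf A).index := by
    have h1 := card_mul_index (K0.subgroupOf A)
    rw [Nat.card_congr (subgroupOfEquivOfLe hK0A).toEquiv, hA, PGroups.card_comap_mk', hK0c,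
      mul_comm (Nat.card ↥O)] at h1
    rw [Nat.eq_of_mul_eq_mul_left Nat.card_pos h1]
    exact not_dvd_card_pPrimeCore
  obtain ⟨y, rfl⟩ := QuotientGroup.mk'_surjective O yb
  have hyA : y ∈ normalizer (A : Set ↥W) := by
    rw [mem_normalizer_iff]
    intro w
    simp only [hA, mem_comap, map_mul, map_inv]
    exact mem_normalizer_iff.1 hyN _
  obtain ⟨u, hu, huy⟩ := exists_mul_mem_normalizer (hKp.toSylow hKi) hyA
  rw [IsPGroup.toSylow_coe, subgroupOf_map_subtype, inf_eq_left.2 hK0A] at huy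
  obtain ⟨k, hk, hku⟩ : ρ u ∈ K0.map ρ := hK0map.symm ▸ (hu : ρ u ∈ K)
  set y' := k⁻¹ * (u * y) with hy'
  have hy'N : y' ∈ normalizer (K0 : Set ↥W) := mul_mem (inv_mem (le_normalizer hk)) huy
  have hy'ρ : ρ y' = ρ y := by
    rw [hy', map_mul, map_inv, map_mul, hku, inv_mul_cancel_left]
  obtain ⟨j, hj, hj'⟩ := exists_qElement_lift ρ y' ⟨i, by rw [hy'ρ]; exact hi⟩
  refine ⟨K0.map W.subtype, ?_, dvd_index_of_moves (moves_map W.subtype_injective
    ⟨y' ^ j, hj', pow_mem hy'N j, fun hc => hyC (mem_centralizer_iff.2 fun c hc' => ?_)⟩)⟩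
  · have := charIn_map W.subtype_injective hK0char
    rwa [hQw, subgroupOf_map_subtype, inf_eq_left.2 hQW] at this
  · obtain ⟨c0, hc0, rfl⟩ : c ∈ K0.map ρ := hK0map.symm ▸ hc'
    have h1 := congrArg ρ (mem_centralizer_iff.1 hc c0 hc0)
    rw [map_mul, map_mul, hj, hy'ρ] at h1
    exact h1

end Cfsg.Agent.Cores.AutomizerPrime
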