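import Cfsg.Agent.BlockBasic.Basic
import Cfsg.Agent.H82.BrauerMap

/-!
# Restriction of central group algebra elements to a subgroup, modulo a maximal ideal

The congruence behind the Brauer homomorphism: on the centraliser of a `p`-element the
restriction to a subgroup containing that centraliser is multiplicative modulo `M`.
-/

namespace Cfsg.Agent.Cores

open MonoidAlgebra BlockBasic CharBasic

universe u

variable {G : Type u} [Group G] {p : ℕ} {M : Ideal AlgInt}

/-- Sum of an invariant function against its sum over a centraliser. -/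
theorem memLocalIdeal_sum_sub_sum_commute [Fintype G] (hM : IsPModular p M) {x : G} {e : ℕ}
    (hx : orderOf x = p ^ e) {f : G → ℂ} (hf : ∀ a, MemLocalRing M (f a))
    (hinv : ∀ a, f (x * a * x⁻¹) = f a) [DecidablePred fun a => Commute x a] :
    MemLocalIdeal M (∑ a, f a - ∑ a with Commute x a, f a) := by
  classical
  have := Fact.mk hM.1
  have hQ : IsPGroup p (Subgroup.zpowers x) := IsPGroup.of_card (n := e) (by rw [Nat.card_zpowers, hx])
  have h := H82.memLocalIdeal_sum_sub_sum_centralizer hM hQ hf (fun q hq a => by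
    obtain ⟨n, rfl⟩ := (isOfFinOrder_of_finite x).mem_powers_iff_mem_zpowers.2 hq
    clear hq
    induction n generalizing a with
    | zero => simp
    | succ n ih =>
      have : x ^ (n + 1) * a * (x ^ (n + 1))⁻¹ = x ^ n * (x * a * x⁻¹) * (x ^ n)⁻¹ := by
        rw [pow_succ]; group
      simp only at ih ⊢
      rw [this, ih, hinv])
  have hs : ∀ a : G, a ∈ (Finset.univ.filter fun a => Commute x a) ↔
      a ∈ Subgroup.centralizer ((Subgroup.zpowers x : Subgroup G) : Set G) := fun a => by
    rw [Finset.mem_filter, Subgroup.mem_centralizer_iff]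
    refine ⟨fun h q hq => ?_, fun h => ⟨Finset.mem_univ _, h x (Subgroup.mem_zpowers x)⟩⟩
    obtain ⟨n, rfl⟩ := Subgroup.mem_zpowers_iff.mp hq
    exact h.2.zpow_left n
  rwa [← Finset.sum_subtype _ hs f] at h

/-- The restriction of a group algebra element to a subgroup. -/
noncomputable def resElt [Finite G] (H : Subgroup G) (z : MonoidAlgebra ℂ G) :
    MonoidAlgebra ℂ H :=
  ofFun fun h => z.coeff (h : G)

section

variable [Fintype G] {H : Subgroup G}

omit [Fintype G] in
@[simp] theorem coeff_resElt [Finite G] (z : MonoidAlgebra ℂ G) (h : H) :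
    (resElt H z).coeff h = z.coeff (h : G) := coeff_ofFun _ _

omit [Fintype G] in
theorem isCentralElt_resElt [Finite G] {z : MonoidAlgebra ℂ G} (hz : IsCentralElt z) :
    IsCentralElt (resElt H z) :=
  isCentralElt_ofFun fun g h => hz (g : G) (h : G)

omit [Fintype G] in
theorem isIntElt_resElt [Finite G] {z : MonoidAlgebra ℂ G} (hz : IsIntElt M z) :
    IsIntElt M (resElt H z) := fun h => by rw [coeff_resElt]; exact hz _

theorem resElt_sub (z w : MonoidAlgebra ℂ G) : resElt H (z - w) = resElt H z - resElt H w := by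
  apply coeff_injective; ext h; simp

theorem resElt_smul (c : ℂ) (z : MonoidAlgebra ℂ G) : resElt H (c • z) = c • resElt H z := by
  apply coeff_injective; ext h; simp [coeff_smul_apply]

theorem resElt_one : resElt H (1 : MonoidAlgebra ℂ G) = 1 := by
  classical
  apply coeff_injective; ext h
  rw [coeff_resElt, one_def, one_def, coeff_single, coeff_single, Finsupp.single_apply,
    Finsupp.single_apply]
  simp only [eq_comm (a := (1 : G)), eq_comm (a := (1 : H)), OneMemClass.coe_eq_one]

omit [Fintype G] in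
theorem coeff_mul_eq_sum {K : Type*} [Group K] [Fintype K] (z w : MonoidAlgebra ℂ K) (u : K) :
    (z * w).coeff u = ∑ a, z.coeff a * w.coeff (a⁻¹ * u) := by
  induction z using MonoidAlgebra.induction_linear with
  | zero => simp
  | add a b ha hb => simp [add_mul, ha, hb, Finset.sum_add_distrib]
  | single g r =>
    classical
    simp [coeff_single_mul_apply, coeff_single, Finsupp.single_apply]

/-- Equality modulo `M` on the centraliser of `x`. -/
def CongrAt (M : Ideal AlgInt) {K : Type*} [Group K] (x : K) (z w : MonoidAlgebra ℂ K) : Prop :=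
  ∀ u, Commute x u → MemLocalIdeal M (z.coeff u - w.coeff u)

theorem CongrAt.rfl' (hM : IsPModular p M) {K : Type*} [Group K] (x : K) (z : MonoidAlgebra ℂ K) :
    CongrAt M x z z := fun u _ => by simpa using memLocalIdeal_zero hM

theorem CongrAt.trans' (hM : IsPModular p M) {K : Type*} [Group K] {x : K}
    {z w v : MonoidAlgebra ℂ K} (h : CongrAt M x z w) (h' : CongrAt M x w v) : CongrAt M x z v :=
  fun u hu => by simpa using memLocalIdeal_add hM (h u hu) (h' u hu)

omit [Fintype G] in
theorem coeff_mul_sub_sum_commute {K : Type*} [Group K] [Fintype K] (hM : IsPModular p M)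
    {x : K} {e : ℕ} (hx : orderOf x = p ^ e) {z w : MonoidAlgebra ℂ K} (hz : IsCentralElt z)
    (hzi : IsIntElt M z) (hw : IsCentralElt w) (hwi : IsIntElt M w) {u : K} (hu : Commute x u)
    [DecidablePred fun a => Commute x a] :
    MemLocalIdeal M ((z * w).coeff u - ∑ a with Commute x a, z.coeff a * w.coeff (a⁻¹ * u)) := by
  rw [coeff_mul_eq_sum]
  refine memLocalIdeal_sum_sub_sum_commute hM hx (fun a => (locRing hM).mul_mem (hzi _) (hwi _))
    fun a => ?_
  rw [show z.coeff (x * a * x⁻¹) = z.coeff a from hz a x]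
  congr 1
  have h1 : (x * a * x⁻¹)⁻¹ * u = x * (a⁻¹ * u) * x⁻¹ := by
    rw [show x * (a⁻¹ * u) * x⁻¹ = x * a⁻¹ * (u * x⁻¹) by group, ← hu.inv_left.eq]
    group
  rw [h1]
  exact hw _ x

omit [Fintype G] in
theorem CongrAt.mul {K : Type*} [Group K] [Fintype K] (hM : IsPModular p M)
    {x : K} {e : ℕ} (hx : orderOf x = p ^ e) {z z' w w' : MonoidAlgebra ℂ K}
    (hz : IsCentralElt z) (hz' : IsCentralElt z') (hw : IsCentralElt w) (hw' : IsCentralElt w')
    (hzi : IsIntElt M z) (hzi' : IsIntElt M z') (hwi : IsIntElt M w) (hwi' : IsIntElt M w')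
    (h : CongrAt M x z z') (h' : CongrAt M x w w') : CongrAt M x (z * w) (z' * w') := by
  classical
  intro u hu
  have h1 := coeff_mul_sub_sum_commute hM hx hz hzi hw hwi hu
  have h2 := coeff_mul_sub_sum_commute hM hx hz' hzi' hw' hwi' hu
  have h3 : MemLocalIdeal M (∑ a with Commute x a, z.coeff a * w.coeff (a⁻¹ * u) -
      ∑ a with Commute x a, z'.coeff a * w'.coeff (a⁻¹ * u)) := by
    rw [← Finset.sum_sub_distrib]
    refine memLocalIdeal_sum hM _ _ fun a ha => ?_
    have ha' : Commute x a := (Finset.mem_filter.mp ha).2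
    have := memLocalIdeal_add hM (memLocalIdeal_mul hM (hwi (a⁻¹ * u)) (h a ha'))
      (memLocalIdeal_mul hM (hzi' a) (h' _ (ha'.inv_right.mul_right hu)))
    convert this using 1
    ring
  have := memLocalIdeal_sub hM (memLocalIdeal_add hM h1 h3) h2
  convert this using 1
  ring

/-- Multiplicativity of restriction modulo `M` on the centraliser of a `p`-element. -/
theorem congrAt_resElt_mul (hM : IsPModular p M) {x : G} {e : ℕ} (hx : orderOf x = p ^ e)
    (xH : H) (hxH : (xH : G) = x) (hC : Subgroup.centralizer ({x} : Set G) ≤ H)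
    {z w : MonoidAlgebra ℂ G} (hz : IsCentralElt z) (hzi : IsIntElt M z) (hw : IsCentralElt w)
    (hwi : IsIntElt M w) :
    CongrAt M xH (resElt H (z * w)) (resElt H z * resElt H w) := by
  classical
  intro u hu
  have hu' : Commute x (u : G) := by rw [← hxH]; exact congrArg Subtype.val hu
  have h1 := coeff_mul_sub_sum_commute hM hx hz hzi hw hwi hu'
  have h2 := coeff_mul_sub_sum_commute (K := H) hM (x := xH) (e := e)
    (by rw [← Subgroup.orderOf_coe, hxH, hx]) (isCentralElt_resElt (H := H) hz)
    (isIntElt_resElt hzi) (isCentralElt_resElt (H := H) hw) (isIntElt_resElt hwi) hu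
  have hmem : ∀ a : G, Commute x a → a ∈ H := fun a ha =>
    hC (Subgroup.mem_centralizer_singleton_iff.mpr ha.eq.symm)
  have h3 : ∑ a : G with Commute x a, z.coeff a * w.coeff (a⁻¹ * (u : G)) =
      ∑ a : H with Commute xH a, (resElt H z).coeff a * (resElt H w).coeff (a⁻¹ * u) := by
    refine Finset.sum_bij' (fun a ha => ⟨a, hmem a (Finset.mem_filter.mp ha).2⟩) (fun a _ => (a : G))
      ?_ ?_ ?_ ?_ ?_
    · intro a ha
      refine Finset.mem_filter.mpr ⟨Finset.mem_univ _, ?_⟩
      exact Subtype.ext (by simpa [hxH] using (Finset.mem_filter.mp ha).2.eq)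
    · intro a ha
      refine Finset.mem_filter.mpr ⟨Finset.mem_univ _, ?_⟩
      rw [← hxH]
      exact congrArg Subtype.val (Finset.mem_filter.mp ha).2.eq
    · exact fun a _ => rfl
    · exact fun a _ => rfl
    · intro a _
      simp
  rw [coeff_resElt]
  rw [h3] at h1
  have := memLocalIdeal_sub hM h1 h2
  convert this using 1
  ring

end

/-- A central element with all central characters in the local ideal is nilpotent modulo `M`. -/
theorem exists_pow_memLocalIdeal [Fintype G] (hM : IsPModular p M) {z : MonoidAlgebra ℂ G}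
    (hz : IsCentralElt z) (h : ∀ χ : IrrCharacter G, MemLocalIdeal M (omega (χ : G → ℂ) z)) :
    ∃ n, 1 ≤ n ∧ ∀ g, MemLocalIdeal M ((z ^ n).coeff g) := by
  classical
  obtain ⟨a, m, hm, hcard⟩ := Nat.exists_eq_pow_mul_and_not_dvd
    (Nat.card_pos (α := G)).ne' p hM.1.ne_one
  choose N r hr hN using fun χ => exists_pow_eq_natCast_mul hM (h χ)
  have hom : ∀ χ : IrrCharacter G, MemLocalRing M (omega (χ : G → ℂ) z) :=
    fun χ => MemLocalIdeal.memLocalRing (h χ)
  set S := 1 + ∑ χ, N χ with hS
  refine ⟨(a + 1) * S, by rw [hS]; exact Nat.one_le_iff_ne_zero.mpr (by positivity), fun g => ?_⟩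
  have hkey : ∀ χ : IrrCharacter G, ∃ t, MemLocalRing M t ∧
      omega (χ : G → ℂ) z ^ ((a + 1) * S) = (p : ℂ) ^ (a + 1) * t := by
    intro χ
    have hle : N χ ≤ S := (Finset.single_le_sum (fun _ _ => Nat.zero_le _)
      (Finset.mem_univ χ)).trans (Nat.le_add_left _ _)
    refine ⟨(r χ * omega (χ : G → ℂ) z ^ (S - N χ)) ^ (a + 1),
      (locRing hM).pow_mem ((locRing hM).mul_mem (hr χ) ((locRing hM).pow_mem (hom χ) _)) _, ?_⟩
    rw [← mul_pow, ← mul_assoc, ← hN χ, ← pow_add, Nat.add_sub_cancel' hle, ← pow_mul]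
    congr 1
    exact mul_comm _ _
  choose t ht hteq using hkey
  rw [coeff_eq_sum_omega (hz.pow _), Finset.mul_sum]
  refine memLocalIdeal_sum hM _ _ fun χ _ => ?_
  have hχ1 : MemLocalRing M ((χ : G → ℂ) 1) :=
    memLocalRing_of_isIntegral hM (isIntegral_apply χ 1)
  have hχg : MemLocalRing M ((starRingEnd ℂ) ((χ : G → ℂ) g)) :=
    memLocalRing_of_isIntegral hM (isIntegral_conj_apply χ g)
  have hm' : MemLocalRing M ((m : ℂ)⁻¹) := memLocalRing_natCast_inv hM hm
  rw [omega_pow χ.2 hz, hteq]
  have : (Nat.card G : ℂ)⁻¹ * ((χ : G → ℂ) 1 * ((p : ℂ) ^ (a + 1) * t χ) *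
      (starRingEnd ℂ) ((χ : G → ℂ) g)) =
      ((m : ℂ)⁻¹ * ((χ : G → ℂ) 1 * t χ * (starRingEnd ℂ) ((χ : G → ℂ) g))) * (p : ℂ) := by
    have hp0 : (p : ℂ) ≠ 0 := Nat.cast_ne_zero.2 hM.1.ne_zero
    have hm0 : (m : ℂ) ≠ 0 := Nat.cast_ne_zero.2 (fun e => hm (e ▸ dvd_zero p))
    rw [hcard]
    push_cast
    field_simp
    ring
  rw [this]
  exact memLocalIdeal_mul hM
    ((locRing hM).mul_mem hm' ((locRing hM).mul_mem ((locRing hM).mul_mem hχ1 (ht χ)) hχg))
    ((memLocalIdeal_natCast_iff hM p).2 dvd_rfl)

/-- The inclusion of the group algebra of a subgroup. -/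
noncomputable def inclElt (H : Subgroup G) : MonoidAlgebra ℂ H →+* MonoidAlgebra ℂ G :=
  MonoidAlgebra.mapDomainRingHom ℂ H.subtype

theorem inclElt_single (H : Subgroup G) (h : H) (c : ℂ) :
    inclElt H (single h c) = single (h : G) c := by
  simp [inclElt, MonoidAlgebra.mapDomainRingHom]

theorem coeff_mul_inclElt [Fintype G] {H : Subgroup G} [Fintype H] (z : MonoidAlgebra ℂ G)
    (w : MonoidAlgebra ℂ H) (g : G) :
    (z * inclElt H w).coeff g = ∑ k : H, z.coeff (g * (k : G)⁻¹) * w.coeff k := by
  induction w using MonoidAlgebra.induction_linear with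
  | zero => simp
  | add a b ha hb => simp [map_add, mul_add, ha, hb, Finset.sum_add_distrib]
  | single k r =>
    classical
    simp [inclElt_single, coeff_mul_single_apply, coeff_single, Finsupp.single_apply]

theorem coeff_mul_inclElt_coe [Fintype G] {H : Subgroup G} [Fintype H] (z : MonoidAlgebra ℂ G)
    (w : MonoidAlgebra ℂ H) (u : H) :
    (z * inclElt H w).coeff (u : G) = (resElt H z * w).coeff u := by
  rw [coeff_mul_inclElt]
  induction w using MonoidAlgebra.induction_linear with
  | zero => simp
  | add a b ha hb => simp [mul_add, Finset.sum_add_distrib, ha, hb]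
  | single k r =>
    classical
    simp [coeff_mul_single_apply, coeff_single, Finsupp.single_apply]

theorem chiLin_inclElt [Fintype G] {H : Subgroup G} [Fintype H] (χ : G → ℂ)
    (w : MonoidAlgebra ℂ H) : chiLin χ (inclElt H w) = chiLin (fun k : H => χ k) w := by
  induction w using MonoidAlgebra.induction_linear with
  | zero => simp [chiLin]
  | add a b ha hb => rw [map_add, chiLin_add, chiLin_add, ha, hb]
  | single k r => rw [inclElt_single, chiLin_single, chiLin_single]

/-- A group algebra element commuting with `x` has coefficients invariant under conjugation. -/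
theorem coeff_conj_of_commute {b : MonoidAlgebra ℂ G} {x : G}
    (h : single x (1 : ℂ) * b = b * single x 1) (g : G) :
    b.coeff (x * g * x⁻¹) = b.coeff g := by
  have := congrArg (fun z => z.coeff (x * g)) h
  simp only [coeff_mul_single_apply, coeff_single_mul_apply, one_mul, mul_one] at this
  rw [← this]
  simp

theorem commute_single_of_coeff_conj {b : MonoidAlgebra ℂ G} {x : G}
    (h : ∀ g, b.coeff (x * g * x⁻¹) = b.coeff g) : single x (1 : ℂ) * b = b * single x 1 := by
  apply coeff_injective
  ext g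
  simp only [coeff_mul_single_apply, coeff_single_mul_apply, one_mul, mul_one]
  rw [← h (x⁻¹ * g)]
  congr 1
  group

end Cfsg.Agent.Cores
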