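import Mathlib
import Cfsg.Agent.Coprime.Commutator

/-!
An element of order three with one cubic Jordan block on a module over the field with three elements,
normalizing a four group: basic consequences.
-/

set_option autoImplicit false

namespace Cfsg.Agent.Cores.CubicBlock

open Subgroup
open scoped commutatorElement

universe u v

variable {S : Type u} [Group S] {E : Type v} [AddCommGroup E] [Module (ZMod 3) E]

theorem three_add (x : E) : x + x + x = 0 := by
  have h : ((3 : ℕ) : ZMod 3) • x = 0 := by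
    rw [show ((3 : ℕ) : ZMod 3) = 0 from by decide, zero_smul]
  rwa [Nat.cast_smul_eq_nsmul, succ_nsmul, succ_nsmul, one_nsmul] at h

theorem neg_eq_add (x : E) : -x = x + x := (eq_neg_of_add_eq_zero_left (three_add x)).symm

theorem eq_zero_of_add_self {x : E} (h : x + x = 0) : x = 0 := by
  have := three_add x
  rwa [h, zero_add] at this

theorem eq_zero_of_eq_neg {x : E} (h : x = -x) : x = 0 :=
  eq_zero_of_add_self (by nth_rw 1 [h]; rw [neg_add_cancel])

theorem eq_one_or_neg_one {a : ZMod 3} (h : a ≠ 0) : a = 1 ∨ a = -1 := by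
  revert a; decide

theorem card_span_pair_le (w₁ w₂ : E) :
    Nat.card ↥(Submodule.span (ZMod 3) ({w₁, w₂} : Set E)) ≤ 9 := by
  have hs : Function.Surjective (fun p : ZMod 3 × ZMod 3 =>
      (⟨p.1 • w₁ + p.2 • w₂, Submodule.mem_span_pair.2 ⟨p.1, p.2, rfl⟩⟩ :
        ↥(Submodule.span (ZMod 3) ({w₁, w₂} : Set E)))) := fun ⟨x, hx⟩ => by
    obtain ⟨a, c, h⟩ := Submodule.mem_span_pair.1 hx
    exact ⟨(a, c), Subtype.ext h⟩
  refine (Nat.card_le_card_of_surjective _ hs).trans ?_
  simp [Nat.card_prod]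

variable (ρ : Representation (ZMod 3) S E)

theorem mul_apply (g h : S) (x : E) : ρ (g * h) x = ρ g (ρ h x) := by
  rw [map_mul]; rfl

theorem one_apply (x : E) : ρ 1 x = x := by rw [map_one]; rfl

theorem inv_apply_self (g : S) (x : E) : ρ g⁻¹ (ρ g x) = x := by
  rw [← mul_apply, inv_mul_cancel, one_apply]

theorem self_inv_apply (g : S) (x : E) : ρ g (ρ g⁻¹ x) = x := by
  rw [← mul_apply, mul_inv_cancel, one_apply]

theorem pow_apply_fixed {g : S} {x : E} (h : ρ g x = x) (n : ℕ) : ρ (g ^ n) x = x := by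
  induction n with
  | zero => rw [pow_zero, one_apply]
  | succ n ih => rw [pow_succ, mul_apply, h, ih]

/-- Stabilizing a two-step series coprimely. -/
theorem fixed_of_series {h : S} (hh : (orderOf h).Coprime 3) {x w : E} (hx : ρ h x = x + w)
    (hw : ρ h w = w) : ρ h x = x := by
  have hn : ∀ n : ℕ, ρ (h ^ n) x = x + (n : ZMod 3) • w := by
    intro n
    induction n with
    | zero => rw [pow_zero, one_apply, Nat.cast_zero, zero_smul, add_zero]
    | succ n ih =>
      rw [pow_succ', mul_apply, ih, map_add, map_smul, hx, hw, Nat.cast_succ, add_smul, one_smul]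
      abel
  have h1 := hn (orderOf h)
  rw [pow_orderOf_eq_one, one_apply] at h1
  have h2 : ((orderOf h : ℕ) : ZMod 3) • w = 0 := left_eq_add.1 h1
  rcases smul_eq_zero.1 h2 with h3 | h3
  · exfalso
    rw [ZMod.natCast_eq_zero_iff] at h3
    have := Nat.dvd_gcd h3 (dvd_refl 3)
    rw [hh] at this
    norm_num at this
  · rw [hx, h3, add_zero]

variable {ρ}

/-- Small invariant subspaces are fixed by elements of order prime to 6. -/
theorem fixed_of_small [Finite E] {h : S} (hh : (orderOf h).Coprime 6) {W : Submodule (ZMod 3) E}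
    (hW : ∀ x ∈ W, ρ h x ∈ W) (hc : Nat.card ↥W ≤ 9) {x : E} (hx : x ∈ W) : ρ h x = x := by
  classical
  set f : E → E := fun y => ρ h y
  have hit : ∀ (k : ℕ) (y : E), f^[k] y = ρ (h ^ k) y := by
    intro k
    induction k with
    | zero => intro y; rw [pow_zero, one_apply]; rfl
    | succ k ih => intro y; rw [Function.iterate_succ', Function.comp_apply, ih, pow_succ', mul_apply]
  set p := Function.minimalPeriod f x with hp
  have hdvd : p ∣ orderOf h := Function.IsPeriodicPt.minimalPeriod_dvd (by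
    show f^[orderOf h] x = x
    rw [hit, pow_orderOf_eq_one, one_apply])
  have hcop : p.Coprime 6 := hh.coprime_dvd_left hdvd
  by_contra hne
  have hp1 : p ≠ 1 := fun h1 => hne (Function.minimalPeriod_eq_one_iff_isFixedPt.1 h1)
  have hp0 : p ≠ 0 := fun h0 => by rw [h0] at hcop; norm_num at hcop
  have hp5 : 5 ≤ p := by
    by_contra hlt
    have : p = 2 ∨ p = 3 ∨ p = 4 := by omega
    rcases this with h' | h' | h' <;> rw [h'] at hcop <;> norm_num at hcop
  have hmem : ∀ k : ℕ, f^[k] x ∈ W := by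
    intro k
    induction k with
    | zero => exact hx
    | succ k ih => rw [Function.iterate_succ', Function.comp_apply]; exact hW _ ih
  -- a vector and its negative lie in different orbits
  have hneg : ∀ i j : ℕ, i ≤ j → f^[i] x = -f^[j] x → False := by
    intro i j hij he
    have h1 : ρ (h ^ (j - i)) x = -x := by
      have h2 : ρ (h ^ i) (ρ (h ^ (j - i)) x) = ρ (h ^ i) (-x) := by
        rw [← mul_apply, ← pow_add, Nat.add_sub_cancel' hij, map_neg, ← hit, ← hit, he, neg_neg]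
      have := congrArg (ρ (h ^ i)⁻¹) h2
      rwa [inv_apply_self, inv_apply_self] at this
    have h2 : Function.IsPeriodicPt f (2 * (j - i)) x := by
      show f^[2 * (j - i)] x = x
      rw [hit, two_mul, pow_add, mul_apply, h1, map_neg, h1, neg_neg]
    have h3 : p ∣ j - i := (Nat.Coprime.dvd_mul_left
      (hcop.coprime_dvd_right (by norm_num : 2 ∣ 6))).1 h2.minimalPeriod_dvd
    have h4 : ρ (h ^ (j - i)) x = x := by
      rw [← hit]
      exact (Function.isPeriodicPt_minimalPeriod f x).trans_dvd h3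
    exact hne (by
      rw [eq_zero_of_eq_neg (h4.symm.trans h1), map_zero])
  let F : Fin p × Bool → ↥W := fun a =>
    bif a.2 then ⟨f^[(a.1 : ℕ)] x, hmem _⟩ else ⟨-f^[(a.1 : ℕ)] x, neg_mem (hmem _)⟩
  have hF : Function.Injective F := by
    rintro ⟨i, s⟩ ⟨j, t⟩ he
    have hinj : f^[(i : ℕ)] x = f^[(j : ℕ)] x → i = j := fun h' =>
      Fin.ext (Function.iterate_injOn_Iio_minimalPeriod i.2 j.2 h')
    have he' := congrArg Subtype.val he
    cases s <;> cases t <;> simp only [F, cond_true, cond_false] at he'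
    · exact Prod.ext (hinj (neg_injective he')) rfl
    · exfalso
      rcases le_total (j : ℕ) i with hle | hle
      · exact hneg j i hle he'.symm
      · exact hneg i j hle (by rw [← he', neg_neg])
    · exfalso
      rcases le_total (i : ℕ) j with hle | hle
      · exact hneg i j hle he'
      · exact hneg j i hle (by rw [he', neg_neg])
    · exact Prod.ext (hinj he') rfl
  have := Nat.card_le_card_of_injective F hF
  simp [Nat.card_prod] at this
  omega

variable (ρ)

/-- `b - 1` as a function. -/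
def tb (b : S) (x : E) : E := ρ b x - x

/-- The situation: `b` of order 3 with one cubic block, normalizing a four group `Q` inside `R = [R, b]`. -/
structure Hyp (b : S) (Q R : Subgroup S) : Prop where
  faithful : Function.Injective ρ
  b_pow : b ^ 3 = 1
  blk : ∃ v : E, tb ρ b (tb ρ b v) ≠ 0 ∧
    ∀ x : E, ∃ a c : ZMod 3, tb ρ b x = a • tb ρ b v + c • tb ρ b (tb ρ b v)
  Q_le : Q ≤ R
  Q_card : Nat.card ↥Q = 4
  Q_sq : ∀ q ∈ Q, q * q = 1
  Q_conj : ∀ q ∈ Q, b * q * b⁻¹ ∈ Q
  Q_fpf : ∀ q ∈ Q, b * q * b⁻¹ = q → q = 1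
  R_cop : (Nat.card ↥R).Coprime 3
  R_conj : ∀ r ∈ R, b * r * b⁻¹ ∈ R
  R_gen : R ≤ closure {s | ∃ r ∈ R, s = ⁅r, b⁆}

variable {ρ} {b : S} {Q R : Subgroup S}

namespace Hyp

variable (H : Hyp ρ b Q R)
include H

theorem tb_sq (x : E) : tb ρ b (tb ρ b x) = x + ρ b x + ρ b (ρ b x) := by
  simp only [tb, map_sub]
  have h := three_add (ρ b x)
  calc ρ b (ρ b x) - ρ b x - (ρ b x - x)
      = x + ρ b x + ρ b (ρ b x) - (ρ b x + ρ b x + ρ b x) := by abel
    _ = x + ρ b x + ρ b (ρ b x) := by rw [h, sub_zero]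

theorem bbb : b * b * b = 1 := by
  rw [← pow_two, ← pow_succ]; exact H.b_pow

theorem bbb_apply (x : E) : ρ b (ρ b (ρ b x)) = x := by
  rw [← mul_apply, ← mul_apply, H.bbb, one_apply]

theorem conj3 (q : S) : b * (b * (b * q * b⁻¹) * b⁻¹) * b⁻¹ = q := by
  calc b * (b * (b * q * b⁻¹) * b⁻¹) * b⁻¹ = (b * b * b) * q * (b * b * b)⁻¹ := by group
    _ = q := by rw [H.bbb, one_mul, inv_one, mul_one]

theorem tb_cube (x : E) : tb ρ b (tb ρ b (tb ρ b x)) = 0 := by
  rw [H.tb_sq, tb, map_sub, map_sub, H.bbb_apply]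
  abel

omit H in
theorem tb_add (x y : E) : tb ρ b (x + y) = tb ρ b x + tb ρ b y := by
  simp only [tb, map_add]; abel

omit H in
theorem tb_smul (a : ZMod 3) (x : E) : tb ρ b (a • x) = a • tb ρ b x := by
  simp only [tb, map_smul, smul_sub]

omit H in
theorem tb_sub (x y : E) : tb ρ b (x - y) = tb ρ b x - tb ρ b y := by
  simp only [tb, map_sub]; abel

/-- The line of squares. -/
theorem exists_line : ∃ u : E, u ≠ 0 ∧ ∀ x : E, ∃ c : ZMod 3, x + ρ b x + ρ b (ρ b x) = c • u := by
  obtain ⟨v, hv, hspan⟩ := H.blk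
  refine ⟨_, hv, fun x => ?_⟩
  obtain ⟨a, c, h⟩ := hspan x
  refine ⟨a, ?_⟩
  rw [← H.tb_sq, h, tb_add, tb_smul, tb_smul, H.tb_cube, smul_zero, add_zero]

/-- `q, bqb⁻¹, b²qb⁻²` are the three involutions. -/
theorem third {q : S} (hq : q ∈ Q) (hq1 : q ≠ 1) :
    b * (b * q * b⁻¹) * b⁻¹ = q * (b * q * b⁻¹) := by
  haveI : Finite ↥Q := Nat.finite_of_card_ne_zero (by rw [H.Q_card]; norm_num)
  set q' := b * q * b⁻¹ with hq'
  set q'' := b * q' * b⁻¹ with hq''
  have h2 := H.Q_conj q hq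
  have h3 := H.Q_conj q' h2
  have hne : q' ≠ q := fun e => hq1 (H.Q_fpf q hq e)
  have hq'1 : q' ≠ 1 := fun e => hq1 (conj_eq_one_iff.1 e)
  have hq''1 : q'' ≠ 1 := fun e => hq'1 (conj_eq_one_iff.1 e)
  have hq''q' : q'' ≠ q' := fun e => hq'1 (H.Q_fpf q' h2 e)
  have hq''q : q'' ≠ q := fun e => hne (by
    have h3' : b * q'' * b⁻¹ = q := by
      rw [hq'', hq', H.conj3]
    rwa [e, ← hq'] at h3')
  have hprod1 : q * q' ≠ 1 := fun e => hne (by
    calc q' = q * (q * q') := by rw [← mul_assoc, H.Q_sq q hq, one_mul]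
      _ = q := by rw [e, mul_one])
  by_contra hcon
  have hsub : ({1, q, q', q * q', q''} : Set S) ⊆ (Q : Set S) := by
    rintro y (rfl | rfl | rfl | rfl | rfl)
    exacts [one_mem Q, hq, h2, mul_mem hq h2, h3]
  have hqq : q * q' ≠ q := fun e => hq'1 (mul_eq_left.1 e)
  have hqq' : q * q' ≠ q' := fun e => hq1 (mul_eq_right.1 e)
  have h5 : ({1, q, q', q * q', q''} : Set S).ncard = 5 := by
    rw [Set.ncard_insert_of_notMem (by simp [Ne.symm hq1, Ne.symm hq'1, Ne.symm hprod1, Ne.symm hq''1])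
        (Set.toFinite _),
      Set.ncard_insert_of_notMem (by simp [Ne.symm hne, Ne.symm hqq, Ne.symm hq''q]) (Set.toFinite _),
      Set.ncard_insert_of_notMem (by simp [Ne.symm hqq', Ne.symm hq''q']) (Set.toFinite _),
      Set.ncard_pair (Ne.symm hcon)]
  have := Set.ncard_le_ncard hsub (Set.toFinite (Q : Set S))
  rw [h5, ← Nat.card_coe_set_eq] at this
  exact absurd (this.trans_eq H.Q_card) (by norm_num)

theorem Q_comm {q q' : S} (hq : q ∈ Q) (hq' : q' ∈ Q) : q * q' = q' * q := by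
  have i1 : q⁻¹ = q := inv_eq_of_mul_eq_one_right (H.Q_sq q hq)
  have i2 : q'⁻¹ = q' := inv_eq_of_mul_eq_one_right (H.Q_sq q' hq')
  calc q * q' = (q * q')⁻¹ := (inv_eq_of_mul_eq_one_right (H.Q_sq _ (mul_mem hq hq'))).symm
    _ = q' * q := by rw [mul_inv_rev, i1, i2]

theorem Q_apply_comm {q q' : S} (hq : q ∈ Q) (hq' : q' ∈ Q) (x : E) :
    ρ q (ρ q' x) = ρ q' (ρ q x) := by
  rw [← mul_apply, H.Q_comm hq hq', mul_apply]

omit H in
theorem conj_apply (q : S) (x : E) : ρ (b * q * b⁻¹) (ρ b x) = ρ b (ρ q x) := by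
  rw [← mul_apply, inv_mul_cancel_right, mul_apply]

/-- The weight lines of `Q`. -/
theorem line_weight : ∃ u : E, u ≠ 0 ∧ (∀ x : E, ∃ c : ZMod 3, x + ρ b x + ρ b (ρ b x) = c • u) ∧
    ∀ q ∈ Q, q ≠ 1 → ∀ x : E, ρ q x = -x → ρ (b * q * b⁻¹) x = x →
      ∃ c : ZMod 3, x = c • (u + ρ (b * q * b⁻¹) u) := by
  obtain ⟨u, hu, hl⟩ := H.exists_line
  refine ⟨u, hu, hl, fun q hq hq1 x hx hx' => ?_⟩
  obtain ⟨c, hc⟩ := hl x
  set q' := b * q * b⁻¹ with hq'
  have e1 : ρ q' (ρ b x) = -ρ b x := by rw [hq', conj_apply, hx, map_neg]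
  have e3 : ρ (b * q' * b⁻¹) x = -x := by
    rw [hq', H.third hq hq1, mul_apply, ← hq', hx', hx]
  have e2 : ρ q' (ρ b (ρ b x)) = -ρ b (ρ b x) := by
    have h1 : b * (b * (b * q' * b⁻¹) * b⁻¹) * b⁻¹ = q' := H.conj3 q' 
    rw [← h1, conj_apply, conj_apply, e3, map_neg, map_neg]
  refine ⟨-c, ?_⟩
  have h := congrArg (fun y => y + ρ q' y) hc
  simp only [map_add, map_smul, hx', e1, e2] at h
  rw [neg_smul, smul_add, ← h]
  have := three_add x
  calc x = x + x + x - (x + x) := by abel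
    _ = _ := by rw [this]; abel

theorem exists_pair {q : S} (hq : q ∈ Q) (hq1 : q ≠ 1) :
    ∃ w₁ w₂ : E, ∀ x : E, ρ q x = -x → x ∈ Submodule.span (ZMod 3) ({w₁, w₂} : Set E) := by
  obtain ⟨u, -, -, hlw⟩ := H.line_weight
  set q' := b * q * b⁻¹ with hq'
  set q'' := b * q' * b⁻¹ with hq''
  have hqm := H.Q_conj q hq
  have hround : b * q'' * b⁻¹ = q := H.conj3 q
  refine ⟨u + ρ q' u, ρ b (u + ρ q' u), fun x hx => ?_⟩
  obtain ⟨c, hc⟩ := hlw q hq hq1 (x + ρ q' x)
    (by rw [map_add, H.Q_apply_comm hq hqm, hx, map_neg]; abel)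
    (by rw [map_add, ← mul_apply, H.Q_sq _ hqm, one_apply, add_comm])
  set y := x - ρ q' x with hy
  have hy1 : ρ q y = -y := by rw [hy, map_sub, H.Q_apply_comm hq hqm, hx, map_neg]; abel
  have hy2 : ρ q' y = -y := by rw [hy, map_sub, ← mul_apply, H.Q_sq _ hqm, one_apply]; abel
  have hy3 : ρ q'' y = y := by
    rw [hq'', hq', H.third hq hq1, mul_apply, ← hq', hy2, map_neg, hy1, neg_neg]
  have e2 : ρ q' (ρ b y) = -ρ b y := by rw [hq', conj_apply, hy1, map_neg]
  have e3 : ρ q'' (ρ b y) = -ρ b y := by rw [hq'', conj_apply, hy2, map_neg]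
  have e1 : ρ q (ρ b y) = ρ b y := by
    nth_rw 1 [← hround]; rw [conj_apply, hy3]
  obtain ⟨d, hd⟩ := hlw q hq hq1 (ρ b (ρ b y))
    (by nth_rw 1 [← hround]; rw [conj_apply, e3, map_neg])
    (by rw [← hq']; nth_rw 1 [hq']; rw [conj_apply, e1])
  have hb : y = d • ρ b (u + ρ q' u) := by
    rw [← map_smul, ← hd, H.bbb_apply]
  refine Submodule.mem_span_pair.2 ⟨-c, -d, ?_⟩
  rw [neg_smul, neg_smul, ← hc, ← hb, hy]
  have := three_add x
  calc -(x + ρ q' x) + -(x - ρ q' x) = x - (x + x + x) := by abel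
    _ = x := by rw [this, sub_zero]

omit H in
theorem apply_conj (g : S) (x : E) : ρ b (ρ g x) = ρ (b * g * b⁻¹) (ρ b x) := (conj_apply g x).symm

/-- Shapes `(-,-,+)` are translates of a weight line. -/
theorem minus_minus {q : S} (hq : q ∈ Q) (hq1 : q ≠ 1) :
    ∃ l : E, ∀ y : E, ρ q y = -y → ρ (b * q * b⁻¹) y = -y → ∃ c : ZMod 3, y = c • l := by
  obtain ⟨u, -, -, hlw⟩ := H.line_weight
  refine ⟨ρ b (u + ρ (b * q * b⁻¹) u), fun y h1 h2 => ?_⟩
  set q' := b * q * b⁻¹ with hq'
  set q'' := b * q' * b⁻¹ with hq''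
  have hround : b * q'' * b⁻¹ = q := H.conj3 q
  have h3 : ρ q'' y = y := by
    rw [hq'', hq', H.third hq hq1, mul_apply, ← hq', h2, map_neg, h1, neg_neg]
  obtain ⟨c, hc⟩ := hlw q hq hq1 (ρ b (ρ b y))
    (by nth_rw 1 [← hround]; rw [conj_apply, hq'', conj_apply, h2, map_neg, map_neg])
    (by rw [← hq']; nth_rw 1 [hq']; rw [conj_apply]; congr 1; nth_rw 1 [← hround]
        rw [conj_apply, h3])
  exact ⟨c, by rw [← map_smul, ← hc, H.bbb_apply]⟩

variable [Finite S] [Finite E]

/-- An element of order prime to 6 inverted by `q` and either inverted or fixed by its conjugate. -/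
theorem eq_one_of_inverted {q : S} (hq : q ∈ Q) {n : S} (hn : (orderOf n).Coprime 6)
    (h1 : q * n * q = n⁻¹) (h2 : (b * q * b⁻¹) * n * (b * q * b⁻¹) = n⁻¹) : n = 1 := by
  set q' := b * q * b⁻¹ with hq'
  have hqm := H.Q_conj q hq
  rcases eq_or_ne q 1 with rfl | hq1
  · rw [one_mul, mul_one] at h1
    have h3 : n ^ 2 = 1 := by rw [pow_two]; exact mul_eq_one_iff_eq_inv.2 h1
    exact orderOf_eq_one_iff.1 ((hn.coprime_dvd_right (by norm_num : 2 ∣ 6)).eq_one_of_dvd
      (orderOf_dvd_of_pow_eq_one h3))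
  -- the product `q q'` centralizes `n`
  set q3 := q * q' with hq3
  have hq3m := mul_mem hq hqm
  have hq31 : q3 ≠ 1 := by
    rw [hq3, hq', ← H.third hq hq1]
    exact fun e => hq1 (conj_eq_one_iff.1 (conj_eq_one_iff.1 e))
  have hcomm : n * q3 = q3 * n := by
    have e1 : q3 * n * q3 = n := by
      rw [hq3]
      calc q * q' * n * (q * q') = q * (q' * n * q') * q := by
            conv_lhs => arg 2; rw [H.Q_comm hq hqm]
            simp only [← hq', mul_assoc]
        _ = q * n⁻¹ * q := by rw [h2]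
        _ = (q * n * q)⁻¹ := by
            rw [mul_inv_rev, mul_inv_rev, inv_eq_of_mul_eq_one_right (H.Q_sq q hq), mul_assoc]
        _ = n := by rw [h1, inv_inv]
    calc n * q3 = q3 * n * q3 * q3 := by rw [e1]
      _ = q3 * n := by rw [mul_assoc _ q3 q3, H.Q_sq _ hq3m, mul_one]
  obtain ⟨l, hl⟩ := H.minus_minus hq hq1
  obtain ⟨w₁, w₂, hw⟩ := H.exists_pair hq3m hq31
  let W3 : Submodule (ZMod 3) E := LinearMap.ker (ρ q3 + LinearMap.id)
  have hW3 : ∀ x, x ∈ W3 ↔ ρ q3 x = -x := fun x => by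
    simp [W3, LinearMap.mem_ker, add_eq_zero_iff_eq_neg]
  have hc3 : Nat.card ↥W3 ≤ 9 :=
    le_trans (Nat.card_le_card_of_injective (Submodule.inclusion
      (show W3 ≤ Submodule.span (ZMod 3) {w₁, w₂} from fun x hx => hw x ((hW3 x).1 hx)))
      (Submodule.inclusion_injective _)) (card_span_pair_le w₁ w₂)
  have hfix3 : ∀ x, ρ q3 x = -x → ρ n x = x := fun x hx => fixed_of_small hn (W := W3)
    (fun y hy => (hW3 _).2 (by rw [← mul_apply, ← hcomm, mul_apply, (hW3 y).1 hy, map_neg]))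
    hc3 ((hW3 x).2 hx)
  -- on the fixed space of `q3`
  have hplus : ∀ x, ρ q3 x = x → ∃ c : ZMod 3, ρ q x - x = c • l := fun x hx => by
    refine hl _ ?_ ?_
    · rw [map_sub, ← mul_apply, H.Q_sq q hq, one_apply]; abel
    · have e : ρ q' x = ρ q x := by
        conv_lhs => rw [← hx, hq3, ← mul_apply, ← mul_assoc, H.Q_comm hqm hq, mul_assoc, H.Q_sq _ hqm,
          mul_one]
      rw [← hq', map_sub, e, ← mul_apply, H.Q_comm hqm hq, ← hq3, hx]; abel
  let W : Submodule (ZMod 3) E := LinearMap.range (ρ (n ^ 2) - LinearMap.id)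
  have hWle : W ≤ Submodule.span (ZMod 3) {ρ n l, l} := by
    rintro y ⟨x, rfl⟩
    show ρ (n ^ 2) x - x ∈ _
    set xp := -(x + ρ q3 x) with hxp
    set xm := -(x - ρ q3 x) with hxm
    have hx : x = xp + xm := by
      rw [hxp, hxm]
      have := three_add x
      calc x = x + x + x - (x + x) := by abel
        _ = _ := by rw [this]; abel
    have hp : ρ q3 xp = xp := by
      rw [hxp, map_neg, map_add, ← mul_apply, H.Q_sq _ hq3m, one_apply]; abel
    have hm : ρ q3 xm = -xm := by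
      rw [hxm, map_neg, map_sub, ← mul_apply, H.Q_sq _ hq3m, one_apply]; abel
    rw [hx, map_add, pow_apply_fixed ρ (hfix3 xm hm) 2, add_sub_add_right_eq_sub]
    set z := ρ n⁻¹ (ρ q xp) with hz
    have hzp : ρ q3 z = z := by
      have hc : q3 * n⁻¹ = n⁻¹ * q3 := ((show Commute q3 n from hcomm.symm).inv_right).eq
      rw [hz, ← mul_apply, hc, mul_apply, H.Q_apply_comm hq3m hq, hp]
    obtain ⟨c, hc⟩ := hplus z hzp
    obtain ⟨d, hd⟩ := hplus xp hp
    refine Submodule.mem_span_pair.2 ⟨c, d, ?_⟩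
    rw [← map_smul, ← hc, ← hd, map_sub, hz, self_inv_apply]
    have e : ρ n (ρ q (ρ n⁻¹ (ρ q xp))) = ρ (n ^ 2) xp := by
      have hn' : q * n⁻¹ * q = n := by
        calc q * n⁻¹ * q = q * (q * n * q) * q := by rw [h1]
          _ = (q * q) * n * (q * q) := by group
          _ = n := by rw [H.Q_sq q hq, one_mul, mul_one]
      rw [← mul_apply ρ q, ← mul_apply ρ (q * n⁻¹), hn', pow_two, mul_apply]
    rw [e]; abel
  have hcW : Nat.card ↥W ≤ 9 := le_trans (Nat.card_le_card_of_injective (Submodule.inclusion hWle)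
    (Submodule.inclusion_injective _)) (card_span_pair_le _ _)
  have hn2 : (orderOf (n ^ 2)).Coprime 6 := hn.coprime_dvd_left (orderOf_pow_dvd 2)
  have hfix : ∀ x, ρ (n ^ 2) x = x := fun x => by
    refine fixed_of_series ρ (hn2.coprime_dvd_right (by norm_num : 3 ∣ 6))
      (w := ρ (n ^ 2) x - x) (by abel) ?_
    refine fixed_of_small hn2 (W := W) (fun y hy => ?_) hcW ⟨x, rfl⟩
    obtain ⟨z, rfl⟩ := hy
    exact ⟨ρ (n ^ 2) z, by simp [map_sub]⟩
  have h3 : n ^ 2 = 1 := H.faithful (LinearMap.ext fun x => by rw [hfix x, one_apply])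
  exact orderOf_eq_one_iff.1 ((hn.coprime_dvd_right (by norm_num : 2 ∣ 6)).eq_one_of_dvd
    (orderOf_dvd_of_pow_eq_one h3))

/-- A four group centralizes any abelian subgroup of order prime to 6 that it normalizes. -/
theorem centralizes_abelian {V : Subgroup S} (hV : (Nat.card ↥V).Coprime 6)
    (hab : ∀ m ∈ V, ∀ m' ∈ V, m * m' = m' * m) (hQV : ∀ q ∈ Q, ∀ m ∈ V, q * m * q ∈ V) :
    ∀ q ∈ Q, ∀ m ∈ V, q * m = m * q := by
  intro q hq m hm
  have ho : ∀ x ∈ V, (orderOf x).Coprime 6 := fun x hx =>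
    hV.coprime_dvd_left ((Subgroup.orderOf_mk x hx).symm ▸ orderOf_dvd_natCard (⟨x, hx⟩ : ↥V))
  have qq := H.Q_sq q hq
  have qi : q⁻¹ = q := inv_eq_of_mul_eq_one_right qq
  set q' := b * q * b⁻¹ with hq'
  have hqm := H.Q_conj q hq
  have q'q' := H.Q_sq q' hqm
  have q'i : q'⁻¹ = q' := inv_eq_of_mul_eq_one_right q'q'
  clear_value q'
  rw [← hq'] at hqm
  have cqm : ∀ y ∈ V, (q' * y * q') ∈ V := fun y hy => hQV q' hqm y hy
  set n := m * (q * m * q)⁻¹ with hn
  have hnV : n ∈ V := mul_mem hm (inv_mem (hQV q hq m hm))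
  have hninv : q * n * q = n⁻¹ := by
    calc q * n * q = (q * m * q) * (q * (q * m * q)⁻¹ * q) := by
          rw [hn]
          calc q * (m * (q * m * q)⁻¹) * q = q * m * (q * q) * (q * m * q)⁻¹ * q := by
                rw [qq, mul_one]; simp only [mul_assoc]
            _ = (q * m * q) * (q * (q * m * q)⁻¹ * q) := by simp only [mul_assoc]
      _ = (q * m * q) * m⁻¹ := by
          rw [mul_inv_rev, mul_inv_rev, qi]
          congr 1
          calc q * (q * (m⁻¹ * q)) * q = (q * q) * m⁻¹ * (q * q) := by simp only [mul_assoc]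
            _ = m⁻¹ := by rw [qq, one_mul, mul_one]
      _ = n⁻¹ := by rw [hn, mul_inv_rev, inv_inv]
  clear_value n
  -- the part fixed by `q'`
  set n' := n * (q' * n * q') with hn'
  have hn'V : n' ∈ V := mul_mem hnV (cqm n hnV)
  have hn'1 : n' = 1 := by
    rcases eq_or_ne q 1 with h | hq1
    · have e : n = 1 := by rw [hn, h, one_mul, mul_one, mul_inv_cancel]
      rw [hn', e, mul_one, one_mul, q'q']
    have hfix' : q' * n' * q' = n' := by
      calc q' * n' * q' = (q' * n * q') * n * (q' * q') := by rw [hn']; simp only [mul_assoc]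
        _ = n' := by rw [q'q', mul_one, hn', hab _ (cqm n hnV) n hnV]
    have hinv' : q * n' * q = n'⁻¹ := by
      have e : q * q' = q' * q := H.Q_comm hq hqm
      have e1 : q * (q' * n * q') * q = q' * n⁻¹ * q' := by
        calc q * (q' * n * q') * q = (q * q') * n * (q' * q) := by simp only [mul_assoc]
          _ = (q' * q) * n * (q * q') := by rw [e]
          _ = q' * (q * n * q) * q' := by simp only [mul_assoc]
          _ = _ := by rw [hninv]
      have e2 : (q' * n * q')⁻¹ = q' * n⁻¹ * q' := by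
        rw [mul_inv_rev, mul_inv_rev, q'i, mul_assoc]
      calc q * n' * q = (q * n * q) * (q * (q' * n * q') * q) := by
            rw [hn']
            calc q * (n * (q' * n * q')) * q = q * n * (q * q) * (q' * n * q') * q := by
                  rw [qq, mul_one]; simp only [mul_assoc]
              _ = _ := by simp only [mul_assoc]
        _ = (q' * n * q')⁻¹ * n⁻¹ := by
            rw [hninv, e1, e2]
            exact hab _ (inv_mem hnV) _ (cqm _ (inv_mem hnV))
        _ = n'⁻¹ := by rw [hn']; exact (mul_inv_rev n _).symm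
    set q3 := q * q' with hq3
    have hq3m := mul_mem hq hqm
    have hrot : b * q3 * b⁻¹ = q := by
      rw [hq3, hq', ← H.third hq hq1, H.conj3]
    refine H.eq_one_of_inverted hq3m (ho _ hn'V) ?_ (by rw [hrot]; exact hinv')
    calc q3 * n' * q3 = q * (q' * n' * q') * q := by
          rw [hq3]
          calc q * q' * n' * (q * q') = q * q' * n' * (q' * q) := by rw [H.Q_comm hq hqm]
            _ = _ := by simp only [mul_assoc]
      _ = n'⁻¹ := by rw [hfix', hinv']
  have h2 : q' * n * q' = n⁻¹ := eq_inv_of_mul_eq_one_right hn'1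
  have hone := H.eq_one_of_inverted hq (ho n hnV) hninv (by rw [← hq']; exact h2)
  rw [hn, mul_inv_eq_one] at hone
  calc q * m = q * m * (q * q) := by rw [qq, mul_one]
    _ = (q * m * q) * q := by group
    _ = m * q := by rw [← hone]

end Hyp

end Cfsg.Agent.Cores.CubicBlock
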