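import Cfsg.Agent.Cores.CubicMonomial
import Cfsg.Agent.Coprime.Centralize
import Cfsg.Agent.PGroups.Extraspecial

/-!
Without a noncentral normal elementary abelian subgroup, `O₂(R)` is extraspecial.
-/

set_option autoImplicit false

namespace Cfsg.Agent.Cores.CubicBlock

open Subgroup
open scoped commutatorElement

universe u v

variable {S : Type u} [Group S] {E : Type v} [AddCommGroup E] [Module (ZMod 3) E]
variable {ρ : Representation (ZMod 3) S E} {b : S} {Q R : Subgroup S}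

/-- Acts as `-1` on the moved space. -/
def IsNeg (ρ : Representation (ZMod 3) S E) (R : Subgroup S) (m : S) : Prop :=
  ∀ x ∈ movedSp ρ R, ρ m x = -x

/-- There is no noncentral normal elementary abelian subgroup. -/
def NoElem (ρ : Representation (ZMod 3) S E) (b : S) (R : Subgroup S) : Prop :=
  ∀ M : Subgroup S, ElemNormal b R M → ∀ m ∈ M, m = 1 ∨ IsNeg ρ R m

namespace Hyp

variable (H : Hyp ρ b Q R) [Finite S]
include H

theorem neg_unique {m m' : S} (hm : m ∈ R) (hm' : m' ∈ R) (h : IsNeg ρ R m) (h' : IsNeg ρ R m') :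
    m = m' := by
  refine H.faithful (LinearMap.ext fun x => ?_)
  obtain ⟨f, hf, y, hy, rfl⟩ := exists_fixed_add_moved ρ H.R_cop x
  rw [map_add, map_add, hf m hm, hf m' hm', h y hy, h' y hy]

theorem neg_comm {m : S} (hm : m ∈ R) (h : IsNeg ρ R m) :
    m * b = b * m ∧ ∀ r ∈ R, m * r = r * m := by
  constructor
  · refine H.faithful (LinearMap.ext fun x => ?_)
    obtain ⟨f, hf, y, hy, rfl⟩ := exists_fixed_add_moved ρ H.R_cop x
    rw [mul_apply, mul_apply, map_add, map_add, map_add, map_add, H.b_on_spaces.1 f hf, hf m hm,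
      H.b_on_spaces.1 f hf, h y hy, h _ (H.moved_binv y hy), map_neg]
  · intro r hr
    refine H.faithful (LinearMap.ext fun x => ?_)
    obtain ⟨f, hf, y, hy, rfl⟩ := exists_fixed_add_moved ρ H.R_cop x
    rw [mul_apply, mul_apply, map_add, map_add, map_add, map_add, hf r hr, hf m hm, hf r hr,
      h y hy, h _ (H.moved_Rinv r hr y hy), map_neg]

omit [Finite S] in
/-- If `b` centralizes an invariant subgroup then so does `R`. -/
theorem R_centralizes {A : Subgroup S} (hA : ∀ g ∈ normalizer (R : Set S), ∀ a ∈ A, g * a * g⁻¹ ∈ A)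
    (hb : ∀ a ∈ A, b * a = a * b) : ∀ r ∈ R, ∀ a ∈ A, r * a = a * r := by
  suffices h : ∀ g ∈ closure {s | ∃ r ∈ R, s = ⁅r, b⁆}, ∀ a ∈ A, g * a = a * g from
    fun r hr => h r (H.R_gen hr)
  intro g hg
  induction hg using Subgroup.closure_induction with
  | mem g hg =>
    obtain ⟨t, ht, rfl⟩ := hg
    intro a ha
    have hbi : ∀ x ∈ A, b⁻¹ * x = x * b⁻¹ := fun x hx =>
      ((show Commute b x from hb x hx).inv_left).eq
    set a' := t⁻¹ * a * t with ha'
    have ha'A : a' ∈ A := by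
      have := hA t⁻¹ (inv_mem (le_normalizer ht)) a ha
      rwa [inv_inv] at this
    have e1 : t⁻¹ * a = a' * t⁻¹ := by rw [ha']; group
    have e2 : t * a' = a * t := by rw [ha']; group
    calc ⁅t, b⁆ * a = t * b * t⁻¹ * (b⁻¹ * a) := by rw [commutatorElement_def]; group
      _ = t * b * (t⁻¹ * a) * b⁻¹ := by rw [hbi a ha]; group
      _ = t * (b * a') * t⁻¹ * b⁻¹ := by rw [e1]; group
      _ = (t * a') * b * t⁻¹ * b⁻¹ := by rw [hb a' ha'A]; group
      _ = a * ⁅t, b⁆ := by rw [e2, commutatorElement_def]; group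
  | one => intro a _; rw [one_mul, mul_one]
  | mul x y _ _ hx hy => intro a ha; rw [mul_assoc, hy a ha, ← mul_assoc, hx a ha, mul_assoc]
  | inv x _ hx => intro a ha; exact ((show Commute x a from hx a ha).inv_left).eq

omit [Finite S] in
/-- Elementary subgroups inside abelian ones. -/
theorem squareRoots {A : Subgroup S} (hAR : A ≤ R) (hc : ∀ a ∈ A, ∀ c ∈ A, a * c = c * a)
    (hR : ∀ r ∈ R, ∀ a ∈ A, r * a * r⁻¹ ∈ A) (hb : ∀ a ∈ A, b * a * b⁻¹ ∈ A) :
    ∃ M : Subgroup S, ElemNormal b R M ∧ ∀ x, x ∈ M ↔ x ∈ A ∧ x * x = 1 := by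
  refine ⟨
    { carrier := {x | x ∈ A ∧ x * x = 1}
      one_mem' := ⟨one_mem A, one_mul _⟩
      mul_mem' := fun {x y} hx hy => ⟨mul_mem hx.1 hy.1, by
        rw [show x * y * (x * y) = x * (y * x) * y by group, hc y hy.1 x hx.1,
          show x * (x * y) * y = (x * x) * (y * y) by group, hx.2, hy.2, one_mul]⟩
      inv_mem' := fun {x} hx => ⟨inv_mem hx.1, by rw [← mul_inv_rev, hx.2, inv_one]⟩ },
    ⟨fun x hx => hAR hx.1, fun x hx y hy => hc x hx.1 y hy.1, fun x hx => hx.2,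
      fun r hr x hx => ⟨hR r hr x hx.1, ?_⟩, fun x hx => ⟨hb x hx.1, ?_⟩⟩, fun x => Iff.rfl⟩
  · rw [show r * x * r⁻¹ * (r * x * r⁻¹) = r * (x * x) * r⁻¹ by group, hx.2, mul_one, mul_inv_cancel]
  · rw [show b * x * b⁻¹ * (b * x * b⁻¹) = b * (x * x) * b⁻¹ by group, hx.2, mul_one, mul_inv_cancel]

/-- Abelian invariant 2-subgroups are signs. -/
theorem abelian_le_sign (hno : NoElem ρ b R) {A : Subgroup S} (hAR : A ≤ R) (hA2 : IsPGroup 2 ↥A)
    (hc : ∀ a ∈ A, ∀ c ∈ A, a * c = c * a)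
    (hn : ∀ g ∈ normalizer (R : Set S), ∀ a ∈ A, g * a * g⁻¹ ∈ A) :
    ∀ a ∈ A, a = 1 ∨ IsNeg ρ R a := by
  have hbN := H.b_mem_normalizer
  obtain ⟨M, hM, hMmem⟩ := H.squareRoots hAR hc (fun r hr => hn r (le_normalizer hr)) (hn b hbN)
  have hbA : ∀ (j : ℕ), ∀ a ∈ A, a ^ 2 ^ j = 1 → b * a = a * b := by
    intro j
    induction j with
    | zero => intro a _ h; rw [pow_zero, pow_one] at h; rw [h, mul_one, one_mul]
    | succ j ih =>
      intro a ha h
      have h2 : b * (a * a) = a * a * b := ih _ (mul_mem ha ha) (by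
        rw [← pow_two, ← pow_mul, ← pow_succ']; exact h)
      set w := b * a * b⁻¹ * a⁻¹ with hw
      have hwA : w ∈ A := mul_mem (hn b hbN a ha) (inv_mem ha)
      have hww : w * w = 1 := by
        calc w * w = (b * a * b⁻¹) * (a⁻¹ * (b * a * b⁻¹)) * a⁻¹ := by rw [hw]; group
          _ = (b * a * b⁻¹) * ((b * a * b⁻¹) * a⁻¹) * a⁻¹ := by
              rw [hc _ (inv_mem ha) _ (hn b hbN a ha)]
          _ = b * (a * a) * b⁻¹ * (a * a)⁻¹ := by group
          _ = 1 := by rw [h2]; group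
      rcases hno M hM w ((hMmem w).2 ⟨hwA, hww⟩) with h1 | h1
      · rw [hw, mul_inv_eq_one, mul_inv_eq_iff_eq_mul] at h1; exact h1
      · exfalso
        have hwb := (H.neg_comm (hAR hwA) h1).1
        have e1 : b * a * b⁻¹ = w * a := by rw [hw]; group
        have hbw : b * w * b⁻¹ = w := by rw [← hwb, mul_inv_cancel_right]
        have e3 : a = w * w * w * a := by
          calc a = b * (b * (b * a * b⁻¹) * b⁻¹) * b⁻¹ := (H.conj3 a).symm
            _ = b * (b * (w * a) * b⁻¹) * b⁻¹ := by rw [e1]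
            _ = b * ((b * w * b⁻¹) * (b * a * b⁻¹)) * b⁻¹ := by group
            _ = b * (w * (w * a)) * b⁻¹ := by rw [hbw, e1]
            _ = (b * w * b⁻¹) * ((b * w * b⁻¹) * (b * a * b⁻¹)) := by group
            _ = w * w * w * a := by rw [hbw, e1]; simp only [mul_assoc]
        rw [hww, one_mul] at e3
        have hw1 : w = 1 := right_eq_mul.1 e3
        obtain ⟨u, hu, -, huv, -⟩ := H.sign_line
        have := h1 u (H.line_in_moved huv)
        rw [hw1, one_apply] at this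
        exact hu (eq_zero_of_eq_neg this)
  intro a ha
  have hall : ∀ c ∈ A, b * c = c * b := fun c hc' => by
    obtain ⟨k, hk⟩ := hA2 ⟨c, hc'⟩
    exact hbA k c hc' (congrArg Subtype.val hk)
  exact H.central_sign (hAR ha) (hall a ha).symm
    fun r hr => ((H.R_centralizes hn hall r hr a ha)).symm

variable [Finite E] [Group.IsSolvable S]

theorem two_core_extraspecial (hno : NoElem ρ b R) {U : Subgroup S} (hUR : U ≤ R)
    (hU2 : IsPGroup 2 ↥U) (hUn : ∀ g ∈ normalizer (R : Set S), ∀ u ∈ U, g * u * g⁻¹ ∈ U)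
    (hcen : R ⊓ centralizer (U : Set S) ≤ U) :
    ∃ z ∈ U, z ≠ 1 ∧ IsNeg ρ R z ∧ (∀ x ∈ U, ∀ y ∈ U, ⁅x, y⁆ ∈ zpowers z) ∧
      (∀ x ∈ U, x * x ∈ zpowers z) ∧ (∀ x ∈ U, (∀ y ∈ U, x * y = y * x) → x ∈ zpowers z) ∧
      ∃ x ∈ U, ∃ y ∈ U, x * y ≠ y * x := by
  haveI : Fact (Nat.Prime 2) := ⟨Nat.prime_two⟩
  let Z : Subgroup S := U ⊓ centralizer (U : Set S)
  have hZn : ∀ g ∈ normalizer (R : Set S), ∀ a ∈ Z, g * a * g⁻¹ ∈ Z := fun g hg a ha =>
    mem_inf.2 ⟨hUn g hg a (mem_inf.1 ha).1, mem_centralizer_iff.2 fun y hy => by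
      have hy' : g⁻¹ * y * g ∈ U := by
        have := hUn g⁻¹ (inv_mem hg) y hy
        rwa [inv_inv] at this
      have h := mem_centralizer_iff.1 (mem_inf.1 ha).2 _ hy'
      calc y * (g * a * g⁻¹) = g * ((g⁻¹ * y * g) * a) * g⁻¹ := by group
        _ = g * (a * (g⁻¹ * y * g)) * g⁻¹ := by rw [h]
        _ = g * a * g⁻¹ * y := by group⟩
  have hZs := H.abelian_le_sign hno (A := Z) (inf_le_left.trans hUR) (hU2.to_le inf_le_left)
    (fun a ha c hc => mem_centralizer_iff.1 (mem_inf.1 hc).2 a (mem_inf.1 ha).1) hZn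
  have hUne : U ≠ ⊥ := fun h => by
    have hle : R ≤ ⊥ := fun r hr => h ▸ hcen (mem_inf.2 ⟨hr, mem_centralizer_iff.2 fun y hy => by
      rw [h] at hy
      rw [show y = 1 from hy, one_mul, mul_one]⟩)
    have h4 := H.Q_card
    rw [le_bot_iff.1 (H.Q_le.trans hle), card_bot] at h4
    norm_num at h4
  obtain ⟨z, hzZ, hz1⟩ : ∃ z ∈ Z, z ≠ 1 := by
    haveI : Nontrivial ↥U := (nontrivial_iff_ne_bot _).2 hUne
    haveI := hU2.center_nontrivial
    obtain ⟨⟨⟨w, hw⟩, hwc⟩, hw1⟩ := exists_ne (1 : ↥(center ↥U))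
    exact ⟨w, mem_inf.2 ⟨hw, mem_centralizer_iff.2 fun y hy =>
      congrArg Subtype.val (mem_center_iff.1 hwc ⟨y, hy⟩)⟩, fun h => hw1 (Subtype.ext (Subtype.ext h))⟩
  have hzU := (mem_inf.1 hzZ).1
  have hneg := (hZs z hzZ).resolve_left hz1
  have hzR := hUR hzU
  have hsgn : ∀ a ∈ R, a = 1 ∨ IsNeg ρ R a → a ∈ zpowers z := by
    rintro a ha (rfl | h)
    · exact one_mem _
    · rw [H.neg_unique ha hzR h hneg]; exact mem_zpowers z
  have hZz : Z ≤ zpowers z := fun a ha => hsgn a (hUR (mem_inf.1 ha).1) (hZs a ha)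
  have hzpZ : zpowers z ≤ Z := zpowers_le.2 hzZ
  -- the derived subgroup
  have hW : ∀ (n : ℕ) (W : Subgroup S), Nat.card ↥W = n → W ≤ ⁅U, U⁆ →
      (∀ g ∈ normalizer (R : Set S), ∀ a ∈ W, g * a * g⁻¹ ∈ W) → W ≤ zpowers z := by
    intro n
    induction n using Nat.strong_induction_on with | _ n ih => ?_
    intro W hn hWU hWn
    rcases eq_or_ne W ⊥ with rfl | hWne
    · exact bot_le
    have hWU' : W ≤ U := hWU.trans (commutator_le_self U)
    have hUW : U ≤ normalizer (W : Set S) := fun u hu => mem_normalizer_iff.2 fun a =>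
      ⟨hWn u (le_normalizer (hUR hu)) a, fun h => by
        have := hWn u⁻¹ (inv_mem (le_normalizer (hUR hu))) _ h
        rwa [inv_inv, show u⁻¹ * (u * a * u⁻¹) * u = a by group] at this⟩
    have hlt := Coprime.commutator_lt_of_isPGroup (hU2.to_le hWU') hU2 hUW hWne
    have hsub : ⁅W, U⁆ ≤ zpowers z := by
      refine ih _ (hn ▸ lt_of_le_of_ne (card_le_of_le hlt.le) fun h =>
        hlt.ne (eq_of_le_of_card_ge hlt.le h.ge)) _ rfl (hlt.le.trans hWU) fun g hg a ha => ?_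
      have hgW : g ∈ normalizer (W : Set S) := mem_normalizer_iff.2 fun x => ⟨hWn g hg x, fun h => by
        have := hWn g⁻¹ (inv_mem hg) _ h
        rwa [inv_inv, show g⁻¹ * (g * x * g⁻¹) * g = x by group] at this⟩
      have hgU : g ∈ normalizer (U : Set S) := mem_normalizer_iff.2 fun x => ⟨hUn g hg x, fun h => by
        have := hUn g⁻¹ (inv_mem hg) _ h
        rwa [inv_inv, show g⁻¹ * (g * x * g⁻¹) * g = x by group] at this⟩
      exact (mem_normalizer_iff.1 (Coprime.mem_normalizer_commutator hgW hgU) a).1 ha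
    have hzc : ⁅zpowers z, U⁆ = ⊥ :=
      commutator_eq_bot_iff_le_centralizer.2 (hzpZ.trans inf_le_right)
    have h1 : ⁅⁅U, W⁆, U⁆ = ⊥ :=
      le_bot_iff.1 ((commutator_mono ((commutator_comm U W).le.trans hsub) le_rfl).trans hzc.le)
    have h2 : ⁅⁅W, U⁆, U⁆ = ⊥ := le_bot_iff.1 ((commutator_mono hsub le_rfl).trans hzc.le)
    have h3 := commutator_commutator_eq_bot_of_rotate (H₁ := U) (H₂ := U) h1 h2
    have hcentW : ⁅U, U⁆ ≤ centralizer (W : Set S) := commutator_eq_bot_iff_le_centralizer.1 h3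
    exact fun a ha => hsgn a (hUR (hWU' ha)) (H.abelian_le_sign hno (hWU'.trans hUR) (hU2.to_le hWU')
      (fun a ha c hc => (mem_centralizer_iff.1 (hcentW (hWU ha)) c hc).symm) hWn a ha)
  have hder : ⁅U, U⁆ ≤ zpowers z := hW _ _ rfl le_rfl fun g hg a ha => by
    have hgU : g ∈ normalizer (U : Set S) := mem_normalizer_iff.2 fun x => ⟨hUn g hg x, fun h => by
      have := hUn g⁻¹ (inv_mem hg) _ h
      rwa [inv_inv, show g⁻¹ * (g * x * g⁻¹) * g = x by group] at this⟩
    exact (mem_normalizer_iff.1 (Coprime.mem_normalizer_commutator hgU hgU) a).1 ha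
  have hzz : z * z = 1 := by
    rcases hZs (z * z) (mul_mem hzZ hzZ) with h | h
    · exact h
    · exact absurd (mul_eq_left.1 (H.neg_unique (mul_mem hzR hzR) hzR h hneg) : z = 1) hz1
  have hzp : ∀ a ∈ zpowers z, a = 1 ∨ a = z := fun a ha => by
    obtain ⟨i, rfl⟩ := mem_zpowers_iff.1 ha
    have h2 : z ^ (2 : ℤ) = 1 := by rw [show (2 : ℤ) = ((2 : ℕ) : ℤ) from rfl, zpow_natCast, pow_two, hzz]
    rcases Int.even_or_odd i with ⟨j, rfl⟩ | ⟨j, rfl⟩
    · left; rw [← two_mul, zpow_mul, h2, one_zpow]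
    · right; rw [zpow_add_one, zpow_mul, h2, one_zpow, one_mul]
  refine ⟨z, hzU, hz1, hneg, fun x hx y hy => hder (commutator_mem_commutator hx hy), fun x hx => ?_,
    fun x hx h => hZz (mem_inf.2 ⟨hx, mem_centralizer_iff.2 fun y hy => (h y hy).symm⟩), ?_⟩
  · refine hZz (mem_inf.2 ⟨mul_mem hx hx, mem_centralizer_iff.2 fun y hy => ?_⟩)
    obtain ⟨c, hc, hcy⟩ : ∃ c ∈ zpowers z, x * y = c * (y * x) :=
      ⟨⁅x, y⁆, hder (commutator_mem_commutator hx hy), by rw [commutatorElement_def]; group⟩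
    have hcx : ∀ w ∈ U, c * w = w * c := fun w hw =>
      (mem_centralizer_iff.1 (mem_inf.1 (hzpZ hc)).2 w hw).symm
    have hcc : c * c = 1 := by rcases hzp c hc with rfl | rfl; exacts [one_mul _, hzz]
    calc y * (x * x) = (c * c) * (y * x) * x := by rw [hcc, one_mul, mul_assoc]
      _ = c * (x * y) * x := by rw [mul_assoc c c, ← hcy]
      _ = (c * x) * (y * x) := by simp only [mul_assoc]
      _ = x * (c * (y * x)) := by rw [hcx x hx, mul_assoc]
      _ = x * x * y := by rw [← hcy, mul_assoc]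
  · by_contra hab
    push Not at hab
    have hUZ : U ≤ zpowers z := fun x hx => hZz (mem_inf.2
      ⟨hx, mem_centralizer_iff.2 fun y hy => (hab x hx y hy).symm⟩)
    have hle : R ≤ U := fun r hr => hcen (mem_inf.2 ⟨hr, mem_centralizer_iff.2 fun y hy => by
      rcases hzp y (hUZ hy) with rfl | rfl
      · rw [one_mul, mul_one]
      · exact (H.neg_comm hzR hneg).2 r hr⟩)
    have h4 := card_le_of_le (H.Q_le.trans (hle.trans hUZ))
    rw [H.Q_card, Nat.card_zpowers,
      orderOf_eq_prime (by rw [pow_two]; exact hzz : z ^ 2 = 1) hz1] at h4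
    norm_num at h4

end Hyp

end Cfsg.Agent.Cores.CubicBlock
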