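import Cfsg.Agent.Cores.CubicIrred
import Cfsg.Agent.Cores.PCore

/-!
`R = [R, b]` has no normal abelian subgroup of odd order.
-/

set_option autoImplicit false

namespace Cfsg.Agent.Cores.CubicBlock

open Subgroup
open scoped commutatorElement

universe u v

variable {S : Type u} [Group S] {E : Type v} [AddCommGroup E] [Module (ZMod 3) E]
variable {ρ : Representation (ZMod 3) S E} {b : S} {Q R : Subgroup S}

/-- Characteristic subgroups of `R` are invariant under the normalizer. -/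
theorem conj_mem_map_char {R : Subgroup S} (K : Subgroup ↥R) [hK : K.Characteristic] {g : S}
    (hg : g ∈ normalizer (R : Set S)) {k : S} (hk : k ∈ K.map R.subtype) :
    g * k * g⁻¹ ∈ K.map R.subtype := by
  obtain ⟨k, hk, rfl⟩ := hk
  let e : ↥R ≃* ↥R := normalizerMonoidHom R ⟨g, hg⟩
  have h : K.map e.toMonoidHom = K := (Subgroup.characteristic_iff_map_eq.1 hK) e
  exact ⟨e k, h.le ⟨k, hk, rfl⟩, rfl⟩

namespace Hyp

variable (H : Hyp ρ b Q R) [Finite S]
include H

theorem b_mem_normalizer : b ∈ normalizer (R : Set S) := by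
  rw [mem_normalizer_iff]
  refine fun h => ⟨H.R_conj h, fun hh => ?_⟩
  have := H.binv_conj hh
  rwa [show b⁻¹ * (b * h * b⁻¹) * b = h by group] at this

omit [Finite S] in
theorem sign_line : ∃ u : E, u ≠ 0 ∧ (∀ x, ∃ a : ZMod 3, tb ρ b (tb ρ b x) = a • u) ∧
    (∃ v, tb ρ b (tb ρ b v) = u) ∧
    ∀ c : S, c * b = b * c → ρ c u = u ∨ ρ c u = -u := by
  obtain ⟨v, hv, hspan⟩ := H.blk
  have hsq : ∀ x, ∃ a : ZMod 3, tb ρ b (tb ρ b x) = a • tb ρ b (tb ρ b v) := fun x => by
    obtain ⟨a, c, h⟩ := hspan x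
    exact ⟨a, by rw [h, tb_add, tb_smul, tb_smul, H.tb_cube, smul_zero, add_zero]⟩
  refine ⟨_, hv, hsq, ⟨v, rfl⟩, fun c hc => ?_⟩
  have hcomm : ∀ x, ρ c (tb ρ b x) = tb ρ b (ρ c x) := fun x => by
    rw [tb, tb, map_sub, ← mul_apply, hc, mul_apply]
  obtain ⟨a, ha⟩ := hsq (ρ c v)
  rw [← hcomm, ← hcomm] at ha
  have hane : a ≠ 0 := fun h => by
    rw [h, zero_smul] at ha
    have := congrArg (ρ c⁻¹) ha
    rw [inv_apply_self, map_zero] at this
    exact hv this
  rw [ha]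
  rcases eq_one_or_neg_one hane with rfl | rfl
  · left; rw [one_smul]
  · right; rw [neg_smul, one_smul]

theorem line_in_moved {u : E} (hu : ∃ v, tb ρ b (tb ρ b v) = u) : u ∈ movedSp ρ R := by
  obtain ⟨v, rfl⟩ := hu
  exact H.b_on_spaces.2 _

/-- An element commuting with `b` and `R` acts as a sign on the moved space. -/
theorem central_sign {z : S} (hzR : z ∈ R) (hzb : z * b = b * z) (hz : ∀ r ∈ R, z * r = r * z) :
    z = 1 ∨ ∀ x ∈ movedSp ρ R, ρ z x = -x := by
  obtain ⟨u, hu, -, huv, hc⟩ := H.sign_line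
  have hum := H.line_in_moved huv
  have key : ∀ a : ZMod 3, ρ z u = a • u → ∀ x ∈ movedSp ρ R, ρ z x = a • x := by
    intro a ha
    let W : Submodule (ZMod 3) E := movedSp ρ R ⊓ LinearMap.ker (ρ z - a • LinearMap.id)
    have hW : ∀ x, x ∈ W ↔ x ∈ movedSp ρ R ∧ ρ z x = a • x := fun x => by
      simp [W, LinearMap.mem_ker, sub_eq_zero]
    rcases H.irreducible (W := W) inf_le_left
      (fun r hr x hx => by
        obtain ⟨h1, h2⟩ := (hW x).1 hx
        exact (hW _).2 ⟨H.moved_Rinv r hr x h1, by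
          rw [← mul_apply, hz r hr, mul_apply, h2, map_smul]⟩)
      (fun x hx => by
        obtain ⟨h1, h2⟩ := (hW x).1 hx
        exact (hW _).2 ⟨H.moved_binv x h1, by rw [← mul_apply, hzb, mul_apply, h2, map_smul]⟩) with h | h
    · exact absurd ((Submodule.mem_bot _).1 (h ▸ (hW u).2 ⟨hum, ha⟩)) hu
    · exact fun x hx => ((hW x).1 (h.symm ▸ hx)).2
  rcases hc z hzb with h | h
  · left
    have h1 := key 1 (by rw [one_smul]; exact h)
    refine H.faithful (LinearMap.ext fun x => ?_)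
    obtain ⟨f, hf, m, hm, rfl⟩ := exists_fixed_add_moved ρ H.R_cop x
    rw [one_apply, map_add, hf z hzR, h1 m hm, one_smul]
  · right
    intro x hx
    rw [key (-1) (by rw [neg_smul, one_smul]; exact h) x hx, neg_smul, one_smul]

variable [Finite E]

theorem normal_abelian_trivial {V : Subgroup S} (hVR : V ≤ R) (hV : (Nat.card ↥V).Coprime 6)
    (hab : ∀ m ∈ V, ∀ m' ∈ V, m * m' = m' * m) (hR : ∀ r ∈ R, ∀ m ∈ V, r * m * r⁻¹ ∈ V)
    (hb : ∀ m ∈ V, b * m * b⁻¹ ∈ V) : V = ⊥ := by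
  have hcomm := H.centralizes_abelian hV hab (fun q hq m hm => by
    have h := hR q (H.Q_le hq) m hm
    rwa [inv_eq_of_mul_eq_one_right (H.Q_sq q hq)] at h)
  haveI : Finite ↥Q := inferInstance
  obtain ⟨q, hq, hq1⟩ : ∃ q ∈ Q, q ≠ 1 := by
    by_contra hcon
    push Not at hcon
    have : Q = ⊥ := eq_bot_iff.2 fun q hq => mem_bot.2 (hcon q hq)
    have h4 := H.Q_card
    rw [this, card_bot] at h4
    norm_num at h4
  obtain ⟨u, -, -, hlw⟩ := H.line_weight
  set q' := b * q * b⁻¹ with hq'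
  have hqm : q' ∈ Q := H.Q_conj q hq
  let L : Submodule (ZMod 3) E := LinearMap.ker (ρ q + LinearMap.id) ⊓
    LinearMap.ker (ρ q' - LinearMap.id)
  have hL : ∀ x, x ∈ L ↔ ρ q x = -x ∧ ρ q' x = x := fun x => by
    simp [L, LinearMap.mem_ker, add_eq_zero_iff_eq_neg, sub_eq_zero]
  have hLc : Nat.card ↥L ≤ 9 := by
    refine le_trans (Nat.card_le_card_of_injective (Submodule.inclusion
      (show L ≤ Submodule.span (ZMod 3) {u + ρ q' u, u} from fun x hx => ?_))
      (Submodule.inclusion_injective _)) (card_span_pair_le _ _)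
    obtain ⟨c, hc⟩ := hlw q hq hq1 x ((hL x).1 hx).1 ((hL x).1 hx).2
    exact Submodule.mem_span_pair.2 ⟨c, 0, by rw [zero_smul, add_zero, hc]⟩
  have hfix : ∀ m ∈ V, ∀ x ∈ L, ρ m x = x := fun m hm x hx => by
    refine fixed_of_small (hV.coprime_dvd_left ((Subgroup.orderOf_mk m hm).symm ▸
      orderOf_dvd_natCard (⟨m, hm⟩ : ↥V))) (W := L) (fun y hy => ?_) hLc hx
    obtain ⟨h1, h2⟩ := (hL y).1 hy
    exact (hL _).2 ⟨by rw [← mul_apply, hcomm q hq m hm, mul_apply, h1, map_neg],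
      by rw [← mul_apply, hcomm q' hqm m hm, mul_apply, h2]⟩
  obtain ⟨x, hxL, hx0⟩ : ∃ x ∈ L, x ≠ 0 := by
    by_contra hcon
    push Not at hcon
    refine hq1 (H.faithful (LinearMap.ext fun x => ?_))
    rw [one_apply]
    set q'' := b * q' * b⁻¹ with hq''
    have hround : b * q'' * b⁻¹ = q := H.conj3 q
    set a := x - ρ q x with ha
    have ha1 : ρ q a = -a := by rw [ha, map_sub, ← mul_apply, H.Q_sq q hq, one_apply, neg_sub]
    have hp : a + ρ q' a = 0 := hcon _ ((hL _).2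
      ⟨by rw [map_add, H.Q_apply_comm hq hqm, ha1, map_neg]; abel,
        by rw [map_add, ← mul_apply, H.Q_sq _ hqm, one_apply, add_comm]⟩)
    have h2 : ρ q' a = -a := eq_neg_of_add_eq_zero_right hp
    have h3 : ρ q'' a = a := by
      rw [hq'', hq', H.third hq hq1, mul_apply, ← hq', h2, map_neg, ha1, neg_neg]
    have h4 : ρ b (ρ b a) = 0 := by
      refine hcon _ ((hL _).2 ⟨?_, ?_⟩)
      · nth_rw 1 [← hround]
        rw [conj_apply, hq'', conj_apply, h2, map_neg, map_neg]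
      · nth_rw 1 [hq']
        rw [conj_apply]
        congr 1
        nth_rw 1 [← hround]
        rw [conj_apply, h3]
    have : a = 0 := by rw [← H.bbb_apply a, h4, map_zero]
    exact (sub_eq_zero.1 this).symm
  let W : Submodule (ZMod 3) E := movedSp ρ R ⊓ fixedSp ρ V
  have hxm : x ∈ movedSp ρ R := by
    have h := sub_mem_movedSp ρ (H.Q_le hq) x
    rwa [((hL x).1 hxL).1, show -x - x = x by rw [sub_eq_add_neg, ← neg_add, ← neg_eq_add, neg_neg]] at h
  rcases H.irreducible (W := W) inf_le_left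
    (fun r hr y hy => ⟨H.moved_Rinv r hr y hy.1, fun m hm => by
      have e : ρ m (ρ r y) = ρ r (ρ (r⁻¹ * m * r) y) := by
        rw [← mul_apply, ← mul_apply, mul_assoc, mul_inv_cancel_left]
      rw [e, hy.2 _ (by simpa using hR r⁻¹ (inv_mem hr) m hm)]⟩)
    (fun y hy => ⟨H.moved_binv y hy.1, fun m hm => by
      have e : ρ m (ρ b y) = ρ b (ρ (b * (b * m * b⁻¹) * b⁻¹) y) := by
        rw [← mul_apply, ← mul_apply]
        congr 2
        calc m * b = (b * b * b) * m * b := by rw [H.bbb, one_mul]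
          _ = b * (b * (b * m * b⁻¹) * b⁻¹) * (b * b * b) := by group
          _ = _ := by rw [H.bbb, mul_one]
      rw [e, hy.2 _ (hb _ (hb _ hm))]⟩) with h | h
  · exact absurd ((Submodule.mem_bot _).1 (h.le (show x ∈ W from ⟨hxm, fun m hm => hfix m hm x hxL⟩))) hx0
  · refine eq_bot_iff.2 fun m hm => mem_bot.2 (H.faithful (LinearMap.ext fun y => ?_))
    obtain ⟨f, hf, y', hy', rfl⟩ := exists_fixed_add_moved ρ H.R_cop y
    rw [one_apply, map_add, hf m (hVR hm), (h.symm ▸ hy' : y' ∈ W).2 m hm]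

/-- The largest normal 2-subgroup of `R` contains its centralizer in `R`. -/
theorem exists_two_core [Group.IsSolvable S] : ∃ U : Subgroup S, U ≤ R ∧ IsPGroup 2 ↥U ∧
    (∀ g ∈ normalizer (R : Set S), ∀ u ∈ U, g * u * g⁻¹ ∈ U) ∧
    (∀ W : Subgroup S, W ≤ R → IsPGroup 2 ↥W → (∀ r ∈ R, ∀ w ∈ W, r * w * r⁻¹ ∈ W) → W ≤ U) ∧
    R ⊓ centralizer (U : Set S) ≤ U := by
  haveI : Fact (Nat.Prime 2) := ⟨Nat.prime_two⟩
  refine ⟨(pCore 2 ↥R).map R.subtype, map_subtype_le _, pCore_isPGroup.map _,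
    fun g hg u hu => conj_mem_map_char _ hg hu, fun W hWR hW hn => ?_, ?_⟩
  · haveI : (W.subgroupOf R).Normal :=
      ⟨fun w hw r => hn r r.2 w hw⟩
    have h1 : W.subgroupOf R ≤ pCore 2 ↥R :=
      le_pCore (hW.of_equiv (subgroupOfEquivOfLe hWR).symm)
    intro w hw
    exact ⟨⟨w, hWR hw⟩, h1 hw, rfl⟩
  have hF : fittingSubgroup ↥R ≤ pCore 2 ↥R := by
    rw [iSup_pCore_eq_fittingSubgroup]
    refine iSup_le fun r => ?_
    by_cases hr2 : (r : ℕ) = 2
    · rw [hr2]
    haveI := Fact.mk r.2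
    by_contra hne
    have hne' : pCore (r : ℕ) ↥R ≠ ⊥ := fun h => hne (h ▸ bot_le)
    haveI : Nontrivial ↥(pCore (r : ℕ) ↥R) := (nontrivial_iff_ne_bot _).2 hne'
    haveI := (pCore_isPGroup (p := (r : ℕ)) (G := ↥R)).center_nontrivial
    set P := pCore (r : ℕ) ↥R
    set Z := (center ↥P).map P.subtype with hZ
    haveI : Z.Characteristic := inferInstance
    have hZp : IsPGroup (r : ℕ) ↥Z := (pCore_isPGroup (p := (r : ℕ)) (G := ↥R)).to_le (map_subtype_le _)
    have hr3 : (r : ℕ) ≠ 3 := fun h3 => by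
      obtain ⟨m, hm⟩ := (pCore_isPGroup (p := (r : ℕ)) (G := ↥R)).exists_card_eq
      have hm0 : m ≠ 0 := fun h0 => hne' (eq_bot_of_card_eq _ (by rw [hm, h0, pow_zero]))
      have h4 : (r : ℕ) ∣ Nat.card ↥R := (dvd_pow_self _ hm0).trans (hm ▸ card_subgroup_dvd_card P)
      rw [h3] at h4
      have := Nat.dvd_gcd h4 (dvd_refl 3)
      rw [H.R_cop] at this
      norm_num at this
    have hbot : Z.map R.subtype = ⊥ := by
      refine H.normal_abelian_trivial (map_subtype_le _) ?_ ?_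
        (fun g hg m hm => conj_mem_map_char _ (le_normalizer hg) hm)
        (fun m hm => conj_mem_map_char _ H.b_mem_normalizer hm)
      · obtain ⟨m, hm⟩ := hZp.exists_card_eq
        rw [card_map_of_injective R.subtype_injective, hm]
        refine Nat.Coprime.pow_left m (r.2.coprime_iff_not_dvd.2 fun h => ?_)
        have h6 := Nat.le_of_dvd (by norm_num) h
        have := r.2.two_le
        interval_cases (r : ℕ) <;> simp_all (config := {decide := true})
      · rintro - ⟨x, ⟨a, ha, rfl⟩, rfl⟩ - ⟨y, ⟨c, hc, rfl⟩, rfl⟩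
        exact congrArg (fun t : ↥P => ((t : ↥R) : S)) (mem_center_iff.1 hc a)
    have : center ↥P = ⊥ := by
      rw [← map_eq_bot_iff_of_injective _ P.subtype_injective]
      exact (map_eq_bot_iff_of_injective _ R.subtype_injective).1 hbot
    exact (nontrivial_iff_ne_bot _).1 inferInstance this
  intro x hx
  obtain ⟨hxR, hxc⟩ := mem_inf.1 hx
  refine ⟨⟨x, hxR⟩, hF (centralizer_fittingSubgroup_le (mem_centralizer_iff.2 fun f hf => ?_)), rfl⟩
  exact Subtype.ext (mem_centralizer_iff.1 hxc f ⟨f, hF hf, rfl⟩)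

end Hyp

end Cfsg.Agent.Cores.CubicBlock
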