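import Cfsg.Agent.Cores.CubicBlock
import Cfsg.Agent.Cores.Fitting

/-!
The moved space of `R = [R, b]` is irreducible when `b` has one cubic block.
-/

set_option autoImplicit false

namespace Cfsg.Agent.Cores.CubicBlock

open Subgroup
open scoped commutatorElement

universe u v

variable {S : Type u} [Group S] {E : Type v} [AddCommGroup E] [Module (ZMod 3) E]
variable (ρ : Representation (ZMod 3) S E)

/-- Vectors fixed by a subgroup. -/
def fixedSp (R : Subgroup S) : Submodule (ZMod 3) E where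
  carrier := {x | ∀ r ∈ R, ρ r x = x}
  add_mem' := fun {x y} hx hy r hr => by rw [map_add, hx r hr, hy r hr]
  zero_mem' := fun r _ => map_zero _
  smul_mem' := fun c {x} hx r hr => by rw [map_smul, hx r hr]

/-- The space moved by a subgroup. -/
def movedSp (R : Subgroup S) : Submodule (ZMod 3) E :=
  Submodule.span (ZMod 3) {y | ∃ r ∈ R, ∃ x : E, y = ρ r x - x}

theorem sub_mem_movedSp {R : Subgroup S} {r : S} (hr : r ∈ R) (x : E) :
    ρ r x - x ∈ movedSp ρ R :=
  Submodule.subset_span ⟨r, hr, x, rfl⟩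

theorem movedSp_le {R : Subgroup S} {W : Submodule (ZMod 3) E}
    (h : ∀ r ∈ R, ∀ x, ρ r x - x ∈ W) : movedSp ρ R ≤ W :=
  Submodule.span_le.2 fun y ⟨r, hr, x, e⟩ => e ▸ h r hr x

theorem map_mem_movedSp {R : Subgroup S} {g : S} (hg : ∀ r ∈ R, g * r * g⁻¹ ∈ R) {y : E}
    (hy : y ∈ movedSp ρ R) : ρ g y ∈ movedSp ρ R := by
  induction hy using Submodule.span_induction with
  | mem y hy =>
    obtain ⟨r, hr, x, rfl⟩ := hy
    have e : ρ g (ρ r x) = ρ (g * r * g⁻¹) (ρ g x) := by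
      rw [← mul_apply, ← mul_apply, inv_mul_cancel_right]
    rw [map_sub, e]
    exact sub_mem_movedSp ρ (hg r hr) _
  | zero => rw [map_zero]; exact zero_mem _
  | add a c _ _ ha hc => rw [map_add]; exact add_mem ha hc
  | smul a c _ hc => rw [map_smul]; exact Submodule.smul_mem _ _ hc

theorem fixed_inf_moved [Finite S] {R : Subgroup S} (hR : (Nat.card ↥R).Coprime 3) {x : E}
    (hx : x ∈ fixedSp ρ R) (hx' : x ∈ movedSp ρ R) : x = 0 := by
  cases nonempty_fintype ↥R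
  let a : E →ₗ[ZMod 3] E := ∑ r : ↥R, ρ (r : S)
  have ha : ∀ y ∈ movedSp ρ R, a y = 0 := fun y hy => by
    induction hy using Submodule.span_induction with
    | mem y hy =>
      obtain ⟨r, hr, z, rfl⟩ := hy
      rw [map_sub, sub_eq_zero]
      simp only [a, LinearMap.sum_apply, ← mul_apply]
      exact Fintype.sum_equiv (Equiv.mulRight (⟨r, hr⟩ : ↥R)) _ _ (fun s => by simp)
    | zero => exact map_zero _
    | add a' c _ _ h1 h2 => rw [map_add, h1, h2, add_zero]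
    | smul c y _ h1 => rw [map_smul, h1, smul_zero]
  have h := ha x hx'
  simp only [a, LinearMap.sum_apply] at h
  rw [Finset.sum_congr rfl (fun (r : ↥R) _ => hx r r.2), Finset.sum_const, Finset.card_univ,
    ← Nat.card_eq_fintype_card, ← Nat.cast_smul_eq_nsmul (ZMod 3)] at h
  refine (smul_eq_zero.1 h).resolve_left fun h3 => ?_
  rw [ZMod.natCast_eq_zero_iff] at h3
  have := Nat.dvd_gcd h3 (dvd_refl 3)
  rw [hR] at this
  norm_num at this

theorem exists_fixed_add_moved [Finite S] {R : Subgroup S} (hR : (Nat.card ↥R).Coprime 3) (x : E) :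
    ∃ f ∈ fixedSp ρ R, ∃ m ∈ movedSp ρ R, x = f + m := by
  cases nonempty_fintype ↥R
  set n : ZMod 3 := (Nat.card ↥R : ZMod 3)
  have hn : n ≠ 0 := fun h3 => by
    rw [ZMod.natCast_eq_zero_iff] at h3
    have := Nat.dvd_gcd h3 (dvd_refl 3)
    rw [hR] at this
    norm_num at this
  refine ⟨n⁻¹ • ∑ r : ↥R, ρ (r : S) x, fun s hs => ?_, n⁻¹ • ∑ r : ↥R, (x - ρ (r : S) x), ?_, ?_⟩
  · rw [map_smul, map_sum]
    congr 1
    exact Fintype.sum_equiv (Equiv.mulLeft (⟨s, hs⟩ : ↥R)) _ _ (fun r => by rw [← mul_apply]; rfl)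
  · refine Submodule.smul_mem _ _ (Submodule.sum_mem _ fun r _ => ?_)
    rw [← neg_sub]
    exact neg_mem (sub_mem_movedSp ρ r.2 x)
  · rw [← smul_add, ← Finset.sum_add_distrib]
    simp only [add_sub_cancel, Finset.sum_const, Finset.card_univ]
    rw [← Nat.card_eq_fintype_card, ← Nat.cast_smul_eq_nsmul (ZMod 3), smul_smul, inv_mul_cancel₀ hn,
      one_smul]

variable {ρ} {b : S} {Q R : Subgroup S}

namespace Hyp

variable (H : Hyp ρ b Q R) [Finite S]
include H

omit H in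
theorem inv_maps {W : Submodule (ZMod 3) E} {g : S} (h : ∀ x ∈ W, ρ g x ∈ W) :
    ∀ x ∈ W, ρ g⁻¹ x ∈ W := by
  have hk : ∀ k : ℕ, ∀ x ∈ W, ρ (g ^ k) x ∈ W := by
    intro k
    induction k with
    | zero => intro x hx; rw [pow_zero, one_apply]; exact hx
    | succ k ih => intro x hx; rw [pow_succ', mul_apply]; exact h _ (ih x hx)
  obtain ⟨k, hk'⟩ := ((isOfFinOrder_of_finite g).mem_powers_iff_mem_zpowers (y := g⁻¹)).2
    (inv_mem (mem_zpowers g))
  simp only at hk'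
  rw [← hk']
  exact hk k

/-- Where `b` is trivial, so is `R`. -/
theorem R_trivial {W U : Submodule (ZMod 3) E}
    (hWR : ∀ r ∈ R, ∀ x ∈ W, ρ r x ∈ W) (hUR : ∀ r ∈ R, ∀ x ∈ U, ρ r x ∈ U)
    (hWb : ∀ x ∈ W, ρ b x ∈ W) (hUb : ∀ x ∈ U, ρ b x ∈ U)
    (ht : ∀ x ∈ W, tb ρ b x ∈ U) : ∀ r ∈ R, ∀ x ∈ W, ρ r x - x ∈ U := by
  have hb2 : b⁻¹ = b * b := inv_eq_of_mul_eq_one_right (by rw [← mul_assoc, H.bbb])
  suffices h : ∀ g ∈ closure {s | ∃ r ∈ R, s = ⁅r, b⁆}, (∀ x ∈ W, ρ g x ∈ W) ∧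
      (∀ x ∈ U, ρ g x ∈ U) ∧ ∀ x ∈ W, ρ g x - x ∈ U from
    fun r hr x hx => (h r (H.R_gen hr)).2.2 x hx
  intro g hg
  induction hg using Subgroup.closure_induction with
  | mem g hg =>
    obtain ⟨r, hr, rfl⟩ := hg
    have hU' : ∀ x ∈ U, ρ ⁅r, b⁆ x ∈ U := fun x hx => by
      rw [commutatorElement_def, mul_apply, mul_apply, mul_apply, hb2]
      exact hUR r hr _ (hUb _ (hUR _ (inv_mem hr) _ (by rw [mul_apply]; exact hUb _ (hUb _ hx))))
    have hW' : ∀ x ∈ W, ρ ⁅r, b⁆ x ∈ W := fun x hx => by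
      rw [commutatorElement_def, mul_apply, mul_apply, mul_apply, hb2]
      exact hWR r hr _ (hWb _ (hWR _ (inv_mem hr) _ (by rw [mul_apply]; exact hWb _ (hWb _ hx))))
    refine ⟨hW', hU', fun x hx => ?_⟩
    set y := ρ b⁻¹ x with hy
    have hyW : y ∈ W := by rw [hy, hb2, mul_apply]; exact hWb _ (hWb _ hx)
    have e1 : x - y ∈ U := by
      have := ht y hyW
      rwa [tb, hy, self_inv_apply] at this
    set z := ρ r⁻¹ y
    have hzW : z ∈ W := hWR _ (inv_mem hr) _ hyW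
    have e2 := hUR r hr _ (ht z hzW)
    rw [tb, map_sub, self_inv_apply] at e2
    rw [commutatorElement_def, mul_apply, mul_apply, mul_apply]
    have : ρ r (ρ b z) - x = (ρ r (ρ b z) - y) - (x - y) := by abel
    rw [this]
    exact sub_mem e2 e1
  | one =>
    refine ⟨fun x hx => ?_, fun x hx => ?_, fun x _ => ?_⟩ <;> rw [one_apply]
    · exact hx
    · exact hx
    · rw [sub_self]; exact zero_mem _
  | mul g k _ _ hg hk =>
    refine ⟨fun x hx => ?_, fun x hx => ?_, fun x hx => ?_⟩ <;> rw [mul_apply]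
    · exact hg.1 _ (hk.1 x hx)
    · exact hg.2.1 _ (hk.2.1 x hx)
    · have : ρ g (ρ k x) - x = (ρ g (ρ k x) - ρ k x) + (ρ k x - x) := by abel
      rw [this]
      exact add_mem (hg.2.2 _ (hk.1 x hx)) (hk.2.2 x hx)
  | inv g _ hg =>
    have mapsU : ∀ x ∈ U, ρ g⁻¹ x ∈ U := inv_maps hg.2.1
    have mapsW : ∀ x ∈ W, ρ g⁻¹ x ∈ W := inv_maps hg.1
    refine ⟨mapsW, mapsU, fun x hx => ?_⟩
    have := hg.2.2 _ (mapsW x hx)
    rw [self_inv_apply] at this
    rw [← neg_sub]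
    exact neg_mem this

omit [Finite S] in
theorem Q_trivial {W U : Submodule (ZMod 3) E} (hWQ : ∀ q ∈ Q, ∀ x ∈ W, ρ q x ∈ W)
    (hUQ : ∀ q ∈ Q, ∀ x ∈ U, ρ q x ∈ U) (hWb : ∀ x ∈ W, ρ b x ∈ W) (hUb : ∀ x ∈ U, ρ b x ∈ U)
    (hs : ∀ x ∈ W, tb ρ b (tb ρ b x) ∈ U) : ∀ q ∈ Q, ∀ x ∈ W, ρ q x - x ∈ U := by
  intro q hq x hx
  rcases eq_or_ne q 1 with rfl | hq1
  · rw [one_apply, sub_self]; exact zero_mem _
  set q' := b * q * b⁻¹ with hq'
  set q'' := b * q' * b⁻¹ with hq''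
  have hqm := H.Q_conj q hq
  have hround : b * q'' * b⁻¹ = q := H.conj3 q
  have key : ∀ y ∈ W, ρ q y = -y → ρ q' y = y → y ∈ U := by
    intro y hy h1 h2
    have e1 : ρ q' (ρ b y) = -ρ b y := by rw [hq', conj_apply, h1, map_neg]
    have e3 : ρ q'' y = -y := by rw [hq'', hq', H.third hq hq1, mul_apply, ← hq', h2, h1]
    have e2 : ρ q' (ρ b (ρ b y)) = -ρ b (ρ b y) := by
      rw [show q' = b * (b * (b * q' * b⁻¹) * b⁻¹) * b⁻¹ from (H.conj3 q').symm, conj_apply,
        conj_apply, e3, map_neg, map_neg]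
    have h := add_mem (hs y hy) (hUQ q' hqm _ (hs y hy))
    rw [H.tb_sq, map_add, map_add, h2, e1, e2] at h
    have h3 : y + ρ b y + ρ b (ρ b y) + (y + -ρ b y + -ρ b (ρ b y)) = -y := by
      rw [neg_eq_add y]; abel
    rw [h3] at h
    exact neg_mem_iff.1 h
  set a := x - ρ q x with ha
  have haW : a ∈ W := sub_mem hx (hWQ q hq x hx)
  have ha1 : ρ q a = -a := by rw [ha, map_sub, ← mul_apply, H.Q_sq q hq, one_apply, neg_sub]
  have hp : a + ρ q' a ∈ U := by
    refine key _ (add_mem haW (hWQ q' hqm a haW)) ?_ ?_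
    · rw [map_add, H.Q_apply_comm hq hqm, ha1, map_neg]; abel
    · rw [map_add, ← mul_apply, H.Q_sq _ hqm, one_apply, add_comm]
  set z := a - ρ q' a with hz
  have hzW : z ∈ W := sub_mem haW (hWQ q' hqm a haW)
  have hy1 : ρ q z = -z := by rw [hz, map_sub, H.Q_apply_comm hq hqm, ha1, map_neg]; abel
  have hy2 : ρ q' z = -z := by rw [hz, map_sub, ← mul_apply, H.Q_sq _ hqm, one_apply]; abel
  have hy3 : ρ q'' z = z := by
    rw [hq'', hq', H.third hq hq1, mul_apply, ← hq', hy2, map_neg, hy1, neg_neg]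
  have hm : ρ b (ρ b z) ∈ U := by
    refine key _ (hWb _ (hWb _ hzW)) ?_ ?_
    · nth_rw 1 [← hround]
      rw [conj_apply, hq'', conj_apply, hy2, map_neg, map_neg]
    · nth_rw 1 [hq']
      rw [conj_apply]
      congr 1
      nth_rw 1 [← hround]
      rw [conj_apply, hy3]
  have hzU : z ∈ U := by
    have := hUb _ hm
    rwa [H.bbb_apply] at this
  have h2 := add_mem hp hzU
  rw [hz, show a + ρ q' a + (a - ρ q' a) = a + a by abel, ← neg_eq_add, neg_mem_iff] at h2
  rw [← neg_sub]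
  exact neg_mem h2

omit [Finite S] in
theorem cases_W {W : Submodule (ZMod 3) E} (hWb : ∀ x ∈ W, ρ b x ∈ W) :
    (∀ x ∈ W, tb ρ b x = 0) ∨ (∀ x, tb ρ b x ∈ W) ∨
      ((∀ x ∈ W, tb ρ b (tb ρ b x) = 0) ∧ ∀ x, tb ρ b (tb ρ b x) ∈ W) := by
  obtain ⟨v, hv, hspan⟩ := H.blk
  set t := tb ρ b v with ht
  set u := tb ρ b t with hu
  have hW' : ∀ x ∈ W, tb ρ b x ∈ W := fun x hx => sub_mem (hWb x hx) hx
  have htu : tb ρ b u = 0 := H.tb_cube v
  have hsq : ∀ x, ∃ a : ZMod 3, tb ρ b (tb ρ b x) = a • u := fun x => by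
    obtain ⟨a, c, h⟩ := hspan x
    exact ⟨a, by rw [h, tb_add, tb_smul, tb_smul, htu, smul_zero, add_zero, ← hu]⟩
  by_cases huW : u ∈ W
  · by_cases htW : t ∈ W
    · right; left
      intro x
      obtain ⟨a, c, h⟩ := hspan x
      rw [h]
      exact add_mem (W.smul_mem _ htW) (W.smul_mem _ huW)
    · right; right
      refine ⟨fun x hx => ?_, fun x => ?_⟩
      · obtain ⟨a, c, h⟩ := hspan x
        have h1 := hW' x hx
        rw [h] at h1
        have h2 : a • t ∈ W := (Submodule.add_mem_iff_left W (W.smul_mem c huW)).1 h1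
        rcases eq_or_ne a 0 with ha | ha
        · rw [h, ha, zero_smul, zero_add, tb_smul, htu, smul_zero]
        · exact absurd ((W.smul_mem_iff ha).1 h2) htW
      · obtain ⟨a, h⟩ := hsq x
        rw [h]; exact W.smul_mem _ huW
  · left
    intro x hx
    obtain ⟨a, c, h⟩ := hspan x
    have h1 := hW' _ (hW' x hx)
    rw [h, tb_add, tb_smul, tb_smul, htu, smul_zero, add_zero, ← hu] at h1
    have ha : a = 0 := by_contra fun ha => huW ((W.smul_mem_iff ha).1 h1)
    have h2 := hW' x hx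
    rw [h, ha, zero_smul, zero_add] at h2
    have hc : c = 0 := by_contra fun hc => huW ((W.smul_mem_iff hc).1 h2)
    rw [h, ha, hc, zero_smul, zero_smul, add_zero]

theorem moved_Rinv : ∀ r ∈ R, ∀ x ∈ movedSp ρ R, ρ r x ∈ movedSp ρ R := fun r hr x hx => by
  have : ρ r x = (ρ r x - x) + x := by abel
  rw [this]
  exact add_mem (sub_mem_movedSp ρ hr x) hx

theorem moved_binv : ∀ x ∈ movedSp ρ R, ρ b x ∈ movedSp ρ R := fun _ hx =>
  map_mem_movedSp ρ H.R_conj hx

omit [Finite S] in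
theorem binv_conj {r : S} (hr : r ∈ R) : b⁻¹ * r * b ∈ R := by
  have : b⁻¹ * r * b = b * (b * r * b⁻¹) * b⁻¹ := by
    have hb2 : b⁻¹ = b * b := inv_eq_of_mul_eq_one_right (by rw [← mul_assoc, H.bbb])
    have hb3 : b = b⁻¹ * b⁻¹ := by rw [← mul_inv_rev, ← hb2, inv_inv]
    conv_lhs => rw [hb2]; arg 2; rw [hb3]
    simp only [mul_assoc]
  rw [this]
  exact H.R_conj _ (H.R_conj _ hr)

omit [Finite S] in
theorem fixed_binv : ∀ x ∈ fixedSp ρ R, ρ b x ∈ fixedSp ρ R := fun x hx r hr => by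
  have e : ρ r (ρ b x) = ρ b (ρ (b⁻¹ * r * b) x) := by
    rw [← mul_apply, ← mul_apply, mul_assoc, mul_inv_cancel_left]
  rw [e, hx _ (H.binv_conj hr)]

theorem not_all_trivial : ¬ ∀ q ∈ Q, ∀ x : E, ρ q x = x := fun h => by
  have hbot : Q = ⊥ := eq_bot_iff.2 fun q hq => mem_bot.2 (H.faithful (LinearMap.ext fun x => by
    rw [h q hq x, one_apply]))
  have := H.Q_card
  rw [hbot, card_bot] at this
  norm_num at this

/-- `b` is trivial on the fixed space and moves into the moved space. -/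
theorem b_on_spaces : (∀ x ∈ fixedSp ρ R, ρ b x = x) ∧ ∀ x, tb ρ b x ∈ movedSp ρ R := by
  have key : ∀ x ∈ fixedSp ρ R, tb ρ b x = 0 := by
    rcases H.cases_W H.fixed_binv with h | h | ⟨-, h⟩
    · exact h
    · -- `R` would be trivial
      exfalso
      refine H.not_all_trivial fun q hq x => ?_
      have h0 : ∀ y ∈ movedSp ρ R, tb ρ b y = 0 := fun y hy =>
        fixed_inf_moved ρ H.R_cop (h y) (sub_mem (H.moved_binv y hy) hy)
      have h1 := H.R_trivial (U := ⊥) (W := movedSp ρ R) H.moved_Rinv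
        (fun r _ x hx => by simp only [Submodule.mem_bot] at hx ⊢; rw [hx, map_zero]) H.moved_binv
        (fun x hx => by simp only [Submodule.mem_bot] at hx ⊢; rw [hx, map_zero])
        (fun y hy => (Submodule.mem_bot _).2 (h0 y hy))
      obtain ⟨f, hf, m, hm, rfl⟩ := exists_fixed_add_moved ρ H.R_cop x
      rw [map_add, hf q (H.Q_le hq), sub_eq_zero.1 ((Submodule.mem_bot _).1 (h1 q (H.Q_le hq) m hm))]
    · exfalso
      refine H.not_all_trivial fun q hq x => ?_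
      have h0 : ∀ y ∈ movedSp ρ R, tb ρ b (tb ρ b y) = 0 := fun y hy => fixed_inf_moved ρ H.R_cop (h y)
        (sub_mem (H.moved_binv _ (sub_mem (H.moved_binv y hy) hy)) (sub_mem (H.moved_binv y hy) hy))
      have h1 := H.Q_trivial (U := ⊥) (W := movedSp ρ R) (fun q hq => H.moved_Rinv q (H.Q_le hq))
        (fun r _ x hx => by simp only [Submodule.mem_bot] at hx ⊢; rw [hx, map_zero]) H.moved_binv
        (fun x hx => by simp only [Submodule.mem_bot] at hx ⊢; rw [hx, map_zero])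
        (fun y hy => (Submodule.mem_bot _).2 (h0 y hy))
      obtain ⟨f, hf, m, hm, rfl⟩ := exists_fixed_add_moved ρ H.R_cop x
      rw [map_add, hf q (H.Q_le hq), sub_eq_zero.1 ((Submodule.mem_bot _).1 (h1 q hq m hm))]
  refine ⟨fun x hx => sub_eq_zero.1 (key x hx), fun x => ?_⟩
  obtain ⟨f, hf, m, hm, rfl⟩ := exists_fixed_add_moved ρ H.R_cop x
  rw [tb_add, key f hf, zero_add]
  exact sub_mem (H.moved_binv m hm) hm

/-- The moved space is irreducible. -/
theorem irreducible {W : Submodule (ZMod 3) E} (hW : W ≤ movedSp ρ R)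
    (hWR : ∀ r ∈ R, ∀ x ∈ W, ρ r x ∈ W) (hWb : ∀ x ∈ W, ρ b x ∈ W) :
    W = ⊥ ∨ W = movedSp ρ R := by
  rcases H.cases_W hWb with h | h | ⟨h, h'⟩
  · left
    have h1 := H.R_trivial (U := ⊥) (W := W) hWR
      (fun r _ x hx => by simp only [Submodule.mem_bot] at hx ⊢; rw [hx, map_zero]) hWb
      (fun x hx => by simp only [Submodule.mem_bot] at hx ⊢; rw [hx, map_zero])
      (fun y hy => (Submodule.mem_bot _).2 (h y hy))
    exact eq_bot_iff.2 fun x hx => (Submodule.mem_bot _).2 (fixed_inf_moved ρ H.R_cop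
      (fun r hr => sub_eq_zero.1 ((Submodule.mem_bot _).1 (h1 r hr x hx))) (hW hx))
  · right
    refine le_antisymm hW (movedSp_le ρ fun r hr x => ?_)
    obtain ⟨f, hf, m, hm, rfl⟩ := exists_fixed_add_moved ρ H.R_cop x
    have h1 := H.R_trivial (U := W) (W := movedSp ρ R) H.moved_Rinv hWR H.moved_binv hWb
      (fun y _ => h y) r hr m hm
    rwa [map_add, hf r hr, add_sub_add_left_eq_sub]
  · exfalso
    refine H.not_all_trivial fun q hq x => ?_
    have h1 := H.Q_trivial (U := ⊥) (W := W) (fun q hq => hWR q (H.Q_le hq))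
      (fun r _ x hx => by simp only [Submodule.mem_bot] at hx ⊢; rw [hx, map_zero]) hWb
      (fun x hx => by simp only [Submodule.mem_bot] at hx ⊢; rw [hx, map_zero])
      (fun y hy => (Submodule.mem_bot _).2 (h y hy))
    have h2 := H.Q_trivial (U := W) (W := movedSp ρ R) (fun q hq => H.moved_Rinv q (H.Q_le hq))
      (fun q hq => hWR q (H.Q_le hq)) H.moved_binv hWb (fun y _ => h' y)
    obtain ⟨f, hf, m, hm, rfl⟩ := exists_fixed_add_moved ρ H.R_cop x
    rw [map_add, hf q (H.Q_le hq)]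
    congr 1
    refine fixed_of_series ρ (H.R_cop.coprime_dvd_left ?_) (w := ρ q m - m) (by abel)
      (sub_eq_zero.1 ((Submodule.mem_bot _).1 (h1 q hq _ (h2 q hq m hm))))
    rw [← Subgroup.orderOf_mk q (H.Q_le hq)]
    exact orderOf_dvd_natCard _

end Hyp

end Cfsg.Agent.Cores.CubicBlock
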