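import Cfsg.Agent.PGroups.Basic
import Cfsg.Agent.PGroups.TwoGroups
import Cfsg.Agent.Coprime.Centralize
import Cfsg.Agent.Coprime.Commutator
import Cfsg.Agent.Coprime.Action

/-!
2-groups without non-cyclic abelian subgroups of order 8 under a coprime action.
-/

set_option autoImplicit false

namespace Cfsg.Agent.Cores.NoAbelianEight

open Subgroup
open scoped commutatorElement

universe u

variable {G : Type u} [Group G]

/-- No non-cyclic abelian subgroup of order 8. -/
def Free (H : Subgroup G) : Prop :=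
  ¬ ∃ A : Subgroup G, A ≤ H ∧ IsMulCommutative ↥A ∧ ¬ IsCyclic ↥A ∧ Nat.card ↥A = 8

theorem Free.mono {H H' : Subgroup G} (h : Free H) (hle : H' ≤ H) : Free H' :=
  fun ⟨A, hA, h1⟩ => h ⟨A, hA.trans hle, h1⟩

/-- A four group (as a subgroup). -/
def IsFour (P : Subgroup G) : Prop := Nat.card ↥P = 4 ∧ ∀ x ∈ P, x ^ 2 = 1

/-- A quaternion group of order 8 with its involution `z`. -/
def IsQ8 (P : Subgroup G) (z : G) : Prop :=
  Nat.card ↥P = 8 ∧ z ∈ P ∧ z ≠ 1 ∧ z ^ 2 = 1 ∧ (∀ x ∈ P, x * z = z * x) ∧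
    ∀ x ∈ P, x ∉ zpowers z → x ^ 2 = z

theorem mem_zpowers_sq_one {z x : G} (hz : z ^ 2 = 1) (h : x ∈ zpowers z) : x = 1 ∨ x = z := by
  obtain ⟨i, rfl⟩ := mem_zpowers_iff.1 h
  have h2 : z ^ (2 : ℤ) = 1 := by rw [show (2 : ℤ) = ((2 : ℕ) : ℤ) from rfl, zpow_natCast, hz]
  rcases Int.even_or_odd i with ⟨j, rfl⟩ | ⟨j, rfl⟩
  · left; rw [← two_mul, zpow_mul, h2, one_zpow]
  · right; rw [zpow_add_one, zpow_mul, h2, one_zpow, one_mul]

theorem card_zpowers_two {z : G} (hz1 : z ≠ 1) (hz : z ^ 2 = 1) : Nat.card ↥(zpowers z) = 2 := by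
  rw [Nat.card_zpowers]
  exact orderOf_eq_prime hz hz1

/-- The subgroup `W ∪ W y`. -/
def double (W : Subgroup G) (y : G) (hyy : y * y ∈ W) (hcomm : ∀ w ∈ W, y * w = w * y) :
  Subgroup G where
  carrier := {g | g ∈ W ∨ g * y⁻¹ ∈ W}
  one_mem' := .inl (one_mem W)
  mul_mem' := fun {a b} ha hb => by
    rcases ha with ha | ha <;> rcases hb with hb | hb
    · exact .inl (mul_mem ha hb)
    · exact .inr (by rw [mul_assoc]; exact mul_mem ha hb)
    · refine .inr ?_
      have e : a * b * y⁻¹ = (a * y⁻¹) * (y * b * y⁻¹) := by group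
      rw [e]
      exact mul_mem ha (by rw [hcomm b hb, mul_inv_cancel_right]; exact hb)
    · refine .inl ?_
      have e : a * b = (a * y⁻¹) * (y * (b * y⁻¹) * y⁻¹) * (y * y) := by group
      rw [e]
      exact mul_mem (mul_mem ha (by rw [hcomm _ hb, mul_inv_cancel_right]; exact hb)) hyy
  inv_mem' := fun {a} ha => by
    rcases ha with ha | ha
    · exact .inl (inv_mem ha)
    · refine .inr ?_
      have e : a⁻¹ * y⁻¹ = (y * y)⁻¹ * (y * (a * y⁻¹)⁻¹ * y⁻¹) := by group
      rw [e]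
      refine mul_mem (inv_mem hyy) ?_
      rw [hcomm _ (inv_mem ha), mul_inv_cancel_right]; exact inv_mem ha

variable [Finite G]

theorem card_double {W : Subgroup G} {y : G} (hyy : y * y ∈ W) (hcomm : ∀ w ∈ W, y * w = w * y)
    (hyW : y ∉ W) : Nat.card ↥(double W y hyy hcomm) = 2 * Nat.card ↥W := by
  set U := double W y hyy hcomm with hU
  have hWU : W ≤ U := fun w hw => .inl hw
  have hidx : (W.subgroupOf U).index = 2 := by
    rw [index_eq_two_iff]
    refine ⟨⟨y, .inr (by rw [mul_inv_cancel]; exact one_mem W)⟩, fun g => ?_⟩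
    rcases g.2 with hg | hg
    · refine .inr ⟨hg, fun h => hyW ?_⟩
      have h' : (g : G) * y ∈ W := h
      have := mul_mem (inv_mem hg) h'
      rwa [inv_mul_cancel_left] at this
    · refine .inl ⟨?_, fun h => hyW ?_⟩
      · show (g : G) * y ∈ W
        have : (g : G) * y = ((g : G) * y⁻¹) * (y * y) := by group
        rw [this]; exact mul_mem hg hyy
      · have h' : (g : G) ∈ W := h
        have := mul_mem (inv_mem hg) h'
        rwa [mul_inv_rev, inv_inv, mul_assoc, inv_mul_cancel, mul_one] at this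
  have h := card_mul_index (W.subgroupOf U)
  rw [Nat.card_congr (subgroupOfEquivOfLe hWU).toEquiv, hidx] at h
  omega

/-- The key consequence of freeness. -/
theorem Free.pow_four_ne_one {H W : Subgroup G} (hH : Free H) (hW : W ≤ H)
    (hWc : ∀ u ∈ W, ∀ v ∈ W, u * v = v * u) (hW4 : Nat.card ↥W = 4) {y : G} (hyH : y ∈ H)
    (hyW : y ∉ W) (hy2 : y ^ 2 ∈ W) (hcomm : ∀ w ∈ W, y * w = w * y) :
    y ^ 4 ≠ 1 ∧ ∃ w ∈ W, w ^ 2 ≠ 1 := by
  have hyy : y * y ∈ W := pow_two y ▸ hy2
  let U : Subgroup G := double W y hyy hcomm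
  have hWU : W ≤ U := fun w hw => .inl hw
  have hUH : U ≤ H := by
    rintro g (hg | hg)
    · exact hW hg
    · have := mul_mem (hW hg) hyH
      rwa [inv_mul_cancel_right] at this
  have hUc : IsMulCommutative ↥U := by
    have key : ∀ g ∈ U, ∃ w ∈ W, g = w ∨ g = w * y := by
      rintro g (hg | hg)
      · exact ⟨g, hg, .inl rfl⟩
      · exact ⟨_, hg, .inr (by group)⟩
    have hy : ∀ w ∈ W, Commute y w := hcomm
    refine ⟨⟨fun a b => Subtype.ext ?_⟩⟩
    show Commute (a : G) (b : G)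
    obtain ⟨wa, hwa, ha⟩ := key a a.2
    obtain ⟨wb, hwb, hb⟩ := key b b.2
    have hab : Commute wa wb := hWc wa hwa wb hwb
    rcases ha with ha | ha <;> rcases hb with hb | hb <;> rw [ha, hb]
    · exact hab
    · exact hab.mul_right (hy wa hwa).symm
    · exact hab.mul_left (hy wb hwb)
    · exact (hab.mul_right (hy wa hwa).symm).mul_left ((hy wb hwb).mul_right (Commute.refl y))
  have hUcard : Nat.card ↥U = 8 := (card_double hyy hcomm hyW).trans (by rw [hW4])
  by_contra hcon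
  refine hH ⟨U, hUH, hUc, fun hcyc => hcon ?_, hUcard⟩
  obtain ⟨g, hg⟩ := hcyc.exists_generator
  have hgo : orderOf g = 8 := by rw [orderOf_eq_card_of_forall_mem_zpowers hg, hUcard]
  have hg8 : g ^ 8 = 1 := hgo ▸ pow_orderOf_eq_one g
  have hodd : ∀ u : ↥U, (u : G) ∈ W ∨ ¬ (u : G) ∈ W := fun u => em _
  -- the generator is outside `W`
  have hgW : (g : G) ∉ W := fun h => hyW (by
    obtain ⟨i, hi⟩ := mem_zpowers_iff.1 (hg ⟨y, .inr (by rw [mul_inv_cancel]; exact one_mem W)⟩)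
    have hi' : (g : G) ^ i = y := congrArg Subtype.val hi
    exact hi' ▸ zpow_mem h i)
  have hg2W : (g : G) ^ 2 ∈ W := by
    rcases g.2 with h | h
    · exact absurd h hgW
    · have : (g : G) ^ 2 = ((g : G) * y⁻¹) * (y * ((g : G) * y⁻¹) * y⁻¹) * (y * y) := by
        rw [pow_two]; group
      rw [this]
      exact mul_mem (mul_mem h (by rw [hcomm _ h, mul_inv_cancel_right]; exact h)) hyy
  refine ⟨fun h4 => ?_, (g : G) ^ 2, hg2W, fun h => ?_⟩
  · obtain ⟨i, hi⟩ := mem_zpowers_iff.1 (hg ⟨y, .inr (by rw [mul_inv_cancel]; exact one_mem W)⟩)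
    have hi' : (g : G) ^ i = y := congrArg Subtype.val hi
    rcases Int.even_or_odd i with ⟨j, rfl⟩ | ⟨j, rfl⟩
    · refine hyW (hi' ▸ ?_)
      rw [← two_mul, zpow_mul]
      exact zpow_mem (show (g : G) ^ (2 : ℤ) ∈ W by rw [show (2 : ℤ) = ((2 : ℕ) : ℤ) from rfl, zpow_natCast]; exact hg2W) j
    · have h8 : g ^ ((2 * j + 1) * 4) = 1 := Subtype.ext (by
        rw [coe_zpow, zpow_mul, hi']
        exact_mod_cast h4)
      have hdvd : ((orderOf g : ℕ) : ℤ) ∣ (2 * j + 1) * 4 := orderOf_dvd_iff_zpow_eq_one.2 h8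
      rw [hgo] at hdvd
      omega
  · have h4 : g ^ 4 = 1 := Subtype.ext (by
      show (g : G) ^ 4 = 1
      rw [show 4 = 2 * 2 from rfl, pow_mul, h])
    have := orderOf_dvd_of_pow_eq_one h4
    rw [hgo] at this
    norm_num at this

/-- The Frattini subgroup of a subgroup. -/
def phi (P : Subgroup G) : Subgroup G := (frattini ↥P).map P.subtype

omit [Finite G] in
theorem phi_le (P : Subgroup G) : phi P ≤ P := map_subtype_le _

theorem sq_mem_phi {P : Subgroup G} (hP : IsPGroup 2 ↥P) {x : G} (hx : x ∈ P) : x ^ 2 ∈ phi P := by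
  haveI : Fact (Nat.Prime 2) := ⟨Nat.prime_two⟩
  exact ⟨⟨x, hx⟩ ^ 2, PGroups.pow_mem_frattini hP _, rfl⟩

theorem commutator_le_phi {P : Subgroup G} (hP : IsPGroup 2 ↥P) : ⁅P, P⁆ ≤ phi P := by
  haveI : Fact (Nat.Prime 2) := ⟨Nat.prime_two⟩
  calc ⁅P, P⁆ = (commutator ↥P).map P.subtype := by
        rw [commutator_def, map_commutator, ← MonoidHom.range_eq_map, range_subtype]
    _ ≤ phi P := map_mono (PGroups.commutator_le_frattini hP)

theorem phi_nongenerating {P U : Subgroup G} (hU : U ≤ P) (h : U ⊔ phi P = P) : U = P := by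
  have h1 : U.subgroupOf P ⊔ frattini ↥P = ⊤ := by
    apply map_injective P.subtype_injective
    rw [Subgroup.map_sup, subgroupOf_map_subtype, inf_eq_left.2 hU, ← MonoidHom.range_eq_map,
      range_subtype]
    exact h
  exact le_antisymm hU (subgroupOf_eq_top.1 (frattini_nongenerating h1))

theorem phi_lt {P : Subgroup G} (hne : P ≠ ⊥) : phi P < P :=
  lt_of_le_of_ne (phi_le P) fun h => hne
    (phi_nongenerating (U := ⊥) bot_le (by rw [bot_sup_eq]; exact h)).symm

theorem phi_le_of {P N : Subgroup G} (hP : IsPGroup 2 ↥P) (hN : P ≤ normalizer (N : Set G))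
    (hc : ⁅P, P⁆ ≤ N) (hsq : ∀ x ∈ P, x ^ 2 ∈ N) : phi P ≤ N := by
  haveI : Fact (Nat.Prime 2) := ⟨Nat.prime_two⟩
  have : (N.subgroupOf P).Normal := normal_subgroupOf_of_le_normalizer hN
  have h := PGroups.frattini_le_of_commutator_le (p := 2) (N.subgroupOf P) (by
    rw [← map_le_map_iff_of_injective P.subtype_injective, commutator_def, map_commutator,
      ← MonoidHom.range_eq_map, range_subtype, subgroupOf_map_subtype]
    exact le_inf hc (commutator_le_self P)) (fun x => hsq x x.2)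
  exact (map_mono h).trans (by rw [subgroupOf_map_subtype]; exact inf_le_left)

theorem le_normalizer_phi (P : Subgroup G) : normalizer (P : Set G) ≤ normalizer (phi P : Set G) := by
  intro g hg
  apply Coprime.mem_normalizer_of_map_conj
  let e : ↥P ≃* ↥P := normalizerMonoidHom P ⟨g, hg⟩
  have h : (frattini ↥P).map e.toMonoidHom = frattini ↥P :=
    (Subgroup.characteristic_iff_map_eq.1 inferInstance) e
  rw [phi, map_map]
  conv_rhs => rw [← h, map_map]
  rfl

/-! ### Action of an odd order group -/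

variable {P K : Subgroup G}

theorem coprime_of_odd (hP : IsPGroup 2 ↥P) (hK : Odd (Nat.card ↥K)) :
    (Nat.card ↥K).Coprime (Nat.card ↥P) := by
  haveI : Fact (Nat.Prime 2) := ⟨Nat.prime_two⟩
  obtain ⟨n, hn⟩ := hP.exists_card_eq
  rw [hn]
  exact (Nat.coprime_two_right.2 hK).pow_right n

theorem le_centralizer_of_card_le_two (hP : Nat.card ↥P ≤ 2) (hKP : K ≤ normalizer (P : Set G)) :
    K ≤ centralizer (P : Set G) := by
  intro k hk
  refine mem_centralizer_iff.2 fun x hx => ?_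
  by_cases hx1 : x = 1
  · simp [hx1]
  have hc : k * x * k⁻¹ ∈ P := (mem_normalizer_iff.1 (hKP hk) x).1 hx
  by_cases he : k * x * k⁻¹ = x
  · rw [mul_inv_eq_iff_eq_mul] at he; exact he.symm
  exfalso
  have h3 : ({1, x, k * x * k⁻¹} : Set G).ncard = 3 := by
    rw [Set.ncard_eq_three]
    refine ⟨1, x, k * x * k⁻¹, Ne.symm hx1, fun h => hx1 ?_, fun h => he h.symm, rfl⟩
    rw [eq_comm, conj_eq_one_iff] at h
    exact h
  have hsub : ({1, x, k * x * k⁻¹} : Set G) ⊆ (P : Set G) := by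
    rintro y (rfl | rfl | rfl)
    exacts [one_mem P, hx, hc]
  have := Set.ncard_le_ncard hsub (Set.toFinite _)
  rw [h3, ← Nat.card_coe_set_eq] at this
  exact absurd (this.trans hP) (by norm_num)

/-- Property used for rigidity: proper invariant subgroups are centralized. -/
def Rigid (P K : Subgroup G) : Prop :=
  ∀ U : Subgroup G, U < P → K ≤ normalizer (U : Set G) → K ≤ centralizer (U : Set G)

theorem Rigid.centralizes (hrig : Rigid P K) (hP : IsPGroup 2 ↥P) (hKP : K ≤ normalizer (P : Set G))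
    (hPK : ⁅P, K⁆ = P) (hne : P ≠ ⊥) {C : Subgroup G} (hC : IsPGroup 2 ↥C)
    (hCP : C ≤ normalizer (P : Set G)) (hCK : C ≤ centralizer (K : Set G)) :
    C ≤ centralizer (P : Set G) := by
  haveI : Fact (Nat.Prime 2) := ⟨Nat.prime_two⟩
  have hlt := Coprime.commutator_lt_of_isPGroup hP hC hCP hne
  have hKC : K ≤ normalizer (C : Set G) := (le_centralizer_iff.1 hCK).trans (centralizer_le_normalizer _)
  have hK' : K ≤ centralizer ((⁅P, C⁆ : Subgroup G) : Set G) :=
    hrig _ hlt fun k hk => Coprime.mem_normalizer_commutator (hKP hk) (hKC hk)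
  have h1 : ⁅⁅C, P⁆, K⁆ = ⊥ := by
    rw [commutator_comm C P]
    exact commutator_eq_bot_iff_le_centralizer.2 (le_centralizer_iff.1 hK')
  have h2 : ⁅⁅K, C⁆, P⁆ = ⊥ := by
    rw [commutator_eq_bot_iff_le_centralizer.2 (le_centralizer_iff.1 hCK), commutator_bot_left]
  have h3 := commutator_commutator_eq_bot_of_rotate (H₁ := P) h2 h1
  rw [hPK] at h3
  exact le_centralizer_iff.1 (commutator_eq_bot_iff_le_centralizer.1 h3)

theorem IsFour.rigid (h : IsFour P) (hKP : K ≤ normalizer (P : Set G)) : Rigid P K := by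
  intro U hU hKU
  refine le_centralizer_of_card_le_two ?_ hKU
  obtain ⟨d, hd⟩ := card_dvd_of_le hU.le
  rw [h.1] at hd
  have hlt : Nat.card ↥U ≠ 4 := fun he => hU.ne (eq_of_le_of_card_ge hU.le (by rw [h.1, he]))
  by_contra hcon
  have : Nat.card ↥U ≤ 4 := Nat.le_of_dvd (by norm_num) ⟨d, hd⟩
  have h3 : Nat.card ↥U = 3 := by omega
  rw [h3] at hd
  omega

theorem IsQ8.centralizer_zpowers {z : G} (h : IsQ8 P z) (hKP : K ≤ normalizer (P : Set G)) :
    K ≤ centralizer (zpowers z : Set G) := by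
  refine le_centralizer_of_card_le_two (card_zpowers_two h.2.2.1 h.2.2.2.1).le fun k hk => ?_
  apply Coprime.mem_normalizer_of_map_conj
  rw [MonoidHom.map_zpowers]
  have hkz : k * z * k⁻¹ = z := by
    have hc : k * z * k⁻¹ ∈ P := (mem_normalizer_iff.1 (hKP hk) z).1 h.2.1
    have hsq : (k * z * k⁻¹) ^ 2 = 1 := by rw [conj_pow, h.2.2.2.1]; group
    by_cases hm : k * z * k⁻¹ ∈ zpowers z
    · rcases mem_zpowers_sq_one h.2.2.2.1 hm with he | he
      · exact absurd (conj_eq_one_iff.1 he) h.2.2.1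
      · exact he
    · exact absurd ((h.2.2.2.2.2 _ hc hm).symm.trans hsq) h.2.2.1
  exact congrArg zpowers hkz

theorem IsQ8.le_zpowers_of_card_le_two {z : G} (h : IsQ8 P z) {U : Subgroup G} (hU : U ≤ P)
    (hc : Nat.card ↥U ≤ 2) : U ≤ zpowers z := by
  intro x hx
  by_contra hxz
  have h2 := h.2.2.2.2.2 x (hU hx) hxz
  have hx1 : x ≠ 1 := fun h1 => hxz (h1 ▸ one_mem _)
  have hxzne : z ≠ x := fun he => hxz (he ▸ mem_zpowers z)
  have hsub : ({1, x, z} : Set G) ⊆ (U : Set G) := by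
    rintro y (rfl | rfl | rfl)
    exacts [one_mem U, hx, h2 ▸ pow_mem hx 2]
  have h3 : ({1, x, z} : Set G).ncard = 3 :=
    Set.ncard_eq_three.2 ⟨1, x, z, Ne.symm hx1, Ne.symm h.2.2.1, Ne.symm hxzne, rfl⟩
  have := Set.ncard_le_ncard hsub (Set.toFinite _)
  rw [h3, ← Nat.card_coe_set_eq] at this
  exact absurd (this.trans hc) (by norm_num)

theorem IsQ8.rigid {z : G} (h : IsQ8 P z) (hPp : IsPGroup 2 ↥P) (hKo : Odd (Nat.card ↥K))
    (hKP : K ≤ normalizer (P : Set G)) : Rigid P K := by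
  intro U hU hKU
  have hd : Nat.card ↥U ∣ 2 ^ 3 := (h.1 ▸ card_dvd_of_le hU.le : Nat.card ↥U ∣ 8)
  obtain ⟨i, hi, hUc⟩ := (Nat.dvd_prime_pow Nat.prime_two).1 hd
  by_cases hU2 : Nat.card ↥U ≤ 2
  · exact le_centralizer_of_card_le_two hU2 hKU
  have hne : Nat.card ↥U ≠ 8 := fun he => hU.ne (eq_of_le_of_card_ge hU.le (by rw [h.1, he]))
  have hU4 : Nat.card ↥U = 4 := by
    interval_cases i <;> omega
  obtain ⟨x, hx, hxz⟩ := SetLike.not_le_iff_exists.1 (fun hle : U ≤ zpowers z => by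
    have := card_le_of_le hle
    rw [card_zpowers_two h.2.2.1 h.2.2.2.1, hU4] at this
    omega)
  have hzU : z ∈ U := h.2.2.2.2.2 x (hU.le hx) hxz ▸ pow_mem hx 2
  have hUp := hPp.to_le hU.le
  refine Coprime.le_centralizer_of_commutator_le hKU (coprime_of_odd hUp hKo) (N := zpowers z)
    ?_ (h.centralizer_zpowers hKP)
  refine commutator_le.2 fun u hu k hk => ?_
  have hk' : k * u⁻¹ * k⁻¹ ∈ U := (mem_normalizer_iff.1 (hKU hk) _).1 (inv_mem hu)
  rw [commutatorElement_def, show u * k * u⁻¹ * k⁻¹ = u * (k * u⁻¹ * k⁻¹) by group]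
  by_cases huz : u ∈ zpowers z
  · refine mul_mem huz ?_
    have := (mem_centralizer_iff.1 (h.centralizer_zpowers hKP hk) _ (inv_mem huz))
    rw [← this, mul_inv_cancel_right]
    exact inv_mem huz
  -- `U / ⟨z⟩` has order 2
  have hZU : zpowers z ≤ U := zpowers_le.2 hzU
  have hidx : ((zpowers z).subgroupOf U).index = 2 := by
    have h1 := card_mul_index ((zpowers z).subgroupOf U)
    rw [Nat.card_congr (subgroupOfEquivOfLe hZU).toEquiv, card_zpowers_two h.2.2.1 h.2.2.2.1, hU4] at h1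
    omega
  have hkz : k * u⁻¹ * k⁻¹ ∉ zpowers z := fun hh => huz (by
    have h1 := mem_centralizer_iff.1 (h.centralizer_zpowers hKP hk) _ hh
    have : u⁻¹ = k * u⁻¹ * k⁻¹ := by
      calc u⁻¹ = k⁻¹ * (k * u⁻¹ * k⁻¹ * k) := by group
        _ = k⁻¹ * (k * (k * u⁻¹ * k⁻¹)) := by rw [h1]
        _ = k * u⁻¹ * k⁻¹ := by group
    exact (inv_mem_iff).1 (this.symm ▸ hh))
  have := mul_mem_iff_of_index_two hidx (a := (⟨u, hu⟩ : ↥U)) (b := ⟨_, hk'⟩)
  exact this.2 (iff_of_false huz hkz)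

/-- The squares and commutators when `Φ` is central and centralized by `K`. -/
theorem phi_elementary (hP : IsPGroup 2 ↥P) (hKP : K ≤ normalizer (P : Set G)) (hPK : ⁅P, K⁆ = P)
    (hcen : ∀ f ∈ phi P, ∀ x ∈ P, f * x = x * f) (hKΦ : K ≤ centralizer (phi P : Set G)) :
    ∀ f ∈ phi P, f ^ 2 = 1 ∧ f ∈ ⁅P, P⁆ := by
  have hcomm2 : ∀ c ∈ ⁅P, P⁆, c ^ 2 = 1 := by
    have hc : ∀ x ∈ P, ∀ y ∈ P, ⁅x, y⁆ ^ 2 = 1 := by
      intro x hx y hy
      have hm : ⁅x, y⁆ ∈ phi P := commutator_le_phi hP (commutator_mem_commutator hx hy)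
      have hsq := hcen _ (sq_mem_phi hP hx) y hy
      have h1 : ⁅x, y⁆ ^ 2 = ⁅x ^ 2, y⁆ := by
        rw [pow_two x, commutatorElement_mul_left_eq_conj_mul, pow_two, ← hcen _ hm x hx]
        group
      rw [h1, commutatorElement_eq_one_iff_commute]
      exact hsq
    intro c hcP
    let T : Subgroup G :=
      { carrier := {c | c ∈ phi P ∧ c ^ 2 = 1}
        one_mem' := ⟨one_mem _, one_pow _⟩
        mul_mem' := fun {a b} ha hb => ⟨mul_mem ha.1 hb.1, by
          rw [(show Commute a b from hcen a ha.1 b (phi_le P hb.1)).mul_pow, ha.2, hb.2, one_mul]⟩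
        inv_mem' := fun {a} ha => ⟨inv_mem ha.1, by rw [inv_pow, ha.2, inv_one]⟩ }
    have : ⁅P, P⁆ ≤ T := commutator_le.2 fun x hx y hy =>
      ⟨commutator_le_phi hP (commutator_mem_commutator hx hy), hc x hx y hy⟩
    exact (this hcP).2
  -- `N = P' Φ²`
  let N : Subgroup G :=
    { carrier := {g | ∃ c ∈ ⁅P, P⁆, ∃ t ∈ phi P, g = c * t ^ 2}
      one_mem' := ⟨1, one_mem _, 1, one_mem _, by group⟩
      mul_mem' := by
        rintro a b ⟨c, hc, t, ht, rfl⟩ ⟨c', hc', t', ht', rfl⟩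
        refine ⟨c * c', mul_mem hc hc', t * t', mul_mem ht ht', ?_⟩
        rw [(show Commute t t' from hcen t ht t' (phi_le P ht')).mul_pow]
        have h1 : Commute (t ^ 2) c' :=
          (show Commute t c' from hcen t ht c' (commutator_le_self P hc')).pow_left 2
        simp only [mul_assoc]
        rw [← mul_assoc (t ^ 2), h1.eq, mul_assoc]
      inv_mem' := by
        rintro a ⟨c, hc, t, ht, rfl⟩
        refine ⟨c⁻¹, inv_mem hc, t⁻¹, inv_mem ht, ?_⟩
        have h1 : Commute (t ^ 2) c :=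
          (show Commute t c from hcen t ht c (commutator_le_self P hc)).pow_left 2
        rw [mul_inv_rev, inv_pow]
        exact h1.inv_inv.eq }
  have hNΦ : N ≤ phi P := by
    rintro g ⟨c, hc, t, ht, rfl⟩
    exact mul_mem (commutator_le_phi hP hc) (pow_mem ht 2)
  have hcN : ⁅P, P⁆ ≤ N := fun c hc => ⟨c, hc, 1, one_mem _, by group⟩
  have hN2 : ∀ t ∈ phi P, t ^ 2 ∈ N := fun t ht => ⟨1, one_mem _, t, ht, by group⟩
  let Sq : Subgroup G :=
    { carrier := {x | x ∈ P ∧ x ^ 2 ∈ N}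
      one_mem' := ⟨one_mem P, by rw [one_pow]; exact one_mem N⟩
      mul_mem' := fun {a b} ha hb => ⟨mul_mem ha.1 hb.1, by
        have h1 : ⁅b, a⁆ ∈ N := hcN (commutator_mem_commutator hb.1 ha.1)
        have hcb := hcen _ (hNΦ h1) b hb.1
        have e : (a * b) ^ 2 = a ^ 2 * (⁅a⁻¹, b⁆) * b ^ 2 := by
          rw [pow_two, pow_two, pow_two, commutatorElement_def]; group
        rw [e]
        exact mul_mem (mul_mem ha.2 (hcN (commutator_mem_commutator (inv_mem ha.1) hb.1))) hb.2⟩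
      inv_mem' := fun {a} ha => ⟨inv_mem ha.1, by rw [inv_pow]; exact inv_mem ha.2⟩ }
  have hall : P ≤ Sq := by
    conv_lhs => rw [← hPK]
    refine commutator_le.2 fun x hx k hk => ?_
    have hk' : k * x⁻¹ * k⁻¹ ∈ P := (mem_normalizer_iff.1 (hKP hk) _).1 (inv_mem hx)
    rw [commutatorElement_def, show x * k * x⁻¹ * k⁻¹ = x * (k * x⁻¹ * k⁻¹) by group]
    refine ⟨mul_mem hx hk', ?_⟩
    set y := k * x⁻¹ * k⁻¹ with hy
    have hy2 : y ^ 2 = (x ^ 2)⁻¹ := by
      have h1 := mem_centralizer_iff.1 (hKΦ hk) _ (inv_mem (sq_mem_phi hP hx))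
      rw [hy, conj_pow, inv_pow, ← h1, mul_inv_cancel_right]
    have e : (x * y) ^ 2 = x ^ 2 * ⁅x⁻¹, y⁆ * y ^ 2 := by
      rw [pow_two, pow_two, pow_two, commutatorElement_def]; group
    rw [e, hy2, hcen _ (sq_mem_phi hP hx) ⁅x⁻¹, y⁆
      (commutator_le_self P (commutator_mem_commutator (inv_mem hx) hk')), mul_inv_cancel_right]
    exact hcN (commutator_mem_commutator (inv_mem hx) hk')
  have hΦN : phi P ≤ N := by
    refine phi_le_of hP (fun x hx => ?_) hcN fun x hx => (hall hx).2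
    rw [mem_normalizer_iff]
    intro n
    constructor
    · intro hn
      rw [← hcen n (hNΦ hn) x hx, mul_inv_cancel_right]
      exact hn
    · intro hn
      have h1 := hcen _ (hNΦ hn) x hx
      have : n = x * n * x⁻¹ := by
        calc n = x⁻¹ * (x * n * x⁻¹ * x) := by group
          _ = x⁻¹ * (x * (x * n * x⁻¹)) := by rw [h1]
          _ = x * n * x⁻¹ := by group
      exact this ▸ hn
  -- squaring kills `Φ`
  have hdesc : ∀ j : ℕ, (∀ f ∈ phi P, f ^ 2 ^ (j + 2) = 1) → ∀ f ∈ phi P, f ^ 2 ^ (j + 1) = 1 := by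
    intro j hj f hf
    obtain ⟨c, hc, t, ht, rfl⟩ := hΦN hf
    have h1 : Commute c (t ^ 2) :=
      ((show Commute t c from hcen t ht c (commutator_le_self P hc)).pow_left 2).symm
    rw [h1.mul_pow, pow_succ' 2 j, pow_mul c, hcomm2 c hc, one_pow, one_mul, ← pow_mul, ← mul_assoc,
      show 2 * 2 * 2 ^ j = 2 ^ (j + 2) by rw [pow_add]; ring]
    exact hj t ht
  have hsq : ∀ f ∈ phi P, f ^ 2 = 1 := by
    haveI : Fact (Nat.Prime 2) := ⟨Nat.prime_two⟩
    obtain ⟨n, hn⟩ := (hP.to_le (phi_le P)).exists_card_eq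
    have hn' : ∀ f ∈ phi P, f ^ 2 ^ (n + 1) = 1 := fun f hf => by
      rw [pow_succ, pow_mul, ← hn]
      have this : (⟨f, hf⟩ : ↥(phi P)) ^ Nat.card ↥(phi P) = 1 := pow_card_eq_one'
      have h' : f ^ Nat.card ↥(phi P) = 1 := congrArg Subtype.val this
      rw [h', one_pow]
    clear hn
    induction n with
    | zero => intro f hf; simpa using hn' f hf
    | succ n ih => exact ih (hdesc n hn')
  intro f hf
  refine ⟨hsq f hf, ?_⟩
  obtain ⟨c, hc, t, ht, rfl⟩ := hΦN hf
  rwa [hsq t ht, mul_one]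

theorem comm_of_le_zpowers {z : G} {u v : G} (hu : u ∈ zpowers z) (hv : v ∈ zpowers z) :
    u * v = v * u := by
  obtain ⟨i, rfl⟩ := mem_zpowers_iff.1 hu
  obtain ⟨j, rfl⟩ := mem_zpowers_iff.1 hv
  exact ((Commute.refl z).zpow_zpow i j).eq

theorem normal_of_half {U : Subgroup G} (hUP : U ≤ P) (hc : Nat.card ↥P = 2 * Nat.card ↥U) :
    (U.subgroupOf P).index = 2 := by
  have h1 := card_mul_index (U.subgroupOf P)
  rw [Nat.card_congr (subgroupOfEquivOfLe hUP).toEquiv, hc, mul_comm 2] at h1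
  exact Nat.eq_of_mul_eq_mul_left Nat.card_pos h1

/-- Two invariant subgroups of index two: the commutators land in the smaller one. -/
theorem commutator_le_half (hKP : K ≤ normalizer (P : Set G)) {U : Subgroup G} (hUP : U ≤ P)
    (hKU : K ≤ normalizer (U : Set G)) (hc : Nat.card ↥P = 2 * Nat.card ↥U) : ⁅P, K⁆ ≤ U := by
  refine commutator_le.2 fun u hu k hk => ?_
  have hk' : k * u⁻¹ * k⁻¹ ∈ P := (mem_normalizer_iff.1 (hKP hk) _).1 (inv_mem hu)
  rw [commutatorElement_def, show u * k * u⁻¹ * k⁻¹ = u * (k * u⁻¹ * k⁻¹) by group]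
  refine (mul_mem_iff_of_index_two (normal_of_half hUP hc) (a := (⟨u, hu⟩ : ↥P)) (b := ⟨_, hk'⟩)).2 ?_
  refine ⟨fun h => (mem_normalizer_iff.1 (hKU hk) _).1 (inv_mem h), fun h => ?_⟩
  exact inv_mem_iff.1 ((mem_normalizer_iff.1 (hKU hk) _).2 h)

theorem le_centralizer_half (hP : IsPGroup 2 ↥P) (hK : Odd (Nat.card ↥K))
    (hKP : K ≤ normalizer (P : Set G)) {U : Subgroup G} (hUP : U ≤ P)
    (hKU : K ≤ centralizer (U : Set G)) (hc : Nat.card ↥P = 2 * Nat.card ↥U) :
    K ≤ centralizer (P : Set G) :=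
  Coprime.le_centralizer_of_commutator_le hKP (coprime_of_odd hP hK)
    (commutator_le_half hKP hUP (hKU.trans (centralizer_le_normalizer _)) hc) hKU

theorem IsFour.eq_one_of_fixed (h : IsFour P) (hP : IsPGroup 2 ↥P) (hK : Odd (Nat.card ↥K))
    (hKP : K ≤ normalizer (P : Set G)) (hne : ¬ K ≤ centralizer (P : Set G)) {f : G} (hf : f ∈ P)
    (hfK : f ∈ centralizer (K : Set G)) : f = 1 := by
  by_contra hf1
  refine hne (le_centralizer_half hP hK hKP (U := zpowers f) (zpowers_le.2 hf) ?_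
    (by rw [card_zpowers_two hf1 (h.2 f hf), h.1]))
  exact le_centralizer_iff.1 (zpowers_le.2 hfK)

theorem IsQ8.mem_of_fixed {z : G} (h : IsQ8 P z) (hP : IsPGroup 2 ↥P) (hK : Odd (Nat.card ↥K))
    (hKP : K ≤ normalizer (P : Set G)) (hne : ¬ K ≤ centralizer (P : Set G)) {f : G} (hf : f ∈ P)
    (hfK : f ∈ centralizer (K : Set G)) : f ∈ zpowers z := by
  by_contra hfz
  have h2 : f ^ 2 = z := h.2.2.2.2.2 f hf hfz
  have ho : orderOf f = 4 := by
    refine orderOf_eq_iff (by norm_num) |>.2 ⟨by rw [show 4 = 2 * 2 from rfl, pow_mul, h2, h.2.2.2.1], ?_⟩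
    intro m hm hm0
    interval_cases m
    · rw [pow_one]; exact fun he => hfz (he ▸ one_mem _)
    · rw [h2]; exact h.2.2.1
    · intro he
      refine h.2.2.1 (h2 ▸ ?_)
      calc f ^ 2 = f ^ 3 * f⁻¹ := by group
        _ = f⁻¹ := by rw [he, one_mul]
        _ = 1 := ?_
      have h4 : f ^ 4 = 1 := by rw [show 4 = 2 * 2 from rfl, pow_mul, h2, h.2.2.2.1]
      rw [pow_succ, he, one_mul] at h4
      rw [h4, inv_one]
  refine hne (le_centralizer_half hP hK hKP (U := zpowers f) (zpowers_le.2 hf)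
    (le_centralizer_iff.1 (zpowers_le.2 hfK)) (by rw [Nat.card_zpowers, ho, h.1]))

theorem IsQ8.exists_notMem {z : G} (h : IsQ8 P z) : ∃ y ∈ P, y ∉ zpowers z :=
  SetLike.not_le_iff_exists.1 fun hle : P ≤ zpowers z => by
    have := card_le_of_le hle
    rw [h.1, card_zpowers_two h.2.2.1 h.2.2.2.1] at this
    omega

theorem IsQ8.card_zpowers_of_notMem {z y : G} (h : IsQ8 P z) (hy : y ∈ P) (hyz : y ∉ zpowers z) :
    orderOf y = 4 := by
  have h2 : y ^ 2 = z := h.2.2.2.2.2 y hy hyz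
  refine orderOf_eq_prime_pow (p := 2) (n := 1) ?_ ?_
  · rw [pow_one, h2]; exact h.2.2.1
  · rw [show 2 ^ (1 + 1) = 2 * 2 from rfl, pow_mul, h2, h.2.2.2.1]

/-- There are two non-commuting generators. -/
theorem IsQ8.exists_gens {z : G} (h : IsQ8 P z) :
    ∃ a ∈ P, ∃ b ∈ P, a ∉ zpowers z ∧ b ∉ zpowers a ∧ ⁅a, b⁆ = z ∧ zpowers a ⊔ zpowers b = P := by
  obtain ⟨a, ha, haz⟩ := h.exists_notMem
  have hac : Nat.card ↥(zpowers a) = 4 := (Nat.card_zpowers a).trans (h.card_zpowers_of_notMem ha haz)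
  obtain ⟨b, hb, hba⟩ := SetLike.not_le_iff_exists.1 fun hle : P ≤ zpowers a => by
    have := card_le_of_le hle
    rw [h.1, hac] at this
    omega
  have haz' : z ∈ zpowers a := h.2.2.2.2.2 a ha haz ▸ pow_mem (mem_zpowers a) 2
  have hbz : b ∉ zpowers z := fun hh => hba ((zpowers_le.2 haz') hh)
  have habz : a * b ∉ zpowers z := fun hh => hba (by
    have := mul_mem (inv_mem (mem_zpowers a)) ((zpowers_le.2 haz') hh)
    rwa [inv_mul_cancel_left] at this)
  refine ⟨a, ha, b, hb, haz, hba, ?_, ?_⟩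
  · have h1 := h.2.2.2.2.2 _ (mul_mem ha hb) habz
    have h2 := h.2.2.2.2.2 a ha haz
    have h3 := h.2.2.2.2.2 b hb hbz
    have hzinv : z⁻¹ = z := inv_eq_of_mul_eq_one_right (by rw [← pow_two, h.2.2.2.1])
    have e : ⁅a, b⁆ = (a * b) ^ 2 * ((b ^ 2)⁻¹) * (b * (a ^ 2)⁻¹ * b⁻¹) := by
      rw [commutatorElement_def, pow_two, pow_two, pow_two]; group
    rw [e, h1, h2, h3, hzinv, h.2.2.2.2.1 b hb, mul_inv_cancel_right, ← pow_two, h.2.2.2.1, one_mul]
  · refine eq_of_le_of_card_ge (sup_le (zpowers_le.2 ha) (zpowers_le.2 hb)) ?_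
    have hle : zpowers a < zpowers a ⊔ zpowers b := lt_of_le_of_ne le_sup_left fun he =>
      hba (he ▸ mem_sup_right (mem_zpowers b))
    have h1 := Nat.lt_of_le_of_ne (card_le_of_le hle.le) fun he => hle.ne (eq_of_le_of_card_ge hle.le he.ge)
    obtain ⟨d, hd⟩ := card_dvd_of_le hle.le
    have h2 := card_dvd_of_le (sup_le (zpowers_le.2 ha) (zpowers_le.2 hb))
    rw [h.1] at h2 ⊢
    rw [hac] at h1 hd
    have := Nat.le_of_dvd (by norm_num) h2
    omega

theorem IsQ8.not_comm {z : G} (h : IsQ8 P z) (hc : ∀ x ∈ P, ∀ y ∈ P, x * y = y * x) : False := by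
  obtain ⟨a, ha, b, hb, -, -, hab, -⟩ := h.exists_gens
  exact h.2.2.1 (hab.symm.trans (commutatorElement_eq_one_iff_commute.2 (hc a ha b hb)))

/-- If `P = [P, K]` then `Φ(P)` is central as soon as it is small. -/
theorem phi_central (hP : IsPGroup 2 ↥P) (hK : Odd (Nat.card ↥K)) (hKP : K ≤ normalizer (P : Set G))
    (hPK : ⁅P, K⁆ = P) (hne : P ≠ ⊥)
    (hsmall : ¬ K ≤ centralizer (phi P : Set G) → IsFour (phi P) ∨ ∃ z, IsQ8 (phi P) z) :
    ∀ f ∈ phi P, ∀ x ∈ P, f * x = x * f := by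
  haveI : Fact (Nat.Prime 2) := ⟨Nat.prime_two⟩
  have hΦp : IsPGroup 2 ↥(phi P) := hP.to_le (phi_le P)
  have hKΦ : K ≤ normalizer (phi P : Set G) := hKP.trans (le_normalizer_phi P)
  have hPΦ : P ≤ normalizer (phi P : Set G) := le_normalizer.trans (le_normalizer_phi P)
  suffices h : P ≤ centralizer (phi P : Set G) from fun f hf x hx => mem_centralizer_iff.1 (h hx) f hf
  by_cases htriv : K ≤ centralizer (phi P : Set G)
  · have h1 : ⁅⁅phi P, K⁆, P⁆ = ⊥ := by
      rw [commutator_eq_bot_iff_le_centralizer.2 (le_centralizer_iff.1 htriv), commutator_bot_left]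
    have h2 : ⁅⁅P, phi P⁆, K⁆ = ⊥ := by
      refine eq_bot_iff.2 ((commutator_mono ?_ le_rfl).trans
        (commutator_eq_bot_iff_le_centralizer.2 (le_centralizer_iff.1 htriv)).le)
      rw [commutator_comm]
      exact Coprime.commutator_le_left_of_normalizer hPΦ
    have h3 := commutator_commutator_eq_bot_of_rotate (H₁ := K) (H₂ := P) h2 h1
    rw [commutator_comm K P, hPK] at h3
    exact commutator_eq_bot_iff_le_centralizer.1 h3
  have hΦne : phi P ≠ ⊥ := fun h => htriv (by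
    rw [h]
    exact fun k _ => mem_centralizer_iff.2 fun x hx => by simp [mem_bot.1 hx])
  have hlt := Coprime.commutator_lt_of_isPGroup hΦp hP hPΦ hΦne
  have hKlt : K ≤ normalizer ((⁅phi P, P⁆ : Subgroup G) : Set G) := fun k hk =>
    Coprime.mem_normalizer_commutator (hKΦ hk) (hKP hk)
  rcases hsmall htriv with h4 | ⟨z, h8⟩
  · refine commutator_eq_bot_iff_le_centralizer.1 ?_
    rw [commutator_comm, eq_bot_iff]
    intro f hf
    exact mem_bot.2 (h4.eq_one_of_fixed hΦp hK hKΦ htriv (hlt.le hf)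
      (le_centralizer_iff.1 (h4.rigid hKΦ _ hlt hKlt) hf))
  · exfalso
    have hZ : ⁅phi P, P⁆ ≤ zpowers z := fun f hf =>
      h8.mem_of_fixed hΦp hK hKΦ htriv (hlt.le hf)
        (le_centralizer_iff.1 (h8.rigid hΦp hK hKΦ _ hlt hKlt) hf)
    obtain ⟨a, ha, b, hb, -, -, hab, hgen⟩ := h8.exists_gens
    have hzz := h8.2.2.2.1
    have hzinv : z⁻¹ = z := inv_eq_of_mul_eq_one_right (by rw [← pow_two, hzz])
    have hba : ⁅b, a⁆ = z := by rw [← commutatorElement_inv, hab, hzinv]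
    -- `P = Φ C_P(Φ)`
    have hsup : (P ⊓ centralizer (phi P : Set G)) ⊔ phi P = P := by
      refine le_antisymm (sup_le inf_le_left (phi_le P)) fun x hx => ?_
      have hconj : ∀ f ∈ phi P, x * f * x⁻¹ = f ∨ x * f * x⁻¹ = f * z := by
        intro f hf
        have h1 := hZ (commutator_mem_commutator hf hx)
        rw [commutatorElement_def] at h1
        rcases mem_zpowers_sq_one hzz h1 with he | he
        · left
          calc x * f * x⁻¹ = (f * x * f⁻¹ * x⁻¹)⁻¹ * f := by group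
            _ = f := by rw [he, inv_one, one_mul]
        · right
          calc x * f * x⁻¹ = (f * x * f⁻¹ * x⁻¹)⁻¹ * f := by group
            _ = z * f := by rw [he, hzinv]
            _ = f * z := (h8.2.2.2.2.1 f hf).symm
      obtain ⟨e, he, hea, heb⟩ : ∃ e ∈ phi P, e * a * e⁻¹ = x * a * x⁻¹ ∧ e * b * e⁻¹ = x * b * x⁻¹ := by
        have cz : ∀ f ∈ phi P, z * f = f * z := fun f hf => (h8.2.2.2.2.1 f hf).symm
        have hab' : a * b * a⁻¹ = b * z := by
          rw [← cz b hb, ← hab, commutatorElement_def]; group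
        have hba' : b * a * b⁻¹ = a * z := by
          rw [← cz a ha, ← hba, commutatorElement_def]; group
        rcases hconj a ha with h1 | h1 <;> rcases hconj b hb with h2 | h2 <;> rw [h1, h2]
        · exact ⟨1, one_mem _, by group, by group⟩
        · exact ⟨a, ha, by group, hab'⟩
        · exact ⟨b, hb, hba', by group⟩
        · refine ⟨a * b, mul_mem ha hb, ?_, ?_⟩
          · calc a * b * a * (a * b)⁻¹ = a * (b * a * b⁻¹) * a⁻¹ := by group
              _ = a * (z * a) * a⁻¹ := by rw [hba', cz a ha]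
              _ = a * z := by group
          · calc a * b * b * (a * b)⁻¹ = a * b * a⁻¹ := by group
              _ = b * z := hab'
      have hmem : e⁻¹ * x ∈ P ⊓ centralizer (phi P : Set G) := by
        refine mem_inf.2 ⟨mul_mem (inv_mem (phi_le P he)) hx, ?_⟩
        have hle : phi P ≤ centralizer ({e⁻¹ * x} : Set G) := by
          rw [← hgen, sup_le_iff, zpowers_le, zpowers_le, mem_centralizer_singleton_iff,
            mem_centralizer_singleton_iff]
          constructor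
          · calc a * (e⁻¹ * x) = e⁻¹ * (e * a * e⁻¹) * x := by group
              _ = e⁻¹ * x * a := by rw [hea]; group
          · calc b * (e⁻¹ * x) = e⁻¹ * (e * b * e⁻¹) * x := by group
              _ = e⁻¹ * x * b := by rw [heb]; group
        exact mem_centralizer_iff.2 fun f hf => mem_centralizer_singleton_iff.1 (hle hf)
      have := mul_mem (mem_sup_right (S := P ⊓ centralizer (phi P : Set G)) he) (mem_sup_left (T := phi P) hmem)
      rwa [mul_inv_cancel_left] at this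
    have hC := phi_nongenerating inf_le_left hsup
    exact h8.not_comm fun x hx y hy =>
      mem_centralizer_iff.1 (mem_inf.1 (hC.symm.le (phi_le P hy))).2 x hx

/-- A small group centralized by an outside fixed element is not free. -/
theorem not_free_extend {Y H : Subgroup G} (htype : IsFour Y ∨ ∃ z, IsQ8 Y z) (hYp : IsPGroup 2 ↥Y)
    (hK : Odd (Nat.card ↥K)) (hKY : K ≤ normalizer (Y : Set G))
    (hYne : ¬ K ≤ centralizer (Y : Set G)) (hYP : Y ≤ H) {c : G} (hcH : c ∈ H)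
    (hcK : c ∈ centralizer (K : Set G)) (hcY : c ∉ Y) (hc2 : c ^ 2 ∈ Y)
    (hcy : ∀ w ∈ Y, c * w = w * c) : ¬ Free H := by
  intro hfree
  have hc2K : c ^ 2 ∈ centralizer (K : Set G) := pow_mem hcK 2
  rcases htype with h4 | ⟨z, h8⟩
  · have h1 : c ^ 2 = 1 := h4.eq_one_of_fixed hYp hK hKY hYne hc2 hc2K
    have hab : ∀ u ∈ Y, ∀ v ∈ Y, u * v = v * u := fun u hu v hv => by
      have huv := h4.2 _ (mul_mem hu hv)
      have iu : u⁻¹ = u := inv_eq_of_mul_eq_one_right (by rw [← pow_two, h4.2 u hu])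
      have iv : v⁻¹ = v := inv_eq_of_mul_eq_one_right (by rw [← pow_two, h4.2 v hv])
      calc u * v = (u * v)⁻¹ := (inv_eq_of_mul_eq_one_right (by rw [← pow_two]; exact huv)).symm
        _ = v * u := by rw [mul_inv_rev, iu, iv]
    exact (hfree.pow_four_ne_one hYP hab h4.1 hcH hcY hc2 hcy).1
      (by rw [show 4 = 2 * 2 from rfl, pow_mul, h1, one_pow])
  · have h1 := h8.mem_of_fixed hYp hK hKY hYne hc2 hc2K
    obtain ⟨y, hy, hyz⟩ := h8.exists_notMem
    have hz : z ∈ zpowers y := h8.2.2.2.2.2 y hy hyz ▸ pow_mem (mem_zpowers y) 2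
    refine (hfree.pow_four_ne_one (W := zpowers y) ((zpowers_le.2 hy).trans hYP)
      (fun u hu v hv => comm_of_le_zpowers hu hv)
      ((Nat.card_zpowers y).trans (h8.card_zpowers_of_notMem hy hyz)) hcH
      (fun h => hcY ((zpowers_le.2 hy) h)) ((zpowers_le.2 hz) h1)
      fun w hw => hcy w ((zpowers_le.2 hy) hw)).1 ?_
    rw [show 4 = 2 * 2 from rfl, pow_mul]
    rcases mem_zpowers_sq_one h8.2.2.2.1 h1 with he | he
    · rw [he, one_pow]
    · rw [he, h8.2.2.2.1]

/-- The small case. -/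
theorem small : ∀ (n : ℕ) (P K : Subgroup G), Nat.card ↥P = n → IsPGroup 2 ↥P → Odd (Nat.card ↥K) →
    K ≤ normalizer (P : Set G) → ¬ K ≤ centralizer (P : Set G) → Free P →
    (IsFour P ∨ ∃ z, IsQ8 P z) ∧ ⁅P, K⁆ = P := by
  intro n
  induction n using Nat.strong_induction_on with | _ n ih => ?_
  intro P K hn hP hK hKP hne hfree
  haveI : Fact (Nat.Prime 2) := ⟨Nat.prime_two⟩
  have hcop := coprime_of_odd hP hK
  have hsolv : Group.IsSolvable ↥K ∨ Group.IsSolvable ↥P := by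
    haveI := hP.isNilpotent
    exact .inr inferInstance
  set Y := ⁅P, K⁆ with hY
  have hYP : Y ≤ P := Coprime.commutator_le_left_of_normalizer hKP
  have hKY : K ≤ normalizer (Y : Set G) := fun k hk =>
    Coprime.mem_normalizer_commutator (hKP hk) (le_normalizer hk)
  have hYne : ¬ K ≤ centralizer (Y : Set G) := fun h =>
    hne (Coprime.le_centralizer_of_commutator_le hKP hcop le_rfl h)
  have hPne : P ≠ ⊥ := fun h => hne (by
    rw [h]
    exact fun k _ => mem_centralizer_iff.2 fun x hx => by simp [mem_bot.1 hx])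
  by_cases hYeq : Y = P
  swap
  · exfalso
    have hlt : Nat.card ↥Y < n := hn ▸ lt_of_le_of_ne (card_le_of_le hYP) fun h =>
      hYeq (eq_of_le_of_card_ge hYP h.ge)
    have hYp := hP.to_le hYP
    obtain ⟨htype, hYY⟩ := ih _ hlt Y K rfl hYp hK hKY hYne (hfree.mono hYP)
    have hYne' : Y ≠ ⊥ := fun h => hYne (by
      rw [h]
      exact fun k _ => mem_centralizer_iff.2 fun x hx => by simp [mem_bot.1 hx])
    set C := P ⊓ centralizer (K : Set G) with hC
    have hCY : C ≤ normalizer (Y : Set G) := fun c hc => Coprime.mem_normalizer_commutator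
      (le_normalizer (mem_inf.1 hc).1) (centralizer_le_normalizer _ (mem_inf.1 hc).2)
    have hrig : Rigid Y K := by
      rcases htype with h4 | ⟨z, h8⟩
      exacts [h4.rigid hKY, h8.rigid hYp hK hKY]
    have hcent := hrig.centralizes hYp hKY hYY hYne' (hP.to_le inf_le_left) hCY inf_le_right
    have hsup : Y ⊔ C = P := Coprime.commutator_sup_centralizer hKP hcop hsolv
    obtain ⟨c₀, hc₀, hc₀Y⟩ := SetLike.not_le_iff_exists.1 fun hle : C ≤ Y =>
      hYeq (by rw [← hsup, sup_eq_left.2 hle])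
    obtain ⟨c, hc, hcY, hc2⟩ : ∃ c ∈ C, c ∉ Y ∧ c ^ 2 ∈ Y := by
      have hex : ∃ j, c₀ ^ 2 ^ j ∈ Y := by
        obtain ⟨m, hm⟩ := hP ⟨c₀, (mem_inf.1 hc₀).1⟩
        have h' : c₀ ^ 2 ^ m = 1 := congrArg Subtype.val hm
        exact ⟨m, h' ▸ one_mem Y⟩
      classical
      have hpos : Nat.find hex ≠ 0 := fun h0 => hc₀Y (by
        have := Nat.find_spec hex
        rwa [h0, pow_zero, pow_one] at this)
      obtain ⟨j, hj⟩ := Nat.exists_eq_succ_of_ne_zero hpos
      refine ⟨c₀ ^ 2 ^ j, pow_mem hc₀ _, Nat.find_min hex (by omega), ?_⟩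
      rw [← pow_mul, ← pow_succ, ← Nat.succ_eq_add_one, ← hj]
      exact Nat.find_spec hex
    have hcy : ∀ w ∈ Y, c * w = w * c := fun w hw => (mem_centralizer_iff.1 (hcent hc) w hw).symm
    exact not_free_extend htype hYp hK hKY hYne hYP (mem_inf.1 hc).1 (mem_inf.1 hc).2 hcY hc2 hcy hfree
  refine ⟨?_, hYeq⟩
  have hΦP := phi_le P
  have hΦlt := phi_lt hPne
  have hKΦ : K ≤ normalizer (phi P : Set G) := hKP.trans (le_normalizer_phi P)
  have hΦsmall : ¬ K ≤ centralizer (phi P : Set G) → IsFour (phi P) ∨ ∃ z, IsQ8 (phi P) z := fun h =>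
    (ih _ (hn ▸ lt_of_le_of_ne (card_le_of_le hΦP) fun he => hΦlt.ne (eq_of_le_of_card_ge hΦP he.ge))
      (phi P) K rfl (hP.to_le hΦP) hK hKΦ h (hfree.mono hΦP)).1
  have hcen := phi_central hP hK hKP hYeq hPne hΦsmall
  obtain ⟨y₀, hy₀, hy₀Φ⟩ := SetLike.exists_of_lt hΦlt
  have hKc : K ≤ centralizer (phi P : Set G) := by
    by_contra h
    rcases hΦsmall h with h4 | ⟨z, h8⟩
    · exact (hfree.pow_four_ne_one hΦP (fun u hu v hv => hcen u hu v (hΦP hv)) h4.1 hy₀ hy₀Φ
        (sq_mem_phi hP hy₀) (fun w hw => (hcen w hw y₀ hy₀).symm)).1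
        (by rw [show 4 = 2 * 2 from rfl, pow_mul, h4.2 _ (sq_mem_phi hP hy₀)])
    · exact h8.not_comm fun x hx y hy => hcen x hx y (hΦP hy)
  have helem := phi_elementary hP hKP hYeq hcen hKc
  have hΦp := hP.to_le hΦP
  obtain ⟨m, hm⟩ := hΦp.exists_card_eq
  have hm1 : m ≤ 1 := by
    by_contra hm2
    obtain ⟨j, hj1, hj2⟩ : ∃ j, j ≤ 1 ∧ Nat.card ↥((zpowers (y₀ ^ 2)).subgroupOf (phi P)) = 2 ^ j := by
      rw [Nat.card_congr (subgroupOfEquivOfLe (zpowers_le.2 (sq_mem_phi hP hy₀))).toEquiv,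
        Nat.card_zpowers]
      obtain ⟨j, hj, h⟩ := (Nat.dvd_prime_pow (m := 1) Nat.prime_two).1
        (orderOf_dvd_of_pow_eq_one (by rw [pow_one]; exact (helem _ (sq_mem_phi hP hy₀)).1))
      exact ⟨j, hj, h⟩
    obtain ⟨W, hW, hWle⟩ := Sylow.exists_subgroup_card_pow_prime_le 2 (m := 2) (n := j)
      (hm ▸ pow_dvd_pow 2 (by omega : 2 ≤ m)) _ hj2 (by omega)
    have hW'le : W.map (phi P).subtype ≤ phi P := map_subtype_le _
    exact (hfree.pow_four_ne_one (W := W.map (phi P).subtype) (hW'le.trans hΦP)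
      (fun u hu v hv => hcen u (hW'le hu) v (hΦP (hW'le hv)))
      (by rw [card_map_of_injective (phi P).subtype_injective, hW]; norm_num) hy₀
      (fun h => hy₀Φ (hW'le h))
      ⟨⟨_, sq_mem_phi hP hy₀⟩, hWle (mem_zpowers (y₀ ^ 2)), rfl⟩
      fun w hw => (hcen w (hW'le hw) y₀ hy₀).symm).1
      (by rw [show 4 = 2 * 2 from rfl, pow_mul, (helem _ (sq_mem_phi hP hy₀)).1])
  obtain ⟨t, ht⟩ := hP.exists_card_eq
  have h4le : 2 ≤ t := by
    by_contra h
    refine hne (le_centralizer_of_card_le_two ?_ hKP)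
    rw [ht]
    exact (Nat.pow_le_pow_right (by norm_num) (by omega : t ≤ 1)).trans (by norm_num)
  interval_cases m
  · -- `Φ = 1`
    have hbot : phi P = ⊥ := eq_bot_of_card_eq _ (by simpa using hm)
    have hsq : ∀ x ∈ P, x ^ 2 = 1 := fun x hx => mem_bot.1 (hbot ▸ sq_mem_phi hP hx)
    have hab : ∀ u ∈ P, ∀ v ∈ P, u * v = v * u := fun u hu v hv =>
      commutatorElement_eq_one_iff_commute.1 (mem_bot.1 (hbot ▸ commutator_le_phi hP
        (commutator_mem_commutator hu hv)))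
    refine .inl ⟨?_, hsq⟩
    by_contra h4
    obtain ⟨W, hW, -⟩ := Sylow.exists_subgroup_card_pow_prime_le (G := ↥P) 2 (m := 2) (n := 0)
      (ht ▸ pow_dvd_pow 2 h4le) ⊥ (by simp) (by omega)
    have hWle : W.map P.subtype ≤ P := map_subtype_le _
    have hWc : Nat.card ↥(W.map P.subtype) = 4 := by
      rw [card_map_of_injective P.subtype_injective, hW]; norm_num
    obtain ⟨y, hy, hyW⟩ := SetLike.exists_of_lt (lt_of_le_of_ne hWle fun he => h4 (he ▸ hWc))
    exact (hfree.pow_four_ne_one hWle (fun u hu v hv => hab u (hWle hu) v (hWle hv)) hWc hy hyW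
      (by rw [hsq y hy]; exact one_mem _) fun w hw => hab y hy w (hWle hw)).1
      (by rw [show 4 = 2 * 2 from rfl, pow_mul, hsq y hy, one_pow])
  -- `|Φ| = 2`
  right
  haveI : Nontrivial ↥(phi P) := Finite.one_lt_card_iff_nontrivial.1 (by rw [hm]; norm_num)
  obtain ⟨⟨z, hzΦ⟩, hz'⟩ := exists_ne (1 : ↥(phi P))
  have hz1 : z ≠ 1 := fun h => hz' (Subtype.ext h)
  have hz2 : z ^ 2 = 1 := (helem z hzΦ).1
  have hΦz : phi P = zpowers z :=
    (eq_of_le_of_card_ge (zpowers_le.2 hzΦ) (by rw [hm, card_zpowers_two hz1 hz2]; norm_num)).symm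
  have hzP := hΦP hzΦ
  have hzc : ∀ x ∈ P, x * z = z * x := fun x hx => (hcen z hzΦ x hx).symm
  have hsqz : ∀ x ∈ P, x * x ∈ zpowers z := fun x hx => by
    rw [← pow_two, ← hΦz]; exact sq_mem_phi hP hx
  have h4one : ∀ x ∈ P, x ^ 4 = 1 := fun x hx => by
    rw [show 4 = 2 * 2 from rfl, pow_mul, (helem _ (sq_mem_phi hP hx)).1]
  have hcz : ∀ x ∈ P, ∀ w ∈ zpowers z, x * w = w * x := fun x hx w hw => by
    rcases mem_zpowers_sq_one hz2 hw with rfl | rfl
    · rw [mul_one, one_mul]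
    · exact hzc x hx
  -- the groups `⟨z, y⟩`
  have hD : ∀ y (hy : y ∈ P), y ∉ zpowers z → ∃ W : Subgroup G, W ≤ P ∧ z ∈ W ∧ y ∈ W ∧
      Nat.card ↥W = 4 ∧ (∀ g ∈ W, g ∈ zpowers z ∨ g * y⁻¹ ∈ zpowers z) ∧
      ∀ w ∈ P, w ∉ W → y * w ≠ w * y := by
    intro y hy hyz
    refine ⟨double (zpowers z) y (hsqz y hy) (hcz y hy), ?_, .inl (mem_zpowers z),
      .inr (by rw [mul_inv_cancel]; exact one_mem _), ?_, fun g hg => hg, fun w hw hwW hcomm => ?_⟩
    · rintro g (hg | hg)
      · exact (zpowers_le.2 hzP) hg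
      · have := mul_mem ((zpowers_le.2 hzP) hg) hy
        rwa [inv_mul_cancel_right] at this
    · rw [card_double (hsqz y hy) (hcz y hy) hyz, card_zpowers_two hz1 hz2]
    · set W := double (zpowers z) y (hsqz y hy) (hcz y hy)
      have hWP : W ≤ P := by
        rintro g (hg | hg)
        · exact (zpowers_le.2 hzP) hg
        · have := mul_mem ((zpowers_le.2 hzP) hg) hy
          rwa [inv_mul_cancel_right] at this
      have hcw : ∀ g ∈ W, Commute w g := by
        rintro g (hg | hg)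
        · exact hcz w hw g hg
        · have h1 : Commute w (g * y⁻¹) := hcz w hw _ hg
          have h2 := h1.mul_right (show Commute w y from hcomm.symm)
          rwa [inv_mul_cancel_right] at h2
      have hWc : ∀ u ∈ W, ∀ v ∈ W, u * v = v * u := by
        have hy' : ∀ g ∈ W, Commute y g := by
          rintro g (hg | hg)
          · exact hcz y hy g hg
          · have h2 := (show Commute y (g * y⁻¹) from hcz y hy _ hg).mul_right (Commute.refl y)
            rwa [inv_mul_cancel_right] at h2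
        intro u hu v hv
        rcases hu with hu | hu
        · exact (hcz v (hWP hv) u hu).symm
        · have h1 : Commute (u * y⁻¹) v := (hcz v (hWP hv) _ hu).symm
          have h2 := h1.mul_left (hy' v hv)
          rwa [inv_mul_cancel_right] at h2
      exact (hfree.pow_four_ne_one hWP hWc
        (by rw [card_double (hsqz y hy) (hcz y hy) hyz, card_zpowers_two hz1 hz2]) hw hwW
        (.inl (pow_two w ▸ hsqz w hw)) fun g hg => hcw g hg).1 (h4one w hw)
  obtain ⟨y, hy, hyz⟩ := SetLike.exists_of_lt (hΦz ▸ hΦlt : zpowers z < P)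
  obtain ⟨Wy, hWP, hzW, hyW, hWc, hWe, hWcent⟩ := hD y hy hyz
  have hidx : (Wy.subgroupOf P).index = 2 := by
    obtain ⟨w, hw, hwW⟩ := SetLike.not_le_iff_exists.1 fun hle : P ≤ Wy => by
      refine hne (le_centralizer_half hP hK hKP (U := phi P) hΦP hKc ?_)
      rw [hm, le_antisymm hle hWP, hWc]
      norm_num
    have hyWy : ∀ g ∈ P, g ∉ Wy → y * g * y⁻¹ * g⁻¹ = z := by
      intro g hg hgW
      rcases mem_zpowers_sq_one hz2 (hΦz ▸ commutator_le_phi hP (commutator_mem_commutator hy hg))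
        with he | he
      · exact absurd (commutatorElement_eq_one_iff_commute.1 he) (hWcent g hg hgW)
      · exact he
    rw [index_eq_two_iff]
    refine ⟨⟨w, hw⟩, fun g => ?_⟩
    by_cases hg : (g : G) ∈ Wy
    · refine .inr ⟨hg, fun h => hwW ?_⟩
      have h' : (g : G) * w ∈ Wy := h
      have := mul_mem (inv_mem hg) h'
      rwa [inv_mul_cancel_left] at this
    · refine .inl ⟨?_, hg⟩
      by_contra h
      have h' : (g : G) * w ∉ Wy := h
      have e1 := hyWy _ g.2 hg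
      have e2 := hyWy _ hw hwW
      have e3 := hyWy _ (mul_mem g.2 hw) h'
      refine hz1 ?_
      have e4 : y * ((g : G) * w) * y⁻¹ * ((g : G) * w)⁻¹ =
          (y * g * y⁻¹ * (g : G)⁻¹) * ((g : G) * (y * w * y⁻¹ * w⁻¹) * (g : G)⁻¹) := by group
      rw [e3, e1, e2, hzc _ g.2, mul_inv_cancel_right] at e4
      exact left_eq_mul.1 e4
  have hP8 : Nat.card ↥P = 8 := by
    have h1 := card_mul_index (Wy.subgroupOf P)
    rw [Nat.card_congr (subgroupOfEquivOfLe hWP).toEquiv, hWc, hidx] at h1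
    omega
  refine ⟨z, hP8, hzP, hz1, hz2, hzc, fun x hx hxz => ?_⟩
  rcases mem_zpowers_sq_one hz2 (hsqz x hx) with he | he
  swap
  · rw [pow_two]; exact he
  exfalso
  have hxi : x⁻¹ = x := inv_eq_of_mul_eq_one_right he
  obtain ⟨Wx, hWxP, hzWx, hxWx, hWxc, hWxe, hWxcent⟩ := hD x hx hxz
  have hWxn : ¬ K ≤ normalizer (Wx : Set G) := fun h => by
    have h1 := hYeq.symm.le.trans (commutator_le_half hKP hWxP h (by rw [hP8, hWxc]))
    have := card_le_of_le h1
    omega
  obtain ⟨k, hk, g, hg, hgk⟩ : ∃ k ∈ K, ∃ g ∈ Wx, k * g * k⁻¹ ∉ Wx := by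
    by_contra hcon
    push Not at hcon
    refine hWxn fun k hk => Coprime.mem_normalizer_of_map_conj (eq_of_le_of_card_ge ?_ ?_)
    · rintro - ⟨g, hg, rfl⟩
      exact hcon k hk g hg
    · exact (Coprime.card_map_conj k Wx).ge
  have hkz : ∀ w ∈ zpowers z, k * w * k⁻¹ = w := fun w hw => by
    rw [← mem_centralizer_iff.1 (hKc hk) w (hΦz.symm ▸ hw), mul_inv_cancel_right]
  set x' := k * x * k⁻¹ with hx'def
  have hx'W : x' ∉ Wx := fun h => hgk (by
    rcases hWxe g hg with hgz | hgz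
    · rw [hkz g hgz]; exact hg
    · have e : k * g * k⁻¹ = (k * (g * x⁻¹) * k⁻¹) * x' := by rw [hx'def]; group
      rw [e, hkz _ hgz]
      exact mul_mem ((zpowers_le.2 hzWx) hgz) h)
  have hx'P : x' ∈ P := (mem_normalizer_iff.1 (hKP hk) x).1 hx
  have hx'2 : x' * x' = 1 := by
    rw [hx'def, show k * x * k⁻¹ * (k * x * k⁻¹) = k * (x * x) * k⁻¹ by group, he, mul_one,
      mul_inv_cancel]
  -- the cyclic subgroup generated by `x x'` is invariant
  set u := x * x' with hudef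
  have huP : u ∈ P := mul_mem hx hx'P
  have huz : u ∉ zpowers z := fun h => hx'W (by
    have := mul_mem (inv_mem hxWx) ((zpowers_le.2 hzWx) h)
    rwa [hudef, inv_mul_cancel_left] at this)
  have hu2 : u * u = z := by
    have hne' := hWxcent x' hx'P hx'W
    rcases mem_zpowers_sq_one hz2 (hsqz u huP) with h1 | h1
    · exfalso; apply hne'
      have hx'i : x'⁻¹ = x' := inv_eq_of_mul_eq_one_right hx'2
      calc x * x' = u⁻¹ := (inv_eq_of_mul_eq_one_right h1).symm
        _ = x' * x := by rw [hudef, mul_inv_rev, hx'i, hxi]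
    · exact h1
  obtain ⟨Wu, hWuP, hzWu, huWu, hWuc, hWue, -⟩ := hD u huP huz
  have hxWu : x ∉ Wu := fun h => by
    rcases hWue x h with h1 | h1
    · exact hxz h1
    · rw [hudef, mul_inv_rev, show x * (x'⁻¹ * x⁻¹) = (x * x'⁻¹) * x⁻¹ by group, hxi] at h1
      -- `x x' x ∈ ⟨z⟩`, so `x' ∈ ⟨z⟩`
      refine hx'W ((zpowers_le.2 hzWx) ?_)
      have h2 := hcz x hx _ h1
      have h3 : x'⁻¹ = x * x'⁻¹ * x := by
        calc x'⁻¹ = (x * x) * x'⁻¹ * (x * x) := by rw [he]; group
          _ = x * (x * x'⁻¹ * x) * x := by group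
          _ = (x * x'⁻¹ * x) * x * x := by rw [h2]
          _ = x * x'⁻¹ * x := by rw [mul_assoc, he, mul_one]
      exact inv_mem_iff.1 (h3.symm ▸ h1)
  have hsqout : ∀ g ∈ P, g ∉ Wu → g * g = 1 := by
    intro g hg hgW
    have h1 : x * g ∈ Wu := (mul_mem_iff_of_index_two (normal_of_half hWuP (by rw [hP8, hWuc]))
      (a := (⟨x, hx⟩ : ↥P)) (b := ⟨g, hg⟩)).2 (iff_of_false hxWu hgW)
    rcases hWue _ h1 with h2 | h2
    · have : g = x * (x * g) := by rw [← mul_assoc, he, one_mul]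
      rw [this]
      rcases mem_zpowers_sq_one hz2 h2 with h3 | h3 <;> rw [h3]
      · rw [mul_one]; exact he
      · rw [show x * z * (x * z) = x * (z * x) * z by group, ← hzc x hx,
          show x * (x * z) * z = (x * x) * (z * z) by group, he, one_mul, ← pow_two, hz2]
    · obtain ⟨w, hw, hgw⟩ : ∃ w ∈ zpowers z, g = x' * w := by
        refine ⟨_, h2, ?_⟩
        set w := x * g * u⁻¹ with hw
        have h3 := hcz u huP w h2
        calc g = x⁻¹ * (w * u) := by rw [hw]; group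
          _ = x⁻¹ * (u * w) := by rw [h3]
          _ = x' * w := by rw [hudef]; group
      rw [hgw]
      rcases mem_zpowers_sq_one hz2 hw with h3 | h3 <;> rw [h3]
      · rw [mul_one]; exact hx'2
      · rw [show x' * z * (x' * z) = x' * (z * x') * z by group, ← hzc x' hx'P,
          show x' * (x' * z) * z = (x' * x') * (z * z) by group, hx'2, one_mul, ← pow_two, hz2]
  have hWun : K ≤ normalizer (Wu : Set G) := by
    intro j hj
    refine Coprime.mem_normalizer_of_map_conj (eq_of_le_of_card_ge ?_ (Coprime.card_map_conj j Wu).ge)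
    have hjz : ∀ w ∈ zpowers z, j * w * j⁻¹ = w := fun w hw => by
      rw [← mem_centralizer_iff.1 (hKc hj) w (hΦz.symm ▸ hw), mul_inv_cancel_right]
    have hju : j * u * j⁻¹ ∈ Wu := by
      by_contra h
      have h2 := hsqout _ ((mem_normalizer_iff.1 (hKP hj) u).1 huP) h
      rw [show j * u * j⁻¹ * (j * u * j⁻¹) = j * (u * u) * j⁻¹ by group, hu2,
        hjz z (mem_zpowers z)] at h2
      exact hz1 h2
    rintro - ⟨g, hg, rfl⟩
    show j * g * j⁻¹ ∈ Wu
    rcases hWue g hg with h1 | h1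
    · rw [hjz g h1]; exact hg
    · rw [show j * g * j⁻¹ = (j * (g * u⁻¹) * j⁻¹) * (j * u * j⁻¹) by group, hjz _ h1]
      exact mul_mem ((zpowers_le.2 hzWu) h1) hju
  have h1 := hYeq.symm.le.trans (commutator_le_half hKP hWuP hWun (by rw [hP8, hWuc]))
  have := card_le_of_le h1
  omega

end Cfsg.Agent.Cores.NoAbelianEight
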