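import Cfsg.Agent.Cores.CubicTwoGroup
import Cfsg.Agent.Cores.NoAbelianEight
import Cfsg.Agent.Coprime.Abelian

/-!
The structure of `R = [R, b]`.
-/

set_option autoImplicit false

namespace Cfsg.Agent.Cores.CubicBlock

open Subgroup
open scoped commutatorElement

universe u v

variable {S : Type u} [Group S] {E : Type v} [AddCommGroup E] [Module (ZMod 3) E]
variable {ρ : Representation (ZMod 3) S E} {b : S} {Q R : Subgroup S}

/-- Fixed points modulo `r`. -/
theorem fixed_mod [Finite S] {r : ℕ} [Fact r.Prime] {V H : Subgroup S} (hV : IsPGroup r ↥V)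
    (hVH : V ≤ normalizer (H : Set S)) :
    Nat.card ↥H ≡ Nat.card ↥(H ⊓ centralizer (V : Set S) : Subgroup S) [MOD r] := by
  letI : MulAction ↥V ↥H := MulAction.compHom ↥H (Coprime.conjOn hVH)
  refine (hV.card_modEq_card_fixedPoints ↥H).trans ?_
  have key : ∀ (a : ↥V) (x : ↥H), ((a • x : ↥H) : S) = a * x * (a : S)⁻¹ := fun a x => rfl
  refine congrArg (· % r) (Nat.card_congr
    { toFun := fun x => ⟨((x : ↥H) : S), mem_inf.2 ⟨(x : ↥H).2, mem_centralizer_iff.2 fun a ha => by
        have h := congrArg Subtype.val (x.2 ⟨a, ha⟩)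
        rw [key] at h
        exact mul_inv_eq_iff_eq_mul.1 h⟩⟩
      invFun := fun x => ⟨⟨(x : S), (mem_inf.1 x.2).1⟩, fun a => Subtype.ext (by
        rw [key, mul_inv_eq_iff_eq_mul]
        exact mem_centralizer_iff.1 (mem_inf.1 x.2).2 a a.2)⟩
      left_inv := fun x => rfl
      right_inv := fun x => rfl })

/-- A non-central element of `U` has centralizer of index 2. -/
theorem centralizer_index_two [Finite S] {U : Subgroup S} {z u : S} (hz : ∀ y ∈ U, z * y = y * z)
    (hzz : z * z = 1) (hder : ∀ x ∈ U, ∀ y ∈ U, ⁅x, y⁆ ∈ zpowers z) (hu : u ∈ U)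
    (hnc : ∃ y ∈ U, u * y ≠ y * u) :
    Nat.card ↥U = 2 * Nat.card ↥(U ⊓ centralizer ({u} : Set S) : Subgroup S) := by
  have hcase : ∀ x ∈ U, x * u = u * x ∨ x * u = z * (u * x) := by
    intro x hx
    have h := hder x hx u hu
    obtain ⟨i, hi⟩ := mem_zpowers_iff.1 h
    have h2 : z ^ (2 : ℤ) = 1 := by
      rw [show (2 : ℤ) = ((2 : ℕ) : ℤ) from rfl, zpow_natCast, pow_two, hzz]
    have e : x * u = ⁅x, u⁆ * (u * x) := by rw [commutatorElement_def]; group
    rcases Int.even_or_odd i with ⟨j, rfl⟩ | ⟨j, rfl⟩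
    · left; rw [e, ← hi, ← two_mul, zpow_mul, h2, one_zpow, one_mul]
    · right; rw [e, ← hi, zpow_add_one, zpow_mul, h2, one_zpow, one_mul]
  obtain ⟨a, ha, hau⟩ := hnc
  have hidx : ((U ⊓ centralizer ({u} : Set S)).subgroupOf U).index = 2 := by
    rw [index_eq_two_iff]
    refine ⟨⟨a, ha⟩, fun x => ?_⟩
    have hmem : ∀ y : ↥U, y ∈ (U ⊓ centralizer ({u} : Set S)).subgroupOf U ↔ (y : S) * u = u * y :=
      fun y => by simp [mem_subgroupOf, mem_centralizer_singleton_iff, y.2, eq_comm]
    rw [hmem, hmem]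
    have ha' : a * u = z * (u * a) := (hcase a ha).resolve_left fun h => hau h.symm
    rcases hcase x x.2 with h | h
    · refine .inr ⟨h, fun h2 => hau ?_⟩
      have h2' : (x : S) * a * u = u * ((x : S) * a) := h2
      rw [mul_assoc, ← mul_assoc u, ← h, mul_assoc] at h2'
      exact (mul_left_cancel h2').symm
    · refine .inl ⟨?_, fun h2 => ?_⟩
      · show (x : S) * a * u = u * ((x : S) * a)
        calc (x : S) * a * u = (x * z) * (u * a) := by rw [mul_assoc, ha', mul_assoc]
          _ = z * ((x : S) * u) * a := by rw [← hz x x.2]; simp only [mul_assoc]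
          _ = (z * z) * (u * ((x : S) * a)) := by rw [h]; simp only [mul_assoc]
          _ = u * ((x : S) * a) := by rw [hzz, one_mul]
      · rw [h2] at h
        have hz1 : z = 1 := right_eq_mul.1 h
        rw [hz1, one_mul] at ha'
        exact hau ha'.symm
  have h := card_mul_index ((U ⊓ centralizer ({u} : Set S)).subgroupOf U)
  rw [hidx, Nat.card_congr (subgroupOfEquivOfLe inf_le_left).toEquiv] at h
  omega

theorem fin_five_cube : ∀ k : ZMod 5, (k * k * k : ZMod 5) = 1 → k = 1 := by decide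

/-- `b` centralizes a group of prime order 5 it normalizes. -/
theorem centralizes_five {V : Subgroup S} (hV : Nat.card ↥V = 5) {b : S} (hb : b ^ 3 = 1)
    (hbV : ∀ x ∈ V, b * x * b⁻¹ ∈ V) : ∀ x ∈ V, b * x = x * b := by
  haveI : Fact (Nat.Prime 5) := ⟨by norm_num⟩
  haveI : Finite ↥V := Nat.finite_of_card_ne_zero (by omega)
  intro x hx
  rcases eq_or_ne x 1 with rfl | hx1
  · rw [mul_one, one_mul]
  have hgen := zpowers_eq_top_of_prime_card hV (g := (⟨x, hx⟩ : ↥V)) (fun h => hx1 (congrArg Subtype.val h))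
  have hxo : orderOf x = 5 := by
    rw [← Subgroup.orderOf_mk x hx]
    exact orderOf_eq_card_of_forall_mem_zpowers (fun y => hgen ▸ mem_top y) |>.trans hV
  have hm : (⟨b * x * b⁻¹, hbV x hx⟩ : ↥V) ∈ zpowers (⟨x, hx⟩ : ↥V) := hgen ▸ mem_top _
  obtain ⟨n, hn⟩ := ((isOfFinOrder_of_finite (⟨x, hx⟩ : ↥V)).mem_powers_iff_mem_zpowers).2 hm
  have hn' : x ^ n = b * x * b⁻¹ := congrArg Subtype.val hn
  have step : ∀ j : ℕ, b * x ^ j * b⁻¹ = x ^ (n * j) := fun j => by
    rw [← conj_pow, ← hn', pow_mul]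
  have h3 : x ^ (n * (n * n)) = x := by
    rw [← step, ← step, ← mul_one n, ← step, pow_one]
    calc b * (b * (b * x * b⁻¹) * b⁻¹) * b⁻¹ = b ^ 3 * x * (b ^ 3)⁻¹ := by
          rw [pow_succ, pow_two]; group
      _ = x := by rw [hb, one_mul, inv_one, mul_one]
  have h4 : n * (n * n) ≡ 1 [MOD 5] := by
    have := pow_eq_pow_iff_modEq.1 (h3.trans (pow_one x).symm)
    rwa [hxo] at this
  have h5 : (n : ZMod 5) = 1 := fin_five_cube _ (by
    have e : ((n * (n * n) : ℕ) : ZMod 5) = ((1 : ℕ) : ZMod 5) :=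
      (ZMod.natCast_eq_natCast_iff _ _ _).2 h4
    simpa [mul_assoc] using e)
  have h6 : n ≡ 1 [MOD 5] :=
    (ZMod.natCast_eq_natCast_iff _ _ _).1 (by simpa using h5)
  have h7 : x ^ n = x := by
    conv_rhs => rw [← pow_one x]
    exact pow_eq_pow_iff_modEq.2 (hxo.symm ▸ h6)
  rw [h7] at hn'
  conv_rhs => rw [hn', inv_mul_cancel_right]

namespace Hyp

variable (H : Hyp ρ b Q R) [Finite S] [Finite E] [Group.IsSolvable S]
include H

/-- Odd primes act trivially. -/
theorem centralizes_odd_sylow {U : Subgroup S} {z : S} (hUR : U ≤ R) (hUc : Nat.card ↥U = 32)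
    (hUn : ∀ g ∈ normalizer (R : Set S), ∀ u ∈ U, g * u * g⁻¹ ∈ U) (hzU : z ∈ U)
    (hzz : z * z = 1) (hzc : ∀ y ∈ R, z * y = y * z)
    (hder : ∀ x ∈ U, ∀ y ∈ U, ⁅x, y⁆ ∈ zpowers z)
    (hZ : ∀ x ∈ U, (∀ y ∈ U, x * y = y * x) → x ∈ zpowers z) (hz1 : z ≠ 1)
    (hcen : R ⊓ centralizer (U : Set S) ≤ U) {r : ℕ} [Fact r.Prime] (hr : 5 ≤ r) {V : Subgroup S}
    (hVR : V ≤ R) (hV : IsPGroup r ↥V) (hbV : ∀ x ∈ V, b * x * b⁻¹ ∈ V) :
    ∀ x ∈ V, b * x = x * b := by
  haveI : Fact (Nat.Prime 2) := ⟨Nat.prime_two⟩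
  have hzc2 : Nat.card ↥(zpowers z) = 2 := by
    rw [Nat.card_zpowers]; exact orderOf_eq_prime (by rw [pow_two]; exact hzz) hz1
  have hU2 : IsPGroup 2 ↥U := IsPGroup.of_card (n := 5) (by rw [hUc]; norm_num)
  -- nontrivial subgroups fix only `⟨z⟩`
  have key : ∀ W : Subgroup S, W ≤ V → W ≠ ⊥ →
      U ⊓ centralizer (W : Set S) = zpowers z ∧ 30 % r = 0 := by
    intro W hWV hW
    have hWp := hV.to_le hWV
    have hWU : W ≤ normalizer (U : Set S) := fun w hw => mem_normalizer_iff.2 fun x =>
      ⟨hUn w (le_normalizer (hVR (hWV hw))) x, fun h => by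
        have := hUn w⁻¹ (inv_mem (le_normalizer (hVR (hWV hw)))) _ h
        rwa [inv_inv, show w⁻¹ * (w * x * w⁻¹) * w = x by group] at this⟩
    set C := U ⊓ centralizer (W : Set S) with hC
    have hzC : zpowers z ≤ C := zpowers_le.2 (mem_inf.2 ⟨hzU, mem_centralizer_iff.2 fun w hw =>
      (hzc w (hVR (hWV hw))).symm⟩)
    have hCne : C ≠ U := fun h => hW (by
      have hle : W ≤ U := fun w hw => hcen (mem_inf.2 ⟨hVR (hWV hw), mem_centralizer_iff.2 fun y hy =>
        (mem_centralizer_iff.1 (mem_inf.1 (h.symm.le hy)).2 w hw).symm⟩)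
      have h2 : Nat.card ↥W ∣ 32 := hUc ▸ card_dvd_of_le hle
      obtain ⟨k, hk⟩ := hWp.exists_card_eq
      rcases Nat.eq_zero_or_pos k with hk0 | hk0
      · exact eq_bot_of_card_eq _ (by rw [hk, hk0, pow_zero])
      · exfalso
        have h5 : r ∣ 2 ^ 5 := (dvd_pow_self r hk0.ne').trans ((hk ▸ h2).trans (by norm_num))
        have := (Nat.prime_dvd_prime_iff_eq (Fact.out (p := r.Prime)) Nat.prime_two).1
          ((Fact.out (p := r.Prime)).dvd_of_dvd_pow h5)
        omega)
    obtain ⟨j, hj⟩ := (hU2.to_le (inf_le_left : C ≤ U)).exists_card_eq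
    have hj1 : 1 ≤ j := by
      by_contra h
      have := card_le_of_le hzC
      rw [hj, hzc2, show j = 0 by omega, pow_zero] at this
      omega
    have hj4 : j ≤ 4 := by
      by_contra h
      refine hCne (eq_of_le_of_card_ge inf_le_left ?_)
      rw [hUc, hj]
      exact le_trans (by norm_num) (Nat.pow_le_pow_right (by norm_num) (show 5 ≤ j by omega))
    have hmod := fixed_mod hWp hWU
    rw [hUc, ← hC, hj] at hmod
    have hj' : j = 1 := by
      by_contra hne
      obtain ⟨u, huC, huz⟩ := SetLike.not_le_iff_exists.1 fun hle : C ≤ zpowers z => by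
        have := card_le_of_le hle
        rw [hj, hzc2] at this
        have := Nat.pow_le_pow_right (show 0 < 2 by norm_num) (show 2 ≤ j by omega)
        omega
      obtain ⟨huU, huW⟩ := mem_inf.1 huC
      have hnc : ∃ y ∈ U, u * y ≠ y * u := by
        by_contra hh
        push Not at hh
        exact huz (hZ u huU hh)
      set H1 := U ⊓ centralizer ({u} : Set S) with hH1
      have hH1c : Nat.card ↥H1 = 16 := by
        have := centralizer_index_two (fun y hy => hzc y (hUR hy)) hzz hder huU hnc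
        rw [hUc, ← hH1] at this
        omega
      have hWH1 : W ≤ normalizer (H1 : Set S) := fun w hw => mem_normalizer_iff.2 fun x => by
        simp only [hH1, mem_inf, mem_centralizer_singleton_iff]
        rw [← mem_normalizer_iff.1 (hWU hw) x]
        refine and_congr_right fun _ => ?_
        have hwu : w * u = u * w := mem_centralizer_iff.1 huW w hw
        have hwu' : u * w⁻¹ = w⁻¹ * u := ((show Commute u w from hwu.symm).inv_right).eq
        constructor
        · intro h
          calc w * x * w⁻¹ * u = w * x * (u * w⁻¹) := by rw [mul_assoc _ w⁻¹, ← hwu']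
            _ = w * (x * u) * w⁻¹ := by group
            _ = w * u * (x * w⁻¹) := by rw [h]; group
            _ = u * (w * x * w⁻¹) := by rw [hwu]; group
        · intro h
          calc x * u = w⁻¹ * ((w * x * w⁻¹) * (w * u)) := by group
            _ = w⁻¹ * ((w * x * w⁻¹) * u * w) := by rw [hwu]; group
            _ = w⁻¹ * u * (w * x * w⁻¹) * w := by rw [h]; group
            _ = u * x := by rw [← hwu']; group
      have hmod1 := fixed_mod hWp hWH1
      obtain ⟨i, hi⟩ := (hU2.to_le (inf_le_left.trans inf_le_left :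
        H1 ⊓ centralizer (W : Set S) ≤ U)).exists_card_eq
      have hi2 : 2 ≤ i := by
        by_contra hlt
        have hle2 : Nat.card ↥(H1 ⊓ centralizer (W : Set S) : Subgroup S) ≤ 2 := by
          rw [hi]; exact (Nat.pow_le_pow_right (by norm_num) (by omega : i ≤ 1)).trans (by norm_num)
        refine huz ?_
        have hzle : zpowers z ≤ H1 ⊓ centralizer (W : Set S) := zpowers_le.2 (mem_inf.2
          ⟨mem_inf.2 ⟨hzU, mem_centralizer_singleton_iff.2 (hzc u (hUR huU))⟩,
            (mem_inf.1 (hzC (mem_zpowers z))).2⟩)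
        rw [eq_of_le_of_card_ge hzle (by rw [hzc2]; exact hle2)]
        exact mem_inf.2 ⟨mem_inf.2 ⟨huU, mem_centralizer_singleton_iff.2 rfl⟩, huW⟩
      have hi4 : i ≤ 4 := by
        by_contra hlt
        have h1 := card_le_of_le (inf_le_left : H1 ⊓ centralizer (W : Set S) ≤ H1)
        rw [hH1c, hi] at h1
        have := Nat.pow_le_pow_right (show 0 < 2 by norm_num) (show 5 ≤ i by omega)
        omega
      rw [hH1c, hi] at hmod1
      have hC16 : i = 4 → False := fun h4 => by
        have h1 : H1 ≤ C := by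
          have := eq_of_le_of_card_ge (inf_le_left : H1 ⊓ centralizer (W : Set S) ≤ H1)
            (by rw [hH1c, hi, h4]; norm_num)
          intro x hx
          rw [← this] at hx
          exact mem_inf.2 ⟨(mem_inf.1 (mem_inf.1 hx).1).1, (mem_inf.1 hx).2⟩
        have h2 := card_le_of_le h1
        rw [hH1c, hj] at h2
        have hj4' : j = 4 := by
          by_contra hne'
          have := Nat.pow_le_pow_right (show 0 < 2 by norm_num) (show j ≤ 3 by omega)
          omega
        rw [hj4'] at hmod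
        have := (Nat.modEq_iff_dvd' (show 2 ^ 4 ≤ 32 by norm_num)).1 hmod.symm
        have hr16 : r ∣ 2 ^ 4 := by simpa using this
        have := (Nat.prime_dvd_prime_iff_eq (Fact.out (p := r.Prime)) Nat.prime_two).1
          ((Fact.out (p := r.Prime)).dvd_of_dvd_pow hr16)
        omega
      have := (Nat.modEq_iff_dvd' (show 2 ^ i ≤ 16 by
        exact (Nat.pow_le_pow_right (by norm_num) hi4).trans (by norm_num))).1 hmod1.symm
      interval_cases i
      · have hd : r ∣ 12 := by simpa using this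
        have h2 : ∀ m, m ≤ 12 → 5 ≤ m → m ∣ 12 → ¬ m.Prime := by decide
        exact h2 r (Nat.le_of_dvd (by norm_num) hd) hr hd Fact.out
      · have h8 : r ∣ 2 ^ 3 := by simpa using this
        have := (Nat.prime_dvd_prime_iff_eq (Fact.out (p := r.Prime)) Nat.prime_two).1
          ((Fact.out (p := r.Prime)).dvd_of_dvd_pow h8)
        omega
      · exact hC16 rfl
    refine ⟨(eq_of_le_of_card_ge hzC (by rw [hj, hj', hzc2]; norm_num)).symm, ?_⟩
    rw [hj'] at hmod
    have := (Nat.modEq_iff_dvd' (show 2 ^ 1 ≤ 32 by norm_num)).1 hmod.symm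
    exact Nat.mod_eq_zero_of_dvd (by simpa using this)
  rcases eq_or_ne V ⊥ with rfl | hVne
  · intro x hx; rw [mem_bot.1 hx, mul_one, one_mul]
  -- the free action bounds `V`
  obtain ⟨hCV, hr30⟩ := key V le_rfl hVne
  have hr5 : r = 5 := by
    have hd : r ∣ 30 := Nat.dvd_of_mod_eq_zero hr30
    have h1 := Nat.le_of_dvd (by norm_num) hd
    by_contra hne
    have h2 : ∀ m, m ≤ 30 → 6 ≤ m → m ∣ 30 → ¬ m.Prime := by decide
    exact h2 r h1 (by omega) hd Fact.out
  subst hr5
  obtain ⟨k, hk⟩ := hV.exists_card_eq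
  have hk1 : k ≤ 1 := by
    by_contra hk2
    have h25 : 25 ≤ Nat.card ↥V := by
      rw [hk]; exact le_trans (by norm_num) (Nat.pow_le_pow_right (by norm_num) (show 2 ≤ k by omega))
    obtain ⟨u, hu, huz⟩ := SetLike.not_le_iff_exists.1 fun hle : U ≤ zpowers z => by
      have := card_le_of_le hle
      rw [hUc, hzc2] at this; omega
    have hfree : ∀ y ∈ U, y ∉ zpowers z → ∀ v ∈ V, v * y = y * v → v = 1 := by
      intro y hy hyz v hv hcomm
      by_contra hv1
      obtain ⟨h1, -⟩ := key (zpowers v) (zpowers_le.2 hv) (zpowers_ne_bot.2 hv1)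
      refine hyz (h1 ▸ mem_inf.2 ⟨hy, mem_centralizer_iff.2 fun w hw => ?_⟩)
      obtain ⟨i, rfl⟩ := mem_zpowers_iff.1 hw
      exact ((show Commute v y from hcomm).zpow_left i).eq
    have hmapU : ∀ v ∈ V, ∀ y ∈ U, v * y * v⁻¹ ∈ U := fun v hv =>
      hUn v (le_normalizer (hVR hv))
    have hout : ∀ v ∈ V, ∀ y, y ∈ U → y ∉ zpowers z → v * y * v⁻¹ ∉ zpowers z := by
      intro v hv y _ hyz h
      refine hyz ?_
      obtain ⟨i, hi⟩ := mem_zpowers_iff.1 h
      have hc : Commute (z ^ i) v := ((show Commute z v from hzc v (hVR hv)).zpow_left i)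
      have e : y = z ^ i := by
        calc y = v⁻¹ * (v * y * v⁻¹) * v := by group
          _ = z ^ i := by rw [← hi, mul_assoc, hc.eq, inv_mul_cancel_left]
      exact e ▸ zpow_mem (mem_zpowers z) i
    have hinj : ∀ y ∈ U, y ∉ zpowers z → Function.Injective (fun v : ↥V => (v : S) * y * (v : S)⁻¹) := by
      intro y hy hyz v w hvw
      simp only at hvw
      have h1 : (w : S)⁻¹ * v * y = y * ((w : S)⁻¹ * v) := by
        calc (w : S)⁻¹ * v * y = (w : S)⁻¹ * (v * y * (v : S)⁻¹) * v := by group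
          _ = _ := by rw [hvw]; group
      exact Subtype.ext (inv_mul_eq_one.1 (hfree y hy hyz _ (mul_mem (inv_mem w.2) v.2) h1)).symm
    obtain ⟨u', hu', hu'z, hu'o⟩ : ∃ y ∈ U, y ∉ zpowers z ∧ ∀ v ∈ V, v * u * v⁻¹ ≠ y := by
      by_contra hcon
      push Not at hcon
      have hs : (U : Set S) ⊆ (zpowers z : Set S) ∪ Set.range (fun v : ↥V => (v : S) * u * (v : S)⁻¹) := by
        intro y hy
        by_cases hyz : y ∈ zpowers z
        · exact .inl hyz
        · obtain ⟨v, hv, e⟩ := hcon y hy hyz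
          exact .inr ⟨⟨v, hv⟩, e⟩
      have h1 := Set.ncard_le_ncard hs (Set.toFinite _)
      have h2 := h1.trans (Set.ncard_union_le _ _)
      rw [Set.ncard_range_of_injective (hinj u hu huz), ← Nat.card_coe_set_eq, ← Nat.card_coe_set_eq] at h2
      have h3 : 32 ≤ 2 + Nat.card ↥V := by
        have e1 : Nat.card ↥((U : Set S)) = 32 := hUc
        have e2 : Nat.card ↥((zpowers z : Set S)) = 2 := hzc2
        rw [e1, e2] at h2; exact h2
      -- `|V|` is a power of 5 at most 32
      have h4 : Nat.card ↥V ≤ 32 := by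
        have hr' : Set.range (fun v : ↥V => (v : S) * u * (v : S)⁻¹) ⊆ (U : Set S) := by
          rintro y ⟨v, rfl⟩; exact hmapU v v.2 u hu
        have h5 := Set.ncard_le_ncard hr' (Set.toFinite _)
        rw [Set.ncard_range_of_injective (hinj u hu huz), ← Nat.card_coe_set_eq] at h5
        exact h5.trans_eq hUc
      rw [hk] at h3 h4
      have hk3 : k ≤ 2 := by
        by_contra h
        have := Nat.pow_le_pow_right (show 0 < 5 by norm_num) (show 3 ≤ k by omega)
        omega
      have := Nat.pow_le_pow_right (show 0 < 5 by norm_num) hk3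
      omega
    let f : ↥V × Bool → ↥U := fun p => bif p.2 then ⟨(p.1 : S) * u * (p.1 : S)⁻¹, hmapU _ p.1.2 u hu⟩
      else ⟨(p.1 : S) * u' * (p.1 : S)⁻¹, hmapU _ p.1.2 u' hu'⟩
    have hf : Function.Injective f := by
      rintro ⟨v, s⟩ ⟨w, t⟩ he
      have he' := congrArg Subtype.val he
      cases s <;> cases t <;> simp only [f, cond_true, cond_false] at he'
      · rw [hinj u' hu' hu'z he']
      · exfalso
        refine hu'o _ (mul_mem (inv_mem v.2) w.2) ?_
        calc (v : S)⁻¹ * w * u * ((v : S)⁻¹ * w)⁻¹ = (v : S)⁻¹ * (w * u * (w : S)⁻¹) * v := by group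
          _ = u' := by rw [← he']; group
      · exfalso
        refine hu'o _ (mul_mem (inv_mem w.2) v.2) ?_
        calc (w : S)⁻¹ * v * u * ((w : S)⁻¹ * v)⁻¹ = (w : S)⁻¹ * (v * u * (v : S)⁻¹) * w := by group
          _ = u' := by rw [he']; group
      · rw [hinj u hu huz he']
    have := Nat.card_le_card_of_injective f hf
    rw [Nat.card_prod, hUc, Nat.card_eq_fintype_card (α := Bool), Fintype.card_bool] at this
    omega
  interval_cases k
  · exact absurd (eq_bot_of_card_eq _ (by rw [hk]; norm_num)) hVne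
  · exact centralizes_five (by rw [hk]; norm_num) H.b_pow hbV

/-- The structure theorem. -/
theorem structure_thm : R = Q ∨ (Cfsg.IsExtraspecial 2 ↥R ∧ Nat.card ↥R = 32) := by
  haveI : Fact (Nat.Prime 2) := ⟨Nat.prime_two⟩
  by_cases hno : NoElem ρ b R
  swap
  · rw [NoElem] at hno
    push Not at hno
    obtain ⟨M, hM, m, hm, hm1, hm2⟩ := hno
    exact monomial_case H hM fun h => hm2 ((h m hm).resolve_left hm1)
  obtain ⟨U, hUR, hU2, hUn, -, hcen⟩ := H.exists_two_core
  obtain ⟨z, hzU, hz1, hneg, hder, hsq, hZ, hna⟩ := H.two_core_extraspecial hno hUR hU2 hUn hcen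
  obtain ⟨hzb, hzR⟩ := H.neg_comm (hUR hzU) hneg
  have hzz : z * z = 1 := by
    refine H.faithful (LinearMap.ext fun x => ?_)
    obtain ⟨f, hf, y, hy, rfl⟩ := exists_fixed_add_moved ρ H.R_cop x
    rw [mul_apply, one_apply, map_add, map_add, hf z (hUR hzU), hf z (hUR hzU), hneg y hy, map_neg,
      hneg y hy, neg_neg]
  have hzc2 : Nat.card ↥(zpowers z) = 2 := by
    rw [Nat.card_zpowers]; exact orderOf_eq_prime (by rw [pow_two]; exact hzz) hz1
  have hbN := H.b_mem_normalizer
  have hUb : ∀ x ∈ U, b * x * b⁻¹ ∈ U := hUn b hbN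
  have hU1 := H.core_eq_commutator hUR hU2 hUb hzU hz1 hneg hder hZ hna
  have hRU : R ≤ normalizer (U : Set S) := fun r hr => mem_normalizer_iff.2 fun x =>
    ⟨hUn r (le_normalizer hr) x, fun h => by
      have := hUn r⁻¹ (inv_mem (le_normalizer hr)) _ h
      rwa [inv_inv, show r⁻¹ * (r * x * r⁻¹) * r = x by group] at this⟩
  have hBN : zpowers b ≤ normalizer (R : Set S) := zpowers_le.2 hbN
  have hbU : b ∈ normalizer (U : Set S) := mem_normalizer_iff.2 fun x => ⟨hUb x, fun h => by
    have := hUb _ (hUb _ h)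
    rwa [H.conj3] at this⟩
  have hcop : ∀ T : Subgroup S, T ≤ R → (Nat.card ↥(zpowers b)).Coprime (Nat.card ↥T) := fun T hT => by
    refine Nat.Coprime.coprime_dvd_left ?_ ((H.R_cop.coprime_dvd_left (card_dvd_of_le hT)).symm)
    rw [Nat.card_zpowers]
    exact orderOf_dvd_of_pow_eq_one H.b_pow
  -- 2-subgroups containing `U` and `Q`
  have hbig : ∀ T : Subgroup S, T ≤ R → IsPGroup 2 ↥T → (∀ x ∈ T, b * x * b⁻¹ ∈ T) → U ⊔ Q ≤ T →
      U ≤ ⁅T, zpowers b⁆ ∧ Q ≤ ⁅T, zpowers b⁆ ∧ Nat.card ↥(⁅T, zpowers b⁆ : Subgroup S) = 32 ∧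
        IsPGroup 2 ↥(⁅T, zpowers b⁆ : Subgroup S) := by
    intro T hTR hT2 hTb hUT
    have hbT : zpowers b ≤ normalizer (T : Set S) := zpowers_le.2 (mem_normalizer_iff.2 fun x =>
      ⟨hTb x, fun h => by
        have := hTb _ (hTb _ h)
        rwa [H.conj3] at this⟩)
    set R2 := ⁅T, zpowers b⁆ with hR2
    have hR2T : R2 ≤ T := Coprime.commutator_le_left_of_normalizer hbT
    have hQR2 : Q ≤ R2 := fun q hq => by
      rcases eq_or_ne q 1 with rfl | hq1
      · exact one_mem _
      have hqm := H.Q_conj q hq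
      have h1 : ⁅b * q * b⁻¹, b⁆ ∈ R2 :=
        commutator_mem_commutator (hUT (mem_sup_right hqm)) (mem_zpowers b)
      have e : ⁅b * q * b⁻¹, b⁆ = q := by
        have e1 : ⁅b * q * b⁻¹, b⁆ = (b * q * b⁻¹) * (b * (b * q * b⁻¹)⁻¹ * b⁻¹) := by
          rw [commutatorElement_def]; group
        have e2 : (b * q * b⁻¹)⁻¹ = b * q * b⁻¹ := inv_eq_of_mul_eq_one_right (H.Q_sq _ hqm)
        rw [e1, e2, H.third hq hq1, ← mul_assoc, H.Q_comm hqm hq, mul_assoc, H.Q_sq _ hqm, mul_one]
      exact e ▸ h1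
    have hR2b : ∀ x ∈ R2, b * x * b⁻¹ ∈ R2 := fun x hx =>
      (mem_normalizer_iff.1 (Coprime.mem_normalizer_commutator (hbT (mem_zpowers b))
        (le_normalizer (mem_zpowers b))) x).1 hx
    have hUR2 : U ≤ R2 := by
      rw [← hU1, hR2]
      exact commutator_mono (le_sup_left.trans hUT) le_rfl
    have hR2p := hT2.to_le hR2T
    have H2 : Hyp ρ b Q R2 :=
      { faithful := H.faithful, b_pow := H.b_pow, blk := H.blk, Q_le := hQR2, Q_card := H.Q_card,
        Q_sq := H.Q_sq, Q_conj := H.Q_conj, Q_fpf := H.Q_fpf,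
        R_cop := H.R_cop.coprime_dvd_left (card_dvd_of_le (hR2T.trans hTR)), R_conj := hR2b,
        R_gen := by
          rw [closure_eq_commutator hR2b, hR2, Coprime.commutator_commutator_eq hbT (hcop T hTR)
            (.inl inferInstance)] }
    refine ⟨hUR2, hQR2, ?_, hR2p⟩
    rcases H2.two_group_case hR2p with h | h
    · exfalso
      obtain ⟨x, hx, y, hy, hxy⟩ := hna
      exact hxy (H.Q_comm (h ▸ hUR2 hx) (h ▸ hUR2 hy))
    · exact h.2
  have hQU : Q ≤ normalizer (U : Set S) := H.Q_le.trans hRU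
  have hQ2 : IsPGroup 2 ↥Q := IsPGroup.of_card (n := 2) (by rw [H.Q_card]; norm_num)
  have hT0 : IsPGroup 2 ↥(U ⊔ Q : Subgroup S) := IsPGroup.to_sup_of_normal_left' hU2 hQ2 hQU
  obtain ⟨hUR2, hQR2, hR2c, hR2p⟩ := hbig _ (sup_le hUR H.Q_le) hT0 (fun x hx => by
    obtain ⟨a, ha, q, hq, rfl⟩ := (Coprime.mem_sup_iff hQU).1 hx
    rw [show b * (a * q) * b⁻¹ = (b * a * b⁻¹) * (b * q * b⁻¹) by group]
    exact mul_mem (mem_sup_left (hUb a ha)) (mem_sup_right (H.Q_conj q hq))) le_rfl
  set R2 := ⁅(U ⊔ Q : Subgroup S), zpowers b⁆ with hR2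
  have hR2R : R2 ≤ R :=
    (Coprime.commutator_le_left_of_normalizer (zpowers_le.2 (mem_normalizer_iff.2 fun x => by
      have hf : ∀ x ∈ U ⊔ Q, b * x * b⁻¹ ∈ U ⊔ Q := fun x hx => by
        obtain ⟨a, ha, q, hq, rfl⟩ := (Coprime.mem_sup_iff hQU).1 hx
        rw [show b * (a * q) * b⁻¹ = (b * a * b⁻¹) * (b * q * b⁻¹) by group]
        exact mul_mem (mem_sup_left (hUb a ha)) (mem_sup_right (H.Q_conj q hq))
      exact ⟨hf x, fun h => by
        have := hf _ (hf _ h)
        rwa [H.conj3] at this⟩))).trans (sup_le hUR H.Q_le)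
  -- the order of `U`
  have hUc : Nat.card ↥U = 32 := by
    have hcU : center ↥U = zpowers (⟨z, hzU⟩ : ↥U) := by
      refine le_antisymm (fun x hx => ?_) (zpowers_le.2 (mem_center_iff.2 fun y =>
        Subtype.ext (hzR y (hUR y.2)).symm))
      obtain ⟨i, hi⟩ := mem_zpowers_iff.1 (hZ x x.2 fun y hy =>
        (congrArg Subtype.val (mem_center_iff.1 hx ⟨y, hy⟩)).symm)
      exact ⟨i, Subtype.ext hi⟩
    obtain ⟨x, hx, y, hy, hxy⟩ := hna
    have hz1U : (⟨z, hzU⟩ : ↥U) ≠ 1 := fun h => hz1 (congrArg Subtype.val h)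
    have hext : Cfsg.IsExtraspecial 2 ↥U := by
      refine SquareExtraspecial.isExtraspecial_of_squares hU2 hcU hz1U
        (Subtype.ext (by rw [coe_pow, pow_two]; exact hzz)) (fun w => ?_) ?_
      · rw [hcU]
        obtain ⟨i, hi⟩ := mem_zpowers_iff.1 (hsq w w.2)
        exact ⟨i, Subtype.ext (by rw [coe_zpow, coe_pow, pow_two]; exact hi)⟩
      · have h2 : zpowers z ≤ U := zpowers_le.2 hzU
        have hle := card_le_of_le h2
        rw [hzc2] at hle
        refine lt_of_le_of_ne hle fun he => hxy ?_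
        have hUz := eq_of_le_of_card_ge h2 (by rw [hzc2]; exact he.ge)
        obtain ⟨i, rfl⟩ := mem_zpowers_iff.1 (hUz.symm ▸ hx : x ∈ zpowers z)
        exact (((show Commute z y from hzR y (hUR hy))).zpow_left i).eq
    obtain ⟨n, hn1, hn⟩ := PGroups.isExtraspecial_card hext
    have hle := card_le_of_le hUR2
    rw [hR2c, hn] at hle
    have hn2 : n ≤ 2 := by
      by_contra h
      have := Nat.pow_le_pow_right (show 0 < 2 by norm_num) (show 7 ≤ 2 * n + 1 by omega)
      omega
    interval_cases n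
    · exfalso
      have hU8 : Nat.card ↥U = 8 := by rw [hn]; norm_num
      have hUR2n : R2 ≤ normalizer (U : Set S) := hR2R.trans hRU
      have hUne : U ≠ ⊥ := fun h => by rw [h, card_bot] at hU8; omega
      have hlt := Coprime.commutator_lt_of_isPGroup hU2 hR2p hUR2n hUne
      set W := ⁅U, R2⁆ with hW
      have hzW : z ∈ W := by
        have h1 : ⁅x, y⁆ ∈ W := commutator_mem_commutator hx (hUR2 hy)
        have h2 := hder x hx y hy
        rcases NoAbelianEight.mem_zpowers_sq_one (by rw [pow_two]; exact hzz) h2 with h3 | h3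
        · exact absurd (commutatorElement_eq_one_iff_commute.1 h3) hxy
        · exact h3 ▸ h1
      obtain ⟨j, hj⟩ := (hU2.to_le hlt.le).exists_card_eq
      have hj2 : j ≤ 2 := by
        by_contra h
        refine hlt.ne (eq_of_le_of_card_ge hlt.le ?_)
        rw [hU8, hj]
        exact le_trans (by norm_num) (Nat.pow_le_pow_right (by norm_num) (show 3 ≤ j by omega))
      have hWz : W ≤ zpowers z := by
        have hzWle : zpowers z ≤ W := zpowers_le.2 hzW
        rcases Nat.lt_or_ge j 2 with h | h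
        · refine (eq_of_le_of_card_ge hzWle ?_).ge
          rw [hj, hzc2]
          exact (Nat.pow_le_pow_right (by norm_num) (show j ≤ 1 by omega)).trans (by norm_num)
        · exfalso
          have hWb : zpowers b ≤ normalizer (W : Set S) := zpowers_le.2
            (Coprime.mem_normalizer_commutator hbU (mem_normalizer_iff.2 fun w => by
              have hf : ∀ w ∈ R2, b * w * b⁻¹ ∈ R2 := fun w hw =>
                (mem_normalizer_iff.1 (Coprime.mem_normalizer_commutator (mem_normalizer_iff.2 fun x => by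
                  have hf : ∀ x ∈ U ⊔ Q, b * x * b⁻¹ ∈ U ⊔ Q := fun x hx => by
                    obtain ⟨a, ha, q, hq, rfl⟩ := (Coprime.mem_sup_iff hQU).1 hx
                    rw [show b * (a * q) * b⁻¹ = (b * a * b⁻¹) * (b * q * b⁻¹) by group]
                    exact mul_mem (mem_sup_left (hUb a ha)) (mem_sup_right (H.Q_conj q hq))
                  exact ⟨hf x, fun h => by
                    have := hf _ (hf _ h)
                    rwa [H.conj3] at this⟩) (le_normalizer (mem_zpowers b))) w).1 hw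
              exact ⟨hf w, fun h => by
                have := hf _ (hf _ h)
                rwa [H.conj3] at this⟩))
          have h1 := NoAbelianEight.commutator_le_half (P := U) (K := zpowers b)
            (zpowers_le.2 hbU) hlt.le hWb (by rw [hU8, hj, show j = 2 by omega]; norm_num)
          exact hlt.not_ge (hU1.symm.le.trans h1)
      have hxz : x ∉ zpowers z := fun h => hxy (by
        obtain ⟨i, rfl⟩ := mem_zpowers_iff.1 h
        exact (((show Commute z y from hzR y (hUR hy))).zpow_left i).eq)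
      -- `U` is generated by `x, y, z`
      set G0 := zpowers x ⊔ zpowers z ⊔ zpowers y
      have hG0U : G0 ≤ U := sup_le (sup_le (zpowers_le.2 hx) (zpowers_le.2 hzU)) (zpowers_le.2 hy)
      have hG0 : G0 = U := by
        obtain ⟨i, hi⟩ := (hU2.to_le hG0U).exists_card_eq
        refine eq_of_le_of_card_ge hG0U ?_
        rw [hU8, hi]
        have hcommA : ∀ g ∈ zpowers x ⊔ zpowers z, g * x = x * g := by
          have hle : zpowers x ⊔ zpowers z ≤ centralizer ({x} : Set S) := sup_le
            (zpowers_le.2 (mem_centralizer_singleton_iff.2 rfl))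
            (zpowers_le.2 (mem_centralizer_singleton_iff.2 (hzR x (hUR hx))))
          exact fun g hg => mem_centralizer_singleton_iff.1 (hle hg)
        have hyn : y ∉ zpowers x ⊔ zpowers z := fun h => hxy (hcommA y h).symm
        have h1 : zpowers z < zpowers x ⊔ zpowers z := lt_of_le_of_ne le_sup_right fun he =>
          hxz (he ▸ mem_sup_left (mem_zpowers x))
        have h2 : zpowers x ⊔ zpowers z < G0 := lt_of_le_of_ne le_sup_left fun he =>
          hyn (he ▸ mem_sup_right (mem_zpowers y))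
        have c1 := lt_of_le_of_ne (card_le_of_le h1.le) fun he => h1.ne (eq_of_le_of_card_ge h1.le he.ge)
        have c2 := lt_of_le_of_ne (card_le_of_le h2.le) fun he => h2.ne (eq_of_le_of_card_ge h2.le he.ge)
        obtain ⟨i', hi'⟩ := (hU2.to_le (h2.le.trans hG0U)).exists_card_eq
        rw [hzc2, hi'] at c1
        rw [hi', hi] at c2
        have hii : i' < i := (Nat.pow_lt_pow_iff_right (by norm_num)).1 c2
        have hi'2 : 1 < i' := (Nat.pow_lt_pow_iff_right (show 1 < 2 by norm_num)).1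
          (show 2 ^ 1 < 2 ^ i' by rw [pow_one]; exact c1)
        exact le_trans (by norm_num) (Nat.pow_le_pow_right (show 0 < 2 by norm_num) (show 3 ≤ i by omega))
      have hconj : ∀ r ∈ R2, ∀ g ∈ U, r * g * r⁻¹ = g ∨ r * g * r⁻¹ = z * g := by
        intro r hr g hg
        have h1 : ⁅r, g⁆ ∈ zpowers z := hWz (hW ▸ commutator_comm R2 U ▸ commutator_mem_commutator hr hg)
        have e : r * g * r⁻¹ = ⁅r, g⁆ * g := by rw [commutatorElement_def]; group
        rcases NoAbelianEight.mem_zpowers_sq_one (by rw [pow_two]; exact hzz) h1 with h2 | h2 <;>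
          rw [e, h2]
        · left; rw [one_mul]
        · right; rfl
      classical
      letI : Fintype ↥R2 := Fintype.ofFinite _
      let f : ↥R2 → S × S := fun r => ((r : S) * x * (r : S)⁻¹, (r : S) * y * (r : S)⁻¹)
      have hfib : ∀ a ∈ Finset.univ.image f, (Finset.univ.filter (fun r => f r = a)).card ≤ 2 := by
        intro a ha
        obtain ⟨r₀, -, rfl⟩ := Finset.mem_image.1 ha
        have hmem : ∀ r ∈ Finset.univ.filter (fun r => f r = f r₀), ((r₀ : S)⁻¹ * (r : S)) ∈ zpowers z := by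
          intro r hr
          obtain ⟨-, hfr⟩ := Finset.mem_filter.1 hr
          simp only [f, Prod.mk.injEq] at hfr
          set g := (r₀ : S)⁻¹ * (r : S) with hg
          have hgR : g ∈ R := mul_mem (inv_mem (hR2R r₀.2)) (hR2R r.2)
          have hle : G0 ≤ centralizer ({g} : Set S) := by
            refine sup_le (sup_le ?_ ?_) ?_ <;> rw [zpowers_le, mem_centralizer_singleton_iff]
            · calc x * g = (r₀ : S)⁻¹ * ((r₀ : S) * x * (r₀ : S)⁻¹) * r := by rw [hg]; group
                _ = g * x := by rw [← hfr.1, hg]; group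
            · exact hzR g hgR
            · calc y * g = (r₀ : S)⁻¹ * ((r₀ : S) * y * (r₀ : S)⁻¹) * r := by rw [hg]; group
                _ = g * y := by rw [← hfr.2, hg]; group
          rw [hG0] at hle
          have hgc : g ∈ centralizer (U : Set S) :=
            mem_centralizer_iff.2 fun w hw => mem_centralizer_singleton_iff.1 (hle hw)
          exact hZ g (hcen (mem_inf.2 ⟨hgR, hgc⟩)) fun w hw => (mem_centralizer_iff.1 hgc w hw).symm
        refine (Finset.card_le_card (t := ({r₀, r₀ * ⟨z, hUR2 hzU⟩} : Finset ↥R2)) fun r hr => ?_).trans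
          Finset.card_le_two
        rcases NoAbelianEight.mem_zpowers_sq_one (by rw [pow_two]; exact hzz) (hmem r hr) with h | h
        · simp [Subtype.ext ((inv_mul_eq_one.1 h).symm : (r : S) = r₀)]
        · have : r = r₀ * ⟨z, hUR2 hzU⟩ := Subtype.ext (by
            rw [Subgroup.coe_mul]; exact inv_mul_eq_iff_eq_mul.1 h)
          simp [this]
      have h1 := Finset.card_le_mul_card_image (s := (Finset.univ : Finset ↥R2)) 2 hfib
      have h2 : (Finset.univ.image f).card ≤ 4 := by
        refine (Finset.card_le_card (t := ({x, z * x} : Finset S) ×ˢ ({y, z * y} : Finset S))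
          fun a ha => ?_).trans ?_
        · obtain ⟨r, -, rfl⟩ := Finset.mem_image.1 ha
          simp only [f, Finset.mem_product, Finset.mem_insert, Finset.mem_singleton]
          exact ⟨hconj r r.2 x hx, hconj r r.2 y hy⟩
        · rw [Finset.card_product]
          exact Nat.mul_le_mul Finset.card_le_two Finset.card_le_two
      rw [Finset.card_univ, ← Nat.card_eq_fintype_card, hR2c] at h1
      omega
    · norm_num [hn]
  have hR2U : R2 = U := (eq_of_le_of_card_ge hUR2 (by rw [hR2c, hUc])).symm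
  have hQleU : Q ≤ U := hR2U ▸ hQR2
  -- `b` centralizes `R / U`
  let X : Subgroup S :=
    { carrier := {x | x ∈ R ∧ ⁅x, b⁆ ∈ U}
      one_mem' := ⟨one_mem R, by rw [commutatorElement_one_left]; exact one_mem U⟩
      mul_mem' := fun {x y} hx hy => ⟨mul_mem hx.1 hy.1, by
        rw [show ⁅x * y, b⁆ = x * ⁅y, b⁆ * x⁻¹ * ⁅x, b⁆ by simp only [commutatorElement_def]; group]
        exact mul_mem (hUn x (le_normalizer hx.1) _ hy.2) hx.2⟩
      inv_mem' := fun {x} hx => ⟨inv_mem hx.1, by
        rw [show ⁅x⁻¹, b⁆ = x⁻¹ * ⁅x, b⁆⁻¹ * (x⁻¹)⁻¹ by simp only [commutatorElement_def]; group]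
        exact hUn x⁻¹ (inv_mem (le_normalizer hx.1)) _ (inv_mem hx.2)⟩ }
  have hXR : X ≤ R := fun x hx => hx.1
  have hBR : zpowers b ≤ normalizer (R : Set S) := hBN
  have hRX : R ≤ X := by
    have htop : X.subgroupOf R = ⊤ := by
      rw [← index_eq_one]
      by_contra hne
      obtain ⟨p, hp, hpd⟩ := Nat.exists_prime_and_dvd hne
      haveI := Fact.mk hp
      obtain ⟨P, hP⟩ := Coprime.exists_invariant_sylow hBR (hcop R le_rfl)
        (.inl inferInstance : Group.IsSolvable ↥(zpowers b) ∨ Group.IsSolvable ↥R) p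
      refine P.not_dvd_index (hpd.trans (index_dvd_of_le fun v hv => ?_))
      set V := (P : Subgroup ↥R).map R.subtype with hVdef
      have hVR : V ≤ R := map_subtype_le _
      have hVp : IsPGroup p ↥V := P.isPGroup'.map _
      have hbV : ∀ w ∈ V, b * w * b⁻¹ ∈ V := fun w hw =>
        (mem_normalizer_iff.1 (hP (mem_zpowers b)) w).1 hw
      have hvV : (v : S) ∈ V := ⟨v, hv, rfl⟩
      refine ⟨v.2, ?_⟩
      show ⁅(v : S), b⁆ ∈ U
      by_cases hp2 : p = 2
      · cases hp2
        have hUV : U ≤ V := by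
          haveI : (U.subgroupOf R).Normal := normal_subgroupOf_of_le_normalizer hRU
          have h1 : U.subgroupOf R ≤ (P : Subgroup ↥R) :=
            (Cores.le_pCore (hU2.of_equiv (subgroupOfEquivOfLe hUR).symm)).trans (Cores.pCore_le_sylow P)
          exact fun w hw => ⟨⟨w, hUR hw⟩, h1 hw, rfl⟩
        obtain ⟨h1, -, h2, -⟩ := hbig V hVR hVp hbV (sup_le hUV (hQleU.trans hUV))
        have heq := eq_of_le_of_card_ge h1 (by rw [h2, hUc])
        rw [heq]
        exact commutator_mem_commutator hvV (mem_zpowers b)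
      rcases Nat.lt_or_ge p 5 with hp5 | hp5
      · -- `p = 3`
        have hp3 : p = 3 := by
          have := hp.two_le
          by_contra hne
          have h4 : p = 4 := by omega
          exact absurd (h4 ▸ hp) (by norm_num)
        obtain ⟨k, hk⟩ := hVp.exists_card_eq
        rcases Nat.eq_zero_or_pos k with hk0 | hk0
        · have : V = ⊥ := eq_bot_of_card_eq _ (by rw [hk, hk0, pow_zero])
          have hv1 : (v : S) = 1 := by simpa [this] using hvV
          rw [hv1, commutatorElement_one_left]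
          exact one_mem U
        · exfalso
          rw [hp3] at hk
          have h3 : 3 ∣ Nat.card ↥R := (dvd_pow_self 3 hk0.ne').trans (hk ▸ card_dvd_of_le hVR)
          have := Nat.dvd_gcd h3 (dvd_refl 3)
          rw [H.R_cop] at this
          norm_num at this
      · have hc := H.centralizes_odd_sylow hUR hUc hUn hzU hzz hzR hder hZ hz1 hcen hp5 hVR hVp hbV
          (v : S) hvV
        rw [commutatorElement_eq_one_iff_commute.2 (show Commute (v : S) b from hc.symm)]
        exact one_mem U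
    exact subgroupOf_eq_top.1 htop
  have hRleU : R ≤ U := H.R_gen.trans ((closure_le U).2 fun s ⟨r, hr, e⟩ => e ▸ (hRX hr).2)
  exact H.two_group_case (hU2.to_le hRleU)

end Hyp

end Cfsg.Agent.Cores.CubicBlock
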