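import Mathlib

/-!
A group of order prime to 3, normalized by a 3-cycle and transitive with it, has degree at most 4.
-/

set_option autoImplicit false

namespace Cfsg.Agent.Cores.ThreeCycle

open Subgroup

variable {α : Type*} [Finite α]

/-- `c` is the 3-cycle `a → b → d → a`. -/
def Cyc (c : Equiv.Perm α) (a b d : α) : Prop :=
  a ≠ b ∧ b ≠ d ∧ d ≠ a ∧ c a = b ∧ c b = d ∧ c d = a ∧ ∀ x, x ≠ a → x ≠ b → x ≠ d → c x = x

variable {c e : Equiv.Perm α} {a b d : α}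

omit [Finite α] in
theorem Cyc.rot (h : Cyc c a b d) : Cyc c b d a :=
  ⟨h.2.1, h.2.2.1, h.1, h.2.2.2.2.1, h.2.2.2.2.2.1, h.2.2.2.1,
    fun x h1 h2 h3 => h.2.2.2.2.2.2 x h3 h1 h2⟩

omit [Finite α] in
theorem Cyc.conj (h : Cyc c a b d) (k : Equiv.Perm α) : Cyc (k * c * k⁻¹) (k a) (k b) (k d) := by
  obtain ⟨h1, h2, h3, h4, h5, h6, h7⟩ := h
  refine ⟨k.injective.ne h1, k.injective.ne h2, k.injective.ne h3, by simp [h4], by simp [h5],
    by simp [h6], fun x hx1 hx2 hx3 => ?_⟩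
  simp only [Equiv.Perm.mul_apply]
  rw [h7 _ (fun e => hx1 (by rw [← e]; simp)) (fun e => hx2 (by rw [← e]; simp))
    (fun e => hx3 (by rw [← e]; simp))]
  simp

omit [Finite α] in
theorem Cyc.eq (h : Cyc c a b d) (h' : Cyc e a b d) : c = e := by
  refine Equiv.ext fun x => ?_
  rcases eq_or_ne x a with rfl | hxa
  · rw [h.2.2.2.1, h'.2.2.2.1]
  rcases eq_or_ne x b with rfl | hxb
  · rw [h.2.2.2.2.1, h'.2.2.2.2.1]
  rcases eq_or_ne x d with rfl | hxd
  · rw [h.2.2.2.2.2.1, h'.2.2.2.2.2.1]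
  rw [h.2.2.2.2.2.2 x hxa hxb hxd, h'.2.2.2.2.2.2 x hxa hxb hxd]

omit [Finite α] in
theorem five_cycle {a4 a5 : α} (h : Cyc c a b d) (h' : Cyc e a a4 a5) (h4 : a4 ≠ b ∧ a4 ≠ d)
    (h5 : a5 ≠ b ∧ a5 ≠ d) : (c * e) ^ 5 = 1 := by
  obtain ⟨h1, h2, h3, c1, c2, c3, c0⟩ := h
  obtain ⟨e1, e2, e3, f1, f2, f3, f0⟩ := h'
  have ga : (c * e) a = a4 := by rw [Equiv.Perm.mul_apply, f1, c0 _ (Ne.symm e1) h4.1 h4.2]
  have g4 : (c * e) a4 = a5 := by rw [Equiv.Perm.mul_apply, f2, c0 _ e3 h5.1 h5.2]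
  have g5 : (c * e) a5 = b := by rw [Equiv.Perm.mul_apply, f3, c1]
  have gb : (c * e) b = d := by
    rw [Equiv.Perm.mul_apply, f0 _ (Ne.symm h1) (Ne.symm h4.1) (Ne.symm h5.1), c2]
  have gd : (c * e) d = a := by
    rw [Equiv.Perm.mul_apply, f0 _ h3 (Ne.symm h4.2) (Ne.symm h5.2), c3]
  refine Equiv.ext fun x => ?_
  simp only [pow_succ, pow_zero, one_mul, Equiv.Perm.mul_apply, Equiv.Perm.coe_one, id_eq]
  simp only [Equiv.Perm.mul_apply] at ga g4 g5 gb gd
  rcases eq_or_ne x a with rfl | hxa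
  · rw [ga, g4, g5, gb, gd]
  rcases eq_or_ne x a4 with rfl | hx4
  · rw [g4, g5, gb, gd, ga]
  rcases eq_or_ne x a5 with rfl | hx5
  · rw [g5, gb, gd, ga, g4]
  rcases eq_or_ne x b with rfl | hxb
  · rw [gb, gd, ga, g4, g5]
  rcases eq_or_ne x d with rfl | hxd
  · rw [gd, ga, g4, g5, gb]
  have gx : c (e x) = x := by rw [f0 x hxa hx4 hx5, c0 x hxa hxb hxd]
  rw [gx, gx, gx, gx, gx]

omit [Finite α] in
theorem two_cycle {a4 : α} (h : Cyc c a b d) (h' : Cyc e a b a4) (h4 : a4 ≠ d) :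
    (c * e) ^ 2 = 1 := by
  obtain ⟨h1, h2, h3, c1, c2, c3, c0⟩ := h
  obtain ⟨e1, e2, e3, f1, f2, f3, f0⟩ := h'
  have ga : c (e a) = d := by rw [f1, c2]
  have gd : c (e d) = a := by rw [f0 _ h3 (Ne.symm h2) (Ne.symm h4), c3]
  have gb : c (e b) = a4 := by rw [f2, c0 _ e3 (Ne.symm e2) h4]
  have g4 : c (e a4) = b := by rw [f3, c1]
  refine Equiv.ext fun x => ?_
  simp only [pow_two, Equiv.Perm.mul_apply, Equiv.Perm.coe_one, id_eq]
  rcases eq_or_ne x a with rfl | hxa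
  · rw [ga, gd]
  rcases eq_or_ne x d with rfl | hxd
  · rw [gd, ga]
  rcases eq_or_ne x b with rfl | hxb
  · rw [gb, g4]
  rcases eq_or_ne x a4 with rfl | hx4
  · rw [g4, gb]
  have gx : c (e x) = x := by rw [f0 x hxa hxb hx4, c0 x hxa hxb hxd]
  rw [gx, gx]

/-- The hypotheses: `K` has order prime to 3 and is normalized by `β`. -/
structure Setting (K : Subgroup (Equiv.Perm α)) (β : Equiv.Perm α) : Prop where
  cop : (Nat.card ↥K).Coprime 3
  cube : β ^ 3 = 1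
  ne : β ≠ 1
  norm : ∀ k ∈ K, β * k * β⁻¹ ∈ K

variable {K : Subgroup (Equiv.Perm α)} {β : Equiv.Perm α}

theorem Setting.pow_notMem (h : Setting K β) {n : ℕ} (hn : ¬ 3 ∣ n) : β ^ n ∉ K := by
  intro hmem
  have h1 : orderOf (β ^ n) ∣ 3 := orderOf_dvd_of_pow_eq_one (by rw [← pow_mul, mul_comm, pow_mul, h.cube, one_pow])
  have h2 : orderOf (β ^ n) ∣ Nat.card ↥K := by
    rw [← Subgroup.orderOf_mk _ hmem]; exact orderOf_dvd_natCard _
  have h3 : β ^ n = 1 := orderOf_eq_one_iff.1 ((h.cop.coprime_dvd_left h2).eq_one_of_dvd h1)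
  have h4 : orderOf β = 3 := orderOf_eq_prime h.cube h.ne
  exact hn (h4 ▸ orderOf_dvd_of_pow_eq_one h3)

theorem Setting.conj_pow_mem (h : Setting K β) {k : Equiv.Perm α} (hk : k ∈ K) (n : ℕ) :
    β ^ n * k * (β ^ n)⁻¹ ∈ K := by
  induction n with
  | zero => simpa using hk
  | succ n ih =>
    have := h.norm _ ih
    rw [pow_succ', mul_inv_rev]
    convert this using 1
    simp only [mul_assoc]

/-- Elements of the cosets `K β^m` have order divisible by 3. -/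
theorem Setting.pow_ne_one (h : Setting K β) {k : Equiv.Perm α} (hk : k ∈ K) {m N : ℕ}
    (hmN : ¬ 3 ∣ m * N) : (k * β ^ m) ^ N ≠ 1 := by
  intro hone
  have key : ∀ j : ℕ, ∃ k' ∈ K, (k * β ^ m) ^ j = k' * β ^ (m * j) := by
    intro j
    induction j with
    | zero => exact ⟨1, one_mem K, by simp⟩
    | succ j ih =>
      obtain ⟨k', hk', e⟩ := ih
      refine ⟨k' * (β ^ (m * j) * k * (β ^ (m * j))⁻¹), mul_mem hk' (h.conj_pow_mem hk _), ?_⟩
      rw [pow_succ, e, Nat.mul_succ, pow_add]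
      simp only [mul_assoc, inv_mul_cancel_left]
  obtain ⟨k', hk', e⟩ := key N
  rw [hone] at e
  exact h.pow_notMem hmN (by rw [eq_inv_of_mul_eq_one_right e.symm]; exact inv_mem hk')

/-- Conjugates lie in `K β`. -/
theorem Setting.conj_eq (h : Setting K β) {k : Equiv.Perm α} (hk : k ∈ K) :
    ∃ k' ∈ K, k * β * k⁻¹ = k' * β :=
  ⟨k * (β * k⁻¹ * β⁻¹), mul_mem hk (h.norm _ (inv_mem hk)), by group⟩

/-- Products of two conjugates lie in `K β²`. -/
theorem Setting.prod_eq (h : Setting K β) {k l : Equiv.Perm α} (hk : k ∈ K) (hl : l ∈ K) :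
    ∃ k' ∈ K, (k * β * k⁻¹) * (l * β * l⁻¹) = k' * β ^ 2 := by
  obtain ⟨k1, hk1, e1⟩ := h.conj_eq hk
  obtain ⟨l1, hl1, e2⟩ := h.conj_eq hl
  exact ⟨k1 * (β * l1 * β⁻¹), mul_mem hk1 (h.norm _ hl1), by rw [e1, e2, pow_two]; group⟩

/-- Two conjugates generate cosets that differ by `K`: commuting conjugates are equal. -/
theorem Setting.eq_of_commute (h : Setting K β) {k l : Equiv.Perm α} (hk : k ∈ K) (hl : l ∈ K)
    (hc : Commute (k * β * k⁻¹) (l * β * l⁻¹)) : k * β * k⁻¹ = l * β * l⁻¹ := by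
  obtain ⟨k1, hk1, e1⟩ := h.conj_eq hk
  obtain ⟨l1, hl1, e2⟩ := h.conj_eq hl
  have hmem : (k * β * k⁻¹) * (l * β * l⁻¹)⁻¹ ∈ K := by
    rw [e1, e2, mul_inv_rev, mul_assoc, mul_inv_cancel_left]
    exact mul_mem hk1 (inv_mem hl1)
  have h3 : ((k * β * k⁻¹) * (l * β * l⁻¹)⁻¹) ^ 3 = 1 := by
    rw [(hc.inv_right).mul_pow, inv_pow, conj_pow, conj_pow, h.cube]
    group
  rw [← mul_inv_eq_one]
  refine orderOf_eq_one_iff.1 ((h.cop.coprime_dvd_left ?_).eq_one_of_dvd (orderOf_dvd_of_pow_eq_one h3))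
  rw [← Subgroup.orderOf_mk _ hmem]; exact orderOf_dvd_natCard _

/-- Two conjugates sharing a point: either equal or they share an oppositely oriented edge. -/
theorem Setting.meet (h : Setting K β) {k l : Equiv.Perm α} (hk : k ∈ K) (hl : l ∈ K) {a4 a5 : α}
    (h1 : Cyc (k * β * k⁻¹) a b d) (h2 : Cyc (l * β * l⁻¹) a a4 a5) :
    k * β * k⁻¹ = l * β * l⁻¹ ∨ (a4 = d ∧ a5 ≠ b) ∨ (a5 = b ∧ a4 ≠ d) := by
  obtain ⟨k', hk', e⟩ := h.prod_eq hk hl
  by_cases e1 : a4 = b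
  · subst e1
    by_cases e2 : a5 = d
    · subst e2; exact .inl (h1.eq h2)
    · exact absurd (two_cycle h1 h2 e2) (e ▸ h.pow_ne_one hk' (by norm_num))
  by_cases e2 : a5 = d
  · subst e2
    have h2' := h2.rot.rot
    have h1' := h1.rot.rot
    exact absurd (two_cycle h1' h2' e1) (e ▸ h.pow_ne_one hk' (by norm_num))
  by_cases e3 : a4 = d
  · by_cases e4 : a5 = b
    · left
      subst e3; subst e4
      -- the inverse
      refine h.eq_of_commute hk hl ?_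
      have hinv : l * β * l⁻¹ = (k * β * k⁻¹)⁻¹ := by
        rw [eq_inv_iff_mul_eq_one]
        obtain ⟨g1, g2, g3, c1, c2, c3, c0⟩ := h1
        obtain ⟨-, -, -, f1, f2, f3, f0⟩ := h2
        refine Equiv.ext fun x => ?_
        show (l * β * l⁻¹) ((k * β * k⁻¹) x) = x
        rcases eq_or_ne x a with rfl | hxa
        · rw [c1, f3]
        rcases eq_or_ne x a5 with rfl | hxb
        · rw [c2, f2]
        rcases eq_or_ne x a4 with rfl | hxd
        · rw [c3, f1]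
        rw [c0 x hxa hxb hxd, f0 x hxa hxd hxb]
      rw [hinv]
      exact (Commute.refl _).inv_right
    · exact .inr (.inl ⟨e3, e4⟩)
  by_cases e4 : a5 = b
  · exact .inr (.inr ⟨e4, e3⟩)
  exact absurd (five_cycle h1 h2 ⟨e1, e3⟩ ⟨e4, e2⟩) (e ▸ h.pow_ne_one hk' (by norm_num))

/-- The degree is at most 4. -/
theorem Setting.card_le_four (h : Setting K β) {a b d : α} (hβ : Cyc β a b d)
    (htr : ∀ x, ∃ k ∈ K, ∃ y, (y = a ∨ y = b ∨ y = d) ∧ x = k y) : Nat.card α ≤ 4 := by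
  classical
  cases nonempty_fintype α
  have hone : β = 1 * β * (1 : Equiv.Perm α)⁻¹ := by group
  have hβ' : Cyc (1 * β * (1 : Equiv.Perm α)⁻¹) a b d := hone ▸ hβ
  -- all supports lie in four points
  have key : ∀ k ∈ K, ∀ l ∈ K, ∀ p q : α, p ∉ ({a, b, d} : Finset α) → q ∉ ({a, b, d} : Finset α) →
      (∃ y, (y = a ∨ y = b ∨ y = d) ∧ k y = p) → (∃ y, (y = a ∨ y = b ∨ y = d) ∧ l y = q) → p = q := by
    -- normal form of a conjugate through an outside point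
    have form : ∀ k ∈ K, ∀ p : α, p ∉ ({a, b, d} : Finset α) →
        (∃ y, (y = a ∨ y = b ∨ y = d) ∧ k y = p) →
        Cyc (k * β * k⁻¹) p b a ∨ Cyc (k * β * k⁻¹) p d b ∨ Cyc (k * β * k⁻¹) p a d := by
      intro k hk p hp ⟨y, hy, hyp⟩
      simp only [Finset.mem_insert, Finset.mem_singleton, not_or] at hp
      obtain ⟨y1, y2, hc⟩ : ∃ y1 y2, Cyc (k * β * k⁻¹) p y1 y2 := by
        rcases hy with rfl | rfl | rfl
        · exact ⟨_, _, hyp ▸ hβ.conj k⟩
        · exact ⟨_, _, hyp ▸ (hβ.conj k).rot⟩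
        · exact ⟨_, _, hyp ▸ (hβ.conj k).rot.rot⟩
      -- the other two points lie among `a, b, d`
      have meets : y1 = a ∨ y1 = b ∨ y1 = d ∨ y2 = a ∨ y2 = b ∨ y2 = d := by
        by_contra hcon
        simp only [not_or] at hcon
        obtain ⟨n1, n2, n3, m1, m2, m3⟩ := hcon
        have hcomm : Commute (1 * β * (1 : Equiv.Perm α)⁻¹) (k * β * k⁻¹) := by
          rw [← hone]
          refine Equiv.Perm.Disjoint.commute fun x => ?_
          by_cases hx : x = a ∨ x = b ∨ x = d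
          · right
            rcases hx with rfl | rfl | rfl
            · exact hc.2.2.2.2.2.2 _ (Ne.symm hp.1) (Ne.symm n1) (Ne.symm m1)
            · exact hc.2.2.2.2.2.2 _ (Ne.symm hp.2.1) (Ne.symm n2) (Ne.symm m2)
            · exact hc.2.2.2.2.2.2 _ (Ne.symm hp.2.2) (Ne.symm n3) (Ne.symm m3)
          · left
            simp only [not_or] at hx
            exact hβ.2.2.2.2.2.2 x hx.1 hx.2.1 hx.2.2
        have heq := h.eq_of_commute (one_mem K) hk hcomm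
        rw [← hone] at heq
        have h1 := hc.2.2.2.1
        rw [← heq, hβ.2.2.2.2.2.2 p hp.1 hp.2.1 hp.2.2] at h1
        exact hc.1 h1
      -- a shared point
      have aux : ∀ u v w : α, Cyc β u v w → p ≠ v → p ≠ w → ∀ z1 z2 : α,
          Cyc (k * β * k⁻¹) u z1 z2 → (z1 = p ∨ z2 = p) →
          (z1 = w ∧ z2 = p) ∨ (z2 = v ∧ z1 = p) := by
        intro u v w hu hpv hpw z1 z2 hz hor
        rcases h.meet (one_mem K) hk (hone ▸ hu) hz with he | ⟨he, -⟩ | ⟨he, -⟩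
        · exfalso
          rw [← hone] at he
          rw [← he] at hz
          rcases hor with rfl | rfl
          · exact hpv (by rw [← hz.2.2.2.1, hu.2.2.2.1])
          · exact hpw (β.injective (hz.2.2.2.2.2.1.trans hu.2.2.2.2.2.1.symm))
        · rcases hor with rfl | rfl
          · exact absurd he hpw
          · exact .inl ⟨he, rfl⟩
        · rcases hor with rfl | rfl
          · exact .inr ⟨he, rfl⟩
          · exact absurd he hpv
      rcases meets with rfl | rfl | rfl | rfl | rfl | rfl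
      · rcases aux _ _ _ hβ hp.2.1 hp.2.2 y2 p hc.rot (.inr rfl) with ⟨h1, -⟩ | ⟨h1, -⟩
        · exact .inr (.inr (h1 ▸ hc))
        · exact absurd h1 hp.2.1
      · rcases aux _ _ _ hβ.rot hp.2.2 hp.1 y2 p hc.rot (.inr rfl) with ⟨h1, -⟩ | ⟨h1, -⟩
        · exact .inl (h1 ▸ hc)
        · exact absurd h1 hp.2.2
      · rcases aux _ _ _ hβ.rot.rot hp.1 hp.2.1 y2 p hc.rot (.inr rfl) with ⟨h1, -⟩ | ⟨h1, -⟩
        · exact .inr (.inl (h1 ▸ hc))
        · exact absurd h1 hp.1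
      · rcases aux _ _ _ hβ hp.2.1 hp.2.2 p y1 hc.rot.rot (.inl rfl) with ⟨h1, -⟩ | ⟨h1, -⟩
        · exact absurd h1 hp.2.2
        · exact .inl (h1 ▸ hc)
      · rcases aux _ _ _ hβ.rot hp.2.2 hp.1 p y1 hc.rot.rot (.inl rfl) with ⟨h1, -⟩ | ⟨h1, -⟩
        · exact absurd h1 hp.1
        · exact .inr (.inl (h1 ▸ hc))
      · rcases aux _ _ _ hβ.rot.rot hp.1 hp.2.1 p y1 hc.rot.rot (.inl rfl) with ⟨h1, -⟩ | ⟨h1, -⟩
        · exact absurd h1 hp.2.1
        · exact .inr (.inr (h1 ▸ hc))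
    intro k hk l hl p q hp hq hkp hlq
    have f1 := form k hk p hp hkp
    have f2 := form l hl q hq hlq
    simp only [Finset.mem_insert, Finset.mem_singleton, not_or] at hp hq
    by_contra hpq
    obtain ⟨hab, hbd, hda, -, -, -, -⟩ := hβ
    have fin : ∀ {u v1 v2 w1 w2 : α}, Cyc (k * β * k⁻¹) u v1 v2 → Cyc (l * β * l⁻¹) u w1 w2 →
        (v1 = p ∨ v2 = p) → w1 ≠ p → w2 ≠ p → ¬ (w1 = v2 ∧ w2 ≠ v1 ∨ w2 = v1 ∧ w1 ≠ v2) → False := by
      intro u v1 v2 w1 w2 hu hu' hv n1 n2 hne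
      rcases h.meet hk hl hu hu' with he | h' | h'
      · rw [← he] at hu'
        rcases hv with rfl | rfl
        · exact n1 (by rw [← hu'.2.2.2.1, hu.2.2.2.1])
        · exact n2 ((k * β * k⁻¹).injective (hu'.2.2.2.2.2.1.trans hu.2.2.2.2.2.1.symm))
      · exact hne (.inl h')
      · exact hne (.inr h')
    rcases f1 with f1 | f1 | f1 <;> rcases f2 with f2 | f2 | f2 <;>
      first
        | (refine fin f1.rot f2.rot ?_ ?_ ?_ ?_ <;> grind)
        | (refine fin f1.rot f2.rot.rot ?_ ?_ ?_ ?_ <;> grind)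
        | (refine fin f1.rot.rot f2.rot ?_ ?_ ?_ ?_ <;> grind)
        | (refine fin f1.rot.rot f2.rot.rot ?_ ?_ ?_ ?_ <;> grind)
  by_cases hall : ∀ x : α, x ∈ ({a, b, d} : Finset α)
  · rw [Nat.card_eq_fintype_card, ← Finset.card_univ]
    exact ((Finset.card_le_card fun x _ => hall x).trans Finset.card_le_three).trans (by norm_num)
  push Not at hall
  obtain ⟨p, hp⟩ := hall
  rw [Nat.card_eq_fintype_card, ← Finset.card_univ]
  refine (Finset.card_le_card (t := insert p ({a, b, d} : Finset α)) fun x _ => ?_).trans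
    ((Finset.card_insert_le _ _).trans (Nat.succ_le_succ Finset.card_le_three))
  by_cases hx : x ∈ ({a, b, d} : Finset α)
  · exact Finset.mem_insert_of_mem hx
  obtain ⟨k, hk, y, hy, rfl⟩ := htr x
  obtain ⟨l, hl, y', hy', rfl⟩ := htr p
  rw [key k hk l hl _ _ hx hp ⟨y, hy, rfl⟩ ⟨y', hy', rfl⟩]
  exact Finset.mem_insert_self _ _

end Cfsg.Agent.Cores.ThreeCycle
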