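import Mathlib
import Cfsg.Agent.Cores.ThreeCycle

/-!
Small permutation facts for the monomial case.
-/

set_option autoImplicit false

namespace Cfsg.Agent.Cores.CubicBlock

open Subgroup

universe u v

theorem perm_three : ∀ σ β : Equiv.Perm (Fin 3), β ^ 3 = 1 → β ≠ 1 → σ ^ 3 = 1 ∨ (σ * β) ^ 2 = 1 := by
  decide +kernel

theorem perm_four : ∀ σ β : Equiv.Perm (Fin 4), β ^ 3 = 1 → β ≠ 1 →
    σ ^ 3 = 1 ∨ (σ * β) ^ 4 = 1 ∨ (σ * β ^ 2) ^ 4 = 1 ∨ (σ * σ = 1 ∧ ∀ x, σ x ≠ x) := by
  decide +kernel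

/-- A coprime subgroup normalized by a 3-cycle on at most four points consists of fixed point free
involutions. -/
theorem setting_elements {α : Type u} [Finite α] {K : Subgroup (Equiv.Perm α)} {β : Equiv.Perm α}
    (h : ThreeCycle.Setting K β) {k : Equiv.Perm α} (hk : k ∈ K) :
    (Nat.card α = 3 → k = 1) ∧
      (Nat.card α = 4 → k = 1 ∨ (k * k = 1 ∧ ∀ x, k x ≠ x)) := by
  have hcube : k ^ 3 = 1 → k = 1 := fun h3 =>
    orderOf_eq_one_iff.1 ((h.cop.coprime_dvd_left (by
      rw [← Subgroup.orderOf_mk _ hk]; exact orderOf_dvd_natCard _)).eq_one_of_dvd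
        (orderOf_dvd_of_pow_eq_one h3))
  constructor
  · intro hc
    let e : α ≃ Fin 3 := (Finite.equivFinOfCardEq hc)
    let f := e.permCongrHom
    have hinj : ∀ x y, f x = f y → x = y := fun x y => f.injective.eq_iff.1
    rcases perm_three (f k) (f β) (by rw [← map_pow, h.cube, map_one])
        (fun he => h.ne (hinj _ _ (by rw [he, map_one]))) with h1 | h1
    · exact hcube (hinj _ _ (by rw [map_pow, h1, map_one]))
    · exfalso
      refine h.pow_ne_one hk (m := 1) (N := 2) (by norm_num) (hinj _ _ ?_)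
      rw [map_pow, map_mul, pow_one, h1, map_one]
  · intro hc
    let e : α ≃ Fin 4 := (Finite.equivFinOfCardEq hc)
    let f := e.permCongrHom
    have hinj : ∀ x y, f x = f y → x = y := fun x y => f.injective.eq_iff.1
    rcases perm_four (f k) (f β) (by rw [← map_pow, h.cube, map_one])
        (fun he => h.ne (hinj _ _ (by rw [he, map_one]))) with h1 | h1 | h1 | ⟨h1, h2⟩
    · exact .inl (hcube (hinj _ _ (by rw [map_pow, h1, map_one])))
    · exfalso
      refine h.pow_ne_one hk (m := 1) (N := 4) (by norm_num) (hinj _ _ ?_)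
      rw [map_pow, map_mul, pow_one, h1, map_one]
    · exfalso
      refine h.pow_ne_one hk (m := 2) (N := 4) (by norm_num) (hinj _ _ ?_)
      rw [map_pow, map_mul, map_pow, h1, map_one]
    · refine .inr ⟨hinj _ _ (by rw [map_mul, h1, map_one]), fun x hx => h2 (e x) ?_⟩
      show (e.permCongr k) (e x) = e x
      rw [Equiv.permCongr_apply, Equiv.symm_apply_apply, hx]

theorem sign_pairs {α : Type u} [Fintype α] [DecidableEq α] (hc : Fintype.card α = 4)
    {k : Equiv.Perm α} (h2 : k * k = 1) (hfix : ∀ x, k x ≠ x) (v : α → ZMod 3)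
    (hv : ∀ x, v x = 1 ∨ v x = -1) (hp : ∏ x, v x = 1) : ∀ x y, v x * v (k x) = v y * v (k y) := by
  intro x y
  have kk : ∀ z, k (k z) = z := fun z => by rw [← Equiv.Perm.mul_apply, h2]; rfl
  by_cases hy : y = x
  · rw [hy]
  by_cases hy' : y = k x
  · rw [hy', kk, mul_comm]
  have hne1 : k y ≠ x := fun e => hy' (by rw [← e, kk])
  have hne2 : k y ≠ k x := fun e => hy (k.injective e)
  have hs : ({x, k x, y, k y} : Finset α).card = 4 := by
    rw [Finset.card_insert_of_notMem (by simp [(hfix x).symm, Ne.symm hy, Ne.symm hne1]),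
      Finset.card_insert_of_notMem (by simp [Ne.symm hy', Ne.symm hne2]),
      Finset.card_pair (hfix y).symm]
  have huniv : ({x, k x, y, k y} : Finset α) = Finset.univ := Finset.eq_univ_of_card _ (by rw [hs, hc])
  rw [← huniv, Finset.prod_insert (by simp [(hfix x).symm, Ne.symm hy, Ne.symm hne1]),
    Finset.prod_insert (by simp [Ne.symm hy', Ne.symm hne2]),
    Finset.prod_pair (hfix y).symm] at hp
  rcases hv x with a | a <;> rcases hv (k x) with b | b <;> rcases hv y with c | c <;>
    rcases hv (k y) with d | d <;> rw [a, b, c, d] at hp ⊢ <;> revert hp <;> decide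

/-- Sign vectors with product one. -/
theorem card_signs {α : Type u} [Finite α] [Nonempty α] {T : Type v} (F : T → α → ZMod 3)
    (hinj : Function.Injective F) (hv : ∀ t x, F t x = 1 ∨ F t x = -1)
    (hp : ∀ t, ∏ᶠ x, F t x = 1) : Nat.card T ≤ 2 ^ (Nat.card α - 1) := by
  classical
  cases nonempty_fintype α
  obtain ⟨x0⟩ := ‹Nonempty α›
  have key : Function.Injective (fun (t : T) (x : {x // x ≠ x0}) => decide (F t x.1 = 1)) := by
    intro t t' he
    apply hinj
    have hne : ∀ x, x ≠ x0 → F t x = F t' x := fun x hx => by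
      have := congrFun he ⟨x, hx⟩
      simp only [decide_eq_decide] at this
      rcases hv t x with a | a <;> rcases hv t' x with b | b <;> rw [a, b] at this ⊢
      · exact absurd (this.1 rfl) (by decide)
      · exact absurd (this.2 rfl) (by decide)
    funext x
    rcases eq_or_ne x x0 with rfl | hx
    · have h1 := hp t
      have h2 := hp t'
      rw [finprod_eq_prod_of_fintype, ← Finset.mul_prod_erase _ _ (Finset.mem_univ x)] at h1 h2
      rw [Finset.prod_congr rfl fun y hy => hne y (Finset.ne_of_mem_erase hy)] at h1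
      exact mul_right_cancel₀ (right_ne_zero_of_mul_eq_one h2) (h1.trans h2.symm)
    · exact hne x hx
  refine (Nat.card_le_card_of_injective _ key).trans (le_of_eq ?_)
  rw [Nat.card_fun, Nat.card_eq_fintype_card (α := Bool), Fintype.card_bool]
  congr 1
  rw [Nat.card_eq_fintype_card, Nat.card_eq_fintype_card, Fintype.card_subtype_compl,
    Fintype.card_subtype_eq]

/-- The four point action. -/
structure FourSetting {α : Type u} (K : Subgroup (Equiv.Perm α)) (β : Equiv.Perm α) : Prop
    extends ThreeCycle.Setting K β where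
  four : Nat.card α = 4
  cyc : ∃ a b d, ThreeCycle.Cyc β a b d
  moves : ∃ k ∈ K, ∃ f, β f = f ∧ k f ≠ f

namespace FourSetting

variable {α : Type u} [Finite α] {K : Subgroup (Equiv.Perm α)} {β : Equiv.Perm α}

theorem elements (h : FourSetting K β) {k : Equiv.Perm α} (hk : k ∈ K) (hk1 : k ≠ 1) :
    k * k = 1 ∧ ∀ x, k x ≠ x :=
  ((setting_elements h.toSetting hk).2 h.four).resolve_left hk1

/-- The four points, seen from the point fixed by `β`. -/
theorem exists_fixed (h : FourSetting K β) :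
    ∃ f, β f = f ∧ ∀ x, x ≠ f → β x ≠ x := by
  classical
  cases nonempty_fintype α
  obtain ⟨a, b, d, hc⟩ := h.cyc
  obtain ⟨-, -, f, hf, -⟩ := h.moves
  obtain ⟨e1, e2, e3, c1, c2, c3, -⟩ := id hc
  have hfa : f ≠ a := fun e => e1 (by rw [← c1, ← e, hf, e])
  have hfb : f ≠ b := fun e => e2 (by rw [← c2, ← e, hf, e])
  have hfd : f ≠ d := fun e => e3 (by rw [← c3, ← e, hf, e])
  refine ⟨f, hf, fun x hxf hx => ?_⟩
  have hxa : x ≠ a := fun e => e1 (by rw [← c1, ← e, hx, e])
  have hxb : x ≠ b := fun e => e2 (by rw [← c2, ← e, hx, e])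
  have hxd : x ≠ d := fun e => e3 (by rw [← c3, ← e, hx, e])
  have h1 : ({x, f, a, b, d} : Finset α).card = 5 := by
    rw [Finset.card_insert_of_notMem (by simp [hxf, hxa, hxb, hxd]),
      Finset.card_insert_of_notMem (by simp [hfa, hfb, hfd]),
      Finset.card_insert_of_notMem (by simp [e1, Ne.symm e3]), Finset.card_pair e2]
  have h2 := Finset.card_le_univ ({x, f, a, b, d} : Finset α)
  rw [h1, ← Nat.card_eq_fintype_card, h.four] at h2
  omega

theorem all_four (h : FourSetting K β) {k : Equiv.Perm α} (hk : k ∈ K) (hk1 : k ≠ 1) :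
    ∃ f, ∀ x, x = f ∨ x = k f ∨ x = (β * k * β⁻¹) f ∨ x = k ((β * k * β⁻¹) f) := by
  classical
  cases nonempty_fintype α
  obtain ⟨f, hf, hf'⟩ := h.exists_fixed
  have hkf := (h.elements hk hk1).2
  set k' := β * k * β⁻¹ with hk'
  have hk'1 : k' ≠ 1 := fun e => hk1 (conj_eq_one_iff.1 e)
  have hkf' := (h.elements (h.norm k hk) hk'1).2
  have hk'f : k' f = β (k f) := by
    rw [hk', Equiv.Perm.mul_apply, Equiv.Perm.mul_apply]
    congr 2
    exact (Equiv.symm_apply_eq β).2 hf.symm
  have hd : k' f ≠ k f := hk'f ▸ hf' (k f) (hkf f)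
  have kk : k (k f) = f := by rw [← Equiv.Perm.mul_apply, (h.elements hk hk1).1]; rfl
  refine ⟨f, fun x => ?_⟩
  by_contra hcon
  simp only [not_or] at hcon
  have h1 : ({x, f, k f, k' f, k (k' f)} : Finset α).card = 5 := by
    rw [Finset.card_insert_of_notMem (by simp [hcon.1, hcon.2.1, hcon.2.2.1, hcon.2.2.2]),
      Finset.card_insert_of_notMem (by
        simp only [Finset.mem_insert, Finset.mem_singleton, not_or]
        exact ⟨Ne.symm (hkf f), Ne.symm (hkf' f), fun e => hd (k.injective (e.symm.trans kk.symm))⟩),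
      Finset.card_insert_of_notMem (by
        simp only [Finset.mem_insert, Finset.mem_singleton, not_or]
        exact ⟨Ne.symm hd, fun e => hkf' f (k.injective e).symm⟩),
      Finset.card_pair (Ne.symm (hkf _))]
  have h2 := Finset.card_le_univ ({x, f, k f, k' f, k (k' f)} : Finset α)
  rw [h1, ← Nat.card_eq_fintype_card, h.four] at h2
  omega

theorem const_of_pair (h : FourSetting K β) {k : Equiv.Perm α} (hk : k ∈ K) (hk1 : k ≠ 1)
    {v : α → ZMod 3} (h1 : ∀ x, v (k x) = v x) (h2 : ∀ x, v ((β * k * β⁻¹) x) = v x) :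
    ∀ x y, v x = v y := by
  obtain ⟨f, hall⟩ := h.all_four hk hk1
  have : ∀ x, v x = v f := fun x => by
    rcases hall x with rfl | rfl | rfl | rfl
    · rfl
    · exact h1 _
    · exact h2 _
    · rw [h1, h2]
  exact fun x y => (this x).trans (this y).symm

theorem const_of_invariant (h : FourSetting K β) {v : α → ZMod 3}
    (hv : ∀ k ∈ K, ∀ x, v (k x) = v x) : ∀ x y, v x = v y := by
  obtain ⟨k, hk, f, hf, hkf⟩ := h.moves
  exact h.const_of_pair hk (fun e => hkf (by rw [e]; rfl)) (hv k hk) (hv _ (h.norm k hk))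

theorem card_eq (h : FourSetting K β) : Nat.card ↥K = 4 := by
  obtain ⟨k, hk, f0, -, hkf⟩ := h.moves
  have hk1 : k ≠ 1 := fun e => hkf (by rw [e]; rfl)
  obtain ⟨f, hall⟩ := h.all_four hk hk1
  rw [← h.four]
  refine Nat.card_eq_of_bijective (fun g : ↥K => (g : Equiv.Perm α) f) ⟨?_, fun x => ?_⟩
  · intro g g' he
    by_contra hne
    have h1 : (g' : Equiv.Perm α)⁻¹ * g ≠ 1 := fun e => hne (Subtype.ext (inv_mul_eq_one.1 e).symm)
    refine (h.elements (mul_mem (inv_mem g'.2) g.2) h1).2 f ?_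
    rw [Equiv.Perm.mul_apply]
    exact (congrArg _ he).trans (Equiv.symm_apply_apply _ _)
  · rcases hall x with rfl | rfl | rfl | rfl
    · exact ⟨1, rfl⟩
    · exact ⟨⟨k, hk⟩, rfl⟩
    · exact ⟨⟨_, h.norm k hk⟩, rfl⟩
    · exact ⟨⟨k * (β * k * β⁻¹), mul_mem hk (h.norm k hk)⟩, rfl⟩

/-- A sign vector of product one invariant under `β` is constant. -/
theorem const_of_beta (h : FourSetting K β) [Fintype α] {v : α → ZMod 3}
    (hv : ∀ x, v x = 1 ∨ v x = -1) (hp : ∏ x, v x = 1) (hβ : ∀ x, v (β x) = v x) :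
    ∀ x y, v x = v y := by
  classical
  obtain ⟨a, b, d, hc⟩ := h.cyc
  obtain ⟨f, hf, hf'⟩ := h.exists_fixed
  obtain ⟨e1, e2, e3, c1, c2, c3, c0⟩ := id hc
  have hfa : f ≠ a := fun e => e1 (by rw [← c1, ← e, hf, e])
  have hfb : f ≠ b := fun e => e2 (by rw [← c2, ← e, hf, e])
  have hfd : f ≠ d := fun e => e3 (by rw [← c3, ← e, hf, e])
  have hall : ∀ x, x = f ∨ x = a ∨ x = b ∨ x = d := fun x => by
    by_contra hcon
    simp only [not_or] at hcon
    exact hf' x hcon.1 (c0 x hcon.2.1 hcon.2.2.1 hcon.2.2.2)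
  have huniv : (Finset.univ : Finset α) = {f, a, b, d} :=
    (Finset.eq_univ_iff_forall.2 fun x => by simpa using hall x).symm
  rw [huniv, Finset.prod_insert (by simp [hfa, hfb, hfd]),
    Finset.prod_insert (by simp [e1, Ne.symm e3]), Finset.prod_pair e2] at hp
  have eb : v b = v a := by rw [← c1]; exact hβ a
  have ed : v d = v a := by rw [← c2]; exact (hβ b).trans eb
  rw [eb, ed] at hp
  have hfa' : v f = v a := by
    rcases hv f with p | p <;> rcases hv a with q | q <;> rw [p, q] at hp ⊢ <;> revert hp <;> decide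
  have : ∀ x, v x = v a := fun x => by
    rcases hall x with rfl | rfl | rfl | rfl
    exacts [hfa', rfl, eb, ed]
  exact fun x y => (this x).trans (this y).symm

end FourSetting

/-- A group of exponent 2 with between 5 and 8 elements has order 8. -/
theorem card_eight {T : Type u} [Group T] [Finite T] (hsq : ∀ t : T, t * t = 1) (hle : Nat.card T ≤ 8)
    {z a c : T} (h1 : z ≠ 1) (h2 : a ≠ 1) (h3 : a ≠ z) (h4 : c ≠ 1) (h5 : c ≠ z) (h6 : c ≠ a)
    (h7 : c ≠ z * a) : Nat.card T = 8 := by
  classical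
  cases nonempty_fintype T
  haveI : Fact (Nat.Prime 2) := ⟨Nat.prime_two⟩
  have hp : IsPGroup 2 T := fun t => ⟨1, by rw [pow_one, pow_two]; exact hsq t⟩
  obtain ⟨j, hj⟩ := hp.exists_card_eq
  have h8 : z * a ≠ 1 := fun e => h3 (by
    calc a = (z * z) * a := by rw [hsq, one_mul]
      _ = z := by rw [mul_assoc, e, mul_one])
  have hset : ({1, z, a, z * a, c} : Finset T).card = 5 := by
    rw [Finset.card_insert_of_notMem (by simp [Ne.symm h1, Ne.symm h2, Ne.symm h4, Ne.symm h8]),
      Finset.card_insert_of_notMem (by simp [Ne.symm h3, Ne.symm h5, h2]),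
      Finset.card_insert_of_notMem (by simp [h1, Ne.symm h6]),
      Finset.card_pair (Ne.symm h7)]
  have hge := Finset.card_le_univ ({1, z, a, z * a, c} : Finset T)
  rw [hset, ← Nat.card_eq_fintype_card, hj] at hge
  rw [hj] at hle ⊢
  rcases Nat.lt_or_ge j 3 with h | h
  · have := Nat.pow_le_pow_right (show 0 < 2 by norm_num) (show j ≤ 2 by omega); omega
  · rcases Nat.lt_or_ge j 4 with h' | h'
    · have : j = 3 := by omega
      rw [this]; norm_num
    · have := Nat.pow_le_pow_right (show 0 < 2 by norm_num) h'; omega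

end Cfsg.Agent.Cores.CubicBlock
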