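import Cfsg.Agent.Cores.CubicWeights
import Cfsg.Agent.Cores.CubicPerm
import Cfsg.Agent.Cores.CubicFitting
import Cfsg.Agent.Cores.SquareExtraspecial

/-!
The monomial case: `R` is a four group or extraspecial of order 32.
-/

set_option autoImplicit false

namespace Cfsg.Agent.Cores.CubicBlock

open Subgroup
open scoped commutatorElement

universe u v

variable {S : Type u} [Group S] {E : Type v} [AddCommGroup E] [Module (ZMod 3) E]
variable {ρ : Representation (ZMod 3) S E} {b : S} {Q R M : Subgroup S}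

/-- The permutations induced by `R`. -/
def rperm (ρ : Representation (ZMod 3) S E) (hE : ElemNormal b R M) :
    ↥R →* Equiv.Perm (Wt ρ R M) :=
  (wperm ρ R M).comp (Subgroup.inclusion (R_le_stab hE))

theorem rperm_mem (hE : ElemNormal b R M) (r : ↥R) (χ : Wt ρ R M) {x : E}
    (hx : x ∈ wsp ρ R M χ.1) : ρ (r : S) x ∈ wsp ρ R M (rperm ρ hE r χ).1 :=
  smul_mem (⟨r, R_le_stab hE r.2⟩ : ↥(stabilizerGroup R M)) χ hx

/-- A monomial basis with its signs. -/
structure Signs (ρ : Representation (ZMod 3) S E) (hE : ElemNormal b R M) [Fintype (Wt ρ R M)]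
    (e : Wt ρ R M → E) (s : ↥R → Wt ρ R M → ZMod 3) : Prop where
  mem : ∀ χ, e χ ∈ wsp ρ R M χ.1
  ne : ∀ χ, e χ ≠ 0
  span : ∀ χ, ∀ x ∈ wsp ρ R M χ.1, ∃ c : ZMod 3, x = c • e χ
  act : ∀ (r : ↥R) χ, ρ (r : S) (e χ) = s r χ • e (rperm ρ hE r χ)
  sign : ∀ r χ, s r χ = 1 ∨ s r χ = -1
  prod : ∀ r, ∏ χ, s r χ = 1

open Classical in
theorem exists_signs [Finite S] (H : Hyp ρ b Q R) (hE : ElemNormal b R M) [Fintype (Wt ρ R M)]
    (hlines : ∀ χ : Wt ρ R M, ∃ e ∈ wsp ρ R M χ.1, e ≠ 0 ∧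
      ∀ x ∈ wsp ρ R M χ.1, ∃ c : ZMod 3, x = c • e) : ∃ e s, Signs ρ hE e s := by
  choose e he he0 hspan using hlines
  have hsign : ∀ (g : ↥(stabilizerGroup R M)) (χ : Wt ρ R M),
      ∃ c : ZMod 3, ρ (g : S) (e χ) = c • e (g • χ) :=
    fun g χ => hspan _ _ (smul_mem g χ (he χ))
  choose s hs using hsign
  have suniq : ∀ (g : ↥(stabilizerGroup R M)) (χ : Wt ρ R M) (c : ZMod 3),
      ρ (g : S) (e χ) = c • e (g • χ) → s g χ = c := fun g χ c h =>
    smul_left_injective (ZMod 3) (he0 (g • χ)) ((hs g χ).symm.trans h)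
  let P : ↥(stabilizerGroup R M) →* ZMod 3 :=
    { toFun := fun g => ∏ χ, s g χ
      map_one' := Finset.prod_eq_one fun χ _ => suniq _ _ _ (by
        rw [Subgroup.coe_one, one_apply, one_smul, one_smul])
      map_mul' := fun g h => by
        have hm : ∀ χ, s (g * h) χ = s g (h • χ) * s h χ := fun χ => by
          apply suniq
          rw [Subgroup.coe_mul, mul_apply, hs, map_smul, hs, smul_smul, mul_comm, mul_smul g h χ]
        simp only [hm, Finset.prod_mul_distrib]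
        congr 1
        exact Equiv.prod_comp (MulAction.toPerm h) (fun χ => s g χ) }
  refine ⟨e, fun r χ => s ⟨r, R_le_stab hE r.2⟩ χ, he, he0, hspan, fun r χ => hs ⟨(r : S), R_le_stab hE r.2⟩ χ,
    fun r χ => eq_one_or_neg_one fun h => he0 χ ?_, fun r => ?_⟩
  · have h1 := hs ⟨r, R_le_stab hE r.2⟩ χ
    rw [h, zero_smul] at h1
    rw [← inv_apply_self ρ (r : S) (e χ)]
    exact (congrArg (ρ (r : S)⁻¹) h1).trans (map_zero _)
  · let T : Subgroup S := P.toHomUnits.ker.map (stabilizerGroup R M).subtype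
    have hT : closure {y | ∃ r ∈ R, y = ⁅r, b⁆} ≤ T := by
      rw [closure_le]
      rintro y ⟨r', hr', rfl⟩
      refine ⟨⁅(⟨r', R_le_stab hE hr'⟩ : ↥(stabilizerGroup R M)), ⟨b, b_mem_stab H hE⟩⁆, ?_,
        map_commutatorElement _ _ _⟩
      rw [SetLike.mem_coe, MonoidHom.mem_ker, map_commutatorElement]
      exact commutatorElement_eq_one_iff_commute.2 (Commute.all _ _)
    obtain ⟨g, hg, hgr⟩ := hT (H.R_gen r.2)
    have hgeq : (⟨(r : S), R_le_stab hE r.2⟩ : ↥(stabilizerGroup R M)) = g := Subtype.ext hgr.symm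
    show P ⟨(r : S), R_le_stab hE r.2⟩ = 1
    rw [hgeq]
    exact congrArg Units.val (MonoidHom.mem_ker.1 hg)

namespace Signs

variable {hE : ElemNormal b R M} [Fintype (Wt ρ R M)] {e : Wt ρ R M → E}
  {s : ↥R → Wt ρ R M → ZMod 3} (hS : Signs ρ hE e s)
include hS

theorem cancel (χ : Wt ρ R M) {a c : ZMod 3} (h : a • e χ = c • e χ) : a = c :=
  smul_left_injective (ZMod 3) (hS.ne χ) h

theorem act_wsp {r : ↥R} (hr : r ∈ (rperm ρ hE).ker) {χ : Wt ρ R M} {x : E}
    (hx : x ∈ wsp ρ R M χ.1) : ρ (r : S) x = s r χ • x := by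
  obtain ⟨c, rfl⟩ := hS.span χ x hx
  rw [map_smul, hS.act, MonoidHom.mem_ker.1 hr, Equiv.Perm.one_apply, smul_comm]

theorem mul (r t : ↥R) (χ : Wt ρ R M) : s (r * t) χ = s r (rperm ρ hE t χ) * s t χ := by
  have h1 := hS.act (r * t) χ
  rw [Subgroup.coe_mul, mul_apply, hS.act t, map_smul, hS.act r, smul_smul, map_mul,
    Equiv.Perm.mul_apply] at h1
  rw [← hS.cancel _ h1, mul_comm]

theorem one (χ : Wt ρ R M) : s 1 χ = 1 := by
  have h1 := hS.act 1 χ
  rw [Subgroup.coe_one, one_apply, map_one, Equiv.Perm.one_apply] at h1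
  exact hS.cancel χ (h1.symm.trans (one_smul _ _).symm)

/-- The conjugate of a kernel element. -/
theorem conj_eq {n n' : ↥R} (hn : n ∈ (rperm ρ hE).ker) (hn' : n' ∈ (rperm ρ hE).ker) {g : S}
    (hg : (n' : S) = g * n * g⁻¹) {χ ψ : Wt ρ R M} (hψ : ρ g (e χ) ∈ wsp ρ R M ψ.1) :
    s n' ψ = s n χ := by
  have h2 := hS.act_wsp hn' hψ
  have h3 : ρ (n' : S) (ρ g (e χ)) = s n χ • ρ g (e χ) := by
    rw [hg, ← mul_apply, inv_mul_cancel_right, mul_apply, hS.act_wsp hn (hS.mem χ), map_smul]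
  refine smul_left_injective (ZMod 3) (fun h => hS.ne χ ?_) (h2.symm.trans h3)
  rw [← inv_apply_self ρ g (e χ), h, map_zero]

theorem inj [Finite S] (H : Hyp ρ b Q R) :
    Function.Injective (fun (r : ↥(rperm ρ hE).ker) (χ : Wt ρ R M) => s (r : ↥R) χ) := by
  intro r r' hF
  refine Subtype.ext (Subtype.ext (H.faithful (LinearMap.ext fun x => ?_)))
  obtain ⟨f, hf, m, hm, rfl⟩ := exists_fixed_add_moved ρ H.R_cop x
  rw [map_add, map_add, hf _ (r : ↥R).2, hf _ (r' : ↥R).2]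
  congr 1
  have hker : movedSp ρ R ≤ LinearMap.ker (ρ ((r : ↥R) : S) - ρ ((r' : ↥R) : S)) :=
    span_weights hE.sq hE.comm hE.le fun χ y hy => by
      rw [LinearMap.mem_ker, LinearMap.sub_apply, hS.act_wsp r.2 hy, hS.act_wsp r'.2 hy,
        show s (r : ↥R) χ = s (r' : ↥R) χ from congrFun hF χ, sub_self]
  have := hker hm
  rwa [LinearMap.mem_ker, LinearMap.sub_apply, sub_eq_zero] at this

theorem eq_one [Finite S] (H : Hyp ρ b Q R) {r : ↥R} (hr : r ∈ (rperm ρ hE).ker)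
    (h : ∀ χ, s r χ = 1) : r = 1 := by
  have := hS.inj H (a₁ := ⟨r, hr⟩) (a₂ := 1) (funext fun χ => (h χ).trans (hS.one χ).symm)
  exact congrArg Subtype.val this

theorem neg_on_moved [Finite S] {r : ↥R} (hr : r ∈ (rperm ρ hE).ker) (h : ∀ χ, s r χ = -1) :
    ∀ x ∈ movedSp ρ R, ρ (r : S) x = -x := by
  intro x hx
  have := (span_weights hE.sq hE.comm hE.le
    (W := LinearMap.ker (ρ (r : S) + LinearMap.id)) fun χ y hy => by
      rw [LinearMap.mem_ker, LinearMap.add_apply, LinearMap.id_coe, id_eq, hS.act_wsp hr hy, h χ,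
        neg_smul, one_smul, neg_add_cancel]) hx
  simpa [LinearMap.mem_ker, add_eq_zero_iff_eq_neg] using this

theorem mem_ker_of_mem {m : S} (hm : m ∈ M) : (⟨m, hE.le hm⟩ : ↥R) ∈ (rperm ρ hE).ker :=
  MonoidHom.mem_ker.2 (Equiv.ext fun χ => M_smul hE hm χ)

theorem ker_mul_self [Finite S] (H : Hyp ρ b Q R) (r : ↥(rperm ρ hE).ker) : r * r = 1 :=
  Subtype.ext (hS.eq_one H (mul_mem r.2 r.2) fun χ => by
    rw [Subgroup.coe_mul, hS.mul, MonoidHom.mem_ker.1 r.2, Equiv.Perm.one_apply]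
    rcases hS.sign r χ with a | a <;> rw [a] <;> decide)

/-- The extraspecial group of order 32. -/
theorem four_case [Finite S] [Finite E] (H : Hyp ρ b Q R)
    (hnc : ¬ ∀ m ∈ M, m = 1 ∨ ∀ x ∈ movedSp ρ R, ρ m x = -x)
    (hF : FourSetting (rperm ρ hE).range (wperm ρ R M ⟨b, b_mem_stab H hE⟩)) :
    Cfsg.IsExtraspecial 2 ↥R ∧ Nat.card ↥R = 32 := by
  classical
  set β := wperm ρ R M ⟨b, b_mem_stab H hE⟩ with hβdef
  have hβmem : ∀ χ, ρ b (e χ) ∈ wsp ρ R M (β χ).1 := fun χ =>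
    smul_mem (⟨b, b_mem_stab H hE⟩ : ↥(stabilizerGroup R M)) χ (hS.mem χ)
  haveI : Nonempty (Wt ρ R M) := (Nat.card_pos_iff.1 (by rw [hF.four]; norm_num)).1
  have hcard' : Fintype.card (Wt ρ R M) = 4 := Nat.card_eq_fintype_card.symm.trans hF.four
  -- an element of `M` that is not a sign
  obtain ⟨m, hm, hm1, hm2⟩ : ∃ m ∈ M, m ≠ 1 ∧ ¬ ∀ x ∈ movedSp ρ R, ρ m x = -x := by
    by_contra hcon
    push Not at hcon
    exact hnc fun m hm => or_iff_not_imp_left.2 fun h => hcon m hm h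
  have hmk := hS.mem_ker_of_mem hm
  set mm : ↥R := ⟨m, hE.le hm⟩ with hmm
  have hvnc : ¬ ∀ x y, s mm x = s mm y := by
    intro h
    obtain ⟨f⟩ := ‹Nonempty (Wt ρ R M)›
    rcases hS.sign mm f with h1 | h1
    · exact hm1 (congrArg Subtype.val (hS.eq_one H hmk fun χ => (h χ f).trans h1))
    · exact hm2 (hS.neg_on_moved hmk fun χ => (h χ f).trans h1)
  have hm'k := hS.mem_ker_of_mem (hE.conjb m hm)
  set mm' : ↥R := ⟨b * m * b⁻¹, hE.le (hE.conjb m hm)⟩ with hmm'
  have hv' : ∀ χ, s mm' (β χ) = s mm χ := fun χ => hS.conj_eq hmk hm'k rfl (hβmem χ)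
  have hsqk : ∀ r : ↥R, r * r ∈ (rperm ρ hE).ker ∧ ∀ x y, s (r * r) x = s (r * r) y := by
    intro r
    by_cases h1 : rperm ρ hE r = 1
    · refine ⟨by rw [MonoidHom.mem_ker, map_mul, h1, one_mul], fun x y => ?_⟩
      rw [hS.mul, hS.mul, h1, Equiv.Perm.one_apply, Equiv.Perm.one_apply]
      rcases hS.sign r x with a | a <;> rcases hS.sign r y with c | c <;> rw [a, c] <;> decide
    · obtain ⟨h2, h3⟩ := hF.elements ⟨r, rfl⟩ h1
      refine ⟨by rw [MonoidHom.mem_ker, map_mul, h2], fun x y => ?_⟩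
      rw [hS.mul, hS.mul, mul_comm, mul_comm (s r (rperm ρ hE r y))]
      exact sign_pairs hcard' h2 h3 _ (hS.sign r) (hS.prod r) x y
  -- a commutator gives `-1`
  obtain ⟨z, hzk, hz⟩ : ∃ z : ↥R, z ∈ (rperm ρ hE).ker ∧ ∀ χ, s z χ = -1 := by
    obtain ⟨r, x₀, hx₀⟩ : ∃ (r : ↥R) (x : Wt ρ R M), s mm (rperm ρ hE r x) ≠ s mm x := by
      by_contra hcon
      push Not at hcon
      exact hvnc (hF.const_of_invariant (by rintro k ⟨r, rfl⟩ x; exact hcon r x))
    have hk1 : rperm ρ hE r ≠ 1 := fun h => hx₀ (by rw [h]; rfl)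
    obtain ⟨h2, h3⟩ := hF.elements ⟨r, rfl⟩ hk1
    have hrm : (r : S)⁻¹ * m * r ∈ M := by simpa using hE.conjR _ (inv_mem r.2) m hm
    have hnk := hS.mem_ker_of_mem hrm
    set nn : ↥R := ⟨(r : S)⁻¹ * m * r, hE.le hrm⟩
    have hnn : ∀ χ, s nn χ = s mm (rperm ρ hE r χ) := fun χ =>
      (hS.conj_eq hnk hmk (show m = (r : S) * ((r : S)⁻¹ * m * r) * (r : S)⁻¹ by group)
        (rperm_mem hE r χ (hS.mem χ))).symm
    refine ⟨mm * nn, mul_mem hmk hnk, fun χ => ?_⟩
    rw [hS.mul, MonoidHom.mem_ker.1 hnk, Equiv.Perm.one_apply, hnn,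
      sign_pairs hcard' h2 h3 _ (hS.sign mm) (hS.prod mm) χ x₀]
    rcases hS.sign mm x₀ with a | a <;> rcases hS.sign mm (rperm ρ hE r x₀) with c | c <;>
      rw [a, c] at hx₀ ⊢ <;> first | decide | exact absurd rfl hx₀
  have hzneg := hS.neg_on_moved hzk hz
  have hz1 : z ≠ 1 := fun h => by
    obtain ⟨f⟩ := ‹Nonempty (Wt ρ R M)›
    have h1 := hz f
    rw [h, hS.one] at h1
    exact absurd h1 (by decide)
  -- the kernel
  have hker : Nat.card ↥(rperm ρ hE).ker = 8 := by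
    have hle : Nat.card ↥(rperm ρ hE).ker ≤ 8 :=
      (card_signs _ (hS.inj H) (fun r χ => hS.sign _ χ)
        (fun r => by rw [finprod_eq_prod_of_fintype, hS.prod])).trans (by rw [hF.four]; norm_num)
    have hzm : ∀ χ, s (z * mm) χ = -s mm χ := fun χ => by
      rw [hS.mul, MonoidHom.mem_ker.1 hmk, Equiv.Perm.one_apply, hz, neg_one_mul]
    have hv'nc : ¬ ∀ x y, s mm' x = s mm' y := fun h => hvnc fun x y => by
      rw [← hv' x, ← hv' y]; exact h _ _
    obtain ⟨f, hf, -⟩ := hF.exists_fixed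
    have hvf : s mm' f = s mm f := by nth_rw 1 [← hf]; rw [hv']
    refine card_eight (hS.ker_mul_self H) hle (z := ⟨z, hzk⟩) (a := ⟨mm, hmk⟩) (c := ⟨mm', hm'k⟩)
      (fun h => hz1 (congrArg Subtype.val h)) (fun h => hvnc fun x y => ?_)
      (fun h => hvnc fun x y => ?_) (fun h => hv'nc fun x y => ?_) (fun h => hv'nc fun x y => ?_)
      (fun h => hvnc ?_) (fun h => ?_)
    · rw [show mm = 1 from congrArg Subtype.val h, hS.one, hS.one]
    · rw [show mm = z from congrArg Subtype.val h, hz, hz]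
    · rw [show mm' = 1 from congrArg Subtype.val h, hS.one, hS.one]
    · rw [show mm' = z from congrArg Subtype.val h, hz, hz]
    · have he : mm' = mm := congrArg Subtype.val h
      exact hF.const_of_beta (hS.sign mm) (hS.prod mm) fun x => by rw [← hv' x, he]
    · rw [show mm' = z * mm from congrArg Subtype.val h, hzm] at hvf
      exact absurd hvf (by rcases hS.sign mm f with a | a <;> rw [a] <;> decide)
  have hcard : Nat.card ↥R = 32 := by
    rw [← card_mul_index (rperm ρ hE).ker, hker, index_ker, hF.card_eq]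
  refine ⟨?_, hcard⟩
  -- the centre
  have hzcentral : ∀ y : ↥R, z * y = y * z := fun y =>
    Subtype.ext (H.faithful (LinearMap.ext fun x => by
      obtain ⟨f, hf, w, hw, rfl⟩ := exists_fixed_add_moved ρ H.R_cop x
      have hyw := H.moved_Rinv _ y.2 w hw
      rw [Subgroup.coe_mul, Subgroup.coe_mul, mul_apply, mul_apply, map_add, map_add, map_add,
        map_add, hf _ y.2, hf _ z.2, hf _ y.2, hzneg _ hyw, hzneg w hw, map_neg]))
  have hcenter : center ↥R = zpowers z := by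
    refine le_antisymm (fun y hy => ?_) (zpowers_le.2 (mem_center_iff.2 fun w => (hzcentral w).symm))
    have hcomm : ∀ (r : ↥R), r ∈ center ↥R → ∀ (n : ↥R), n ∈ (rperm ρ hE).ker → ∀ χ,
        s n (rperm ρ hE r χ) = s n χ := fun r hr n hn χ =>
      hS.conj_eq hn hn (show (n : S) = (r : S) * n * (r : S)⁻¹ by
        rw [eq_mul_inv_iff_mul_eq]
        exact congrArg Subtype.val (mem_center_iff.1 hr n)) (rperm_mem hE r χ (hS.mem χ))
    have hy1 : y ∈ (rperm ρ hE).ker := by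
      by_contra hne
      have hby : (⟨b * y * b⁻¹, H.R_conj _ y.2⟩ : ↥R) ∈ center ↥R := mem_center_iff.2 fun w => by
        have h := congrArg Subtype.val (mem_center_iff.1 hy ⟨b⁻¹ * w * b, H.binv_conj w.2⟩)
        apply Subtype.ext
        simp only [Subgroup.coe_mul] at h ⊢
        calc (w : S) * (b * y * b⁻¹) = b * ((b⁻¹ * w * b) * y) * b⁻¹ := by group
          _ = b * ((y : S) * (b⁻¹ * w * b)) * b⁻¹ := by rw [h]
          _ = b * y * b⁻¹ * w := by group
      have hconj : rperm ρ hE ⟨b * y * b⁻¹, H.R_conj _ y.2⟩ = β * rperm ρ hE y * β⁻¹ := by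
        rw [hβdef, rperm, MonoidHom.comp_apply, MonoidHom.comp_apply, ← map_mul, ← map_inv,
          ← map_mul]
        rfl
      refine hvnc (hF.const_of_pair ⟨y, rfl⟩ (fun h => hne (MonoidHom.mem_ker.2 h))
        (hcomm y hy mm hmk) fun x => ?_)
      rw [← hconj]
      exact hcomm _ hby mm hmk x
    have hc : ∀ x x', s y x = s y x' := hF.const_of_invariant (by
      rintro k ⟨r, rfl⟩ x
      exact hS.conj_eq hy1 hy1 (show (y : S) = (r : S) * y * (r : S)⁻¹ by
        rw [eq_mul_inv_iff_mul_eq]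
        exact (congrArg Subtype.val (mem_center_iff.1 hy r)).symm) (rperm_mem hE r x (hS.mem x)))
    obtain ⟨f⟩ := ‹Nonempty (Wt ρ R M)›
    rcases hS.sign y f with h | h
    · rw [hS.eq_one H hy1 fun χ => (hc χ f).trans h]
      exact one_mem _
    · have := hS.inj H (a₁ := ⟨y, hy1⟩) (a₂ := ⟨z, hzk⟩)
        (funext fun χ => by show s y χ = s z χ; rw [hz, hc χ f]; exact h)
      rw [show y = z from congrArg Subtype.val this]
      exact mem_zpowers z
  refine SquareExtraspecial.isExtraspecial_of_squares (IsPGroup.of_card (n := 5) (by rw [hcard]; norm_num))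
    hcenter hz1 (by rw [pow_two]; exact congrArg Subtype.val (hS.ker_mul_self H ⟨z, hzk⟩))
    (fun x => ?_) (by rw [hcard]; norm_num)
  rw [hcenter, pow_two]
  obtain ⟨f⟩ := ‹Nonempty (Wt ρ R M)›
  obtain ⟨hxk, hxc⟩ := hsqk x
  rcases hS.sign (x * x) f with h | h
  · rw [hS.eq_one H hxk fun χ => (hxc χ f).trans h]
    exact one_mem _
  · have := hS.inj H (a₁ := ⟨x * x, hxk⟩) (a₂ := ⟨z, hzk⟩)
      (funext fun χ => by show s (x * x) χ = s z χ; rw [hz, hxc χ f]; exact h)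
    rw [show x * x = z from congrArg Subtype.val this]
    exact mem_zpowers z

end Signs

/-- The monomial case. -/
theorem monomial_case [Finite S] [Finite E] (H : Hyp ρ b Q R) (hE : ElemNormal b R M)
    (hnc : ¬ ∀ m ∈ M, m = 1 ∨ ∀ x ∈ movedSp ρ R, ρ m x = -x) :
    R = Q ∨ (Cfsg.IsExtraspecial 2 ↥R ∧ Nat.card ↥R = 32) := by
  classical
  obtain ⟨hcard4, hlines, htr, wa, wb, wd, hcyc⟩ := exists_weight_structure H hE hnc
  haveI : Nonempty (Wt ρ R M) := ⟨wa⟩
  letI : Fintype (Wt ρ R M) := Fintype.ofFinite _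
  obtain ⟨e, s, hS⟩ := exists_signs H hE hlines
  set bb : ↥(stabilizerGroup R M) := ⟨b, b_mem_stab H hE⟩ with hbb
  have hT : ThreeCycle.Setting (rperm ρ hE).range (wperm ρ R M bb) := by
    refine ⟨H.R_cop.coprime_dvd_left (card_range_dvd _), ?_, fun h => hcyc.1
      ((Equiv.Perm.congr_fun h wa).symm.trans hcyc.2.2.2.1), ?_⟩
    · rw [← map_pow, show bb ^ 3 = 1 from Subtype.ext (by simp [bb, H.b_pow]), map_one]
    · rintro k ⟨r, rfl⟩
      refine ⟨⟨b * r * b⁻¹, H.R_conj _ r.2⟩, ?_⟩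
      rw [rperm, MonoidHom.comp_apply, MonoidHom.comp_apply, ← map_mul, ← map_inv, ← map_mul]
      rfl
  have hn3 : 3 ≤ Nat.card (Wt ρ R M) := by
    rw [Nat.card_eq_fintype_card, ← Finset.card_univ]
    have : ({wa, wb, wd} : Finset (Wt ρ R M)).card = 3 := Finset.card_eq_three.2
      ⟨wa, wb, wd, hcyc.1, Ne.symm hcyc.2.2.1, hcyc.2.1, rfl⟩
    exact this ▸ Finset.card_le_univ _
  by_cases hn : Nat.card (Wt ρ R M) = 3
  · left
    have htop : (rperm ρ hE).ker = ⊤ := eq_top_iff.2 fun r _ =>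
      MonoidHom.mem_ker.2 ((setting_elements hT ⟨r, rfl⟩).1 hn)
    have hle := card_signs _ (hS.inj H) (fun r χ => hS.sign _ χ)
      (fun r => by rw [finprod_eq_prod_of_fintype, hS.prod])
    rw [htop, card_top, hn] at hle
    exact (eq_of_le_of_card_ge H.Q_le (by rw [H.Q_card]; exact hle.trans (by norm_num))).symm
  right
  have hn4 : Nat.card (Wt ρ R M) = 4 := by omega
  refine hS.four_case H hnc ⟨hT, hn4, ⟨wa, wb, wd, hcyc⟩, ?_⟩
  obtain ⟨wf, hfa, hfb, hfd⟩ : ∃ wf, wf ≠ wa ∧ wf ≠ wb ∧ wf ≠ wd := by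
    by_contra hcon
    push Not at hcon
    have h1 : (Finset.univ : Finset (Wt ρ R M)) ⊆ {wa, wb, wd} := fun x _ => by
      simp only [Finset.mem_insert, Finset.mem_singleton]
      by_cases ha : x = wa
      · exact .inl ha
      by_cases hb : x = wb
      · exact .inr (.inl hb)
      exact .inr (.inr (hcon x ha hb))
    have h2 := (Finset.card_le_card h1).trans Finset.card_le_three
    rw [Finset.card_univ, ← Nat.card_eq_fintype_card, hn4] at h2
    omega
  have hβf : wperm ρ R M bb wf = wf := hcyc.2.2.2.2.2.2 wf hfa hfb hfd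
  by_contra hcon
  push Not at hcon
  have hR : ∀ r : ↥R, rperm ρ hE r wf = wf := fun r => hcon _ ⟨r, rfl⟩ wf hβf
  obtain ⟨g, hg, hgf⟩ := htr wf wa
  let T : Subgroup S := (MulAction.stabilizer ↥(stabilizerGroup R M) wf).map (stabilizerGroup R M).subtype
  have hTle : R ⊔ zpowers b ≤ T := sup_le
    (fun r hr => ⟨⟨r, R_le_stab hE hr⟩, hR ⟨r, hr⟩, rfl⟩) (zpowers_le.2 ⟨bb, hβf, rfl⟩)
  obtain ⟨g', hg', hgg⟩ := hTle hg
  rw [show g' = g from Subtype.ext hgg] at hg'
  exact hfa ((show g • wf = wf from hg').symm.trans hgf)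

end Cfsg.Agent.Cores.CubicBlock
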