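import Cfsg.Agent.Cores.CubicExtraspecial
import Cfsg.Agent.Coprime.Action

/-!
The case of a 2-group, and `U = [U, b]`.
-/

set_option autoImplicit false

namespace Cfsg.Agent.Cores.CubicBlock

open Subgroup
open scoped commutatorElement

universe u v

variable {S : Type u} [Group S] {E : Type v} [AddCommGroup E] [Module (ZMod 3) E]
variable {ρ : Representation (ZMod 3) S E} {b : S} {Q R : Subgroup S}

/-- `[T, ⟨b⟩]` is generated by the `[t, b]`. -/
theorem closure_eq_commutator [Finite S] {T : Subgroup S} (hT : ∀ t ∈ T, b * t * b⁻¹ ∈ T) :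
    closure {s | ∃ t ∈ T, s = ⁅t, b⁆} = ⁅T, zpowers b⁆ := by
  set C := closure {s | ∃ t ∈ T, s = ⁅t, b⁆} with hC
  refine le_antisymm ?_ (commutator_le.2 fun t ht x hx => ?_)
  · rw [hC, closure_le]
    rintro - ⟨t, ht, rfl⟩
    exact commutator_mem_commutator ht (mem_zpowers b)
  have hconj : ∀ c ∈ C, b * c * b⁻¹ ∈ C := by
    intro c hc
    induction hc using Subgroup.closure_induction with
    | mem c hc =>
      obtain ⟨t, ht, rfl⟩ := hc
      refine subset_closure ⟨b * t * b⁻¹, hT t ht, ?_⟩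
      simp only [commutatorElement_def]; group
    | one => rw [mul_one, mul_inv_cancel]; exact one_mem _
    | mul x y _ _ hx hy =>
      rw [show b * (x * y) * b⁻¹ = (b * x * b⁻¹) * (b * y * b⁻¹) by group]
      exact mul_mem hx hy
    | inv x _ hx =>
      rw [show b * x⁻¹ * b⁻¹ = (b * x * b⁻¹)⁻¹ by group]
      exact inv_mem hx
  obtain ⟨n, hn⟩ := ((isOfFinOrder_of_finite b).mem_powers_iff_mem_zpowers (y := x)).2 hx
  simp only at hn
  rw [← hn]
  clear hn hx
  induction n with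
  | zero => rw [pow_zero, commutatorElement_one_right]; exact one_mem _
  | succ n ih =>
    rw [pow_succ', show ⁅t, b * b ^ n⁆ = ⁅t, b⁆ * (b * ⁅t, b ^ n⁆ * b⁻¹) by
      simp only [commutatorElement_def]; group]
    exact mul_mem (subset_closure ⟨t, ht, rfl⟩) (hconj _ ih)

namespace Hyp

variable (H : Hyp ρ b Q R) [Finite S] [Finite E] [Group.IsSolvable S]
include H

/-- The conclusion when `R` is a 2-group. -/
theorem two_group_case (hR : IsPGroup 2 ↥R) :
    R = Q ∨ (Cfsg.IsExtraspecial 2 ↥R ∧ Nat.card ↥R = 32) := by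
  by_cases hno : NoElem ρ b R
  swap
  · rw [NoElem] at hno
    push Not at hno
    obtain ⟨M, hM, m, hm, hm1, hm2⟩ := hno
    exact monomial_case H hM fun h => hm2 ((h m hm).resolve_left hm1)
  exfalso
  obtain ⟨U, hUR, hU2, hUn, hUmax, hcen⟩ := H.exists_two_core
  have hRU : R ≤ U := hUmax R le_rfl hR fun r hr w hw => mul_mem (mul_mem hr hw) (inv_mem hr)
  obtain ⟨z, hzU, hz1, hneg, hder, hsq, -, -⟩ := H.two_core_extraspecial hno hUR hU2 hUn hcen
  obtain ⟨hzb, hzR⟩ := H.neg_comm (hUR hzU) hneg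
  have hzz : z * z = 1 := by
    refine H.faithful (LinearMap.ext fun x => ?_)
    obtain ⟨f, hf, y, hy, rfl⟩ := exists_fixed_add_moved ρ H.R_cop x
    rw [mul_apply, one_apply, map_add, map_add, hf z (hUR hzU), hf z (hUR hzU), hneg y hy, map_neg,
      hneg y hy, neg_neg]
  have hzn : zpowers z ≤ R := zpowers_le.2 (hUR hzU)
  have hcz : ∀ c ∈ zpowers z, c * b = b * c ∧ ∀ r ∈ R, c * r = r * c := by
    intro c hc
    obtain ⟨i, rfl⟩ := mem_zpowers_iff.1 hc
    exact ⟨((show Commute z b from hzb).zpow_left i).eq,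
      fun r hr => ((show Commute z r from hzR r hr).zpow_left i).eq⟩
  have hnorm : zpowers z ≤ normalizer (Q : Set S) := fun c hc => mem_normalizer_iff.2 fun q => by
    constructor
    · intro hq
      rw [(hcz c hc).2 q (H.Q_le hq), mul_inv_cancel_right]
      exact hq
    · intro hq
      have hqR : q ∈ R := by
        have := mul_mem (mul_mem (inv_mem (hzn hc)) (H.Q_le hq)) (hzn hc)
        rwa [show c⁻¹ * (c * q * c⁻¹) * c = q by group] at this
      rwa [(hcz c hc).2 q hqR, mul_inv_cancel_right] at hq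
  have hdec : ∀ x ∈ Q ⊔ zpowers z, ∃ q ∈ Q, ∃ c ∈ zpowers z, q * c = x := fun x hx =>
    (Coprime.mem_sup_iff hnorm).1 hx
  set M := Q ⊔ zpowers z with hM
  have hE : ElemNormal b R M := by
    refine ⟨sup_le H.Q_le hzn, ?_, ?_, ?_, ?_⟩
    · intro x hx y hy
      obtain ⟨q, hq, c, hc, rfl⟩ := hdec x hx
      obtain ⟨q', hq', c', hc', rfl⟩ := hdec y hy
      have h1 : Commute q q' := H.Q_comm hq hq'
      have h2 : Commute q c' := ((hcz c' hc').2 q (H.Q_le hq)).symm
      have h3 : Commute c q' := (hcz c hc).2 q' (H.Q_le hq')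
      have h4 : Commute c c' := (hcz c hc).2 c' (hzn hc')
      exact ((h1.mul_right h2).mul_left (h3.mul_right h4)).eq
    · intro x hx
      obtain ⟨q, hq, c, hc, rfl⟩ := hdec x hx
      have hcc : c * c = 1 := by
        obtain ⟨i, rfl⟩ := mem_zpowers_iff.1 hc
        rw [← (Commute.refl z).mul_zpow, hzz, one_zpow]
      calc q * c * (q * c) = q * (c * q) * c := by group
        _ = (q * q) * (c * c) := by rw [(hcz c hc).2 q (H.Q_le hq)]; group
        _ = 1 := by rw [H.Q_sq q hq, hcc, one_mul]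
    · intro r hr x hx
      obtain ⟨q, hq, c, hc, rfl⟩ := hdec x hx
      have e : r * (q * c) * r⁻¹ = ⁅r, q⁆ * (q * c) := by
        calc r * (q * c) * r⁻¹ = r * q * (c * r⁻¹) := by group
          _ = r * q * (r⁻¹ * c) := by rw [(hcz c hc).2 _ (inv_mem hr)]
          _ = ⁅r, q⁆ * (q * c) := by rw [commutatorElement_def]; group
      rw [e]
      exact mul_mem (mem_sup_right (hder r (hRU hr) q (hRU (H.Q_le hq))))
        (mul_mem (mem_sup_left hq) (mem_sup_right hc))
    · intro x hx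
      obtain ⟨q, hq, c, hc, rfl⟩ := hdec x hx
      rw [show b * (q * c) * b⁻¹ = b * q * b⁻¹ * (b * c * b⁻¹) by group,
        ← (hcz c hc).1, mul_inv_cancel_right]
      exact mul_mem (mem_sup_left (H.Q_conj q hq)) (mem_sup_right hc)
  obtain ⟨q, hq, hq1⟩ : ∃ q ∈ Q, q ≠ 1 := by
    by_contra hcon
    push Not at hcon
    have : Q = ⊥ := eq_bot_iff.2 fun q hq => mem_bot.2 (hcon q hq)
    have h4 := H.Q_card
    rw [this, card_bot] at h4
    norm_num at h4
  rcases hno M hE q (mem_sup_left hq) with h | h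
  · exact hq1 h
  · exact hq1 (H.Q_fpf q hq (by rw [← (H.neg_comm (H.Q_le hq) h).1, mul_inv_cancel_right]))

/-- `U = [U, b]`. -/
theorem core_eq_commutator {U : Subgroup S} (hUR : U ≤ R) (hU2 : IsPGroup 2 ↥U)
    (hUb : ∀ x ∈ U, b * x * b⁻¹ ∈ U) {z : S} (hzU : z ∈ U) (hz1 : z ≠ 1) (hneg : IsNeg ρ R z)
    (hder : ∀ x ∈ U, ∀ y ∈ U, ⁅x, y⁆ ∈ zpowers z)
    (hZ : ∀ x ∈ U, (∀ y ∈ U, x * y = y * x) → x ∈ zpowers z)
    (hna : ∃ x ∈ U, ∃ y ∈ U, x * y ≠ y * x) : ⁅U, zpowers b⁆ = U := by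
  haveI : Fact (Nat.Prime 2) := ⟨Nat.prime_two⟩
  obtain ⟨hzb, hzR⟩ := H.neg_comm (hUR hzU) hneg
  have hzz : z * z = 1 := by
    refine H.faithful (LinearMap.ext fun x => ?_)
    obtain ⟨f, hf, y, hy, rfl⟩ := exists_fixed_add_moved ρ H.R_cop x
    rw [mul_apply, one_apply, map_add, map_add, hf z (hUR hzU), hf z (hUR hzU), hneg y hy, map_neg,
      hneg y hy, neg_neg]
  have hzp : ∀ a ∈ zpowers z, a = 1 ∨ a = z := fun a ha => by
    obtain ⟨i, rfl⟩ := mem_zpowers_iff.1 ha
    have h2 : z ^ (2 : ℤ) = 1 := by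
      rw [show (2 : ℤ) = ((2 : ℕ) : ℤ) from rfl, zpow_natCast, pow_two, hzz]
    rcases Int.even_or_odd i with ⟨j, rfl⟩ | ⟨j, rfl⟩
    · left; rw [← two_mul, zpow_mul, h2, one_zpow]
    · right; rw [zpow_add_one, zpow_mul, h2, one_zpow, one_mul]
  have hBU : zpowers b ≤ normalizer (U : Set S) := zpowers_le.2 (mem_normalizer_iff.2 fun x =>
    ⟨hUb x, fun h => by
      have := hUb _ (hUb _ h)
      rwa [H.conj3] at this⟩)
  have hcop : (Nat.card ↥(zpowers b)).Coprime (Nat.card ↥U) := by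
    refine Nat.Coprime.coprime_dvd_left ?_ ((H.R_cop.coprime_dvd_left (card_dvd_of_le hUR)).symm)
    rw [Nat.card_zpowers]
    exact orderOf_dvd_of_pow_eq_one H.b_pow
  have hsolv : Group.IsSolvable ↥(zpowers b) ∨ Group.IsSolvable ↥U := .inl inferInstance
  set U1 := ⁅U, zpowers b⁆ with hU1
  have hU1U : U1 ≤ U := Coprime.commutator_le_left_of_normalizer hBU
  have hsup : U1 ⊔ (U ⊓ centralizer (zpowers b : Set S)) = U :=
    Coprime.commutator_sup_centralizer hBU hcop hsolv
  have hCb : ∀ c ∈ U ⊓ centralizer (zpowers b : Set S), c * b = b * c := fun c hc =>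
    (mem_centralizer_iff.1 (mem_inf.1 hc).2 b (mem_zpowers b)).symm
  obtain ⟨u, hu, -, huv, hcu⟩ := H.sign_line
  have hzu : ρ z u = -u := hneg u (H.line_in_moved huv)
  have hCC : ∀ c ∈ U ⊓ centralizer (zpowers b : Set S), ∀ d ∈ U ⊓ centralizer (zpowers b : Set S),
      c * d = d * c := by
    intro c hc d hd
    rcases hzp _ (hder c (mem_inf.1 hc).1 d (mem_inf.1 hd).1) with h | h
    · exact commutatorElement_eq_one_iff_commute.1 h
    · exfalso
      have e : c * d = z * (d * c) := by rw [← h, commutatorElement_def]; group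
      have h1 := congrArg (fun g => ρ g u) e
      simp only [mul_apply] at h1
      refine hu (eq_zero_of_eq_neg ?_)
      rcases hcu c (hCb c hc) with a | a <;> rcases hcu d (hCb d hd) with a' | a' <;>
        simp only [a, a', map_neg, neg_neg, hzu] at h1 <;>
        first | exact h1 | exact h1.symm | exact neg_injective (h1.trans (neg_neg _).symm)
  have hcU1 : ∀ c ∈ U ⊓ centralizer (zpowers b : Set S), ∀ y ∈ U1, c * y = y * c := by
    intro c hc y hy
    have hgen : U1 ≤ closure {s | ∃ t ∈ U, s = ⁅t, b⁆} := (closure_eq_commutator hUb).ge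
    suffices h : closure {s | ∃ t ∈ U, s = ⁅t, b⁆} ≤ centralizer ({c} : Set S) from
      (mem_centralizer_singleton_iff.1 (h (hgen hy))).symm
    rw [closure_le]
    rintro - ⟨x, hx, rfl⟩
    rw [SetLike.mem_coe, mem_centralizer_singleton_iff]
    obtain ⟨hcU, -⟩ := mem_inf.1 hc
    obtain ⟨w, hw, hwx⟩ : ∃ w ∈ zpowers z, c * x * c⁻¹ = w * x :=
      ⟨⁅c, x⁆, hder c hcU x hx, by rw [commutatorElement_def]; group⟩
    have hwc : w * c = c * w ∧ w * b = b * w ∧ w * w = 1 ∧ ∀ r ∈ R, w * r = r * w := by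
      rcases hzp w hw with rfl | rfl
      · simp
      · exact ⟨hzR c (hUR hcU), hzb, hzz, hzR⟩
    have hbc : c * b = b * c := hCb c hc
    have hbci : c * b⁻¹ = b⁻¹ * c := ((show Commute c b from hbc).inv_right).eq
    have e1 : c * x = w * x * c := by rw [← hwx, inv_mul_cancel_right]
    have e2 : c * x⁻¹ = x⁻¹ * w⁻¹ * c := by
      calc c * x⁻¹ = (c * x * c⁻¹)⁻¹ * c := by group
        _ = x⁻¹ * w⁻¹ * c := by rw [hwx, mul_inv_rev]
    have hxR := hUR hx
    refine Eq.symm ?_
    calc c * ⁅x, b⁆ = (c * x) * b * x⁻¹ * b⁻¹ := by rw [commutatorElement_def]; group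
      _ = w * x * (c * b) * x⁻¹ * b⁻¹ := by rw [e1]; group
      _ = w * x * b * (c * x⁻¹) * b⁻¹ := by rw [hbc]; group
      _ = w * x * b * x⁻¹ * w⁻¹ * (c * b⁻¹) := by rw [e2]; group
      _ = w * (x * b * x⁻¹ * (w⁻¹ * b⁻¹)) * c := by rw [hbci]; group
      _ = w * (x * b * x⁻¹ * (b⁻¹ * w⁻¹)) * c := by
          rw [((show Commute w b from hwc.2.1).inv_inv).eq]
      _ = w * (⁅x, b⁆ * w⁻¹) * c := by rw [commutatorElement_def]; group
      _ = ⁅x, b⁆ * c := by
          have hm : ⁅x, b⁆ ∈ R := hUR (hU1U (commutator_mem_commutator hx (mem_zpowers b)))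
          rw [← mul_assoc w, hwc.2.2.2 _ hm, mul_assoc (⁅x, b⁆) w, mul_inv_cancel, mul_one]
  have hCz : U ⊓ centralizer (zpowers b : Set S) ≤ zpowers z := fun c hc => hZ c (mem_inf.1 hc).1
    fun y hy => by
      have hle : U ≤ centralizer ({c} : Set S) := by
        conv_lhs => rw [← hsup]
        exact sup_le (fun y hy => mem_centralizer_singleton_iff.2 (hcU1 c hc y hy).symm)
          (fun y hy => mem_centralizer_singleton_iff.2 (hCC c hc y hy).symm)
      exact (mem_centralizer_singleton_iff.1 (hle hy)).symm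
  have hz1' : z ∈ U1 := by
    by_contra hzn
    obtain ⟨x, hx, y, hy, hxy⟩ := hna
    have habel : ∀ a ∈ U1, ∀ c ∈ U1, a * c = c * a := fun a ha c hc => by
      apply commutatorElement_eq_one_iff_commute.1
      rcases hzp _ (hder a (hU1U ha) c (hU1U hc)) with h | h
      · exact h
      · refine absurd (h ▸ ?_) hzn
        rw [commutatorElement_def]
        exact mul_mem (mul_mem (mul_mem ha hc) (inv_mem ha)) (inv_mem hc)
    have hle : ∀ g ∈ U1, U ≤ centralizer ({g} : Set S) := fun g hg => by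
      conv_lhs => rw [← hsup]
      exact sup_le (fun w hw => mem_centralizer_singleton_iff.2 (habel w hw g hg))
        (fun w hw => mem_centralizer_singleton_iff.2 (hcU1 w hw g hg))
    have hU1z : U1 ≤ zpowers z := fun g hg => hZ g (hU1U hg) fun w hw =>
      (mem_centralizer_singleton_iff.1 (hle g hg hw)).symm
    have hUz : U ≤ zpowers z := hsup.symm.le.trans (sup_le hU1z hCz)
    exact hxy ((hzp x (hUz hx)).elim (fun h => by rw [h, one_mul, mul_one]) fun h =>
      (hzp y (hUz hy)).elim (fun h' => by rw [h', one_mul, mul_one]) fun h' => by rw [h, h'])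
  refine le_antisymm hU1U ?_
  conv_lhs => rw [← hsup]
  exact sup_le le_rfl (hCz.trans (zpowers_le.2 hz1'))

end Hyp

end Cfsg.Agent.Cores.CubicBlock
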