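import Cfsg.Agent.Cores.CubicIrred
import Cfsg.Agent.Cores.ThreeCycle

/-!
A normal elementary abelian 2-subgroup of `R = [R, b]` forces a monomial action of degree at most 4.
-/

set_option autoImplicit false

namespace Cfsg.Agent.Cores.CubicBlock

open Subgroup
open scoped commutatorElement

universe u v

variable {S : Type u} [Group S] {E : Type v} [AddCommGroup E] [Module (ZMod 3) E]

/-- A normal elementary abelian 2-subgroup. -/
structure ElemNormal (b : S) (R M : Subgroup S) : Prop where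
  le : M ≤ R
  comm : ∀ m ∈ M, ∀ m' ∈ M, m * m' = m' * m
  sq : ∀ m ∈ M, m * m = 1
  conjR : ∀ r ∈ R, ∀ m ∈ M, r * m * r⁻¹ ∈ M
  conjb : ∀ m ∈ M, b * m * b⁻¹ ∈ M

variable (ρ : Representation (ZMod 3) S E) (R M : Subgroup S)

/-- The group permuting the weights. -/
def stabilizerGroup : Subgroup S := normalizer (M : Set S) ⊓ normalizer (R : Set S)

/-- The weight space inside the moved space. -/
def wsp (χ : ↥M → ZMod 3) : Submodule (ZMod 3) E where
  carrier := {x | x ∈ movedSp ρ R ∧ ∀ m : ↥M, ρ (m : S) x = χ m • x}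
  add_mem' := fun {x y} hx hy => ⟨add_mem hx.1 hy.1, fun m => by
    rw [map_add, hx.2 m, hy.2 m, smul_add]⟩
  zero_mem' := ⟨zero_mem _, fun m => by rw [map_zero, smul_zero]⟩
  smul_mem' := fun c {x} hx => ⟨Submodule.smul_mem _ c hx.1, fun m => by
    rw [map_smul, hx.2 m, smul_comm]⟩

/-- The weights. -/
def Wt : Type u := {χ : ↥M → ZMod 3 // ∃ x ∈ wsp ρ R M χ, x ≠ 0}

noncomputable instance [Finite S] : Finite (Wt ρ R M) := Subtype.finite

variable {ρ R M}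

theorem inv_conj_mem {g : S} (hg : g ∈ stabilizerGroup R M) {m : S} (hm : m ∈ M) : g⁻¹ * m * g ∈ M :=
  (mem_normalizer_iff''.1 hg.1 m).1 hm

theorem wsp_map {g : S} (hg : g ∈ stabilizerGroup R M) {χ : ↥M → ZMod 3} {x : E}
    (hx : x ∈ wsp ρ R M χ) :
    ρ g x ∈ wsp ρ R M (fun m => χ ⟨g⁻¹ * m * g, inv_conj_mem hg m.2⟩) := by
  refine ⟨map_mem_movedSp ρ (fun r hr => (mem_normalizer_iff.1 hg.2 r).1 hr) hx.1, fun m => ?_⟩
  show ρ (m : S) (ρ g x) = χ ⟨g⁻¹ * m * g, inv_conj_mem hg m.2⟩ • ρ g x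
  rw [← map_smul, ← hx.2 ⟨g⁻¹ * m * g, inv_conj_mem hg m.2⟩, ← mul_apply, ← mul_apply]
  congr 2
  group

variable (ρ R M)

/-- The action on weights. -/
def wact (g : ↥(stabilizerGroup R M)) (χ : Wt ρ R M) : Wt ρ R M :=
  ⟨fun m => χ.1 ⟨(g : S)⁻¹ * m * g, inv_conj_mem g.2 m.2⟩, by
    obtain ⟨x, hx, hx0⟩ := χ.2
    exact ⟨ρ (g : S) x, wsp_map g.2 hx, fun h => hx0 (by
      rw [← inv_apply_self ρ (g : S) x, h, map_zero])⟩⟩

instance instMulAction : MulAction ↥(stabilizerGroup R M) (Wt ρ R M) where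
  smul := wact ρ R M
  one_smul χ := Subtype.ext (funext fun m => congrArg χ.1 (Subtype.ext (by simp)))
  mul_smul g h χ := Subtype.ext (funext fun m => congrArg χ.1 (Subtype.ext (by simp [mul_assoc])))

/-- The permutation representation on weights. -/
def wperm : ↥(stabilizerGroup R M) →* Equiv.Perm (Wt ρ R M) :=
  MulAction.toPermHom _ _

variable {ρ R M}

theorem smul_mem (g : ↥(stabilizerGroup R M)) (χ : Wt ρ R M) {x : E} (hx : x ∈ wsp ρ R M χ.1) :
    ρ (g : S) x ∈ wsp ρ R M (g • χ).1 := wsp_map g.2 hx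

theorem val_eq {χ : ↥M → ZMod 3} (hM : ∀ m ∈ M, m * m = 1) {x : E} (hx : x ∈ wsp ρ R M χ)
    (hx0 : x ≠ 0) (m : ↥M) : χ m = 1 ∨ χ m = -1 := by
  refine eq_one_or_neg_one fun h => hx0 ?_
  have h1 := hx.2 m
  rw [h, zero_smul] at h1
  rw [← inv_apply_self ρ (m : S) x, h1, map_zero]

theorem Wt.val (hM : ∀ m ∈ M, m * m = 1) (χ : Wt ρ R M) (m : ↥M) : χ.1 m = 1 ∨ χ.1 m = -1 := by
  obtain ⟨x, hx, hx0⟩ := χ.2
  exact val_eq hM hx hx0 m

/-- A projection onto a weight space killing finitely many others. -/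
theorem exists_proj [Finite S] (hM : ∀ m ∈ M, m * m = 1) (χ : Wt ρ R M) :
    ∃ p : E →ₗ[ZMod 3] E, (∀ x ∈ wsp ρ R M χ.1, p x = x) ∧
      ∀ ψ : Wt ρ R M, ψ ≠ χ → ∀ x ∈ wsp ρ R M ψ.1, p x = 0 := by
  classical
  suffices h : ∀ s : Finset ↥M, ∃ p : E →ₗ[ZMod 3] E, (∀ x ∈ wsp ρ R M χ.1, p x = x) ∧
      ∀ ψ : Wt ρ R M, (∃ m ∈ s, ψ.1 m ≠ χ.1 m) → ∀ x ∈ wsp ρ R M ψ.1, p x = 0 by
    haveI := Fintype.ofFinite ↥M
    obtain ⟨p, h1, h2⟩ := h Finset.univ
    refine ⟨p, h1, fun ψ hψ x hx => h2 ψ ?_ x hx⟩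
    by_contra hcon
    push Not at hcon
    exact hψ (Subtype.ext (funext fun m => hcon m (Finset.mem_univ m)))
  intro s
  induction s using Finset.induction with
  | empty => exact ⟨LinearMap.id, fun x _ => rfl, fun ψ ⟨m, hm, _⟩ => absurd hm (Finset.notMem_empty m)⟩
  | insert m s _ ih =>
    obtain ⟨p, h1, h2⟩ := ih
    let op : E →ₗ[ZMod 3] E := -(LinearMap.id + χ.1 m • ρ (m : S))
    have hop : ∀ ψ : Wt ρ R M, ∀ x ∈ wsp ρ R M ψ.1, op x = -((1 + χ.1 m * ψ.1 m) • x) := fun ψ x hx => by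
      simp only [op, LinearMap.neg_apply, LinearMap.add_apply, LinearMap.id_coe, id_eq,
        LinearMap.smul_apply, hx.2 m, smul_smul, add_smul, one_smul]
    refine ⟨p ∘ₗ op, fun x hx => ?_, fun ψ ⟨n, hn, hne⟩ x hx => ?_⟩
    · rw [LinearMap.comp_apply, hop χ x hx]
      have : (1 : ZMod 3) + χ.1 m * χ.1 m = -1 := by
        rcases χ.val hM m with h | h <;> rw [h] <;> decide
      rw [this, neg_smul, one_smul, neg_neg, h1 x hx]
    · rw [LinearMap.comp_apply, hop ψ x hx, map_neg, map_smul]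
      rcases Finset.mem_insert.1 hn with rfl | hn
      · have : (1 : ZMod 3) + χ.1 n * ψ.1 n = 0 := by
          rcases χ.val hM n with h | h <;> rcases ψ.val hM n with h' | h' <;> first | exact absurd (h'.trans h.symm) hne | (rw [h, h']; decide)
        rw [this, zero_smul, neg_zero]
      · rw [h2 ψ ⟨n, hn, hne⟩ x hx, smul_zero, neg_zero]

/-- The weight spaces span the moved space. -/
theorem span_weights [Finite S] (hM : ∀ m ∈ M, m * m = 1) (hMc : ∀ m ∈ M, ∀ m' ∈ M, m * m' = m' * m)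
    (hMR : M ≤ R) {W : Submodule (ZMod 3) E} (hW : ∀ χ : Wt ρ R M, wsp ρ R M χ.1 ≤ W) :
    movedSp ρ R ≤ W := by
  classical
  have hinv : ∀ m : ↥M, ∀ x ∈ movedSp ρ R, ρ (m : S) x ∈ movedSp ρ R := fun m x hx => by
    rw [show ρ (m : S) x = (ρ (m : S) x - x) + x by abel]
    exact add_mem (sub_mem_movedSp ρ (hMR m.2) x) hx
  suffices h : ∀ s : Finset ↥M, ∀ x ∈ movedSp ρ R,
      (∀ m : ↥M, m ∉ s → ρ (m : S) x = x ∨ ρ (m : S) x = -x) → x ∈ W by
    haveI := Fintype.ofFinite ↥M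
    exact fun x hx => h Finset.univ x hx fun m hm => absurd (Finset.mem_univ m) hm
  intro s
  induction s using Finset.induction with
  | empty =>
    intro x hx he
    rcases eq_or_ne x 0 with rfl | hx0
    · exact zero_mem W
    let χ : ↥M → ZMod 3 := fun m => if ρ (m : S) x = x then 1 else -1
    have hxw : x ∈ wsp ρ R M χ := ⟨hx, fun m => by
      by_cases h : ρ (m : S) x = x
      · simp only [χ, if_pos h, one_smul, h]
      · simp only [χ, if_neg h, neg_smul, one_smul]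
        exact (he m (Finset.notMem_empty m)).resolve_left h⟩
    exact hW ⟨χ, x, hxw, hx0⟩ hxw
  | insert m s hms ih =>
    intro x hx he
    have hmm : ρ (m : S) (ρ (m : S) x) = x := by rw [← mul_apply, hM m m.2, one_apply]
    have hcm : ∀ n : ↥M, n ∉ s → n ≠ m → ρ (n : S) x = x ∨ ρ (n : S) x = -x := fun n hn hne =>
      he n (by simp [hn, hne])
    have h1 : x + ρ (m : S) x ∈ W := ih _ (add_mem hx (hinv m x hx)) fun n hn => by
      rcases eq_or_ne n m with rfl | hne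
      · left; rw [map_add, hmm, add_comm]
      · have e : ρ (n : S) (ρ (m : S) x) = ρ (m : S) (ρ (n : S) x) := by
          rw [← mul_apply, hMc n n.2 m m.2, mul_apply]
        rcases hcm n hn hne with h | h
        · left; rw [map_add, e, h]
        · right; rw [map_add, e, h, map_neg]; abel
    have h2 : x - ρ (m : S) x ∈ W := ih _ (sub_mem hx (hinv m x hx)) fun n hn => by
      rcases eq_or_ne n m with rfl | hne
      · right; rw [map_sub, hmm, neg_sub]
      · have e : ρ (n : S) (ρ (m : S) x) = ρ (m : S) (ρ (n : S) x) := by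
          rw [← mul_apply, hMc n n.2 m m.2, mul_apply]
        rcases hcm n hn hne with h | h
        · left; rw [map_sub, e, h]
        · right; rw [map_sub, e, h, map_neg]; abel
    have := neg_mem (add_mem h1 h2)
    rwa [show x + ρ (m : S) x + (x - ρ (m : S) x) = x + x by abel, ← neg_eq_add, neg_neg] at this

variable {b : S} {Q : Subgroup S}

theorem b_mem_stab [Finite S] (H : Hyp ρ b Q R) (hE : ElemNormal b R M) :
    b ∈ stabilizerGroup R M := by
  have hb2 : b⁻¹ = b * b := inv_eq_of_mul_eq_one_right (by rw [← mul_assoc, H.bbb])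
  refine mem_inf.2 ⟨mem_normalizer_iff.2 fun h => ⟨hE.conjb h, fun hh => ?_⟩,
    mem_normalizer_iff.2 fun h => ⟨H.R_conj h, fun hh => ?_⟩⟩
  · have := hE.conjb _ (hE.conjb _ hh)
    rwa [H.conj3] at this
  · have := H.R_conj _ (H.R_conj _ hh)
    rwa [H.conj3] at this

theorem R_le_stab (hE : ElemNormal b R M) : R ≤ stabilizerGroup R M := fun r hr =>
  mem_inf.2 ⟨mem_normalizer_iff.2 fun h => ⟨hE.conjR r hr h, fun hh => by
    have := hE.conjR r⁻¹ (inv_mem hr) _ hh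
    rwa [inv_inv, show r⁻¹ * (r * h * r⁻¹) * r = h by group] at this⟩, le_normalizer hr⟩

theorem M_smul (hE : ElemNormal b R M) {m : S} (hm : m ∈ M) (χ : Wt ρ R M) :
    (⟨m, R_le_stab hE (hE.le hm)⟩ : ↥(stabilizerGroup R M)) • χ = χ :=
  Subtype.ext (funext fun n => congrArg χ.1 (Subtype.ext (by
    show m⁻¹ * (n : S) * m = n
    rw [mul_assoc, hE.comm _ n.2 m hm, inv_mul_cancel_left])))

/-- All that is needed about the weights. -/
theorem exists_weight_structure [Finite S] (H : Hyp ρ b Q R) (hE : ElemNormal b R M)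
    (hnc : ¬ ∀ m ∈ M, m = 1 ∨ ∀ x ∈ movedSp ρ R, ρ m x = -x) :
    Nat.card (Wt ρ R M) ≤ 4 ∧
    (∀ χ : Wt ρ R M, ∃ e ∈ wsp ρ R M χ.1, e ≠ 0 ∧ ∀ x ∈ wsp ρ R M χ.1, ∃ c : ZMod 3, x = c • e) ∧
    (∀ χ ψ : Wt ρ R M, ∃ g : ↥(stabilizerGroup R M),
      (g : S) ∈ R ⊔ zpowers b ∧ g • χ = ψ) ∧
    ∃ a b' d : Wt ρ R M, ThreeCycle.Cyc (wperm ρ R M ⟨b, b_mem_stab H hE⟩) a b' d := by
  classical
  set bb : ↥(stabilizerGroup R M) := ⟨b, b_mem_stab H hE⟩ with hbb
  set β := wperm ρ R M bb with hβdef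
  have hbb3 : bb ^ 3 = 1 := Subtype.ext (by simp [bb, H.b_pow])
  have hβ3 : β ^ 3 = 1 := by rw [hβdef, ← map_pow, hbb3, map_one]
  have happ : ∀ χ, β χ = bb • χ := fun χ => rfl
  have hmap : ∀ (χ : Wt ρ R M) x, x ∈ wsp ρ R M χ.1 → ρ b x ∈ wsp ρ R M (β χ).1 :=
    fun χ x hx => smul_mem bb χ hx
  choose p hp1 hp2 using fun χ : Wt ρ R M => exists_proj hE.sq χ
  -- the moved weight
  obtain ⟨χ₁, hχ₁⟩ : ∃ χ, β χ ≠ χ := by
    by_contra hcon
    push Not at hcon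
    have hβ1 : β = 1 := Equiv.ext hcon
    have hR : ∀ r (hr : r ∈ R), wperm ρ R M ⟨r, R_le_stab hE hr⟩ = 1 := by
      intro r hr
      have hgen := H.R_gen hr
      let T : Subgroup S := ((wperm ρ R M).ker).map (stabilizerGroup R M).subtype
      have hT : closure {s | ∃ r ∈ R, s = ⁅r, b⁆} ≤ T := by
        rw [closure_le]
        rintro s ⟨r', hr', rfl⟩
        refine ⟨⁅(⟨r', R_le_stab hE hr'⟩ : ↥(stabilizerGroup R M)), bb⁆, ?_, map_commutatorElement _ _ _⟩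
        rw [SetLike.mem_coe, MonoidHom.mem_ker, map_commutatorElement, ← hβdef, hβ1]
        exact commutatorElement_one_right _
      obtain ⟨g, hg, hgr⟩ := hT hgen
      rw [show (⟨r, R_le_stab hE hr⟩ : ↥(stabilizerGroup R M)) = g from Subtype.ext hgr.symm]
      exact hg
    refine hnc fun m hm => ?_
    -- every weight space is the whole moved space
    have hfull : ∀ χ : Wt ρ R M, wsp ρ R M χ.1 = movedSp ρ R := fun χ => by
      rcases H.irreducible (W := wsp ρ R M χ.1) (fun x hx => hx.1)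
        (fun r hr x hx => by
          have := smul_mem ⟨r, R_le_stab hE hr⟩ χ hx
          rwa [show (⟨r, R_le_stab hE hr⟩ : ↥(stabilizerGroup R M)) • χ = χ from
            Equiv.Perm.congr_fun (hR r hr) χ] at this)
        (fun x hx => by
          have := hmap χ x hx
          rwa [hcon χ] at this) with h | h
      · obtain ⟨x, hx, hx0⟩ := χ.2
        exact absurd ((Submodule.mem_bot _).1 (h ▸ hx)) hx0
      · exact h
    have hmem : ∀ χ : Wt ρ R M, ∀ x ∈ movedSp ρ R, ρ m x = χ.1 ⟨m, hm⟩ • x := fun χ x hx =>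
      ((hfull χ).symm ▸ hx : x ∈ wsp ρ R M χ.1).2 ⟨m, hm⟩
    by_cases hempty : Nonempty (Wt ρ R M)
    · obtain ⟨χ⟩ := hempty
      rcases χ.val hE.sq ⟨m, hm⟩ with h | h
      · left
        refine H.faithful (LinearMap.ext fun x => ?_)
        obtain ⟨f, hf, y, hy, rfl⟩ := exists_fixed_add_moved ρ H.R_cop x
        rw [one_apply, map_add, hf m (hE.le hm), hmem χ y hy, h, one_smul]
      · right
        intro x hx
        rw [hmem χ x hx, h, neg_smul, one_smul]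
    · left
      refine H.faithful (LinearMap.ext fun x => ?_)
      obtain ⟨f, hf, y, hy, rfl⟩ := exists_fixed_add_moved ρ H.R_cop x
      have : y ∈ (⊥ : Submodule (ZMod 3) E) :=
        span_weights hE.sq hE.comm hE.le (fun χ => (hempty ⟨χ⟩).elim) hy
      rw [one_apply, map_add, hf m (hE.le hm), (Submodule.mem_bot _).1 this, map_zero]
  obtain ⟨u, hu, hl⟩ := H.exists_line
  -- the three weights
  set χ₂ := β χ₁ with hχ₂
  set χ₃ := β χ₂ with hχ₃
  have hround : β χ₃ = χ₁ := by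
    rw [hχ₃, hχ₂, ← Equiv.Perm.mul_apply, ← Equiv.Perm.mul_apply, ← pow_two, ← pow_succ, hβ3]
    rfl
  have h12 : χ₁ ≠ χ₂ := Ne.symm hχ₁
  have h23 : χ₂ ≠ χ₃ := fun e => h12 (β.injective (by rw [← hχ₂, ← hχ₃]; exact e))
  have h31 : χ₃ ≠ χ₁ := fun e => h12 (by rw [← hround, e])
  -- a moved weight contains the line
  have hline : ∀ χ : Wt ρ R M, β χ ≠ χ → (p χ u ≠ 0) ∧ (∀ x ∈ wsp ρ R M χ.1, ∃ c : ZMod 3, x = c • p χ u) ∧
      ∀ ψ, ψ ≠ χ → ψ ≠ β χ → ψ ≠ β (β χ) → p ψ u = 0 := by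
    intro χ hχ
    have hr : β (β (β χ)) = χ := by
      rw [← Equiv.Perm.mul_apply, ← Equiv.Perm.mul_apply, mul_assoc, ← pow_two, ← pow_succ', hβ3]
      rfl
    have h2 : β (β χ) ≠ χ := fun e => hχ (by conv_rhs => rw [← hr, e])
    have hco : ∀ x ∈ wsp ρ R M χ.1, ∃ c : ZMod 3, x = c • p χ u := by
      intro x hx
      obtain ⟨c, hc⟩ := hl x
      refine ⟨c, ?_⟩
      rw [← map_smul, ← hc, map_add, map_add, hp1 χ x hx, hp2 χ _ hχ _ (hmap χ x hx),
        hp2 χ _ h2 _ (hmap _ _ (hmap χ x hx)), add_zero, add_zero]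
    obtain ⟨x, hx, hx0⟩ := χ.2
    refine ⟨fun h0 => ?_, hco, fun ψ n1 n2 n3 => ?_⟩
    · obtain ⟨c, hc⟩ := hco x hx
      exact hx0 (by rw [hc, h0, smul_zero])
    · obtain ⟨c, hc⟩ := hl x
      have h := congrArg (p ψ) hc
      rw [map_add, map_add, hp2 ψ χ (Ne.symm n1) x hx, hp2 ψ _ (Ne.symm n2) _ (hmap χ x hx),
        hp2 ψ _ (Ne.symm n3) _ (hmap _ _ (hmap χ x hx)), add_zero, add_zero, map_smul] at h
      rcases smul_eq_zero.1 h.symm with h0 | h0
      · exfalso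
        rw [h0, zero_smul] at hc
        have h4 := congrArg (p χ) hc
        rw [map_zero, map_add, map_add, hp1 χ x hx, hp2 χ _ hχ _ (hmap χ x hx),
          hp2 χ _ h2 _ (hmap _ _ (hmap χ x hx)), add_zero, add_zero] at h4
        exact hx0 h4
      · exact h0
  obtain ⟨hu1, hl1, hout⟩ := hline χ₁ hχ₁
  -- `β` fixes the others
  have hfix : ∀ ψ, ψ ≠ χ₁ → ψ ≠ χ₂ → ψ ≠ χ₃ → β ψ = ψ := by
    intro ψ n1 n2 n3
    by_contra hψ
    exact (hline ψ hψ).1 (hout ψ n1 n2 n3)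
  have hcyc : ThreeCycle.Cyc β χ₁ χ₂ χ₃ := ⟨h12, h23, h31, rfl, rfl, hround, hfix⟩
  -- transitivity
  let X : Subgroup S := R ⊔ zpowers b
  have hX : X ≤ stabilizerGroup R M := sup_le (R_le_stab hE) (zpowers_le.2 (b_mem_stab H hE))
  let O : Wt ρ R M → Prop := fun ψ => ∃ g : ↥(stabilizerGroup R M), (g : S) ∈ X ∧ g • χ₁ = ψ
  let W : Submodule (ZMod 3) E := ⨆ ψ : {ψ // O ψ}, wsp ρ R M ψ.1.1
  have hWle : W ≤ movedSp ρ R := iSup_le fun ψ x hx => hx.1
  have hWinv : ∀ g (hg : g ∈ X), ∀ x ∈ W, ρ g x ∈ W := by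
    intro g hg x hx
    induction hx using Submodule.iSup_induction' with
    | mem ψ x hx =>
      obtain ⟨k, hk, hkψ⟩ := ψ.2
      let g' : ↥(stabilizerGroup R M) := ⟨g, hX hg⟩
      have hO' : O (g' • ψ.1) := ⟨g' * k, mul_mem hg hk, by rw [mul_smul, hkψ]⟩
      exact Submodule.mem_iSup_of_mem (⟨g' • ψ.1, hO'⟩ : {ψ // O ψ}) (smul_mem g' ψ.1 hx)
    | zero => rw [map_zero]; exact zero_mem _
    | add a c _ _ ha hc => rw [map_add]; exact add_mem ha hc
  have hWtop : W = movedSp ρ R := by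
    refine (H.irreducible hWle (fun r hr => hWinv r (mem_sup_left hr))
      (hWinv b (mem_sup_right (mem_zpowers b)))).resolve_left fun h => ?_
    obtain ⟨x, hx, hx0⟩ := χ₁.2
    have : x ∈ W := Submodule.mem_iSup_of_mem (⟨χ₁, 1, one_mem X, one_smul _ _⟩ : {ψ // O ψ}) hx
    rw [h, Submodule.mem_bot] at this
    exact hx0 this
  have hO : ∀ ψ, O ψ := by
    intro ψ
    by_contra hψ
    obtain ⟨x, hx, hx0⟩ := ψ.2
    have h1 : p ψ x = 0 := by
      have hxW : x ∈ W := hWtop.symm ▸ hx.1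
      have hker : W ≤ LinearMap.ker (p ψ) := iSup_le fun ψ' y hy =>
        hp2 ψ ψ'.1 (fun e => hψ (e ▸ ψ'.2)) y hy
      exact hker hxW
    rw [hp1 ψ x hx] at h1
    exact hx0 h1
  have htr : ∀ χ ψ : Wt ρ R M, ∃ g : ↥(stabilizerGroup R M), (g : S) ∈ X ∧ g • χ = ψ := by
    intro χ ψ
    obtain ⟨g, hg, rfl⟩ := hO χ
    obtain ⟨k, hk, rfl⟩ := hO ψ
    exact ⟨k * g⁻¹, mul_mem hk (inv_mem hg), by rw [mul_smul, inv_smul_smul]⟩
  refine ⟨?_, ?_, htr, χ₁, χ₂, χ₃, hcyc⟩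
  · -- the degree
    let K : Subgroup (Equiv.Perm (Wt ρ R M)) := (R.subgroupOf (stabilizerGroup R M)).map (wperm ρ R M)
    have hS : ThreeCycle.Setting K β := by
      refine ⟨H.R_cop.coprime_dvd_left ((card_map_dvd _ _).trans
        (Nat.card_congr (subgroupOfEquivOfLe (R_le_stab hE)).toEquiv).dvd), hβ3, fun h => hχ₁ (Equiv.Perm.congr_fun h χ₁), ?_⟩
      rintro k ⟨r, hr, rfl⟩
      refine ⟨bb * r * bb⁻¹, ?_, by rw [map_mul, map_mul, map_inv]⟩
      exact H.R_conj _ hr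
    refine hS.card_le_four hcyc fun x => ?_
    obtain ⟨g, hg, rfl⟩ := htr χ₁ x
    -- `g` is `r b^i`
    have hnorm : zpowers b ≤ normalizer (R : Set S) :=
      zpowers_le.2 (mem_inf.1 (b_mem_stab H hE)).2
    obtain ⟨r, hr, z, hz, hrz⟩ := (Coprime.mem_sup_iff hnorm).1 hg
    obtain ⟨i, hi⟩ := mem_zpowers_iff.1 hz
    have hg' : g = ⟨r, R_le_stab hE hr⟩ * bb ^ i := Subtype.ext (by simp [bb, hi, hrz])
    refine ⟨wperm ρ R M ⟨r, R_le_stab hE hr⟩, ⟨_, hr, rfl⟩, (bb ^ i) • χ₁, ?_, by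
      rw [hg', mul_smul]; rfl⟩
    have h3 : ∀ j : ℕ, (bb ^ j) • χ₁ = χ₁ ∨ (bb ^ j) • χ₁ = χ₂ ∨ (bb ^ j) • χ₁ = χ₃ := by
      intro j
      induction j with
      | zero => left; rw [pow_zero, one_smul]
      | succ j ih =>
        rw [pow_succ', mul_smul]
        rcases ih with h | h | h <;> rw [h]
        · exact .inr (.inl rfl)
        · exact .inr (.inr rfl)
        · exact .inl hround
    obtain ⟨j, hj⟩ := (IsOfFinOrder.mem_powers_iff_mem_zpowers (x := bb)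
      (isOfFinOrder_iff_pow_eq_one.2 ⟨3, by norm_num, hbb3⟩)).2 (zpow_mem (mem_zpowers bb) i)
    simp only at hj
    rw [← hj]
    exact h3 j
  · -- lines
    intro χ
    obtain ⟨g, -, rfl⟩ := htr χ₁ χ
    refine ⟨ρ (g : S) (p χ₁ u), ?_, fun h => hu1 ?_, fun x hx => ?_⟩
    · obtain ⟨x, hx, hx0⟩ := χ₁.2
      obtain ⟨c, hc⟩ := hl1 x hx
      have hc0 : c ≠ 0 := fun h => hx0 (by rw [hc, h, zero_smul])
      have : p χ₁ u ∈ wsp ρ R M χ₁.1 := (Submodule.smul_mem_iff _ hc0).1 (hc ▸ hx)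
      exact smul_mem g χ₁ this
    · rw [← inv_apply_self ρ (g : S) (p χ₁ u), h, map_zero]
    · have h1 := smul_mem g⁻¹ _ hx
      rw [inv_smul_smul] at h1
      obtain ⟨c, hc⟩ := hl1 _ h1
      refine ⟨c, ?_⟩
      have h2 := congrArg (ρ (g : S)) hc
      rw [map_smul, Subgroup.coe_inv, self_inv_apply] at h2
      exact h2

end Cfsg.Agent.Cores.CubicBlock
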