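import Cfsg.Agent.Cores.ThirdMain
import Cfsg.Agent.H35.BlockInduction
import Cfsg.Agent.H35.Defect

/-!
# Blocks of centralisers of central elements of defect groups
-/

namespace Cfsg.Agent.Cores

open MonoidAlgebra BlockBasic CharBasic

universe u

variable {G : Type u} [Group G] [Finite G] {p : ℕ} {M : Ideal AlgInt} [Fact p.Prime]

/-- An induced block has at least the defect of the block inducing it. -/
theorem blockDefect_le_of_induced (hM : IsPModular p M) {H : Subgroup G}
    {b : Set (IrrCharacter H)} {B : Set (IrrCharacter G)} (hind : IsInducedBlock M H b B) :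
    blockDefect p b ≤ blockDefect p B := by
  obtain ⟨g, hg⟩ := exists_isDefectClass hM hind.1
  obtain ⟨P⟩ : Nonempty (Sylow p (Subgroup.centralizer ({g} : Set H))) := inferInstance
  have hD : IsDefectGroup p M b (H35.sylImage P) := ⟨g, hg, P, rfl⟩
  obtain ⟨E, hE, hle⟩ := H35.defectGroup_le_induced hM H hind hD
  have h := Subgroup.card_le_of_le hle
  rw [Subgroup.card_map_of_injective H.subtype_injective, H35.card_defectGroup hM hind.1 hD,
    H35.card_defectGroup hM hind.2.1 hE] at h
  exact (Nat.pow_le_pow_iff_right (Fact.out : p.Prime).one_lt).1 h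

omit [Fact p.Prime] in
/-- The block idempotents add up to one. -/
theorem sum_blockElem_eq_one [Fintype G] [Fintype (IrrCharacter G)] (hM : IsPModular p M)
    [DecidableEq (Set (IrrCharacter G))] :
    ∑ B ∈ Finset.univ.image (fun χ : IrrCharacter G => blockOf M (χ : G → ℂ)), blockElem B = 1 := by
  classical
  have hcen : ∀ s : Finset (Set (IrrCharacter G)), IsCentralElt (∑ B ∈ s, blockElem B) ∧
      ∀ χ : IrrCharacter G, omega (χ : G → ℂ) (∑ B ∈ s, blockElem B) =
        ∑ B ∈ s, if χ ∈ B then 1 else 0 := by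
    intro s
    induction s using Finset.induction with
    | empty => exact ⟨by intro g h; simp, fun χ => by simp [omega, chiLin]⟩
    | insert B s hB ih =>
      refine ⟨?_, fun χ => ?_⟩
      · rw [Finset.sum_insert hB]; exact (isCentralElt_blockElem B).add ih.1
      · rw [Finset.sum_insert hB, Finset.sum_insert hB, omega_add, ih.2, omega_blockElem]
  refine eq_of_omega_eq (hcen _).1 IsCentralElt.one fun χ => ?_
  rw [(hcen _).2, omega_one χ.2, Finset.sum_eq_single (blockOf M (χ : G → ℂ))]
  · rw [if_pos (self_mem_blockOf hM χ)]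
  · intro B hB hne
    obtain ⟨ψ, -, rfl⟩ := Finset.mem_image.1 hB
    exact if_neg fun h => hne (isPBlock_eq_blockOf hM (isPBlock_blockOf M ψ) h)
  · exact fun h => absurd (Finset.mem_image_of_mem _ (Finset.mem_univ χ)) h

/-- A block with defect group `D` comes from a block of the centraliser of each element of the
centre of `D`, of at least the same defect. -/
theorem exists_block_of_centralizer (hM : IsPModular p M) {B : Set (IrrCharacter G)}
    (hB : IsPBlock M B) {D : Subgroup G} (hD : IsDefectGroup p M B D) {x : G} (hxD : x ∈ D)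
    (hxc : ∀ d ∈ D, Commute x d) :
    ∃ b : Set (IrrCharacter (Subgroup.centralizer ({x} : Set G))),
      IsInducedBlock M (Subgroup.centralizer ({x} : Set G)) b B ∧
        blockDefect p B ≤ blockDefect p b := by
  classical
  have hDcard := H35.card_defectGroup hM hB hD
  obtain ⟨g, hg, P, hDP⟩ := hD
  have hDp : IsPGroup p D := hDP ▸ H35.sylImage_isPGroup P
  obtain ⟨e, he⟩ := IsPGroup.iff_orderOf.1 hDp ⟨x, hxD⟩
  rw [Subgroup.orderOf_mk] at he
  set H := Subgroup.centralizer ({x} : Set G) with hH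
  cases nonempty_fintype G
  haveI : Fintype H := Fintype.ofFinite H
  have hDg : ∀ d ∈ D, Commute d g := fun d hd =>
    Subgroup.mem_centralizer_singleton_iff.1 ((hDP ▸ H35.sylImage_le P : D ≤ _) hd)
  have hDH : D ≤ H := fun d hd =>
    Subgroup.mem_centralizer_singleton_iff.2 (hxc d hd).eq.symm
  have hgH : g ∈ H := Subgroup.mem_centralizer_singleton_iff.2 (hDg x hxD).eq.symm
  set E := blockElem B
  have hEc : IsCentralElt (resElt H E) := isCentralElt_resElt (isCentralElt_blockElem B)
  have hEi : IsIntElt M (resElt H E) := isIntElt_resElt (isIntElt_blockElem hM hB)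
  -- some summand of `E` in `H` is a unit at `g`
  obtain ⟨b, hb, hbg⟩ : ∃ b, IsPBlock M b ∧
      ¬ MemLocalIdeal M ((resElt H E * blockElem b).coeff ⟨g, hgH⟩) := by
    by_contra hcon
    push Not at hcon
    apply hg.2.1
    have h1 : resElt H E = ∑ b ∈ Finset.univ.image (fun χ : IrrCharacter H => blockOf M (χ : H → ℂ)),
        resElt H E * blockElem b := by
      rw [← Finset.mul_sum, sum_blockElem_eq_one hM, mul_one]
    rw [← coeff_blockElem, show (blockElem B).coeff g = (resElt H E).coeff ⟨g, hgH⟩ from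
      (coeff_resElt (H := H) (blockElem B) ⟨g, hgH⟩).symm, h1, coeff_sum, Finsupp.finsetSum_apply]
    refine memLocalIdeal_sum hM _ _ fun b hb => ?_
    obtain ⟨ψ, -, rfl⟩ := Finset.mem_image.1 hb
    exact hcon _ (isPBlock_blockOf M ψ)
  have hind : IsInducedBlock M H b B := by
    by_contra hnot
    exact hbg (memLocalIdeal_resElt_mul_blockElem hM he
      (⟨x, Subgroup.mem_centralizer_singleton_iff.2 rfl⟩ : H) rfl le_rfl hb hB
      (memLocalIdeal_omega_resElt_of_not_induced hM he rfl hb hB hnot) _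
      (Subtype.ext (hDg x hxD).eq))
  refine ⟨b, hind, ?_⟩
  -- reduce the convolution to the centraliser of `D`
  set Q := D.subgroupOf H with hQ
  have hQp : IsPGroup p Q := hDp.comap_subtype
  obtain ⟨a, haQ, ha⟩ : ∃ a : H, a ∈ Subgroup.centralizer (Q : Set H) ∧
      ¬ MemLocalIdeal M (blockCoeff b (a⁻¹ * ⟨g, hgH⟩)) := by
    by_contra hcon
    push Not at hcon
    apply hbg
    rw [coeff_mul_eq_sum]
    haveI : Fintype (Subgroup.centralizer (Q : Set H)) := Fintype.ofFinite _
    have hinv : ∀ q ∈ Q, ∀ a : H, (resElt H E).coeff (q * a * q⁻¹) *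
        (blockElem b).coeff ((q * a * q⁻¹)⁻¹ * ⟨g, hgH⟩) =
        (resElt H E).coeff a * (blockElem b).coeff (a⁻¹ * ⟨g, hgH⟩) := by
      intro q hq a
      rw [show (resElt H E).coeff (q * a * q⁻¹) = (resElt H E).coeff a from hEc a q]
      congr 1
      have hq0 : Commute q (⟨g, hgH⟩ : H) := Subtype.ext (hDg (q : G) hq).eq
      have hqg : Commute q⁻¹ (⟨g, hgH⟩ : H) := hq0.inv_left
      rw [show (q * a * q⁻¹)⁻¹ * (⟨g, hgH⟩ : H) = q * (a⁻¹ * (q⁻¹ * ⟨g, hgH⟩)) by group, hqg.eq,
        ← mul_assoc a⁻¹, ← mul_assoc q]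
      exact isCentralElt_blockElem b _ q
    have h := H82.memLocalIdeal_sum_sub_sum_centralizer hM hQp
      (f := fun a : H => (resElt H E).coeff a * (blockElem b).coeff (a⁻¹ * ⟨g, hgH⟩))
      (fun a => (locRing hM).mul_mem (hEi a) (isIntElt_blockElem hM hb _)) hinv
    have h2 : MemLocalIdeal M (∑ c : Subgroup.centralizer (Q : Set H),
        (resElt H E).coeff (c : H) * (blockElem b).coeff ((c : H)⁻¹ * ⟨g, hgH⟩)) :=
      memLocalIdeal_sum hM _ _ fun c _ => memLocalIdeal_mul hM (hEi _)
        (by rw [coeff_blockElem]; exact hcon (c : H) c.2)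
    simpa using memLocalIdeal_add hM h h2
  set h := a⁻¹ * (⟨g, hgH⟩ : H) with hh
  have hQh : Q ≤ Subgroup.centralizer ({h} : Set H) := fun q hq => by
    have h1 : Commute q a := (Subgroup.mem_centralizer_iff.1 haQ q hq)
    have h2 : Commute q (⟨g, hgH⟩ : H) := Subtype.ext (hDg (q : G) hq).eq
    exact Subgroup.mem_centralizer_singleton_iff.2 (h1.inv_right.mul_right h2).eq
  obtain ⟨ξ, hξ⟩ := isPBlock_nonempty hM hb
  obtain ⟨g', hg'⟩ := exists_isDefectClass hM hb
  obtain ⟨S⟩ : Nonempty (Sylow p (Subgroup.centralizer ({h} : Set H))) := inferInstance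
  obtain ⟨S'⟩ : Nonempty (Sylow p (Subgroup.centralizer ({g'} : Set H))) := inferInstance
  obtain ⟨c, hc⟩ := H35.exists_sylImage_le hM hb hξ (hg'.2.2 ξ hξ) ha S S'
  have hcard := Subgroup.card_le_of_le hc
  rw [Subgroup.card_map_of_injective (MulAut.conj c).injective, H35.card_sylImage,
    H35.card_sylImage, ← H35.blockDefect_eq hM hb hg'] at hcard
  have hDle : p ^ blockDefect p B ≤ p ^ (Nat.card (Subgroup.centralizer ({h} : Set H))).factorization p := by
    rw [← hDcard]
    refine Nat.le_of_dvd (pow_pos (Fact.out : p.Prime).pos _) ?_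
    have hd : Nat.card D ∣ Nat.card (Subgroup.centralizer ({h} : Set H)) := by
      rw [← Nat.card_congr (Subgroup.subgroupOfEquivOfLe hDH).toEquiv]
      exact Subgroup.card_dvd_of_le hQh
    rw [hDcard] at hd ⊢
    exact Nat.pow_dvd_pow p ((Fact.out : p.Prime).pow_dvd_iff_le_factorization Nat.card_pos.ne' |>.1 hd)
  exact (Nat.pow_le_pow_iff_right (Fact.out : p.Prime).one_lt).1 (hDle.trans hcard)

end Cfsg.Agent.Cores
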