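import Cfsg.Agent.Cores.DihedralLocal
import Cfsg.Agent.CharInduce.Ops
import Cfsg.Agent.BlockBasic.Orth
import Mathlib.NumberTheory.LegendreSymbol.AddCharacter

/-!
# The principal 2-block on the cyclic part of a dihedral Sylow 2-subgroup
-/

open scoped ComplexConjugate

namespace Cfsg.Agent.Cores

open BlockBasic CharBasic H39

universe u

variable {G : Type u} [Group G]

/-- `σ ^ λ` for `λ` modulo the order of `σ`. -/
def dPow {m : ℕ} (σ : G) (a : ZMod m) : G := σ ^ a.val

theorem dPow_add {m : ℕ} [NeZero m] {σ : G} (hm : orderOf σ = m) (a b : ZMod m) :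
    dPow σ (a + b) = dPow σ a * dPow σ b := by
  unfold dPow
  rw [← pow_add, ← pow_mod_orderOf σ (a.val + b.val), hm, ← ZMod.val_add]

theorem dPow_zero {m : ℕ} (σ : G) : dPow σ (0 : ZMod m) = 1 := by
  rw [dPow, ZMod.val_zero, pow_zero]

theorem dPow_neg {m : ℕ} [NeZero m] {σ : G} (hm : orderOf σ = m) (a : ZMod m) :
    dPow σ (-a) = (dPow σ a)⁻¹ := by
  refine eq_inv_of_mul_eq_one_left ?_
  rw [← dPow_add hm, neg_add_cancel, dPow_zero]

theorem dPow_natCast {m : ℕ} {σ : G} (hm : orderOf σ = m) (k : ℕ) :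
    dPow σ (k : ZMod m) = σ ^ k := by
  rw [dPow, ZMod.val_natCast, ← hm, pow_mod_orderOf]

theorem dPow_injective {m : ℕ} [NeZero m] {σ : G} (hm : orderOf σ = m) :
    Function.Injective (dPow σ : ZMod m → G) := by
  intro a b hab
  refine ZMod.val_injective m ?_
  exact pow_injOn_Iio_orderOf (Set.mem_Iio.2 (hm ▸ ZMod.val_lt a))
    (Set.mem_Iio.2 (hm ▸ ZMod.val_lt b)) hab

/-- The multiplicity data `a_χ(1 - e_j)` of `χ` restricted to `⟨σ⟩`. -/
noncomputable def dCoef {m : ℕ} [NeZero m] (σ : G) (ψ : AddChar (ZMod m) ℂ) (χ : G → ℂ)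
    (j : ZMod m) : ℂ :=
  (m : ℂ)⁻¹ * ∑ a : ZMod m, χ (dPow σ a) * (1 - ψ (j * a))

theorem dCoef_zero {m : ℕ} [NeZero m] (σ : G) (ψ : AddChar (ZMod m) ℂ) (χ : G → ℂ) :
    dCoef σ ψ χ 0 = 0 := by
  simp [dCoef]

theorem two_dvd_degree_add [Finite G] {z : G} (hz : orderOf z = 2) (χ : IrrCharacter G) {a : ℤ}
    (ha : (χ : G → ℂ) z = a) : (2 : ℤ) ∣ (charDegree (χ : G → ℂ) : ℤ) + a := by
  classical
  haveI : Fintype (Subgroup.zpowers z) := Fintype.ofFinite _
  obtain ⟨n, hn⟩ := isIrr_sum_sylow χ (Subgroup.zpowers z)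
  have hne : (1 : Subgroup.zpowers z) ≠ ⟨z, Subgroup.mem_zpowers z⟩ := fun h => by
    have h0 : z = 1 := (congrArg Subtype.val h).symm
    rw [h0, orderOf_one] at hz; omega
  have hset : (Finset.univ : Finset (Subgroup.zpowers z)) =
      {1, ⟨z, Subgroup.mem_zpowers z⟩} := by
    refine (Finset.eq_univ_of_card _ ?_).symm
    rw [Finset.card_pair hne, ← Nat.card_eq_fintype_card, Nat.card_zpowers, hz]
  rw [hset, Finset.sum_pair hne, Nat.card_zpowers, hz, OneMemClass.coe_one, apply_one_eq_charDegree, ha] at hn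
  exact ⟨n, by exact_mod_cast hn⟩

section

variable [Finite G] {P : Sylow 2 G} {h : ℕ} [NeZero (2 * h)] {σ τ : G}
  (hD : DGen (P : Subgroup G) h σ τ) {ψ : AddChar (ZMod (2 * h)) ℂ}

omit [Finite G] in
theorem natCast_half_add (h : ℕ) : (h : ZMod (2 * h)) + h = 0 := by
  rw [← Nat.cast_add, ← two_mul, ZMod.natCast_self]

omit [Finite G] in
theorem eq_half_of_add_self {a : ZMod (2 * h)} (ha : a ≠ 0) (h2 : a + a = 0) :
    a = (h : ZMod (2 * h)) := by
  rw [← ZMod.natCast_zmod_val a, ← Nat.cast_add, ZMod.natCast_eq_zero_iff] at h2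
  obtain ⟨c, hc⟩ := h2
  have hlt := ZMod.val_lt a
  have hne : a.val ≠ 0 := fun h0 => ha ((ZMod.val_eq_zero a).1 h0)
  have hc1 : c = 1 := by
    rcases c with _ | _ | c
    · omega
    · rfl
    · nlinarith
  rw [hc1, mul_one] at hc
  rw [← ZMod.natCast_zmod_val a, show a.val = h by omega]

include hD

theorem dPow_mem_zpowers (a : ZMod (2 * h)) : dPow σ a ∈ Subgroup.zpowers σ :=
  Subgroup.pow_mem _ (Subgroup.mem_zpowers σ) _

theorem dPow_two_element (a : ZMod (2 * h)) : ∃ k, orderOf (dPow σ a) = 2 ^ k := by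
  haveI : Fact (Nat.Prime 2) := ⟨Nat.prime_two⟩
  obtain ⟨k, hk⟩ := IsPGroup.iff_orderOf.1 P.isPGroup' ⟨dPow σ a, Subgroup.pow_mem _ hD.mem_c _⟩
  exact ⟨k, (Subgroup.orderOf_coe ⟨dPow σ a, _⟩).trans hk⟩

theorem irr_dPow_neg (χ : IrrCharacter G) (a : ZMod (2 * h)) :
    (χ : G → ℂ) (dPow σ (-a)) = (χ : G → ℂ) (dPow σ a) := by
  have hconj : dPow σ (-a) = τ * dPow σ a * τ⁻¹ := by
    rw [dPow_neg hD.oc, dPow, ← conj_pow, hD.inv, inv_pow]
  rw [hconj, IsIrr.isClassFunction χ.2 _ τ]

theorem conj_irr_dPow (χ : IrrCharacter G) (a : ZMod (2 * h)) :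
    conj ((χ : G → ℂ) (dPow σ a)) = (χ : G → ℂ) (dPow σ a) := by
  rw [conj_apply_eq_inv, ← dPow_neg hD.oc, irr_dPow_neg hD]

theorem dCoef_int (χ : IrrCharacter G) (j : ZMod (2 * h)) :
    ∃ a : ℤ, dCoef σ ψ (χ : G → ℂ) j = a := by
  classical
  let f : Multiplicative (ZMod (2 * h)) →* G :=
    { toFun := fun a => dPow σ a.toAdd
      map_one' := dPow_zero σ
      map_mul' := fun a b => dPow_add hD.oc a.toAdd b.toAdd }
  have hf := CharInduce.IsChar.comp (IsIrr.isCharacter χ.2) f
  have key : ∀ k : ZMod (2 * h), ∃ n : ℕ,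
      ((2 * h : ℕ) : ℂ)⁻¹ * ∑ a : ZMod (2 * h), (χ : G → ℂ) (dPow σ a) * ψ (k * a) = n := by
    intro k
    obtain ⟨n, hn⟩ := classInner_isChar_nat hf
      (CharInduce.isCharacter_hom (ψ.mulShift (-k)).toMonoidHom.toHomUnits)
    refine ⟨n, ?_⟩
    rw [← hn, classInner_def, Nat.card_congr Multiplicative.toAdd, Nat.card_zmod]
    congr 1
    refine Fintype.sum_equiv Multiplicative.ofAdd _ _ fun a => ?_
    rw [MonoidHom.coe_toHomUnits]
    show _ = (χ : G → ℂ) (dPow σ a) * conj ((ψ.mulShift (-k)) a)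
    rw [AddChar.mulShift_apply, ← AddChar.map_neg_eq_conj]
    congr 2
    ring
  obtain ⟨n₀, h₀⟩ := key 0
  obtain ⟨n, hn⟩ := key j
  refine ⟨(n₀ : ℤ) - n, ?_⟩
  push_cast
  rw [← h₀, ← hn, dCoef, ← mul_sub, ← Finset.sum_sub_distrib]
  congr 1
  refine Finset.sum_congr rfl fun a _ => ?_
  simp [mul_sub]

theorem dCoef_neg (χ : IrrCharacter G) (j : ZMod (2 * h)) :
    dCoef σ ψ (χ : G → ℂ) (-j) = dCoef σ ψ (χ : G → ℂ) j := by
  rw [dCoef, dCoef]
  congr 1
  refine Fintype.sum_equiv (Equiv.neg _) _ _ fun a => ?_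
  simp [irr_dPow_neg hD]

variable (hψ : ψ.IsPrimitive)
include hψ

/-- The values of `χ` on `⟨σ⟩` from its coefficients. -/
theorem apply_dPow_eq (χ : IrrCharacter G) {a : ZMod (2 * h)} (ha : a ≠ 0) :
    (χ : G → ℂ) (dPow σ a) = -∑ j : ZMod (2 * h), dCoef σ ψ (χ : G → ℂ) j * ψ (j * a) := by
  have horth : ∀ b : ZMod (2 * h), ∑ j : ZMod (2 * h), ψ (j * b) =
      if b = 0 then ((2 * h : ℕ) : ℂ) else 0 := fun b => by
    rw [AddChar.sum_mulShift b hψ, ZMod.card]
    split_ifs <;> simp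
  have hm : ((2 * h : ℕ) : ℂ) ≠ 0 := Nat.cast_ne_zero.2 (NeZero.ne _)
  have hsum : ∀ b : ZMod (2 * h), ∑ j : ZMod (2 * h), (1 - ψ (j * b)) * ψ (j * a) =
      if b = -a then -((2 * h : ℕ) : ℂ) else 0 := fun b => by
    simp only [sub_mul, one_mul, ← AddChar.map_add_eq_mul, ← mul_add, Finset.sum_sub_distrib, horth,
      if_neg ha, zero_sub]
    by_cases hb : b = -a
    · rw [if_pos hb, if_pos (by rw [hb, neg_add_cancel])]
    · rw [if_neg hb, if_neg (fun h0 => hb (eq_neg_of_add_eq_zero_left h0)), neg_zero]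
  simp only [dCoef, mul_assoc, Finset.sum_mul]
  rw [← Finset.mul_sum, Finset.sum_comm]
  simp only [← Finset.mul_sum, hsum, mul_ite, mul_zero, Finset.sum_ite_eq', Finset.mem_univ, if_true]
  rw [irr_dPow_neg hD]
  field_simp

omit hψ

variable {M : Ideal AlgInt} (hM : IsPModular 2 M) (hh : 2 ≤ h)
include hM hh

/-- The column inner products of the principal block on `⟨σ⟩ ∖ 1`. -/
theorem blockKernel_dPow {a b : ZMod (2 * h)} (ha : a ≠ 0) (hb : b ≠ 0) :
    blockKernel (principalBlock M G) (dPow σ a) (dPow σ b) =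
      ((2 * h : ℕ) : ℂ) * ((if b = a then 1 else 0) + (if b = -a then 1 else 0)) := by
  classical
  haveI : Fact (Nat.Prime 2) := ⟨Nat.prime_two⟩
  set u := dPow σ a with hudef
  set v := dPow σ b with hvdef
  have hu1 : u ≠ 1 := fun e => ha (dPow_injective hD.oc (e.trans (dPow_zero σ).symm))
  have hv1 : v ≠ 1 := fun e => hb (dPow_injective hD.oc (e.trans (dPow_zero σ).symm))
  have huc := dPow_mem_zpowers hD a
  have hvc := dPow_mem_zpowers hD b
  obtain ⟨x, hxP, hlam⟩ := lambda_eq_two_part hD hM (dPow_two_element hD a) hu1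
  rw [blockKernel_principal_pElement hM (dPow_two_element hD a) (dPow_two_element hD b), hlam]
  have huu : u * u = dPow σ (a + a) := (dPow_add hD.oc a a).symm
  have hconj_out : ∀ i : ℤ, (σ ^ i * τ) * (σ ^ i * τ) = 1 := hD.out_mul_self
  by_cases h2 : a + a = 0
  · have hah : a = (h : ZMod (2 * h)) := eq_half_of_add_self ha h2
    have huz : u = σ ^ h := by rw [hudef, hah, dPow_natCast hD.oc]
    have hcard : Nat.card ((P : Subgroup G) ⊓ Subgroup.centralizer ({x * u * x⁻¹} : Set G) : Subgroup G) =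
        4 * h := by
      have huc' : (P : Subgroup G) ⊓ Subgroup.centralizer ({u} : Set G) = (P : Subgroup G) := by
        rw [huz]; exact inf_centralizer_center hD
      refine le_antisymm ?_ ?_
      · rw [← card_dihedral hD hh]
        exact Subgroup.card_le_of_le inf_le_left
      · have hf := dihedral_centralizer_two_part hD (dPow_two_element hD a)
        have hle : Nat.card (P : Subgroup G) ∣ Nat.card (Subgroup.centralizer ({u} : Set G)) :=
          Subgroup.card_dvd_of_le (huc' ▸ inf_le_right)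
        obtain ⟨k, hk⟩ := IsPGroup.iff_card.1 P.isPGroup'
        rw [← card_dihedral hD hh, hk, ← hlam,
          sum_sq_degree_principal_of_complement hM
            (dihedral_centralizer_complement hD (dPow_two_element hD a) hu1)]
        rw [hk] at hle
        exact Nat.pow_le_pow_right two_pos
          ((Nat.prime_two.pow_dvd_iff_le_factorization Nat.card_pos.ne').1 hle)
    rw [hcard]
    have hneg : -a = a := neg_eq_of_add_eq_zero_left h2
    rw [hneg]
    by_cases hba : b = a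
    · rw [if_pos (show IsConj u v by rw [hvdef, hba]), if_pos hba]
      push_cast; ring
    · rw [if_neg, if_neg hba]
      · simp
      · intro hc
        obtain ⟨g, hg⟩ := isConj_iff.1 hc
        refine hba ((eq_half_of_add_self hb (dPow_injective hD.oc ?_)).trans hah.symm)
        rw [dPow_add hD.oc, ← hg, dPow_zero,
          show g * u * g⁻¹ * (g * u * g⁻¹) = g * (u * u) * g⁻¹ by group, huu, h2, dPow_zero]
        group
  · have hu2 : u * u ≠ 1 := fun e => h2 (dPow_injective hD.oc (huu.symm.trans (e.trans (dPow_zero σ).symm)))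
    have hxc : x * u * x⁻¹ ∈ Subgroup.zpowers σ := by
      by_contra hn
      obtain ⟨i, hi⟩ := hD.out_form hxP hn
      have h0 := hconj_out i
      rw [← hi, show x * u * x⁻¹ * (x * u * x⁻¹) = x * (u * u) * x⁻¹ by group, conj_eq_one_iff] at h0
      exact hu2 h0
    have hxu2 : x * u * x⁻¹ * (x * u * x⁻¹) ≠ 1 := fun e => hu2 (by
      rwa [show x * u * x⁻¹ * (x * u * x⁻¹) = x * (u * u) * x⁻¹ by group, conj_eq_one_iff] at e)
    rw [inf_centralizer_cyclic hD hxc hxu2, Nat.card_zpowers, hD.oc]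
    have hane : ¬ (a = -a) := fun e => h2 (eq_neg_iff_add_eq_zero.1 e)
    by_cases hc : IsConj u v
    · rw [if_pos hc]
      rcases dihedral_cyclic_fusion hD huc hu2 hvc hc with e | e
      · have hba : b = a := dPow_injective hD.oc e
        rw [if_pos hba, if_neg (fun e' => hane (hba.symm.trans e'))]
        simp
      · rw [← dPow_neg hD.oc] at e
        have hba : b = -a := dPow_injective hD.oc e
        rw [if_pos hba, if_neg (fun e' => hane (e'.symm.trans hba))]
        simp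
    · rw [if_neg hc, if_neg, if_neg]
      · simp
      · rintro rfl
        refine hc (isConj_iff.2 ⟨τ, ?_⟩)
        rw [hvdef, hudef, dPow_neg hD.oc, dPow, ← conj_pow, hD.inv, inv_pow]
      · rintro rfl
        exact hc (IsConj.refl _)

include hψ in
/-- The Gram matrix of the coefficient vectors. -/
theorem gram_dCoef {i j : ZMod (2 * h)} (hi : i ≠ 0) (hj : j ≠ 0) :
    ∑ᶠ χ ∈ principalBlock M G,
        dCoef σ ψ (χ : G → ℂ) i * conj (dCoef σ ψ (χ : G → ℂ) j) =
      2 + (if i = j then 1 else 0) + (if i = -j then 1 else 0) := by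
  classical
  cases nonempty_fintype G
  have hm : ((2 * h : ℕ) : ℂ) ≠ 0 := Nat.cast_ne_zero.2 (NeZero.ne _)
  set B := principalBlock M G with hBdef
  let θ : ZMod (2 * h) → ZMod (2 * h) → ℂ := fun k a => 1 - ψ (k * a)
  have hθ0 : ∀ k, θ k 0 = 0 := fun k => by simp [θ]
  have hθc : ∀ k a, conj (θ k a) = θ k (-a) := fun k a => by
    simp only [θ, map_sub, map_one, mul_neg, ← AddChar.map_neg_eq_conj]
  calc ∑ᶠ χ ∈ B, dCoef σ ψ (χ : G → ℂ) i * conj (dCoef σ ψ (χ : G → ℂ) j)
      = ((2 * h : ℕ) : ℂ)⁻¹ * ((2 * h : ℕ) : ℂ)⁻¹ * ∑ a : ZMod (2 * h), ∑ b : ZMod (2 * h),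
          θ i a * θ j (-b) * blockKernel B (dPow σ a) (dPow σ b) := by
        simp only [blockKernel, finsum_mem_eq_sum_ite, Finset.mul_sum]
        rw [Finset.sum_congr rfl fun a _ => Finset.sum_comm, Finset.sum_comm]
        refine Finset.sum_congr rfl fun χ _ => ?_
        split_ifs
        · simp only [dCoef, map_mul, map_sum, map_inv₀, Complex.conj_natCast, Finset.mul_sum,
            Finset.sum_mul]
          rw [Finset.sum_comm]
          refine Finset.sum_congr rfl fun a _ => Finset.sum_congr rfl fun b _ => ?_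
          rw [show conj (1 - ψ (j * b)) = θ j (-b) from hθc j b]
          simp only [θ]
          ring
        · simp
    _ = ((2 * h : ℕ) : ℂ)⁻¹ * ((2 * h : ℕ) : ℂ)⁻¹ * ∑ a : ZMod (2 * h), ∑ b : ZMod (2 * h),
          ((2 * h : ℕ) : ℂ) * ((if b = a then θ i a * θ j (-b) else 0) +
            (if b = -a then θ i a * θ j (-b) else 0)) := by
        congr 1
        refine Finset.sum_congr rfl fun a _ => Finset.sum_congr rfl fun b _ => ?_
        by_cases ha : a = 0
        · simp [ha, hθ0]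
        by_cases hb : b = 0
        · simp [hb, hθ0]
        rw [blockKernel_dPow hD hM hh ha hb]
        split_ifs <;> ring
    _ = ((2 * h : ℕ) : ℂ)⁻¹ * ∑ a : ZMod (2 * h), θ i a * (θ j (-a) + θ j a) := by
        simp only [← Finset.mul_sum, Finset.sum_add_distrib, Finset.sum_ite_eq', Finset.mem_univ,
          if_true, neg_neg, mul_add]
        field_simp
    _ = _ := by
        have horth : ∀ k : ZMod (2 * h), ∑ a : ZMod (2 * h), ψ (k * a) =
            if k = 0 then ((2 * h : ℕ) : ℂ) else 0 := fun k => by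
          rw [Finset.sum_congr rfl fun a _ => congrArg ψ (mul_comm k a), AddChar.sum_mulShift k hψ, ZMod.card]
          split_ifs <;> simp
        have hexp : ∀ a, θ i a * (θ j (-a) + θ j a) =
            2 - 2 * ψ (i * a) - ψ (-j * a) - ψ (j * a) + ψ ((i - j) * a) + ψ ((i + j) * a) := fun a => by
          rw [sub_eq_add_neg i j, add_mul, add_mul, AddChar.map_add_eq_mul, AddChar.map_add_eq_mul]
          simp only [θ, neg_mul, mul_neg]
          ring
        simp only [hexp, Finset.sum_add_distrib, Finset.sum_sub_distrib, ← Finset.mul_sum, horth,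
          if_neg hi, if_neg hj, if_neg (neg_ne_zero.2 hj), Finset.sum_const, Finset.card_univ,
          ZMod.card, sub_eq_zero, add_eq_zero_iff_eq_neg, nsmul_eq_mul]
        split_ifs <;> field_simp <;> ring

omit hh in
/-- Orthogonality to the odd elements. -/
theorem sum_dCoef_mul_regular {ρ : G} (hρ : Odd (orderOf ρ)) (j : ZMod (2 * h)) :
    ∑ᶠ χ ∈ principalBlock M G, dCoef σ ψ (χ : G → ℂ) j * (χ : G → ℂ) ρ = 0 := by
  classical
  cases nonempty_fintype G
  haveI : Fact (Nat.Prime 2) := ⟨Nat.prime_two⟩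
  have hk : ∀ a : ZMod (2 * h), (1 - ψ (j * a)) * blockKernel (principalBlock M G) ρ (dPow σ a) = 0 := by
    intro a
    by_cases ha : a = 0
    · simp [ha]
    rw [blockKernel_eq_zero_of_regular_of_singular hM (isPBlock_principalBlock M)
      (fun h2 => Nat.not_even_iff_odd.2 hρ (even_iff_two_dvd.2 h2)), mul_zero]
    obtain ⟨k, hk⟩ := dPow_two_element hD a
    rw [hk]
    cases k with
    | zero =>
      exact absurd (dPow_injective hD.oc ((orderOf_eq_one_iff.1 (by rw [hk, pow_zero])).trans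
        (dPow_zero σ).symm)) ha
    | succ k => exact dvd_pow_self 2 k.succ_ne_zero
  have h0 : ((2 * h : ℕ) : ℂ)⁻¹ * ∑ a : ZMod (2 * h),
      (1 - ψ (j * a)) * blockKernel (principalBlock M G) ρ (dPow σ a) = 0 := by
    simp [hk]
  rw [← h0]
  simp only [blockKernel, finsum_mem_eq_sum_ite, Finset.mul_sum]
  rw [Finset.sum_comm]
  refine Finset.sum_congr rfl fun χ _ => ?_
  split_ifs
  · simp only [dCoef, Finset.sum_mul, Finset.mul_sum]
    exact Finset.sum_congr rfl fun a _ => by rw [conj_irr_dPow hD]; ring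
  · simp

end

end Cfsg.Agent.Cores
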