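import Cfsg.Agent.H39.DihedralSylow
import Cfsg.Agent.Cores.PrincipalSection
import Cfsg.Agent.Cores.PCore
import Cfsg.Agent.Cores.Residual
import Cfsg.Agent.BlockBasic.Kernel
import Cfsg.Agent.Fusion.PComplement
import Cfsg.Agent.Fusion.Frobenius
import Cfsg.Agent.S0939

/-!
# Centralisers of 2-elements in groups with a dihedral Sylow 2-subgroup
-/

namespace Cfsg.Agent.Cores

open Subgroup H39

universe u

variable {G : Type u} [Group G]

/-- An element of odd order normalising a four-group and fixing one of its involutions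
centralises it. -/
theorem klein_fix_centralizes [Finite G] {U : Subgroup G} (hU : IsKleinFour U) {t g : G} (ht : t ∈ U)
    (ht1 : t ≠ 1) (hg : g ∈ normalizer (U : Set G)) (hodd : Odd (orderOf g))
    (hfix : g * t * g⁻¹ = t) : g ∈ centralizer (U : Set G) := by
  refine mem_centralizer_iff.2 fun a ha => ?_
  refine (mul_inv_eq_iff_eq_mul.1 ?_).symm
  by_cases ha1 : a = 1
  · rw [ha1]; group
  by_cases hta : t = a
  · rwa [← hta]
  have hc := commute_of_klein hU ht ha
  obtain ⟨T, hT, hTm⟩ := klein_mk (orderOf_eq_two_of_mul_self (klein_mul_self hU ht) ht1)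
    (orderOf_eq_two_of_mul_self (klein_mul_self hU ha) ha1) hta hc
  have hTU : T = U := klein_eq_of_le hT hU fun v hv => by
    rcases (hTm v).mp hv with rfl | rfl | rfl | rfl
    exacts [one_mem _, ht, ha, mul_mem ht ha]
  rcases (hTm _).mp (hTU.symm ▸ (mem_normalizer_iff.mp hg a).mp ha) with e | e | e | e
  · exact absurd (conj_eq_one_iff.mp e) ha1
  · exact absurd (mul_left_cancel (mul_right_cancel (e.trans hfix.symm))).symm hta
  · exact e
  · have h2 : Commute (g ^ 2) a := by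
      refine mul_inv_eq_iff_eq_mul.1 ?_
      calc g ^ 2 * a * (g ^ 2)⁻¹ = g * (g * a * g⁻¹) * g⁻¹ := by rw [sq]; group
        _ = g * (t * a) * g⁻¹ := by rw [e]
        _ = a := by rw [← conj_mul, hfix, e, ← mul_assoc, klein_mul_self hU ht, one_mul]
    obtain ⟨j, hj⟩ := hodd
    have hm2 : (g ^ 2) ^ (j + 1) = g := by
      rw [← pow_mul, show 2 * (j + 1) = (2 * j + 1) + 1 by ring, pow_succ, ← hj, pow_orderOf_eq_one,
        one_mul]
    exact mul_inv_eq_iff_eq_mul.2 (hm2 ▸ h2.pow_left _).eq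
where
  commute_of_klein {U : Subgroup G} (hU : IsKleinFour U) {a b : G} (ha : a ∈ U) (hb : b ∈ U) :
      a * b = b * a := by
    have e : ∀ g ∈ U, g⁻¹ = g := fun g hg => inv_eq_of_mul_eq_one_right (klein_mul_self hU hg)
    calc a * b = (a * b)⁻¹ := (e _ (mul_mem ha hb)).symm
      _ = b * a := by rw [mul_inv_rev, e a ha, e b hb]

section TwoPart

variable [Finite G]

/-- `λ(H)` for a group with a normal 2-complement. -/
theorem sum_sq_degree_principal_of_complement {M : Ideal AlgInt} (hM : IsPModular 2 M)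
    (hc : HasNormalPComplement 2 G) :
    ∑ᶠ ψ ∈ principalBlock M G, charDegree (ψ : G → ℂ) ^ 2 = 2 ^ (Nat.card G).factorization 2 := by
  classical
  haveI : Fact (Nat.Prime 2) := ⟨Nat.prime_two⟩
  cases nonempty_fintype G
  obtain ⟨S⟩ : Nonempty (Sylow 2 G) := inferInstance
  have hS := exists_normal_isComplement'_sylow hc S
  have hidx : (pPrimeCore 2 G).index = 2 ^ (Nat.card G).factorization 2 := by
    rw [hS.symm.index_eq_card]; exact S.card_eq_multiplicity
  have hb := Cfsg.Agent.S0939.result 2 M hM ⟨_, hidx⟩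
  rw [← hidx]
  apply Nat.cast_injective (R := ℂ)
  rw [← sum_sq_degree_trivial_on, finsum_mem_eq_finite_toFinset_sum _ (Set.toFinite _), Nat.cast_sum]
  refine Finset.sum_congr ?_ fun χ _ => ?_
  · ext χ; simp [hb]
  · rw [Nat.cast_pow, BlockBasic.apply_one_eq_charDegree, sq]

end TwoPart

section Local

variable [Finite G] {P : Sylow 2 G} {h : ℕ} {σ τ : G} (hD : DGen (P : Subgroup G) h σ τ)
  (hh : 2 ≤ h)
include hD hh

omit hh in
/-- Centralisers of nontrivial 2-elements have normal 2-complements. -/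
theorem dihedral_centralizer_complement {u : G} (hu : ∃ k, orderOf u = 2 ^ k) (hu1 : u ≠ 1) :
    HasNormalPComplement 2 (centralizer ({u} : Set G)) := by
  haveI : Fact (Nat.Prime 2) := ⟨Nat.prime_two⟩
  obtain ⟨T⟩ : Nonempty (Sylow 2 (centralizer ({u} : Set G))) := inferInstance
  refine (Fusion.frobenius_criterion T).2 fun Q hQ g hg hgp => ?_
  obtain ⟨k, hk⟩ := hu
  set Q₀ : Subgroup G := Q.map (centralizer ({u} : Set G)).subtype with hQ₀
  have hQp : IsPGroup 2 Q₀ := (T.isPGroup'.to_le hQ).map _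
  have hup : IsPGroup 2 (zpowers u) := IsPGroup.of_card (n := k) (by rw [Nat.card_zpowers, hk])
  have hQN : Q₀ ≤ normalizer (zpowers u : Set G) := by
    rintro _ ⟨q, -, rfl⟩
    refine mem_normalizer_of_conj_mem fun x hx => ?_
    obtain ⟨i, rfl⟩ := hx
    refine ⟨i, ?_⟩
    show u ^ i = (q : G) * u ^ i * (q : G)⁻¹
    rw [eq_mul_inv_iff_mul_eq]
    exact ((show Commute (q : G) u from mem_centralizer_singleton_iff.1 q.2).zpow_right i).eq.symm
  set R := Q₀ ⊔ zpowers u with hR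
  have hRp : IsPGroup 2 R := hQp.to_sup_of_normal_right' hup hQN
  have hgN : (g : G) ∈ normalizer (R : Set G) := by
    rw [mem_normalizer_iff_map_conj, hR, Subgroup.map_sup]
    congr 1
    · refine (mem_normalizer_iff_map_conj (H := Q₀)).1 (mem_normalizer_of_conj_mem ?_)
      rintro _ ⟨q, hq, rfl⟩
      exact ⟨g * q * g⁻¹, (mem_normalizer_iff.1 hg q).1 hq, by simp⟩
    · rw [MonoidHom.map_zpowers]
      congr 1
      simp only [MulEquiv.toMonoidHom_eq_coe, MonoidHom.coe_coe, MulAut.conj_apply]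
      rw [mul_inv_eq_iff_eq_mul]
      exact mem_centralizer_singleton_iff.1 g.2
  obtain ⟨x, hx⟩ := exists_conj_le_sylow hRp P
  set R' := R.map (MulAut.conj x).toMonoidHom with hR'
  have hR'S : R' ≤ (P : Subgroup G) := by
    rintro _ ⟨r, hr, rfl⟩
    simpa using hx r hr
  set g' := x * (g : G) * x⁻¹ with hg'
  have hg'o : orderOf g' = orderOf g := by rw [hg', H39.orderOf_conj, Subgroup.orderOf_coe]
  have hg'odd : Odd (orderOf g') := Nat.coprime_two_right.1 (hg'o ▸ hgp)
  have hg'N : g' ∈ normalizer (R' : Set G) := by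
    refine mem_normalizer_of_conj_mem ?_
    rintro _ ⟨r, hr, rfl⟩
    refine ⟨(g : G) * r * (g : G)⁻¹, (mem_normalizer_iff.1 hgN r).1 hr, ?_⟩
    simp [hg', mul_assoc]
  have key : g' ∈ centralizer (R' : Set G) := by
    by_cases hK : IsKleinFour R'
    · refine klein_fix_centralizes hK (t := x * u * x⁻¹) ?_ ?_ hg'N hg'odd ?_
      · exact conj_mem_map_conj (mem_sup_right (mem_zpowers u))
      · exact fun e => hu1 (conj_eq_one_iff.1 e)
      · rw [hg', show x * (g : G) * x⁻¹ * (x * u * x⁻¹) * (x * (g : G) * x⁻¹)⁻¹ =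
            x * ((g : G) * u * (g : G)⁻¹) * x⁻¹ by group,
          mem_centralizer_singleton_iff.1 g.2, mul_inv_cancel_right]
    · exact hD.mem_centralizer hR'S hK hg'N (Nat.coprime_two_right.2 hg'odd)
  refine mem_centralizer_iff.2 fun q hq => Subtype.ext ?_
  have h1 := mem_centralizer_iff.1 key (x * (q : G) * x⁻¹)
    (conj_mem_map_conj (mem_sup_left ⟨q, hq, rfl⟩))
  rw [hg', show x * (q : G) * x⁻¹ * (x * (g : G) * x⁻¹) = x * ((q : G) * (g : G)) * x⁻¹ by group,
    show x * (g : G) * x⁻¹ * (x * (q : G) * x⁻¹) = x * ((g : G) * (q : G)) * x⁻¹ by group] at h1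
  exact mul_left_cancel (mul_right_cancel h1)

omit hh in
/-- The 2-part of `|C(u)|` is realised inside the Sylow subgroup. -/
theorem dihedral_centralizer_two_part {u : G} (hu : ∃ k, orderOf u = 2 ^ k) :
    ∃ x : G, x * u * x⁻¹ ∈ (P : Subgroup G) ∧
      2 ^ (Nat.card (centralizer ({u} : Set G))).factorization 2 =
        Nat.card ((P : Subgroup G) ⊓ centralizer ({x * u * x⁻¹} : Set G) : Subgroup G) := by
  haveI : Fact (Nat.Prime 2) := ⟨Nat.prime_two⟩
  obtain ⟨T⟩ : Nonempty (Sylow 2 (centralizer ({u} : Set G))) := inferInstance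
  obtain ⟨k, hk⟩ := hu
  have huC : u ∈ centralizer ({u} : Set G) := mem_centralizer_singleton_iff.2 rfl
  -- `u` is central in `C(u)`, so it lies in `T`
  have huT : (⟨u, huC⟩ : centralizer ({u} : Set G)) ∈ (T : Subgroup _) := by
    haveI : (zpowers (⟨u, huC⟩ : centralizer ({u} : Set G))).Normal := by
      refine ⟨fun n hn g => ?_⟩
      obtain ⟨i, rfl⟩ := hn
      have hgu : Commute g (⟨u, huC⟩ : centralizer ({u} : Set G)) :=
        Subtype.ext (mem_centralizer_singleton_iff.1 g.2)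
      rw [(hgu.zpow_right i).eq, mul_inv_cancel_right]
      exact zpow_mem (mem_zpowers _) i
    exact (IsPGroup.of_card (p := 2) (n := k)
      (by rw [Nat.card_zpowers, Subgroup.orderOf_mk, hk])).le_sylow_of_normal T (mem_zpowers _)
  set T₀ : Subgroup G := (T : Subgroup _).map (centralizer ({u} : Set G)).subtype with hT₀
  have hcard : Nat.card T₀ = 2 ^ (Nat.card (centralizer ({u} : Set G))).factorization 2 := by
    rw [hT₀, card_map_of_injective (centralizer ({u} : Set G)).subtype_injective]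
    exact T.card_eq_multiplicity
  obtain ⟨x, hx⟩ := exists_conj_le_sylow (T.isPGroup'.map _ : IsPGroup 2 T₀) P
  refine ⟨x, hx u ⟨_, huT, rfl⟩, le_antisymm ?_ ?_⟩
  · rw [← hcard, ← card_map_conj T₀ x]
    refine Subgroup.card_le_of_le (le_inf ?_ ?_)
    · rintro _ ⟨t, ht, rfl⟩
      simpa using hx t ht
    · rintro _ ⟨_, ⟨t, ht, rfl⟩, rfl⟩
      refine mem_centralizer_singleton_iff.2 ?_
      show x * (t : G) * x⁻¹ * (x * u * x⁻¹) = x * u * x⁻¹ * (x * (t : G) * x⁻¹)
      rw [show x * (t : G) * x⁻¹ * (x * u * x⁻¹) = x * ((t : G) * u) * x⁻¹ by group,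
        mem_centralizer_singleton_iff.1 t.2]
      group
  · set W := (P : Subgroup G) ⊓ centralizer ({x * u * x⁻¹} : Set G) with hW
    have hWp : IsPGroup 2 W := P.isPGroup'.to_le inf_le_left
    have hle : W.map (MulAut.conj x⁻¹).toMonoidHom ≤ centralizer ({u} : Set G) := by
      rintro _ ⟨w, hw, rfl⟩
      refine mem_centralizer_singleton_iff.2 ?_
      have h2 := mem_centralizer_singleton_iff.1 hw.2
      simp only [MulEquiv.toMonoidHom_eq_coe, MonoidHom.coe_coe, MulAut.conj_apply, inv_inv]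
      calc x⁻¹ * w * x * u = x⁻¹ * (w * (x * u * x⁻¹)) * x := by group
        _ = x⁻¹ * (x * u * x⁻¹ * w) * x := by rw [h2]
        _ = u * (x⁻¹ * w * x) := by group
    obtain ⟨j, hj⟩ := IsPGroup.iff_card.1 hWp
    rw [hj]
    refine Nat.le_of_dvd (by positivity)
      (Nat.pow_dvd_pow 2 ((Nat.prime_two.pow_dvd_iff_le_factorization Nat.card_pos.ne').1 ?_))
    rw [← hj, ← card_map_conj W x⁻¹]
    exact Subgroup.card_dvd_of_le hle

theorem card_dihedral : Nat.card (P : Subgroup G) = 4 * h := by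
  have hi : (zpowers σ).relIndex (P : Subgroup G) = 2 := by
    refine relIndex_eq_two_iff.2 ⟨τ, hD.mem_s, fun g hg => ?_⟩
    by_cases hgc : g ∈ zpowers σ
    · exact Or.inr ⟨hgc, fun hm => hD.out ((Subgroup.mul_mem_cancel_left _ hgc).1 hm)⟩
    · exact Or.inl ⟨(hD.cases g hg).resolve_left hgc, hgc⟩
  rw [← card_mul_relIndex_of_le (zpowers_le.2 hD.mem_c), hi, Nat.card_zpowers, hD.oc]
  ring
where
  card_mul_relIndex_of_le {H K : Subgroup G} (hle : H ≤ K) :
      Nat.card H * H.relIndex K = Nat.card K := by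
    have h1 := relIndex_mul_relIndex ⊥ H K bot_le hle
    rwa [relIndex_bot_left, relIndex_bot_left] at h1

omit hh in
theorem inf_centralizer_cyclic {u : G} (hu : u ∈ zpowers σ) (hu2 : u * u ≠ 1) :
    (P : Subgroup G) ⊓ centralizer ({u} : Set G) = zpowers σ := by
  refine le_antisymm ?_ (le_inf (zpowers_le.2 hD.mem_c) (zpowers_le.2 ?_))
  · rintro g ⟨hgP, hgC⟩
    by_contra hgc
    obtain ⟨i, rfl⟩ := hD.out_form hgP hgc
    obtain ⟨j, rfl⟩ := hu
    refine hu2 ?_
    have h1 : σ ^ i * τ * σ ^ j * (σ ^ i * τ)⁻¹ = σ ^ j :=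
      mul_inv_eq_iff_eq_mul.2 (mem_centralizer_singleton_iff.1 hgC)
    rw [hD.out_conj, zpow_neg] at h1
    show σ ^ j * σ ^ j = 1
    nth_rewrite 1 [← h1]
    exact inv_mul_cancel _
  · obtain ⟨j, rfl⟩ := hu
    exact mem_centralizer_singleton_iff.2 ((Commute.refl σ).zpow_right j).eq

omit hh in
theorem inf_centralizer_center :
    (P : Subgroup G) ⊓ centralizer ({σ ^ h} : Set G) = (P : Subgroup G) :=
  inf_eq_left.2 fun _ hg => mem_centralizer_singleton_iff.2 (hD.z_central hg)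

theorem card_inf_centralizer_reflection {v : G} (hv : v ∈ (P : Subgroup G)) (hvc : v ∉ zpowers σ) :
    Nat.card ((P : Subgroup G) ⊓ centralizer ({v} : Set G) : Subgroup G) = 4 := by
  obtain ⟨i, rfl⟩ := hD.out_form hv hvc
  obtain ⟨U, hU, hUS, hiU⟩ := hD.klein_exists i
  obtain ⟨j, -, hzU, hm⟩ := hD.klein_char hU hUS
  rw [← hU.card_four]
  congr 2
  refine le_antisymm ?_ (le_inf hUS fun g hg => mem_centralizer_singleton_iff.2
    (klein_fix_centralizes.commute_of_klein hU hg hiU))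
  rintro g ⟨hgP, hgC⟩
  have hcyc : ∀ k : ℤ, σ ^ k ∈ centralizer ({σ ^ i * τ} : Set G) → σ ^ k = 1 ∨ σ ^ k = σ ^ h := by
    intro k hk
    refine hD.sq_one_cases (Subgroup.zpow_mem _ (mem_zpowers σ) k) ?_
    have h1 : σ ^ i * τ * σ ^ k * (σ ^ i * τ)⁻¹ = σ ^ k :=
      mul_inv_eq_iff_eq_mul.2 (mem_centralizer_singleton_iff.1 hk).symm
    rw [hD.out_conj, zpow_neg] at h1
    nth_rewrite 1 [← h1]
    exact inv_mul_cancel _
  by_cases hgc : g ∈ zpowers σ
  · obtain ⟨k, rfl⟩ := hgc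
    rcases hcyc k hgC with e | e
    · show σ ^ k ∈ U; rw [e]; exact one_mem _
    · show σ ^ k ∈ U; rw [e]; exact hzU
  · obtain ⟨l, hl⟩ : ∃ l : ℤ, σ ^ l = g * (σ ^ i * τ) := by
      obtain ⟨a, rfl⟩ := hD.out_form hgP hgc
      refine ⟨a - i, ?_⟩
      nth_rewrite 1 [← inv_eq_of_mul_eq_one_right (hD.out_mul_self i)]
      group
    have hlC : σ ^ l ∈ centralizer ({σ ^ i * τ} : Set G) :=
      hl ▸ mul_mem hgC (mem_centralizer_singleton_iff.2 rfl)
    have hg : g = σ ^ l * (σ ^ i * τ) := by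
      rw [hl, mul_assoc, hD.out_mul_self, mul_one]
    rcases hcyc l hlC with e | e
    · rw [hg, e, one_mul]; exact hiU
    · rw [hg, e]; exact mul_mem hzU hiU

omit hh in
/-- Fusion inside the cyclic subgroup. -/
theorem dihedral_cyclic_fusion {u v : G} (hu : u ∈ zpowers σ) (hu2 : u * u ≠ 1)
    (hv : v ∈ zpowers σ) (huv : IsConj u v) : v = u ∨ v = u⁻¹ := by
  haveI : Fact (Nat.Prime 2) := ⟨Nat.prime_two⟩
  obtain ⟨a, hga⟩ := isConj_iff.1 huv
  set g := a⁻¹ with hgdef
  set Q := zpowers u with hQ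
  have hQS : Q ≤ (P : Subgroup G) := zpowers_le.2 (zpowers_le.2 hD.mem_c hu)
  have hPN : (P : Subgroup G) ≤ normalizer (Q : Set G) := by
    intro t ht
    refine mem_normalizer_of_conj_mem fun y hy => ?_
    obtain ⟨k, rfl⟩ := hy
    obtain ⟨j, rfl⟩ := hu
    by_cases htc : t ∈ zpowers σ
    · obtain ⟨l, rfl⟩ := htc
      refine ⟨k, ?_⟩
      show (σ ^ j) ^ k = σ ^ l * (σ ^ j) ^ k * (σ ^ l)⁻¹
      group
    · obtain ⟨i, rfl⟩ := hD.out_form ht htc
      refine ⟨-k, ?_⟩
      show (σ ^ j) ^ (-k) = σ ^ i * τ * (σ ^ j) ^ k * (σ ^ i * τ)⁻¹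
      rw [← zpow_mul, ← zpow_mul, hD.out_conj, mul_neg]
  have hext : ¬ 2 ∣ ((P : Subgroup G) ⊓ normalizer (Q : Set G)).relIndex (normalizer (Q : Set G)) := by
    rw [inf_eq_left.2 hPN]
    exact fun hd => P.not_dvd_index (hd.trans (relIndex_dvd_index_of_le hPN))
  have hnK : ¬ IsKleinFour Q := fun hK => hu2 (klein_mul_self hK (mem_zpowers u))
  have haN : g ∈ normalizer (Q : Set G) := by
    refine inv_mem ?_
    refine mem_normalizer_iff_map_conj.2 ?_
    rw [hQ, MonoidHom.map_zpowers]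
    simp only [MulEquiv.toMonoidHom_eq_coe, MonoidHom.coe_coe, MulAut.conj_apply]
    have ho : orderOf v = orderOf u := by rw [← hga, H39.orderOf_conj]
    rw [hga]
    exact le_antisymm (zpowers_le.2 (mem_zpowers_of_orderOf_eq hu hv ho))
      (zpowers_le.2 (mem_zpowers_of_orderOf_eq hv hu ho.symm))
  obtain ⟨s, hs, hsu⟩ := Fusion.exists_centralizer_mul (p := 2) P.isPGroup' hext
    (fun y hy hyo => hD.mem_centralizer hQS hnK hy hyo) haN
  have he := hsu u (mem_zpowers u)
  rw [hgdef, inv_inv, hga] at he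
  rw [he]
  obtain ⟨j, rfl⟩ := hu
  by_cases hsc : s ∈ zpowers σ
  · obtain ⟨l, rfl⟩ := hsc
    left
    show (σ ^ l)⁻¹ * σ ^ j * σ ^ l = σ ^ j
    group
  · obtain ⟨i, rfl⟩ := hD.out_form hs hsc
    right
    show (σ ^ i * τ)⁻¹ * σ ^ j * (σ ^ i * τ) = (σ ^ j)⁻¹
    rw [inv_eq_of_mul_eq_one_right (hD.out_mul_self i)]
    nth_rewrite 2 [← inv_eq_of_mul_eq_one_right (hD.out_mul_self i)]
    rw [hD.out_conj, zpow_neg]

variable {M : Ideal AlgInt} (hM : IsPModular 2 M)
include hM

omit hh in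
theorem lambda_eq_two_part {u : G} (hu : ∃ k, orderOf u = 2 ^ k) (hu1 : u ≠ 1) :
    ∃ x : G, x * u * x⁻¹ ∈ (P : Subgroup G) ∧
      ∑ᶠ ψ ∈ principalBlock M (centralizer ({u} : Set G)),
          charDegree (ψ : centralizer ({u} : Set G) → ℂ) ^ 2 =
        Nat.card ((P : Subgroup G) ⊓ centralizer ({x * u * x⁻¹} : Set G) : Subgroup G) := by
  obtain ⟨x, hx, hc⟩ := dihedral_centralizer_two_part hD hu
  exact ⟨x, hx, by rw [sum_sq_degree_principal_of_complement hM
    (dihedral_centralizer_complement hD hu hu1), hc]⟩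

end Local

end Cfsg.Agent.Cores
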