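import Cfsg.Agent.Cores.GlaubermanZStar
import Cfsg.Agent.Fusion.Alperin
import Cfsg.Agent.H41.Basic
import Mathlib.GroupTheory.SemidirectProduct
import Mathlib.GroupTheory.Transfer

/-!
# Automorphisms fixing a Sylow 2-subgroup pointwise (Glauberman)

An involutory automorphism `φ` fixing a Sylow `2`-subgroup `S` pointwise, which is moreover trivial
on the normalisers of the centric subgroups of `S` modulo the odd cores of their centralisers, is
trivial modulo the odd core.  The obstruction is a homomorphism into an abelian group, so that the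
group of all automorphisms fixing `S` has a commutator subgroup of odd order when `O(G) = 1`.
-/

set_option linter.unusedSectionVars false

namespace Cfsg.Agent.Cores

open Subgroup
open scoped commutatorElement

universe u

variable {G : Type u} [Group G] [Finite G]

/-- The odd core of the centraliser of `B`, as a subgroup of the group. -/
def coreC (B : Subgroup G) : Subgroup G :=
  (oddCore (centralizer (B : Set G))).map (centralizer (B : Set G)).subtype

theorem coreC_le (B : Subgroup G) : coreC B ≤ centralizer (B : Set G) := map_subtype_le _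

theorem odd_card_coreC (B : Subgroup G) : Odd (Nat.card (coreC B)) := by
  rw [coreC, Nat.card_congr (equivMapOfInjective _ _ (subtype_injective _)).toEquiv.symm]
  exact odd_card_oddCore

theorem odd_orderOf_of_mem_coreC {B : Subgroup G} {x : G} (hx : x ∈ coreC B) : Odd (orderOf x) :=
  (odd_card_coreC B).of_dvd_nat
    (by simpa [Subgroup.orderOf_coe] using orderOf_dvd_natCard (⟨x, hx⟩ : coreC B))

theorem eq_one_of_mem_coreC {B : Subgroup G} {x : G} (hx : x ∈ coreC B) (h2 : x * x = 1) : x = 1 := by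
  have h := orderOf_dvd_of_pow_eq_one (show x ^ 2 = 1 by rw [sq, h2])
  rcases (Nat.dvd_prime Nat.prime_two).1 h with h1 | h1
  · exact orderOf_eq_one_iff.1 h1
  · exact absurd (odd_orderOf_of_mem_coreC hx) (by rw [h1]; decide)

theorem le_coreC {N B : Subgroup G} (hN : N ≤ centralizer (B : Set G))
    (hn : centralizer (B : Set G) ≤ normalizer (N : Set G)) (hodd : Odd (Nat.card N)) :
    N ≤ coreC B := by
  haveI : (N.subgroupOf (centralizer (B : Set G))).Normal :=
    (normal_subgroupOf_iff_le_normalizer hN).2 hn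
  have h : N.subgroupOf (centralizer (B : Set G)) ≤ oddCore _ :=
    le_oddCore (by rwa [Nat.card_congr (subgroupOfEquivOfLe hN).toEquiv])
  intro x hx
  exact ⟨⟨x, hN hx⟩, h hx, rfl⟩

theorem conj_mem_coreC_of_mem {B : Subgroup G} {c x : G} (hc : c ∈ centralizer (B : Set G))
    (hx : x ∈ coreC B) : c * x * c⁻¹ ∈ coreC B := by
  obtain ⟨y, hy, rfl⟩ := hx
  haveI : (oddCore (centralizer (B : Set G))).Characteristic := pPrimeCore_characteristic
  exact ⟨⟨c, hc⟩ * y * ⟨c, hc⟩⁻¹, Subgroup.Normal.conj_mem inferInstance _ hy _, rfl⟩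

theorem centralizer_le_normalizer_coreC (B : Subgroup G) :
    centralizer (B : Set G) ≤ normalizer ((coreC B : Subgroup G) : Set G) := by
  intro c hc
  rw [mem_normalizer_iff]
  refine fun x => ⟨fun hx => conj_mem_coreC_of_mem hc hx, fun hx => ?_⟩
  simpa [mul_assoc] using conj_mem_coreC_of_mem (inv_mem hc) hx

theorem conj_mem_coreC {B : Subgroup G} (g : G) {x : G} (hx : x ∈ coreC B) :
    g * x * g⁻¹ ∈ coreC (B.map (MulAut.conj g).toMonoidHom) := by
  have hC : ∀ y ∈ centralizer ((B.map (MulAut.conj g).toMonoidHom : Subgroup G) : Set G),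
      g⁻¹ * y * g ∈ centralizer (B : Set G) := by
    intro y hy
    rw [mem_centralizer_iff]
    intro b hb
    have h : g * b * g⁻¹ * y = y * (g * b * g⁻¹) := mem_centralizer_iff.1 hy _ ⟨b, hb, rfl⟩
    calc b * (g⁻¹ * y * g) = g⁻¹ * (g * b * g⁻¹ * y) * g := by group
      _ = g⁻¹ * y * g * b := by rw [h]; group
  refine le_coreC (N := (coreC B).map (MulAut.conj g).toMonoidHom) ?_ ?_ ?_ ⟨x, hx, rfl⟩
  · rintro _ ⟨z, hz, rfl⟩
    rw [mem_centralizer_iff]
    rintro _ ⟨b, hb, rfl⟩
    have h : b * z = z * b := mem_centralizer_iff.1 (coreC_le B hz) b hb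
    exact ((map_mul (MulAut.conj g) b z).symm.trans (congrArg _ h)).trans (map_mul _ _ _)
  · intro y hy
    have key : ∀ w ∈ centralizer ((B.map (MulAut.conj g).toMonoidHom : Subgroup G) : Set G),
        ∀ z ∈ (coreC B).map (MulAut.conj g).toMonoidHom,
          w * z * w⁻¹ ∈ (coreC B).map (MulAut.conj g).toMonoidHom := by
      rintro w hw _ ⟨z, hz, rfl⟩
      refine ⟨_, conj_mem_coreC_of_mem (hC w hw) hz, ?_⟩
      simp only [MulEquiv.coe_toMonoidHom, MulAut.conj_apply]
      group
    rw [mem_normalizer_iff]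
    refine fun z => ⟨fun hz => key y hy z hz, fun hz => ?_⟩
    simpa [mul_assoc] using key y⁻¹ (inv_mem hy) _ hz
  · rw [Nat.card_congr (equivMapOfInjective _ _ (MulAut.conj g).injective).toEquiv.symm]
    exact odd_card_coreC B

/-- Conjugating a `2`-subgroup of `N` into a given Sylow subgroup of `N`. -/
theorem exists_conj_le_of_not_dvd_relIndex {p : ℕ} [Fact p.Prime] {N T D : Subgroup G}
    (hT : IsPGroup p T) (hidx : ¬ p ∣ T.relIndex N) (hD : IsPGroup p D) (hDN : D ≤ N) :
    ∃ n ∈ N, D.map (MulAut.conj n).toMonoidHom ≤ T ⊓ N := by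
  let P : Sylow p N := (hT.comap_subtype (K := N)).toSylow hidx
  obtain ⟨Q, hQ⟩ := (hD.comap_subtype (K := N)).exists_le_sylow
  obtain ⟨e, he⟩ := MulAction.exists_smul_eq N Q P
  refine ⟨e, e.2, ?_⟩
  rintro _ ⟨d, hd, rfl⟩
  have h : e * ⟨d, hDN hd⟩ * e⁻¹ ∈ (e • Q : Sylow p N) :=
    ⟨⟨d, hDN hd⟩, hQ (show (⟨d, hDN hd⟩ : N) ∈ D.subgroupOf N from hd), rfl⟩
  rw [he] at h
  exact ⟨h, (N.mul_mem (N.mul_mem e.2 (hDN hd)) (N.inv_mem e.2) : _)⟩

theorem not_dvd_relIndex_of_normal {p : ℕ} [Fact p.Prime] {N T C : Subgroup G}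
    (hT : IsPGroup p T) (hidx : ¬ p ∣ T.relIndex N) (hCN : C ≤ N)
    (hn : N ≤ normalizer (C : Set G)) : ¬ p ∣ T.relIndex C := by
  haveI : (C.subgroupOf N).Normal := (normal_subgroupOf_iff_le_normalizer hCN).2 hn
  have h : ¬ p ∣ (T.subgroupOf N).relIndex (C.subgroupOf N) :=
    H41.not_dvd_relIndex_sylow ((hT.comap_subtype (K := N)).toSylow hidx) (C.subgroupOf N)
  rwa [relIndex_subgroupOf hCN] at h

theorem conjMap_eq_of_mem_normalizer {A : Subgroup G} {g : G} (h : g ∈ normalizer (A : Set G)) :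
    A.map (MulAut.conj g).toMonoidHom = A :=
  mem_normalizer_iff_map_conj_eq.1 h

theorem mem_normalizer_of_conjMap_eq {A : Subgroup G} {g : G}
    (h : A.map (MulAut.conj g).toMonoidHom = A) : g ∈ normalizer (A : Set G) :=
  mem_normalizer_iff_map_conj_eq.2 h

theorem conjMap_conjMap (A : Subgroup G) (x y : G) :
    (A.map (MulAut.conj x).toMonoidHom).map (MulAut.conj y).toMonoidHom =
      A.map (MulAut.conj (y * x)).toMonoidHom := by
  rw [map_map]
  congr 1
  ext z
  simp only [MulEquiv.coe_toMonoidHom, MonoidHom.comp_apply, MulAut.conj_apply]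
  group

theorem conjMap_one (A : Subgroup G) : A.map (MulAut.conj (1 : G)).toMonoidHom = A :=
  conjMap_eq_of_mem_normalizer (one_mem _)

/-- The local triviality hypothesis. -/
def LocTriv (S : Sylow 2 G) (φ : MulAut G) : Prop :=
  ∀ Q : Subgroup G, Q ≤ (S : Subgroup G) → (S : Subgroup G) ⊓ centralizer (Q : Set G) ≤ Q →
    ¬ 2 ∣ (S : Subgroup G).relIndex (centralizer (Q : Set G)) →
    ∀ h ∈ normalizer (Q : Set G), φ h * h⁻¹ ∈ coreC Q

theorem not_dvd_relIndex_centralizer_sylow (S : Sylow 2 G) :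
    ¬ 2 ∣ (S : Subgroup G).relIndex (centralizer ((S : Subgroup G) : Set G)) := by
  haveI : Fact (Nat.Prime 2) := ⟨Nat.prime_two⟩
  refine not_dvd_relIndex_of_normal S.isPGroup'
    (N := normalizer ((S : Subgroup G) : Set G)) (fun h => S.not_dvd_index
      (h.trans (relIndex_dvd_index_of_le le_normalizer))) (centralizer_le_normalizer _) ?_
  intro n hn
  rw [mem_normalizer_iff]
  have key : ∀ m ∈ normalizer ((S : Subgroup G) : Set G), ∀ c ∈ centralizer ((S : Subgroup G) : Set G),
      m * c * m⁻¹ ∈ centralizer ((S : Subgroup G) : Set G) := by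
    intro m hm c hc
    rw [mem_centralizer_iff]
    intro s hs
    have h : m⁻¹ * s * m * c = c * (m⁻¹ * s * m) := mem_centralizer_iff.1 hc _ (by
      have h' := (mem_normalizer_iff.1 (inv_mem hm) s).1 hs
      rwa [inv_inv] at h')
    calc s * (m * c * m⁻¹) = m * (m⁻¹ * s * m * c) * m⁻¹ := by group
      _ = m * c * m⁻¹ * s := by rw [h]; group
  refine fun c => ⟨key n hn c, fun h => ?_⟩
  simpa [mul_assoc] using key n⁻¹ (inv_mem hn) _ h

section Involution

variable (S : Sylow 2 G) (φ : MulAut G)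

theorem cocycle_mul (g h : G) :
    φ (g * h) * (g * h)⁻¹ = φ g * g⁻¹ * (g * (φ h * h⁻¹) * g⁻¹) := by
  rw [map_mul]; group

theorem map_cocycle (hinv : ∀ g, φ (φ g) = g) (g : G) : φ (φ g * g⁻¹) = (φ g * g⁻¹)⁻¹ := by
  rw [map_mul, hinv, map_inv]; group

theorem cocycle_mem_centralizer (hfix : ∀ s ∈ (S : Subgroup G), φ s = s) {A : Subgroup G} {g : G}
    (hA : A ≤ (S : Subgroup G)) (hB : A.map (MulAut.conj g).toMonoidHom ≤ (S : Subgroup G)) :
    φ g * g⁻¹ ∈ centralizer ((A.map (MulAut.conj g).toMonoidHom : Subgroup G) : Set G) := by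
  rw [mem_centralizer_iff]
  rintro _ ⟨a, ha, rfl⟩
  have h : φ g * a * (φ g)⁻¹ = g * a * g⁻¹ := by
    have h1 := hfix _ (hB ⟨a, ha, rfl⟩)
    simp only [MulEquiv.coe_toMonoidHom, MulAut.conj_apply, map_mul, map_inv, hfix a (hA ha)] at h1
    exact h1
  simp only [MulEquiv.coe_toMonoidHom, MulAut.conj_apply]
  calc g * a * g⁻¹ * (φ g * g⁻¹) = φ g * a * (φ g)⁻¹ * (φ g * g⁻¹) := by rw [h]
    _ = φ g * g⁻¹ * (g * a * g⁻¹) := by group

/-- The induction statement. -/
def TrivModCore (G : Type u) [Group G] [Finite G] : Prop :=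
  ∀ (S : Sylow 2 G) (φ : MulAut G), (∀ s ∈ (S : Subgroup G), φ s = s) → (∀ g, φ (φ g) = g) →
    LocTriv S φ → ∀ g, φ g * g⁻¹ ∈ oddCore G

variable (hIH : ∀ (H : Type u) [Group H] [Finite H], Nat.card H < Nat.card G → TrivModCore H)
  (hfix : ∀ s ∈ (S : Subgroup G), φ s = s) (hinv : ∀ g, φ (φ g) = g) (hloc : LocTriv S φ)

include hIH hfix hinv hloc

theorem cocycle_centralizer {B : Subgroup G} (hB : B ≤ (S : Subgroup G))
    (hsyl : ¬ 2 ∣ (S : Subgroup G).relIndex (centralizer (B : Set G)))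
    (hne : centralizer (B : Set G) ≠ ⊤) {c : G} (hc : c ∈ centralizer (B : Set G)) :
    φ c * c⁻¹ ∈ coreC B := by
  haveI : Fact (Nat.Prime 2) := ⟨Nat.prime_two⟩
  set H := centralizer (B : Set G) with hH
  have hmem : ∀ x ∈ H, φ x ∈ H := by
    intro x hx
    rw [hH, mem_centralizer_iff] at hx ⊢
    intro b hb
    rw [← hfix b (hB hb), ← map_mul, hx b hb, map_mul]
  let ψ : MulAut H :=
    { toFun := fun x => ⟨φ x, hmem x x.2⟩
      invFun := fun x => ⟨φ x, hmem x x.2⟩
      left_inv := fun x => Subtype.ext (hinv x)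
      right_inv := fun x => Subtype.ext (hinv x)
      map_mul' := fun x y => Subtype.ext (map_mul φ (x : G) y) }
  let R : Sylow 2 H := (S.isPGroup'.comap_subtype (K := H)).toSylow hsyl
  have hR : ∀ x : H, x ∈ (R : Subgroup H) ↔ (x : G) ∈ (S : Subgroup G) := fun x => Iff.rfl
  have hlt : Nat.card H < Nat.card G := by
    refine lt_of_le_of_ne (card_le_card_group H) fun h => hne ?_
    exact eq_top_of_card_eq H h
  have hL : LocTriv R ψ := by
    intro Q hQR hQc hQs h hh
    set Q' := Q.map H.subtype ⊔ B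
    have hQ'S : Q' ≤ (S : Subgroup G) :=
      sup_le (by rintro _ ⟨q, hq, rfl⟩; exact hQR hq) hB
    have hC : centralizer (Q' : Set G) = (centralizer (Q : Set H)).map H.subtype := by
      apply le_antisymm
      · intro x hx
        have hxH : x ∈ H := centralizer_le (SetLike.coe_subset_coe.2 (le_sup_right : B ≤ Q')) hx
        refine ⟨⟨x, hxH⟩, ?_, rfl⟩
        rw [SetLike.mem_coe, mem_centralizer_iff]
        exact fun q hq => Subtype.ext (mem_centralizer_iff.1 hx _
          ((le_sup_left : Q.map H.subtype ≤ Q') ⟨q, hq, rfl⟩))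
      · rintro _ ⟨x, hx, rfl⟩
        rw [mem_centralizer_iff]
        intro y hy
        have hle : Q' ≤ centralizer ({(x : G)} : Set G) := by
          refine sup_le ?_ ?_
          · rintro _ ⟨q, hq, rfl⟩
            exact mem_centralizer_singleton_iff.2 (congrArg Subtype.val (mem_centralizer_iff.1 hx q hq))
          · intro b hb
            exact mem_centralizer_singleton_iff.2 (mem_centralizer_iff.1 x.2 b hb)
        exact mem_centralizer_singleton_iff.1 (hle hy)
    have h1 : (S : Subgroup G) ⊓ centralizer (Q' : Set G) ≤ Q' := by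
      rintro x ⟨hxS, hxC⟩
      rw [hC] at hxC
      obtain ⟨y, hy, rfl⟩ := hxC
      exact (le_sup_left : Q.map H.subtype ≤ Q') ⟨y, hQc ⟨(hR y).2 hxS, hy⟩, rfl⟩
    have h2 : ¬ 2 ∣ (S : Subgroup G).relIndex (centralizer (Q' : Set G)) := by
      rw [hC, ← relIndex_comap]
      exact hQs
    have h3 : (h : G) ∈ normalizer (Q' : Set G) := by
      have key : ∀ k : H, k ∈ normalizer (Q : Set H) → Q'.map (MulAut.conj (k : G)).toMonoidHom ≤ Q' := by
        intro k hk
        rw [Subgroup.map_sup, sup_le_iff]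
        refine ⟨?_, ?_⟩
        · rintro _ ⟨_, ⟨q, hq, rfl⟩, rfl⟩
          exact (le_sup_left : Q.map H.subtype ≤ Q') ⟨k * q * k⁻¹, (mem_normalizer_iff.1 hk q).1 hq, rfl⟩
        · rintro _ ⟨b, hb, rfl⟩
          refine (le_sup_right : B ≤ Q') ?_
          have : b * (k : G) = k * b := mem_centralizer_iff.1 k.2 b hb
          rw [MulEquiv.coe_toMonoidHom, MulAut.conj_apply, ← this, mul_inv_cancel_right]
          exact hb
      rw [mem_normalizer_iff]
      refine fun x => ⟨fun hx => key h hh ⟨x, hx, rfl⟩, fun hx => ?_⟩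
      have := key h⁻¹ (inv_mem hh) ⟨_, hx, rfl⟩
      simpa [mul_assoc] using this
    have h4 := hloc Q' hQ'S h1 h2 h h3
    refine le_coreC (N := (coreC Q').subgroupOf H) ?_ ?_ ?_ h4
    · intro x hx
      obtain ⟨y, hy, hyx⟩ : (x : G) ∈ (centralizer (Q : Set H)).map H.subtype :=
        hC ▸ coreC_le Q' hx
      rwa [← Subtype.ext hyx]
    · intro x hx
      have hxC : (x : G) ∈ centralizer (Q' : Set G) := hC ▸ ⟨x, hx, rfl⟩
      rw [mem_normalizer_iff]
      intro y
      exact (mem_normalizer_iff.1 (centralizer_le_normalizer_coreC Q' hxC) (y : G))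
    · exact (odd_card_coreC Q').of_dvd_nat (card_comap_dvd_of_injective _ H.subtype H.subtype_injective)
  exact ⟨_, hIH H hlt R ψ (fun x hx => Subtype.ext (hfix x hx)) (fun x => Subtype.ext (hinv x)) hL
    ⟨c, hc⟩, rfl⟩

theorem mem_coreC_of_inverted {B : Subgroup G} (hB : B ≤ (S : Subgroup G))
    (hsyl : ¬ 2 ∣ (S : Subgroup G).relIndex (centralizer (B : Set G)))
    (hne : centralizer (B : Set G) ≠ ⊤) {y : G} (hy : y ∈ centralizer (B : Set G))
    (hyinv : φ y = y⁻¹) (hodd : Odd (orderOf y)) : y ∈ coreC B := by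
  have h := cocycle_centralizer S φ hIH hfix hinv hloc hB hsyl hne hy
  rw [hyinv] at h
  have h2 : y * y ∈ coreC B := by simpa using inv_mem h
  obtain ⟨k, hk⟩ := hodd
  have : y = (y * y) ^ (k + 1) := by
    rw [← sq, ← pow_mul, show 2 * (k + 1) = orderOf y + 1 by omega, pow_add, pow_orderOf_eq_one,
      one_mul, pow_one]
  rw [this]
  exact pow_mem h2 _

/-- Fusion inside `S` does not see `φ`, modulo the odd cores. -/
theorem cocycle_mem_coreC (A : Subgroup G) (g : G) (hA : A ≤ (S : Subgroup G))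
    (hB : A.map (MulAut.conj g).toMonoidHom ≤ (S : Subgroup G))
    (hne : centralizer (A : Set G) ≠ ⊤) :
    φ g * g⁻¹ ∈ coreC (A.map (MulAut.conj g).toMonoidHom) := by
  haveI : Fact (Nat.Prime 2) := ⟨Nat.prime_two⟩
  induction hn : Nat.card G - Nat.card A using Nat.strong_induction_on generalizing A g with
  | _ n ih =>
  subst hn
  have hcard : ∀ (K : Subgroup G) (x : G), Nat.card (K.map (MulAut.conj x).toMonoidHom) = Nat.card K :=
    fun K x => Nat.card_congr (equivMapOfInjective _ _ (MulAut.conj x).injective).toEquiv.symm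
  rcases eq_or_lt_of_le hA with rfl | hAlt
  · -- the Sylow subgroup itself
    have hBS := eq_of_le_of_card_ge hB (hcard _ g).ge
    rw [hBS]
    exact hloc _ le_rfl inf_le_left (not_dvd_relIndex_centralizer_sylow S) g
      (mem_normalizer_of_conjMap_eq hBS)
  have hconj_ne : ∀ (K : Subgroup G) (x : G), centralizer (K : Set G) ≠ ⊤ →
      centralizer ((K.map (MulAut.conj x).toMonoidHom : Subgroup G) : Set G) ≠ ⊤ := by
    intro K x hK h
    apply hK
    rw [centralizer_eq_top_iff_subset] at h ⊢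
    intro a ha
    have hc := h ⟨a, ha, rfl⟩
    rw [SetLike.mem_coe] at hc ⊢
    simpa [mul_assoc] using Subgroup.Normal.conj_mem inferInstance _ hc x⁻¹
  -- larger subgroups
  have hbig : ∀ (D : Subgroup G) (x : G), D ≤ (S : Subgroup G) → Nat.card A < Nat.card D →
      D.map (MulAut.conj x).toMonoidHom ≤ (S : Subgroup G) → centralizer (D : Set G) ≠ ⊤ →
      φ x * x⁻¹ ∈ coreC (D.map (MulAut.conj x).toMonoidHom) := by
    intro D x hD hlt hDx hDne
    refine ih (Nat.card G - Nat.card D) ?_ D x hD hDx hDne rfl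
    have := card_le_card_group D
    omega
  obtain ⟨a, ha1, -, ha3⟩ := Fusion.exists_extremal S hA
  rw [inf_relIndex_right] at ha3
  set A₀ := A.map (MulAut.conj a).toMonoidHom with hA₀
  have hne₀ : centralizer (A₀ : Set G) ≠ ⊤ := hconj_ne A a hne
  have hC0N : normalizer (A₀ : Set G) ≤ normalizer ((centralizer (A₀ : Set G) : Subgroup G) : Set G) := by
    intro m hm
    have key : ∀ m ∈ normalizer (A₀ : Set G), ∀ c ∈ centralizer (A₀ : Set G),
        m * c * m⁻¹ ∈ centralizer (A₀ : Set G) := by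
      intro m hm c hc
      rw [mem_centralizer_iff]
      intro s hs
      have h : m⁻¹ * s * m * c = c * (m⁻¹ * s * m) := mem_centralizer_iff.1 hc _ (by
        simpa using (mem_normalizer_iff.1 (inv_mem hm) s).1 hs)
      calc s * (m * c * m⁻¹) = m * (m⁻¹ * s * m * c) * m⁻¹ := by group
        _ = m * c * m⁻¹ * s := by rw [h]; group
    rw [mem_normalizer_iff]
    refine fun c => ⟨key m hm c, fun h => ?_⟩
    simpa [mul_assoc] using key m⁻¹ (inv_mem hm) _ h
  have hsyl₀ : ¬ 2 ∣ (S : Subgroup G).relIndex (centralizer (A₀ : Set G)) :=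
    not_dvd_relIndex_of_normal S.isPGroup' ha3 (centralizer_le_normalizer _) hC0N
  -- the normaliser of `A₀`
  have hN : ∀ m ∈ normalizer (A₀ : Set G), φ m * m⁻¹ ∈ coreC A₀ := by
    intro m hm
    set R := (S : Subgroup G) ⊓ centralizer (A₀ : Set G) with hR
    by_cases hcent : R ≤ A₀
    · exact hloc A₀ ha1 hcent hsyl₀ m hm
    obtain ⟨c, hc, hcR⟩ := exists_conj_le_of_not_dvd_relIndex S.isPGroup' hsyl₀
      ((S.isPGroup'.to_le (inf_le_left : R ≤ S)).map (MulAut.conj m).toMonoidHom)
      (show R.map (MulAut.conj m).toMonoidHom ≤ centralizer (A₀ : Set G) from by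
        rintro _ ⟨r, hr, rfl⟩; exact (mem_normalizer_iff.1 (hC0N hm) r).1 hr.2)
    rw [← hR, conjMap_conjMap] at hcR
    set k := c * m with hk
    have hkk : R.map (MulAut.conj k).toMonoidHom ≤ R := hcR
    have hRk : R.map (MulAut.conj k).toMonoidHom = R := eq_of_le_of_card_ge hkk (hcard R k).ge
    have hAk : A₀.map (MulAut.conj k).toMonoidHom = A₀ :=
      conjMap_eq_of_mem_normalizer (mul_mem (centralizer_le_normalizer _ hc) hm)
    have hle : A₀ ⊔ R ≤ (S : Subgroup G) := sup_le ha1 inf_le_left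
    have hmap : (A₀ ⊔ R).map (MulAut.conj k).toMonoidHom = A₀ ⊔ R := by
      rw [Subgroup.map_sup, hAk, hRk]
    have hlt : Nat.card A < Nat.card ↥(A₀ ⊔ R) := by
      rw [← hcard A a, ← hA₀]
      refine lt_of_le_of_ne (card_le_of_le le_sup_left) fun h => hcent ?_
      exact le_sup_right.trans (eq_of_le_of_card_ge le_sup_left h.ge).ge
    have hu := hbig (A₀ ⊔ R) k hle hlt (hmap.le.trans hle)
      (fun h => hne₀ (top_le_iff.1 (h ▸ centralizer_le (SetLike.coe_subset_coe.2 le_sup_left))))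
    rw [hmap] at hu
    have huk : φ k * k⁻¹ ∈ coreC A₀ :=
      mem_coreC_of_inverted S φ hIH hfix hinv hloc ha1 hsyl₀ hne₀
        (centralizer_le (SetLike.coe_subset_coe.2 (le_sup_left : A₀ ≤ A₀ ⊔ R)) (coreC_le _ hu)) (map_cocycle φ hinv k)
        (odd_orderOf_of_mem_coreC hu)
    rw [show m = c⁻¹ * k by rw [hk]; group, cocycle_mul]
    exact mul_mem (cocycle_centralizer S φ hIH hfix hinv hloc ha1 hsyl₀ hne₀ (inv_mem hc))
      (conj_mem_coreC_of_mem (inv_mem hc) huk)
  -- everything conjugate to `A₀`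
  have hK : ∀ (A₁ : Subgroup G) (k : G), A₁ ≤ (S : Subgroup G) →
      A₁.map (MulAut.conj k).toMonoidHom = A₀ → φ k * k⁻¹ ∈ coreC A₀ := by
    intro A₁ k hA₁ hk
    have hc₁ : Nat.card A₁ = Nat.card A := by rw [← hcard A a, ← hA₀, ← hk, hcard]
    have hlt₁ : A₁ < (S : Subgroup G) := lt_of_le_of_ne hA₁ fun h => by
      have h' := hAlt.ne
      exact h' (eq_of_le_of_card_ge hA (by rw [← hc₁, h]))
    have hD := Fusion.ofSubgroupInfLt (S : Subgroup G) S.isPGroup' hlt₁
    set D := (S : Subgroup G) ⊓ normalizer (A₁ : Set G)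
    have hDk : D.map (MulAut.conj k).toMonoidHom ≤ normalizer (A₀ : Set G) := by
      rw [← hk, show (normalizer ((A₁.map (MulAut.conj k).toMonoidHom : Subgroup G) : Set G)) =
        (normalizer (A₁ : Set G)).map (MulAut.conj k).toMonoidHom from
          (map_equiv_normalizer_eq A₁ (MulAut.conj k)).symm]
      exact map_mono inf_le_right
    obtain ⟨m, hm, hmD⟩ := exists_conj_le_of_not_dvd_relIndex S.isPGroup' ha3
      ((S.isPGroup'.to_le (inf_le_left : D ≤ S)).map (MulAut.conj k).toMonoidHom) hDk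
    have hmap : D.map (MulAut.conj (m * k)).toMonoidHom ≤ (S : Subgroup G) := by
      rw [← conjMap_conjMap]
      exact hmD.trans inf_le_left
    have hne₁ : centralizer (A₁ : Set G) ≠ ⊤ := by
      intro h
      have hz : A₁ ≤ center G := by rwa [centralizer_eq_top_iff_subset] at h
      apply hne₀
      rw [centralizer_eq_top_iff_subset]
      rw [← hk]
      rintro _ ⟨x, hx, rfl⟩
      exact Subgroup.Normal.conj_mem inferInstance _ (hz hx) k
    have hu := hbig D (m * k) inf_le_left
      (hc₁ ▸ lt_of_le_of_ne (card_le_of_le hD.le) fun h => hD.ne (eq_of_le_of_card_ge hD.le h.ge))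
      hmap (fun h => hne₁ (top_le_iff.1 (h ▸ centralizer_le (SetLike.coe_subset_coe.2 hD.le))))
    have hA₀D : A₀ ≤ D.map (MulAut.conj (m * k)).toMonoidHom := by
      rw [← conjMap_eq_of_mem_normalizer hm, ← hk, conjMap_conjMap]
      exact map_mono hD.le
    have hmk : φ (m * k) * (m * k)⁻¹ ∈ coreC A₀ :=
      mem_coreC_of_inverted S φ hIH hfix hinv hloc ha1 hsyl₀ hne₀
        (centralizer_le (SetLike.coe_subset_coe.2 hA₀D) (coreC_le _ hu)) (map_cocycle φ hinv _) (odd_orderOf_of_mem_coreC hu)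
    rw [cocycle_mul, Subgroup.mul_mem_cancel_left _ (hN m hm)] at hmk
    have h5 := conj_mem_coreC m⁻¹ hmk
    rw [conjMap_eq_of_mem_normalizer (inv_mem hm)] at h5
    simpa [mul_assoc] using h5
  -- conclusion
  set b := a * g⁻¹ with hb
  have hbA : (A.map (MulAut.conj g).toMonoidHom).map (MulAut.conj b).toMonoidHom = A₀ := by
    rw [conjMap_conjMap, hb, inv_mul_cancel_right]
  have h6 := hK A a hA rfl
  have h7 := hK _ b hB hbA
  rw [show a = b * g by rw [hb]; group, cocycle_mul, Subgroup.mul_mem_cancel_left _ h7] at h6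
  have h8 := conj_mem_coreC b⁻¹ h6
  rw [← hbA, conjMap_conjMap, inv_mul_cancel, conjMap_one] at h8
  rwa [show b⁻¹ * (b * (φ g * g⁻¹) * b⁻¹) * b⁻¹⁻¹ = φ g * g⁻¹ by group] at h8

theorem cocycle_eq_one {g : G} (hu : φ g * g⁻¹ ∈ (S : Subgroup G)) : φ g = g := by
  haveI : Fact (Nat.Prime 2) := ⟨Nat.prime_two⟩
  set v := φ g * g⁻¹ with hv
  have hv2 : v * v = 1 := by
    have h := hfix v hu
    rw [hv, map_cocycle φ hinv, ← hv, inv_eq_iff_mul_eq_one] at h
    exact h
  suffices v = 1 from mul_inv_eq_one.1 this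
  let FX : Subgroup G :=
    { carrier := {x | φ x = x}
      one_mem' := map_one φ
      mul_mem' := fun {x y} hx hy => by
        show φ (x * y) = x * y
        rw [map_mul, show φ x = x from hx, show φ y = y from hy]
      inv_mem' := fun {x} hx => by
        show φ x⁻¹ = x⁻¹
        rw [map_inv, show φ x = x from hx] }
  have hSFX : (S : Subgroup G) ≤ FX := hfix
  set B := (S : Subgroup G) ⊓ centralizer ({v} : Set G) with hB
  have hA1 : B.map (MulAut.conj g⁻¹).toMonoidHom ≤ FX := by
    rintro _ ⟨b, hb, rfl⟩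
    show φ _ = _
    simp only [MulEquiv.coe_toMonoidHom, map_inv, MulAut.conj_inv_apply, map_mul, hfix b hb.1]
    have h1 : φ g = v * g := by rw [hv]; group
    have h2 : b * v = v * b := mem_centralizer_singleton_iff.1 hb.2
    rw [h1]
    calc (v * g)⁻¹ * b * (v * g) = g⁻¹ * v⁻¹ * (b * v) * g := by group
      _ = g⁻¹ * b * g := by rw [h2]; group
  obtain ⟨c, hc, hcA⟩ := exists_conj_le_of_not_dvd_relIndex S.isPGroup' (N := FX)
    (fun h => S.not_dvd_index (h.trans (relIndex_dvd_index_of_le hSFX)))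
    ((S.isPGroup'.to_le (inf_le_left : B ≤ S)).map (MulAut.conj g⁻¹).toMonoidHom) hA1
  set A := (B.map (MulAut.conj g⁻¹).toMonoidHom).map (MulAut.conj c).toMonoidHom with hA
  have hAB : A.map (MulAut.conj (g * c⁻¹)).toMonoidHom = B := by
    rw [hA, conjMap_conjMap, conjMap_conjMap, show g * c⁻¹ * c * g⁻¹ = 1 by group, conjMap_one]
  have hv' : φ (g * c⁻¹) * (g * c⁻¹)⁻¹ = v := by
    rw [map_mul, map_inv, show φ c = c from hc, hv]; group
  by_cases hne : centralizer (A : Set G) = ⊤
  · -- `S` is central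
    have hBz : B ≤ center G := by
      rw [centralizer_eq_top_iff_subset] at hne
      rw [← hAB]
      rintro _ ⟨x, hx, rfl⟩
      exact Subgroup.Normal.conj_mem inferInstance _ (hne hx) _
    have hvz : v ∈ center G := hBz ⟨hu, mem_centralizer_singleton_iff.2 rfl⟩
    have hSz : (S : Subgroup G) ≤ center G := fun s hs =>
      hBz ⟨hs, mem_centralizer_singleton_iff.2 (mem_center_iff.1 hvz s)⟩
    refine eq_one_of_mem_coreC (B := (S : Subgroup G)) ?_ hv2
    refine hloc _ le_rfl inf_le_left (not_dvd_relIndex_centralizer_sylow S) g ?_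
    rw [mem_normalizer_iff]
    intro x
    refine ⟨fun hx => ?_, fun hx => ?_⟩
    · rwa [mem_center_iff.1 (hSz hx) g, mul_inv_cancel_right]
    · have h := mem_center_iff.1 (hSz hx) g
      rw [inv_mul_cancel_right] at h
      rwa [mul_left_cancel h] at hx
  · refine eq_one_of_mem_coreC (B := A.map (MulAut.conj (g * c⁻¹)).toMonoidHom) ?_ hv2
    rw [← hv']
    exact cocycle_mem_coreC S φ hIH hfix hinv hloc A _ (hcA.trans inf_le_left)
      (hAB.le.trans inf_le_left) hne

end Involution

/-- An involutory automorphism fixing a Sylow `2`-subgroup and locally trivial is trivial modulo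
the odd core. -/
theorem trivModCore (G : Type u) [Group G] [Finite G] : TrivModCore G := by
  induction hn : Nat.card G using Nat.strong_induction_on generalizing G with
  | _ n ih =>
  subst hn
  have hIH : ∀ (H : Type u) [Group H] [Finite H], Nat.card H < Nat.card G → TrivModCore H :=
    fun H _ _ h => ih _ h H rfl
  intro S φ hfix hinv hloc g
  haveI : Fact (Nat.Prime 2) := ⟨Nat.prime_two⟩
  by_cases hφ : φ = 1
  · simp [hφ]
  let X := G ⋊[(Subgroup.zpowers φ).subtype] Subgroup.zpowers φ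
  haveI : Finite X := Finite.of_equiv _ SemidirectProduct.equivProd.symm
  let t : X := SemidirectProduct.inr ⟨φ, Subgroup.mem_zpowers φ⟩
  have hφ2 : orderOf φ = 2 := orderOf_eq_prime (MulEquiv.ext fun x => by
    rw [sq]; exact hinv x) hφ
  have ht : orderOf t = 2 := by
    rw [orderOf_injective _ SemidirectProduct.inr_injective, ← hφ2, ← Subgroup.orderOf_coe]
  have hconj : ∀ a : G, t * SemidirectProduct.inl a * t⁻¹ = SemidirectProduct.inl (φ a) := fun a => by
    rw [← map_inv, ← SemidirectProduct.inl_aut]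
    rfl
  have hiso : Cfsg.IsIsolatedInvolution t := by
    refine ⟨ht, fun x hx => ?_⟩
    have hx' : x * t * x⁻¹ = SemidirectProduct.inl (x.left * φ x.left⁻¹) * t := by
      have hcomm : SemidirectProduct.inr x.right * t = t * SemidirectProduct.inr x.right := by
        show SemidirectProduct.inr _ * SemidirectProduct.inr _ =
          SemidirectProduct.inr _ * SemidirectProduct.inr _
        rw [← map_mul, ← map_mul]
        congr 1
        obtain ⟨i, hi⟩ := Subgroup.mem_zpowers_iff.1 x.right.2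
        apply Subtype.ext
        show (x.right : MulAut G) * φ = φ * x.right
        rw [← hi]
        exact (Commute.zpow_self φ i).eq
      conv_lhs => rw [← SemidirectProduct.inl_left_mul_inr_right x]
      rw [map_mul, ← hconj, map_inv]
      simp only [mul_inv_rev, mul_assoc]
      rw [← mul_assoc (SemidirectProduct.inr x.right) t, hcomm]
      simp only [mul_assoc, mul_inv_cancel_left, inv_mul_cancel, mul_one]
    set w := x.left * φ x.left⁻¹ with hw
    rw [hx'] at hx ⊢
    have hφw : φ w = w := by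
      have h1 : t * SemidirectProduct.inl w * t⁻¹ = SemidirectProduct.inl w := by
        have h2 : t * (SemidirectProduct.inl w * t) = SemidirectProduct.inl w * t * t := hx
        rw [← mul_assoc] at h2
        rw [mul_inv_eq_iff_eq_mul]
        exact mul_right_cancel h2
      rw [hconj] at h1
      exact SemidirectProduct.inl_injective h1
    have hwi : φ w = w⁻¹ := by rw [hw, map_mul, hinv, map_inv]; group
    have hw2 : w ^ 2 = 1 := by rw [sq, ← inv_eq_iff_mul_eq_one, ← hwi, hφw]
    suffices w = 1 by rw [this, map_one, one_mul]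
    let FX : Subgroup G :=
      { carrier := {x | φ x = x}
        one_mem' := map_one φ
        mul_mem' := fun {x y} hx hy => by
          show φ (x * y) = x * y
          rw [map_mul, show φ x = x from hx, show φ y = y from hy]
        inv_mem' := fun {x} hx => by
          show φ x⁻¹ = x⁻¹
          rw [map_inv, show φ x = x from hx] }
    obtain ⟨c, hc, hcw⟩ := exists_conj_le_of_not_dvd_relIndex S.isPGroup' (N := FX)
      (fun h => S.not_dvd_index (h.trans (relIndex_dvd_index_of_le (show (S : Subgroup G) ≤ FX from hfix))))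
      (D := Subgroup.zpowers w)
      (fun y => by
        obtain ⟨i, hi⟩ := Subgroup.mem_zpowers_iff.1 y.2
        refine ⟨1, Subtype.ext ?_⟩
        rw [pow_one, Subgroup.coe_pow, ← hi, ← zpow_natCast, ← zpow_mul, mul_comm, zpow_mul,
          zpow_natCast, hw2, one_zpow]
        rfl)
      (Subgroup.zpowers_le.2 hφw)
    have hmem : c * w * c⁻¹ ∈ (S : Subgroup G) :=
      (hcw ⟨w, Subgroup.mem_zpowers w, rfl⟩).1
    have hcφ : φ c = c := hc
    have hcoc : φ (c * x.left) * (c * x.left)⁻¹ = c * w * c⁻¹ := by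
      calc φ (c * x.left) * (c * x.left)⁻¹ = c * (φ x.left * x.left⁻¹) * c⁻¹ := by
            rw [map_mul, hcφ]; group
        _ = c * w⁻¹ * c⁻¹ := by rw [hw, map_inv]; group
        _ = _ := by rw [← hwi, hφw]
    have h1 := cocycle_eq_one S φ hIH hfix hinv hloc (g := c * x.left) (hcoc ▸ hmem)
    rw [h1, mul_inv_cancel] at hcoc
    exact conj_eq_one_iff.1 hcoc.symm
  have hz := zStarProp (uniqueInvolutionCase quaternionCase) X t hiso (SemidirectProduct.inl g)
  rw [hconj, ← map_inv, ← map_mul] at hz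
  haveI : (oddCore X).Characteristic := pPrimeCore_characteristic
  exact le_oddCore (N := (oddCore X).comap SemidirectProduct.inl)
    (odd_card_oddCore.of_dvd_nat
      (card_comap_dvd_of_injective _ _ SemidirectProduct.inl_injective)) hz

/-! ### The group of automorphisms fixing `S` -/

section Group

variable (S : Sylow 2 G)

/-- The centraliser of a centric subgroup is central by odd. -/
theorem commutator_centralizer_mem_coreC {Q : Subgroup G}
    (hcent : (S : Subgroup G) ⊓ centralizer (Q : Set G) ≤ Q)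
    (hsyl : ¬ 2 ∣ (S : Subgroup G).relIndex (centralizer (Q : Set G))) :
    ∃ f : centralizer (Q : Set G) →* centralizer (Q : Set G),
      (∀ x, (f x : G) ∈ (S : Subgroup G)) ∧ (∀ x y, f x * f y = f y * f x) ∧
      (∀ x, f x = 1 → (x : G) ∈ coreC Q) ∧
      ∀ y : centralizer (Q : Set G), ∃ a o : centralizer (Q : Set G),
        (a : G) ∈ (S : Subgroup G) ∧ (o : G) ∈ coreC Q ∧ y = a * o := by
  haveI : Fact (Nat.Prime 2) := ⟨Nat.prime_two⟩
  set C := centralizer (Q : Set G)
  let T : Sylow 2 C := (S.isPGroup'.comap_subtype (K := C)).toSylow hsyl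
  have hcen : ∀ s ∈ (T : Subgroup C), ∀ x : C, x * s = s * x := fun s hs x =>
    Subtype.ext ((mem_centralizer_iff.1 x.2 (s : G) (hcent ⟨hs, s.2⟩)).symm)
  have hP : normalizer ((T : Subgroup C) : Set C) ≤ centralizer ((T : Subgroup C) : Set C) :=
    fun x _ => mem_centralizer_iff.2 fun s hs => (hcen s hs x).symm
  have hcompl := MonoidHom.ker_transferSylow_isComplement' T hP
  have hodd : Odd (Nat.card (MonoidHom.transferSylow T hP).ker) := by
    rw [Nat.odd_iff, ← Nat.two_dvd_ne_zero, ← hcompl.index_eq_card]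
    exact T.not_dvd_index
  refine ⟨(T : Subgroup C).subtype.comp (MonoidHom.transferSylow T hP),
    fun x => (MonoidHom.transferSylow T hP x).2, fun x y => hcen _ (MonoidHom.transferSylow T hP y).2 _,
    fun x hx => ?_, fun y => ?_⟩
  · have hk : x ∈ (MonoidHom.transferSylow T hP).ker :=
      (T : Subgroup C).subtype_injective (by simpa using hx)
    exact ⟨x, le_oddCore hodd hk, rfl⟩
  · obtain ⟨⟨⟨a, ha⟩, ⟨o, ho⟩⟩, h⟩ := hcompl.symm.2 y
    exact ⟨a, o, ha, ⟨o, le_oddCore hodd ho, rfl⟩, h.symm⟩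

/-- A commutator of automorphisms fixing `S` is locally trivial. -/
theorem locTriv_of_mem_commutator {C : Subgroup (MulAut G)}
    (hC : ∀ φ ∈ C, ∀ s ∈ (S : Subgroup G), φ s = s) {φ : MulAut G} (hφ : φ ∈ ⁅C, C⁆) :
    LocTriv S φ := by
  intro Q hQS hcent hsyl h hh
  set D := centralizer (Q : Set G)
  obtain ⟨f, hfS, hfcomm, hfker, hfdec⟩ := commutator_centralizer_mem_coreC S hcent hsyl
  have hmemD : ∀ ψ ∈ C, ψ h * h⁻¹ ∈ D := by
    intro ψ hψ
    have hmap := conjMap_eq_of_mem_normalizer hh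
    have h1 := cocycle_mem_centralizer S ψ (hC ψ hψ) hQS (g := h) (hmap.le.trans hQS)
    rwa [hmap] at h1
  have hstab : ∀ ψ ∈ C, ∀ y : D, ψ (y : G) ∈ D := by
    intro ψ hψ y
    refine mem_centralizer_iff.2 fun q hq => ?_
    rw [← hC ψ hψ q (hQS hq), ← map_mul, mem_centralizer_iff.1 y.2 q hq, map_mul]
  have hf1 : ∀ (ψ : MulAut G) (hψ : ψ ∈ C) (y : D), f ⟨ψ y, hstab ψ hψ y⟩ = f y := by
    intro ψ hψ y
    haveI : (oddCore D).Characteristic := pPrimeCore_characteristic
    let ψD : D →* D := MonoidHom.mk' (fun z => ⟨ψ z, hstab ψ hψ z⟩)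
      fun a b => Subtype.ext (map_mul ψ (a : G) b)
    obtain ⟨a, o, ha, ho, rfl⟩ := hfdec y
    have hker : ∀ z : D, (z : G) ∈ coreC Q → f z = 1 := by
      intro z hz
      haveI : Fact (Nat.Prime 2) := ⟨Nat.prime_two⟩
      apply Subtype.ext
      have h1 : orderOf (f z : G) ∣ orderOf (z : G) := by
        rw [Subgroup.orderOf_coe, Subgroup.orderOf_coe]; exact orderOf_map_dvd f z
      obtain ⟨k, hk⟩ := IsPGroup.iff_orderOf.1 S.isPGroup' ⟨_, hfS z⟩
      rw [Subgroup.orderOf_mk] at hk
      have h2 := (odd_orderOf_of_mem_coreC hz).of_dvd_nat h1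
      rw [hk] at h2
      rcases k with _ | k
      · exact orderOf_eq_one_iff.1 (by simpa using hk)
      · exact absurd h2 (by simp [pow_succ])
    have ho' : f ⟨ψ o, hstab ψ hψ o⟩ = 1 := by
      refine hker _ (le_coreC (N := (coreC Q).map ψ.toMonoidHom) ?_ ?_ ?_ ⟨_, ho, rfl⟩)
      · rintro _ ⟨z, hz, rfl⟩
        exact hstab ψ hψ ⟨z, coreC_le Q hz⟩
      · intro z hz
        have hzi : ψ⁻¹ z ∈ D := hstab _ (inv_mem hψ) ⟨z, hz⟩
        have hzz : ψ (ψ⁻¹ z) = z := MulAut.apply_inv_self G ψ z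
        rw [mem_normalizer_iff_map_conj_eq, map_map]
        conv_rhs => rw [← mem_normalizer_iff_map_conj_eq.1 (centralizer_le_normalizer_coreC Q hzi),
          map_map]
        congr 1
        ext w
        show z * ψ w * z⁻¹ = ψ (ψ⁻¹ z * w * (ψ⁻¹ z)⁻¹)
        rw [map_mul, map_mul, map_inv, hzz]
      · rw [Nat.card_congr (equivMapOfInjective _ _ ψ.injective).toEquiv.symm]
        exact odd_card_coreC Q
    have ha' : ψD a = a := Subtype.ext (hC ψ hψ _ ha)
    show f (ψD (a * o)) = f (a * o)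
    rw [map_mul, map_mul, map_mul, ha', hker o ho]
    exact congrArg _ ho'
  -- the homomorphism
  let ν : C →* D := MonoidHom.mk' (fun ψ => f ⟨(ψ : MulAut G) h * h⁻¹, hmemD ψ ψ.2⟩) fun ψ χ => by
    rw [← hf1 ψ ψ.2 ⟨(χ : MulAut G) h * h⁻¹, hmemD χ χ.2⟩, ← map_mul f]
    have hcomm := hfcomm ⟨(ψ : MulAut G) h * h⁻¹, hmemD ψ ψ.2⟩
      ⟨(ψ : MulAut G) ((χ : MulAut G) h * h⁻¹), hstab ψ ψ.2 ⟨_, hmemD χ χ.2⟩⟩
    rw [← map_mul f, ← map_mul f] at hcomm
    rw [hcomm]
    congr 1
    apply Subtype.ext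
    show (ψ : MulAut G) ((χ : MulAut G) h) * h⁻¹ = _
    simp only [Subgroup.coe_mul, map_mul, map_inv]
    group
  have hνcomm : ∀ a b : C, ν a * ν b = ν b * ν a := fun a b => hfcomm _ _
  have hle : ⁅C, C⁆ ≤ ν.ker.map C.subtype := by
    rw [Subgroup.commutator_le]
    intro a ha b hb
    refine ⟨⁅(⟨a, ha⟩ : C), ⟨b, hb⟩⁆, ?_, map_commutatorElement C.subtype _ _⟩
    rw [SetLike.mem_coe, MonoidHom.mem_ker, map_commutatorElement, commutatorElement_eq_one_iff_mul_comm]
    exact hνcomm _ _
  obtain ⟨ψ, hψ, rfl⟩ := hle hφ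
  exact hfker _ hψ

/-- **Glauberman**: if `O(G) = 1`, the derived group of the automorphisms fixing `S` has odd
order. -/
theorem odd_card_commutator_fixing (hO : oddCore G = ⊥) {C : Subgroup (MulAut G)}
    (hC : ∀ φ ∈ C, ∀ s ∈ (S : Subgroup G), φ s = s) : Odd (Nat.card ↥⁅C, C⁆) := by
  haveI : Fact (Nat.Prime 2) := ⟨Nat.prime_two⟩
  rw [← Nat.not_even_iff_odd, even_iff_two_dvd]
  intro h2
  obtain ⟨φ, hφ⟩ := exists_prime_orderOf_dvd_card' 2 h2
  rw [← Subgroup.orderOf_coe] at hφ
  have hle : ⁅C, C⁆ ≤ C := Subgroup.commutator_le.2 fun a ha b hb =>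
    C.mul_mem (C.mul_mem (C.mul_mem ha hb) (C.inv_mem ha)) (C.inv_mem hb)
  have hfix := hC _ (hle φ.2)
  have hinv : ∀ g, (φ : MulAut G) ((φ : MulAut G) g) = g := fun g => by
    rw [← MulAut.mul_apply, ← sq, ← hφ, pow_orderOf_eq_one]; rfl
  have h1 : (φ : MulAut G) = 1 := MulEquiv.ext fun g => mul_inv_eq_one.1 <| by
    have h := trivModCore G S _ hfix hinv (locTriv_of_mem_commutator S hC φ.2) g
    rwa [hO, Subgroup.mem_bot] at h
  rw [h1, orderOf_one] at hφ
  exact absurd hφ (by norm_num)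

end Group

end Cfsg.Agent.Cores
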