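import Cfsg.Agent.Cores.PrincipalLambda
import Cfsg.Agent.Cores.PSolvable
import Cfsg.Agent.Cores.Constrained
import Cfsg.Agent.Cores.UpperSeries
import Cfsg.Agent.Cores.Residual
import Cfsg.Agent.Fusion.Tate
import Cfsg.Agent.Fusion.Complements
import Cfsg.Agent.H83.ClassConst
import Cfsg.Agent.H72.PLengthOne
import Cfsg.Agent.S4487
import Cfsg.Agent.Cores.FixingSylow
import Cfsg.Agent.Components.PComponent

/-!
# The theorem of Isaacs and Smith on groups of `p`-length one

A group has `p`-length one iff every character of its principal `p`-block stays irreducible on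
restriction to the normalizer of a Sylow `p`-subgroup.
-/

set_option linter.unusedSectionVars false
set_option linter.style.haveILetI false

open scoped ComplexConjugate

namespace Cfsg.Agent.Cores

open Subgroup CharBasic BlockBasic
open scoped Pointwise commutatorElement

universe u

variable {G : Type u} [Group G] [Fintype G]

theorem le_normalizer_conj {D : Subgroup G} {g : G} (hg : g ∈ normalizer (D : Set G)) {d : G}
    (hd : d ∈ D) : g * d * g⁻¹ ∈ D := (mem_normalizer_iff.1 hg d).1 hd

/-- For a character with irreducible restriction to `N`, the sum over a coset `hD` of a normal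
subgroup `D` of `N` is constant on `N ∩ ⟨D^G⟩`. -/
theorem sum_translate {N D : Subgroup G} [Fintype D] (hDN : D ≤ N)
    (hn : N ≤ normalizer (D : Set G)) {χ : G → ℂ} (hχ : Cfsg.IsCharacter G χ)
    (hr : Cfsg.IsIrrCharacter N fun n : N => χ n) {h : G} (hh : h ∈ N)
    (hcl : h ∈ normalClosure (D : Set G)) : ∑ d : D, χ (h * d) = ∑ d : D, χ d := by
  classical
  haveI := Fintype.ofFinite N
  obtain ⟨k, ρ, hρ, hρe⟩ := id hr
  haveI : (D.subgroupOf N).Normal :=
    ⟨fun n hn' g => mem_subgroupOf.2 (le_normalizer_conj (hn g.2) (mem_subgroupOf.1 hn'))⟩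
  set c : N → ℂ := fun n => if n ∈ D.subgroupOf N then 1 else 0 with hc
  have hcl' : Cfsg.IsClassFunction N c := fun g x => by
    have : x * g * x⁻¹ ∈ D.subgroupOf N ↔ g ∈ D.subgroupOf N := ⟨fun h => by
      simpa [mul_assoc] using Subgroup.Normal.conj_mem inferInstance _ h x⁻¹,
      fun h => Subgroup.Normal.conj_mem inferInstance g h x⟩
    simp only [hc, this]
  set z := (∑ g : N, c g * ρ.character g) / ρ.character 1 with hz
  have hT : repSum c ρ = z • LinearMap.id := H83.repSum_scalar hcl' ρ
  have hsum : ∀ F : N → ℂ, ∑ g : N, c g * F g = ∑ d : D, F ⟨d, hDN d.2⟩ := by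
    intro F
    simp only [hc, ite_mul, one_mul, zero_mul, ← Finset.sum_filter]
    exact Finset.sum_nbij' (fun g => if hg : (g : G) ∈ D then ⟨g, hg⟩ else 1)
      (fun d => ⟨d, hDN d.2⟩) (by simp) (by simp [mem_subgroupOf])
      (by intro g hg; simp [mem_subgroupOf] at hg; simp [hg])
      (by intro d _; simp) (by intro g hg; simp [mem_subgroupOf] at hg; simp [hg])
  have key : ∀ g : N, ∑ d : D, χ ((g : G) * d) = z * χ g := by
    intro g
    have h1 : LinearMap.trace ℂ _ (ρ g * repSum c ρ) = ∑ x : N, c x * ρ.character (g * x) := by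
      simp [repSum, Finset.mul_sum, map_sum, Representation.character]
    rw [hT, hsum] at h1
    have h2 : LinearMap.trace ℂ _ (ρ g * (z • LinearMap.id)) = z * ρ.character g := by
      rw [show ρ g * (z • LinearMap.id) = z • ρ g from LinearMap.ext fun v => by simp]
      simp [Representation.character]
    rw [h2, hρe] at h1
    exact h1.symm
  rcases eq_or_ne z 0 with h0 | h0
  · have h1 := key ⟨h, hh⟩
    have h2 := key 1
    rw [h0, zero_mul] at h1 h2
    simp only [Subgroup.coe_one, one_mul] at h2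
    rw [h1, h2]
  · have hker : ∀ d ∈ D, χ d = χ 1 := by
      intro d hd
      have hne : ∑ l ∈ Finset.univ.filter (· ∈ D.subgroupOf N), ρ.character l ≠ 0 := by
        intro h'
        apply h0
        rw [hz]
        simp only [hc, ite_mul, one_mul, zero_mul, ← Finset.sum_filter]
        rw [h', zero_div]
      have := H82.eq_one_of_sum_ne_zero (D.subgroupOf N) ⟨k, ρ, hρ, rfl⟩ hne
        (l := ⟨d, hDN hd⟩) (mem_subgroupOf.2 hd)
      rw [hρe] at this
      simpa using this
    obtain ⟨K, hK, hKmem, -⟩ := IsChar.exists_kernel hχ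
    have hhK : h ∈ K := (normalClosure_le_normal fun d hd => (hKmem d).2 (hker d hd) :
      normalClosure (D : Set G) ≤ K) hcl
    exact Finset.sum_congr rfl fun d _ => IsChar.eq_one_mul hχ ((hKmem h).1 hhK) d

/-- The same for a class function whose constituents restrict irreducibly to `N`. -/
theorem sum_translate_classFunction {N D : Subgroup G} [Fintype D] (hDN : D ≤ N)
    (hn : N ≤ normalizer (D : Set G)) {f : G → ℂ} (hf : Cfsg.IsClassFunction G f)
    (hr : ∀ χ : Cfsg.IrrCharacter G, Cfsg.classInner f (χ : G → ℂ) ≠ 0 →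
      Cfsg.IsIrrCharacter N fun n : N => (χ : G → ℂ) n) {h : G} (hh : h ∈ N)
    (hcl : h ∈ normalClosure (D : Set G)) : ∑ d : D, f (h * d) = ∑ d : D, f d := by
  classical
  rw [classFunction_expansion hf]
  simp only [Finset.sum_apply, Pi.smul_apply, smul_eq_mul]
  rw [Finset.sum_comm]
  conv_rhs => rw [Finset.sum_comm]
  refine Finset.sum_congr rfl fun χ _ => ?_
  rw [← Finset.mul_sum, ← Finset.mul_sum]
  rcases eq_or_ne (Cfsg.classInner f (χ : G → ℂ)) 0 with h0 | h0
  · rw [h0, zero_mul, zero_mul]
  · rw [sum_translate hDN hn (IsIrr.isCharacter χ.2) (hr χ h0) hh hcl]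

variable {p : ℕ} {M : Ideal Cfsg.AlgInt} [Fact p.Prime]

/-- Every principal block character restricts irreducibly to `N`. -/
def PrincipalIrred (M : Ideal Cfsg.AlgInt) (N : Subgroup G) : Prop :=
  ∀ χ ∈ Cfsg.principalBlock M G, Cfsg.IsIrrCharacter N fun n : N => (χ : G → ℂ) n

/-- A `p`-subgroup `D` normal in `N`: only one element of a coset `hD` is `p`-regular. -/
theorem regular_coset_unique (hM : Cfsg.IsPModular p M) {N D : Subgroup G} (hDN : D ≤ N)
    (hn : N ≤ normalizer (D : Set G)) (hD : IsPGroup p D) (hirr : PrincipalIrred M N) {h : G}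
    (hh : h ∈ N) (hcl : h ∈ normalClosure (D : Set G)) :
    ∃! d : D, ¬ p ∣ orderOf (h * d) := by
  classical
  haveI := Fintype.ofFinite D
  set f : G → ℂ := fun g => if ¬ p ∣ orderOf g then 1 else 0 with hf
  have hcf : Cfsg.IsClassFunction G f := fun g x => by
    simp only [hf, ← MulAut.conj_apply, MulEquiv.orderOf_eq]
  have hspan : ∀ χ : Cfsg.IrrCharacter G, Cfsg.classInner f (χ : G → ℂ) ≠ 0 →
      χ ∈ Cfsg.principalBlock M G := by
    intro χ h0
    by_contra hn
    refine h0 ?_
    have h' := sum_regular_eq_zero hM (isPBlock_principalBlock M) (χ := trivialIrr)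
      (sameBlock_refl hM _) hn
    rw [classInner_def]
    simp only [hf, ite_mul, one_mul, zero_mul, ← Finset.sum_filter]
    simp only [trivialIrr, one_mul] at h'
    rw [h', mul_zero]
  have hsum := sum_translate_classFunction hDN hn hcf (fun χ h0 => hirr χ (hspan χ h0)) hh hcl
  simp only [hf, Finset.sum_boole, Nat.cast_inj] at hsum
  have h1 : (Finset.univ.filter fun d : D => ¬ p ∣ orderOf (d : G)) = {1} := by
    ext d
    simp only [Finset.mem_filter, Finset.mem_univ, true_and, Finset.mem_singleton]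
    constructor
    · intro hd
      obtain ⟨k, hk⟩ := IsPGroup.iff_orderOf.1 hD d
      rw [Subgroup.orderOf_coe, hk] at hd
      rcases k with _ | k
      · exact orderOf_eq_one_iff.1 (by simpa using hk)
      · exact absurd (dvd_pow_self p k.succ_ne_zero) hd
    · rintro rfl
      simpa using (Fact.out : p.Prime).not_dvd_one
  rw [h1, Finset.card_singleton, Finset.card_eq_one] at hsum
  obtain ⟨d, hd⟩ := hsum
  refine ⟨d, ?_, fun d' hd' => ?_⟩
  · have := hd.ge (Finset.mem_singleton_self d)
    simpa using this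
  · exact Finset.mem_singleton.1 (hd.le (Finset.mem_filter.2 ⟨Finset.mem_univ _, hd'⟩))

variable (P : Sylow p G)

theorem sylow_le_closure : (P : Subgroup G) ≤ normalClosure ((P : Subgroup G) : Set G) :=
  le_normalClosure

/-- `p'`-elements of `N ∩ ⟨P^G⟩` centralize `P`. -/
theorem mem_centralizer_of_principalIrred (hM : Cfsg.IsPModular p M)
    (hirr : PrincipalIrred M (normalizer ((P : Subgroup G) : Set G))) {h : G}
    (hh : h ∈ normalizer ((P : Subgroup G) : Set G))
    (hcl : h ∈ normalClosure ((P : Subgroup G) : Set G)) (hp : (orderOf h).Coprime p) :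
    h ∈ centralizer ((P : Subgroup G) : Set G) := by
  obtain ⟨d, -, huniq⟩ := regular_coset_unique hM le_normalizer le_rfl P.isPGroup' hirr hh hcl
  rw [mem_centralizer_iff]
  intro v hv
  have hpd : ¬ p ∣ orderOf h := (Fact.out : p.Prime).coprime_iff_not_dvd.1 hp.symm
  have he : h⁻¹ * (v * h * v⁻¹) ∈ (P : Subgroup G) := by
    rw [show h⁻¹ * (v * h * v⁻¹) = h⁻¹ * v * h⁻¹⁻¹ * v⁻¹ by group]
    exact mul_mem (le_normalizer_conj (inv_mem hh) hv) (inv_mem hv)
  have e1 := huniq 1 (by simpa using hpd)
  have e2 := huniq ⟨_, he⟩ (by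
    show ¬ p ∣ orderOf (h * (h⁻¹ * (v * h * v⁻¹)))
    rw [mul_inv_cancel_left, ← MulAut.conj_apply, MulEquiv.orderOf_eq]
    exact hpd)
  have e3 : h⁻¹ * (v * h * v⁻¹) = 1 := congrArg Subtype.val (e2.trans e1.symm)
  rw [inv_mul_eq_one] at e3
  calc v * h = v * h * v⁻¹ * v := by group
    _ = h * v := by rw [← e3]

theorem normalizer_le_normalizer_commutator :
    normalizer ((P : Subgroup G) : Set G) ≤
      normalizer ((⁅(P : Subgroup G), (P : Subgroup G)⁆ : Subgroup G) : Set G) := fun g hg => by
  apply mem_normalizer_of_conjMap_eq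
  rw [Subgroup.map_commutator, Components.map_conj_eq_of_mem_normalizer hg]

/-- `P ∩ ⟨P'^G⟩ = P'`. -/
theorem inf_closure_commutator_le (hM : Cfsg.IsPModular p M)
    (hirr : PrincipalIrred M (normalizer ((P : Subgroup G) : Set G))) :
    normalClosure ((⁅(P : Subgroup G), (P : Subgroup G)⁆ : Subgroup G) : Set G) ⊓ (P : Subgroup G) ≤
      ⁅(P : Subgroup G), (P : Subgroup G)⁆ := by
  rintro x ⟨hx1, hx2⟩
  have hDP : ⁅(P : Subgroup G), (P : Subgroup G)⁆ ≤ (P : Subgroup G) := commutator_le_self _
  obtain ⟨d, hd, -⟩ := regular_coset_unique hM (hDP.trans le_normalizer)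
    (normalizer_le_normalizer_commutator P) (P.isPGroup'.to_le hDP) hirr (le_normalizer hx2) hx1
  obtain ⟨k, hk⟩ := IsPGroup.iff_orderOf.1 P.isPGroup' ⟨x * d, mul_mem hx2 (hDP d.2)⟩
  rw [Subgroup.orderOf_mk] at hk
  rw [hk] at hd
  rcases k with _ | k
  · have h : x * d = 1 := orderOf_eq_one_iff.1 (by simpa using hk)
    rw [eq_inv_of_mul_eq_one_left h]
    exact inv_mem d.2
  · exact absurd (dvd_pow_self p k.succ_ne_zero) hd

/-- A form of Tate's theorem. -/
theorem hasNormalPComplement_of_inf_le_commutator (W : Subgroup G) [W.Normal]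
    (h : W ⊓ (P : Subgroup G) ≤ ⁅(P : Subgroup G), (P : Subgroup G)⁆) :
    Cfsg.HasNormalPComplement p W := by
  let X := W ⊔ (P : Subgroup G)
  let PX : Sylow p X := P.subtype le_sup_right
  have hres : Cfsg.pResidual p X ≤ W.subgroupOf X := by
    obtain ⟨a, ha⟩ := IsPGroup.iff_card.1 P.isPGroup'
    have h1 : (W.subgroupOf X).index ∣ p ^ a := by
      show W.relIndex (W ⊔ (P : Subgroup G)) ∣ p ^ a
      rw [sup_comm, relIndex_sup_right, ← ha]
      exact relIndex_dvd_card _ _
    obtain ⟨b, -, hb⟩ := (Nat.dvd_prime_pow (Fact.out : p.Prime)).1 h1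
    exact pResidual_le_of_index_eq_pow _ hb
  have hT : (Cfsg.pResidual p X).subgroupOf (PX : Subgroup X) =
      Cfsg.pResidual p (PX : Subgroup X) := by
    refine Fusion.tate PX.not_dvd_index fun L hLn hLi x hx => ?_
    haveI := hLn
    have h1 : ((x : X) : G) ∈ ⁅(P : Subgroup G), (P : Subgroup G)⁆ :=
      h ⟨hres (mem_subgroupOf.1 hx), mem_subgroupOf.1 x.2⟩
    have e : commutator (PX : Subgroup X) ≤ L := by
      haveI : IsMulCommutative ((PX : Subgroup X) ⧸ L) := by
        haveI : IsCyclic ((PX : Subgroup X) ⧸ L) :=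
          isCyclic_of_prime_card (p := p) (by rw [← index_eq_card, hLi])
        infer_instance
      exact Normal.quotient_commutative_iff_commutator_le.mp inferInstance
    apply e
    have h2 : (⁅(P : Subgroup G), (P : Subgroup G)⁆ : Subgroup G) =
        (commutator (PX : Subgroup X)).map (X.subtype.comp (PX : Subgroup X).subtype) := by
      rw [commutator_def, Subgroup.map_commutator, ← MonoidHom.range_eq_map,
        MonoidHom.range_eq_map, ← Subgroup.map_map, ← MonoidHom.range_eq_map,
        Subgroup.range_subtype, Sylow.coe_subtype, Components.map_subgroupOf le_sup_right]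
    rw [h2] at h1
    obtain ⟨y, hy, hyx⟩ := h1
    obtain rfl : y = x := Subtype.ext (Subtype.ext hyx)
    exact hy
  have hX : Cfsg.HasNormalPComplement p X := by
    rw [Fusion.hasNormalPComplement_iff_inf_eq_bot PX, eq_bot_iff]
    rintro x ⟨hx1, hx2⟩
    have : (⟨x, hx1⟩ : (PX : Subgroup X)) ∈ (Cfsg.pResidual p X).subgroupOf (PX : Subgroup X) := hx2
    rw [hT, pResidual_eq_bot_iff.2 PX.isPGroup'] at this
    exact mem_bot.2 (congrArg Subtype.val (mem_bot.1 this))
  exact (hasNormalPComplement_congr (subgroupOfEquivOfLe (le_sup_left : W ≤ X))).1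
    (hasNormalPComplement_subgroup hX (W.subgroupOf X))

/-- An element normalizing the image of a Sylow subgroup lifts to its normalizer. -/
theorem exists_lift_normalizer {X Y : Type*} [Group X] [Finite X] [Group Y] {f : X →* Y}
    (hf : Function.Surjective f) (Q : Sylow p X) {y : Y}
    (hy : y ∈ normalizer (((Q : Subgroup X).map f : Subgroup Y) : Set Y)) :
    ∃ n ∈ normalizer ((Q : Subgroup X) : Set X), f n = y := by
  obtain ⟨x, rfl⟩ := hf y
  have hT : ((x • Q : Sylow p X) : Subgroup X) ≤ ((Q : Subgroup X).map f).comap f := by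
    rintro _ ⟨q, hq, rfl⟩
    show f (x * q * x⁻¹) ∈ (Q : Subgroup X).map f
    rw [map_mul, map_mul, map_inv]
    exact (mem_normalizer_iff.1 hy _).1 ⟨q, hq, rfl⟩
  obtain ⟨w, hw⟩ := MulAction.exists_smul_eq (((Q : Subgroup X).map f).comap f)
    ((x • Q).subtype hT) (Q.subtype (le_comap_map _ _))
  have hfix : ((w : X) * x) • Q = Q := by
    have e := congrArg (fun S : Sylow p (((Q : Subgroup X).map f).comap f) =>
      (S : Subgroup _).map (((Q : Subgroup X).map f).comap f).subtype) hw
    rw [Sylow.coe_subtype, Components.map_subgroupOf (le_comap_map _ _)] at e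
    apply Sylow.ext
    refine Eq.trans ?_ e
    ext z
    constructor
    · rintro ⟨q, hq, rfl⟩
      have hqx : x * q * x⁻¹ ∈ ((x • Q : Sylow p X) : Subgroup X) := ⟨q, hq, rfl⟩
      refine ⟨w * ⟨_, hT hqx⟩ * w⁻¹, ⟨⟨_, hT hqx⟩, hqx, rfl⟩, ?_⟩
      show (w : X) * (x * q * x⁻¹) * (w : X)⁻¹ = (w : X) * x * q * ((w : X) * x)⁻¹
      group
    · rintro ⟨_, ⟨u, ⟨q, hq, hqu⟩, rfl⟩, rfl⟩
      refine ⟨q, hq, ?_⟩
      have hqu' : x * q * x⁻¹ = (u : X) := hqu
      show (w : X) * x * q * ((w : X) * x)⁻¹ = (w : X) * u * (w : X)⁻¹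
      rw [← hqu']
      group
  have hwx : (w : X) * x ∈ normalizer ((Q : Subgroup X) : Set X) :=
    Sylow.smul_eq_iff_mem_normalizer.1 hfix
  obtain ⟨q, hq, hqw⟩ : f (w : X) ∈ (Q : Subgroup X).map f := w.2
  refine ⟨q⁻¹ * ((w : X) * x), mul_mem (inv_mem (le_normalizer hq)) hwx, ?_⟩
  rw [map_mul, map_mul, map_inv, hqw, inv_mul_cancel_left]

/-- `G` is `p`-solvable. -/
theorem isPSolvable_of_principalIrred (hM : Cfsg.IsPModular p M)
    (hirr : PrincipalIrred M (normalizer ((P : Subgroup G) : Set G))) :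
    Cfsg.IsPSolvable p G := by
  let D := ⁅(P : Subgroup G), (P : Subgroup G)⁆
  let W := normalClosure (D : Set G)
  let H := normalClosure ((P : Subgroup G) : Set G)
  have hWH : W ≤ H := normalClosure_le_normal ((commutator_le_self _).trans le_normalClosure)
  have hW : Cfsg.HasNormalPComplement p W :=
    hasNormalPComplement_of_inf_le_commutator P W (inf_closure_commutator_le P hM hirr)
  have hsol : ∀ (X : Type u) [Group X] [Finite X], Cfsg.HasNormalPComplement p X →
      Cfsg.IsPSolvable p X := fun X _ _ hX =>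
    isPSolvable_of_normal_of_quotient (Cfsg.pResidual p X)
      (isPSolvable_of_coprime (hasNormalPComplement_iff_coprime.1 hX))
      (isPSolvable_of_isPGroup isPGroup_quotient_pResidual)
  refine isPSolvable_of_normal_of_quotient H ?_ (isPSolvable_of_coprime ?_)
  · let PH : Sylow p H := P.subtype le_normalClosure
    let f := QuotientGroup.mk' (W.subgroupOf H)
    have hf : Function.Surjective f := QuotientGroup.mk'_surjective _
    let Q : Sylow p (H ⧸ W.subgroupOf H) := PH.mapSurjective hf
    haveI : IsMulCommutative (Q : Subgroup (H ⧸ W.subgroupOf H)) := by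
      refine ⟨⟨fun a b => Subtype.ext ?_⟩⟩
      obtain ⟨a₀, ha, hae⟩ := a.2
      obtain ⟨b₀, hb, hbe⟩ := b.2
      show (a : H ⧸ W.subgroupOf H) * b = b * a
      rw [← hae, ← hbe, ← map_mul, ← map_mul]
      refine (QuotientGroup.eq.2 ?_)
      show ((a₀ * b₀)⁻¹ * (b₀ * a₀) : H).1 ∈ W
      refine le_normalClosure ?_
      have h1 : ⁅(b₀ : G)⁻¹, (a₀ : G)⁻¹⁆ ∈ D :=
        commutator_mem_commutator (inv_mem (mem_subgroupOf.1 hb)) (inv_mem (mem_subgroupOf.1 ha))
      rw [commutatorElement_def, inv_inv, inv_inv] at h1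
      simpa [mul_assoc] using h1
    refine isPSolvable_of_normal_of_quotient (W.subgroupOf H) ?_ (hsol _
      (Fusion.hasNormalPComplement_of_abelian Q fun y hy hyp => ?_))
    · exact (isPSolvable_congr (subgroupOfEquivOfLe hWH)).2 (hsol W hW)
    · obtain ⟨n, hn, rfl⟩ := exists_lift_normalizer hf PH
        (by rwa [← Sylow.coe_mapSurjective hf PH])
      obtain ⟨a, b, hab, ha, hb, ⟨k, hak⟩, hbp⟩ := Fusion.exists_mul_eq_pPart (p := p) n
      have hfa : f a = 1 := by
        refine orderOf_eq_one_iff.1 (Nat.eq_one_of_dvd_coprimes (hyp.pow_right k) ?_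
          ((orderOf_map_dvd f a).trans hak))
        obtain ⟨i, rfl⟩ := mem_zpowers_iff.1 ha
        rw [map_zpow]
        exact orderOf_dvd_of_mem_zpowers (mem_zpowers_iff.2 ⟨i, rfl⟩)
      rw [hab, map_mul, hfa, one_mul]
      have hbN := zpowers_le.2 hn hb
      have hcent : (b : G) ∈ centralizer ((P : Subgroup G) : Set G) := by
        refine mem_centralizer_of_principalIrred P hM hirr ?_ b.2
          (by rwa [Subgroup.orderOf_coe])
        apply mem_normalizer_of_conjMap_eq
        have e := congrArg (Subgroup.map H.subtype) (Components.map_conj_eq_of_mem_normalizer hbN)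
        rw [Subgroup.map_map, show H.subtype.comp (MulAut.conj b).toMonoidHom =
          (MulAut.conj (b : G)).toMonoidHom.comp H.subtype from rfl, ← Subgroup.map_map,
          Sylow.coe_subtype, Components.map_subgroupOf le_normalClosure] at e
        exact e
      rw [mem_centralizer_iff]
      rintro _ ⟨v, hv, rfl⟩
      rw [← map_mul, ← map_mul]
      exact congrArg f (Subtype.ext (mem_centralizer_iff.1 hcent v (mem_subgroupOf.1 hv)))
  · rw [← index_eq_card]
    exact ((Fact.out : p.Prime).coprime_iff_not_dvd.2 fun hd =>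
      P.not_dvd_index (hd.trans (index_dvd_of_le le_normalClosure))).symm

/-- With `O_{p'}(G) = 1` the Sylow subgroup is normal. -/
theorem normal_of_principalIrred (hM : Cfsg.IsPModular p M)
    (hO : Cfsg.pPrimeCore p G = ⊥)
    (hirr : PrincipalIrred M (normalizer ((P : Subgroup G) : Set G))) :
    (P : Subgroup G).Normal := by
  classical
  haveI := Fintype.ofFinite (P : Subgroup G)
  have hs := isPSolvable_of_principalIrred P hM hirr
  have hall : ∀ χ : Cfsg.IrrCharacter G, χ ∈ Cfsg.principalBlock M G := fun χ =>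
    S4487.result p M hM hO (centralizer_pCore_le hs hO) trivialIrr χ
  let H := normalClosure ((P : Subgroup G) : Set G)
  suffices hle : H ≤ (P : Subgroup G) by
    rw [show (P : Subgroup G) = H from le_antisymm le_normalClosure hle]
    exact normalClosure_normal
  intro h hh
  let π := Cfsg.indFun (P : Subgroup G) (fun _ => (1 : ℂ))
  have hπ : Cfsg.IsClassFunction G π := CharInduce.isClassFunction_indFun _ _
  have hkey : π h = π 1 := by
    rw [classFunction_expansion hπ]
    simp only [Finset.sum_apply, Pi.smul_apply, smul_eq_mul]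
    refine Finset.sum_congr rfl fun χ _ => ?_
    rcases eq_or_ne (Cfsg.classInner π (χ : G → ℂ)) 0 with h0 | h0
    · rw [h0, zero_mul, zero_mul]
    congr 1
    rw [CharInduce.classInner_indFun_left _ _ _ (IsIrr.isClassFunction χ.2), classInner_def] at h0
    have hne : ∑ v : (P : Subgroup G), (χ : G → ℂ) v ≠ 0 := fun h' => by
      apply h0
      simp only [one_mul, ← map_sum, h', map_zero, mul_zero]
    have hker : ∀ v ∈ (P : Subgroup G), (χ : G → ℂ) v = (χ : G → ℂ) 1 := by
      let N := normalizer ((P : Subgroup G) : Set G)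
      haveI := Fintype.ofFinite N
      haveI : ((P : Subgroup G).subgroupOf N).Normal :=
        (normal_subgroupOf_iff_le_normalizer le_normalizer).2 le_rfl
      intro v hv
      have := H82.eq_one_of_sum_ne_zero ((P : Subgroup G).subgroupOf N) (hirr χ (hall χ))
        (fun h' => hne ?_) (l := ⟨v, le_normalizer hv⟩) (mem_subgroupOf.2 hv)
      · simpa using this
      · rw [← h']
        exact Finset.sum_nbij' (fun d => ⟨d, le_normalizer d.2⟩)
          (fun g => if hg : (g : G) ∈ (P : Subgroup G) then ⟨g, hg⟩ else 1)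
          (by simp [mem_subgroupOf]) (by simp) (by intro d _; simp)
          (by intro g hg; simp [mem_subgroupOf] at hg; simp [hg]) (by intro d _; rfl)
    obtain ⟨K, hK, hKmem, -⟩ := IsChar.exists_kernel (IsIrr.isCharacter χ.2)
    exact (hKmem h).1 ((normalClosure_le_normal fun v hv => (hKmem v).2 (hker v hv)) hh)
  simp only [π, Cfsg.indFun] at hkey
  have hne : ((Nat.card (P : Subgroup G) : ℂ))⁻¹ ≠ 0 := by
    simpa using Nat.card_pos.ne'
  have hsum := mul_left_cancel₀ hne hkey
  have hE : ∀ y : G, Cfsg.extendByZero (P : Subgroup G) (fun _ => (1 : ℂ)) y =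
      if y ∈ (P : Subgroup G) then 1 else 0 := by
    intro y
    rw [Cfsg.extendByZero]
    split_ifs with hy
    · exact Subtype.val_injective.extend_apply _ _ ⟨y, hy⟩
    · exact Function.extend_apply' _ _ _ fun ⟨z, hz⟩ => hy (hz ▸ z.2)
  simp only [hE, mul_one, inv_mul_cancel, one_mem, if_true, Finset.sum_boole, Finset.sum_const,
    Finset.card_univ, nsmul_eq_mul, Nat.cast_inj] at hsum
  have hall' : ∀ x : G, x⁻¹ * h * x ∈ (P : Subgroup G) := by
    intro x
    have := Finset.eq_univ_of_card _ (hsum.trans (by simp))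
    have hx := Finset.mem_univ x
    rw [← this] at hx
    simpa using hx
  simpa using hall' 1

/-- The converse half of the theorem of Isaacs and Smith. -/
theorem pLengthLE_one_of_principalIrred (hM : Cfsg.IsPModular p M)
    (hirr : PrincipalIrred M (normalizer ((P : Subgroup G) : Set G))) :
    Cfsg.PLengthLE p 1 G := by
  let K := Cfsg.pPrimeCore p G
  haveI : K.Normal := inferInstance
  have hK : ¬ p ∣ Nat.card K := not_dvd_card_pPrimeCore
  let q := QuotientGroup.mk' K
  have hq : Function.Surjective q := QuotientGroup.mk'_surjective K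
  haveI : Fintype (G ⧸ K) := Fintype.ofFinite _
  let Q : Sylow p (G ⧸ K) := P.mapSurjective hq
  have hirr' : PrincipalIrred M (normalizer ((Q : Subgroup (G ⧸ K)) : Set (G ⧸ K))) := by
    intro ψ hψ
    have h1 := hirr _ ((inflIrr_mem_principalBlock_iff hM K hK ψ).2 hψ)
    let N := normalizer ((P : Subgroup G) : Set G)
    have hmem : ∀ n : N, q n ∈ normalizer ((Q : Subgroup (G ⧸ K)) : Set (G ⧸ K)) := fun n => by
      rw [Sylow.coe_mapSurjective]
      exact le_normalizer_map q ⟨n, n.2, rfl⟩
    let g : N →* normalizer ((Q : Subgroup (G ⧸ K)) : Set (G ⧸ K)) :=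
      (q.comp N.subtype).codRestrict _ hmem
    have hg : Function.Surjective g := fun y => by
      obtain ⟨n, hn, hny⟩ := exists_lift_normalizer hq P
        (by rw [← Sylow.coe_mapSurjective hq P]; exact y.2)
      exact ⟨⟨n, hn⟩, Subtype.ext hny⟩
    obtain ⟨φ, -, hφ, hφi⟩ := CharInduce.IsChar.exists_deflate (IsIrr.isCharacter h1) g.ker
      fun n hn => by
        have e : q n = 1 := congrArg Subtype.val hn
        show (ψ : G ⧸ K → ℂ) (q n) = (ψ : G ⧸ K → ℂ) (q (1 : G))
        rw [e, map_one]
    let e := QuotientGroup.quotientKerEquivOfSurjective g hg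
    have : (fun y : normalizer ((Q : Subgroup (G ⧸ K)) : Set (G ⧸ K)) => (ψ : G ⧸ K → ℂ) y) =
        fun y => φ (e.symm y) := by
      funext y
      obtain ⟨n, rfl⟩ := hg y
      rw [show e.symm (g n) = (n : N ⧸ g.ker) from e.symm_apply_eq.2 rfl, ← hφ]
      rfl
    rw [this]
    exact CharInduce.IsIrr.comp (hφi h1) e.symm.toMonoidHom e.symm.surjective
  have hn := normal_of_principalIrred Q hM (pPrimeCore_quotient_pPrimeCore) hirr'
  rw [pLengthLE_one_iff]
  have hle : (P : Subgroup G) ≤ Cfsg.pPrimePCore p G := by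
    have h1 : (Q : Subgroup (G ⧸ K)) ≤ Cfsg.pCore p (G ⧸ K) := le_pCore Q.isPGroup'
    rw [Sylow.coe_mapSurjective, Subgroup.map_le_iff_le_comap] at h1
    exact h1
  rw [← index_eq_card]
  exact ((Fact.out : p.Prime).coprime_iff_not_dvd.2 fun hd =>
    P.not_dvd_index (hd.trans (index_dvd_of_le hle))).symm

/-- The direct half of the theorem of Isaacs and Smith. -/
theorem principalIrred_of_pLengthLE_one (hM : Cfsg.IsPModular p M) (h : Cfsg.PLengthLE p 1 G) :
    PrincipalIrred M (normalizer ((P : Subgroup G) : Set G)) := by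
  intro χ hχ
  let K := Cfsg.pPrimeCore p G
  obtain ⟨φ, -, hφ, hφi⟩ := CharInduce.IsChar.exists_deflate (IsIrr.isCharacter χ.2) K
    fun n hn => H82.apply_eq_of_mem_principalBlock hM hχ K not_dvd_card_pPrimeCore hn
  let N := normalizer ((P : Subgroup G) : Set G)
  let g : N →* G ⧸ K := (QuotientGroup.mk' K).comp N.subtype
  have hg : Function.Surjective g := fun y => by
    obtain ⟨x, rfl⟩ := QuotientGroup.mk'_surjective K y
    obtain ⟨n, hn, k, hk, rfl⟩ := H72.PLengthOne.exists_mul h P x
    refine ⟨⟨n, hn⟩, ?_⟩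
    show QuotientGroup.mk' K n = QuotientGroup.mk' K (n * k)
    rw [map_mul, show QuotientGroup.mk' K k = 1 from (QuotientGroup.eq_one_iff k).2 hk, mul_one]
  rw [show (fun n : N => (χ : G → ℂ) n) = fun n => φ (g n) from funext fun n => hφ n]
  exact CharInduce.IsIrr.comp (hφi χ.2) g hg

end Cfsg.Agent.Cores
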