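import Cfsg.Agent.Cores.NoAbelianEight
import Cfsg.Agent.Cores.Constrained
import Cfsg.Agent.Cores.PCore
import Cfsg.Agent.Coprime.Abelian
import Cfsg.Agent.Hall.CardForms
import Cfsg.Agent.PGroups.Extraspecial

/-!
Solvable groups minimal with a non-cyclic abelian subgroup of order 8.
-/

set_option autoImplicit false

namespace Cfsg.Agent.Cores.MinimalEight

open Subgroup NoAbelianEight
open scoped commutatorElement

universe u

variable {G : Type u} [Group G] [Finite G]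

omit [Finite G] in
theorem pow_four_of_card_eight {A : Subgroup G} (hcyc : ¬ IsCyclic ↥A) (h8 : Nat.card ↥A = 8)
    {a : G} (ha : a ∈ A) : a ^ 4 = 1 := by
  haveI : Finite ↥A := Nat.finite_of_card_ne_zero (by omega)
  have hd : orderOf (⟨a, ha⟩ : ↥A) ∣ 2 ^ 3 := by
    have h := orderOf_dvd_natCard (⟨a, ha⟩ : ↥A)
    rw [h8] at h
    exact h
  obtain ⟨i, hi, he⟩ := (Nat.dvd_prime_pow Nat.prime_two).1 hd
  have hne : i ≠ 3 := fun h => hcyc (isCyclic_of_orderOf_eq_card (⟨a, ha⟩ : ↥A) (by rw [he, h, h8]; norm_num))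
  have h2 : (⟨a, ha⟩ : ↥A) ^ 4 = 1 := orderOf_dvd_iff_pow_eq_one.1
    (he ▸ pow_dvd_pow 2 (by omega : i ≤ 2) : orderOf (⟨a, ha⟩ : ↥A) ∣ 2 ^ 2)
  exact congrArg Subtype.val h2

/-- Two elements outside `Q` differ by an element of `Q`. -/
theorem inv_mul_mem {Q X Z Q1 : Subgroup G} {w : G}
    (hpair : ∀ q ∈ Q1, ∀ q' ∈ Q1, q ∉ Z → q' ∉ Z → q * q'⁻¹ ∈ Z)
    (hXZ : ∀ x ∈ X, ∀ z ∈ Z, x * z = z * x)
    (hQ1 : ∀ x ∈ X, ⁅x, w⁆ ∈ Q1) (hker : ∀ x ∈ X, ⁅x, w⁆ ∈ Z → x ∈ Q)
    {a b : G} (ha : a ∈ X) (hb : b ∈ X) (haQ : a ∉ Q) (hbQ : b ∉ Q) : a⁻¹ * b ∈ Q := by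
  refine hker _ (mul_mem (inv_mem ha) hb) ?_
  have h := hpair _ (hQ1 b hb) _ (hQ1 a ha) (fun h => hbQ (hker b hb h)) (fun h => haQ (hker a ha h))
  have e : ⁅a⁻¹ * b, w⁆ = a⁻¹ * (⁅b, w⁆ * (⁅a, w⁆)⁻¹) * a := by
    simp only [commutatorElement_def]; group
  rw [e, mul_assoc, ← hXZ a ha _ h, inv_mul_cancel_left]
  exact h

/-- A four group cannot be self-centralizing below a suitable abelian group of order 8. -/
theorem false_of_four {Q X A : Subgroup G} (h4 : IsFour Q) (hX : IsPGroup 2 ↥X) (hQX : Q ≤ X)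
    (hXQ : X ≤ normalizer (Q : Set G)) (hcQ : X ⊓ centralizer (Q : Set G) ≤ Q) (hA : A ≤ X)
    (hAc : IsMulCommutative ↥A) (hA8 : Nat.card ↥A = 8) : False := by
  haveI : Fact (Nat.Prime 2) := ⟨Nat.prime_two⟩
  have hAX : A ≤ centralizer (A : Set G) := le_centralizer A
  have hAQ : ¬ A ≤ Q := fun h => by
    have := card_le_of_le h
    rw [h4.1, hA8] at this; omega
  obtain ⟨a, ha, haQ⟩ := SetLike.not_le_iff_exists.1 hAQ
  have hQne : Q ≠ ⊥ := fun h => by have := h4.1; rw [h, card_bot] at this; omega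
  have hlt := Coprime.commutator_lt_of_isPGroup (hX.to_le hQX) hX hXQ hQne
  obtain ⟨d, hd⟩ := card_dvd_of_le hlt.le
  have hQ1c : Nat.card ↥(⁅Q, X⁆ : Subgroup G) ≤ 2 := by
    have hne : Nat.card ↥(⁅Q, X⁆ : Subgroup G) ≠ 4 := fun he =>
      hlt.ne (eq_of_le_of_card_ge hlt.le (by rw [h4.1, he]))
    rw [h4.1] at hd
    have h2 := Nat.le_of_dvd (by norm_num : 4 > 0) ⟨d, hd⟩
    by_contra hh
    have h3 : Nat.card ↥(⁅Q, X⁆ : Subgroup G) = 3 := by omega
    rw [h3] at hd; omega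
  have hmem : ∀ x ∈ X, ∀ q ∈ Q, ⁅x, q⁆ ∈ ⁅Q, X⁆ := fun x hx q hq =>
    commutator_comm X Q ▸ commutator_mem_commutator hx hq
  have hXfix : X ≤ centralizer ((⁅Q, X⁆ : Subgroup G) : Set G) :=
    le_centralizer_of_card_le_two hQ1c fun x hx =>
      Coprime.mem_normalizer_commutator (hXQ hx) (le_normalizer hx)
  obtain ⟨w, hw, hwQ1⟩ := SetLike.exists_of_lt hlt
  have hw1 : w ≠ 1 := fun h => hwQ1 (h ▸ one_mem _)
  have hker : ∀ x ∈ X, ⁅x, w⁆ ∈ (⊥ : Subgroup G) → x ∈ Q := by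
    intro x hx h
    refine hcQ (mem_inf.2 ⟨hx, ?_⟩)
    have hxw : x ∈ centralizer ({w} : Set G) :=
      mem_centralizer_singleton_iff.2 (commutatorElement_eq_one_iff_commute.1 (mem_bot.1 h))
    refine mem_centralizer_iff.2 fun q hq => ?_
    have hgen : Q = zpowers w ⊔ ⁅Q, X⁆ := by
      refine (eq_of_le_of_card_ge (sup_le (zpowers_le.2 hw) hlt.le) ?_).symm
      have h1 : zpowers w < zpowers w ⊔ ⁅Q, X⁆ := by
        refine lt_of_le_of_ne le_sup_left fun he => ?_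
        rcases eq_or_ne (⁅Q, X⁆ : Subgroup G) ⊥ with hb | hb
        · exact haQ (hcQ (mem_inf.2 ⟨hA ha, le_centralizer_iff.1 (commutator_eq_bot_iff_le_centralizer.1 hb) (hA ha)⟩))
        · obtain ⟨v, hv, hv1⟩ := (Subgroup.bot_or_exists_ne_one _).resolve_left hb
          have hvw : v ∈ zpowers w := he ▸ mem_sup_right hv
          rcases mem_zpowers_sq_one (h4.2 w hw) hvw with rfl | rfl
          · exact hv1 rfl
          · exact hwQ1 hv
      have h2 := Nat.lt_of_le_of_ne (card_le_of_le h1.le) fun he => h1.ne (eq_of_le_of_card_ge h1.le he.ge)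
      obtain ⟨e, he⟩ := card_dvd_of_le h1.le
      have h3 := card_dvd_of_le (sup_le (zpowers_le.2 hw) hlt.le)
      rw [h4.1] at h3 ⊢
      rw [card_zpowers_two hw1 (h4.2 w hw)] at h2 he
      have := Nat.le_of_dvd (by norm_num) h3
      omega
    have hle : Q ≤ centralizer ({x} : Set G) := by
      rw [hgen, sup_le_iff, zpowers_le]
      exact ⟨mem_centralizer_singleton_iff.2 ((mem_centralizer_singleton_iff.1 hxw).symm),
        fun v hv => mem_centralizer_singleton_iff.2 (mem_centralizer_iff.1 (hXfix hx) v hv)⟩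
    exact mem_centralizer_singleton_iff.1 (hle hq)
  have hpair : ∀ q ∈ ⁅Q, X⁆, ∀ q' ∈ ⁅Q, X⁆, q ∉ (⊥ : Subgroup G) → q' ∉ (⊥ : Subgroup G) →
      q * q'⁻¹ ∈ (⊥ : Subgroup G) := by
    intro q hq q' hq' h1 h1'
    rw [mem_bot] at h1 h1' ⊢
    by_contra hne
    have hsub : ({1, q, q'} : Set G) ⊆ ((⁅Q, X⁆ : Subgroup G) : Set G) := by
      rintro y (rfl | rfl | rfl)
      exacts [one_mem _, hq, hq']
    have h3 : ({1, q, q'} : Set G).ncard = 3 :=
      Set.ncard_eq_three.2 ⟨1, q, q', Ne.symm h1, Ne.symm h1', fun e => hne (by rw [e, mul_inv_cancel]), rfl⟩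
    have := Set.ncard_le_ncard hsub (Set.toFinite _)
    rw [h3, ← Nat.card_coe_set_eq] at this
    exact absurd (this.trans hQ1c) (by norm_num)
  have hidx : (Q.subgroupOf A).index = 2 := by
    rw [index_eq_two_iff]
    refine ⟨⟨a, ha⟩, fun b => ?_⟩
    by_cases hb : (b : G) ∈ Q
    · refine .inr ⟨hb, fun h => haQ ?_⟩
      have h' : (b : G) * a ∈ Q := h
      have := mul_mem (inv_mem hb) h'
      rwa [inv_mul_cancel_left] at this
    · refine .inl ⟨?_, hb⟩
      show (b : G) * a ∈ Q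
      have := inv_mul_mem hpair (fun x _ z hz => by rw [mem_bot.1 hz, one_mul, mul_one])
        (fun x hx => hmem x hx w hw) hker (inv_mem (hA b.2)) (hA ha)
        (fun h => hb (inv_mem_iff.1 h)) haQ
      rwa [inv_inv] at this
  have hQA : Q ≤ A := by
    have h := card_mul_index (Q.subgroupOf A)
    rw [hidx, hA8, ← card_map_of_injective A.subtype_injective, subgroupOf_map_subtype] at h
    have : Q ⊓ A = Q := eq_of_le_of_card_ge inf_le_left (by rw [h4.1]; omega)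
    exact this ▸ inf_le_right
  exact hAQ fun b hb => hcQ (mem_inf.2 ⟨hA hb, centralizer_le hQA (hAX hb)⟩)

/-- A quaternion group cannot be self-centralizing below a suitable abelian group of order 8. -/
theorem false_of_q8 {Q X A : Subgroup G} {z : G} (h8 : IsQ8 Q z) (hX : IsPGroup 2 ↥X) (hQX : Q ≤ X)
    (hXQ : X ≤ normalizer (Q : Set G)) (hcQ : centralizer (Q : Set G) ≤ Q) (hA : A ≤ X)
    (hAc : IsMulCommutative ↥A) (hAn : ¬ IsCyclic ↥A) (hA8 : Nat.card ↥A = 8) : False := by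
  haveI : Fact (Nat.Prime 2) := ⟨Nat.prime_two⟩
  have hAX : A ≤ centralizer (A : Set G) := le_centralizer A
  have hcomm : ∀ u ∈ A, ∀ v ∈ A, u * v = v * u := fun u hu v hv =>
    mem_centralizer_iff.1 (hAX hv) u hu
  have hAQ : ¬ A ≤ Q := fun h => h8.not_comm fun x hx y hy => by
    have e := eq_of_le_of_card_ge h (by rw [h8.1, hA8])
    exact hcomm x (e ▸ hx) y (e ▸ hy)
  obtain ⟨a, ha, haQ⟩ := SetLike.not_le_iff_exists.1 hAQ
  have hQne : Q ≠ ⊥ := fun h => by have := h8.1; rw [h, card_bot] at this; omega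
  have hzz := h8.2.2.2.1
  have hzinv : z⁻¹ = z := inv_eq_of_mul_eq_one_right (by rw [← pow_two, hzz])
  have cz : ∀ f ∈ Q, z * f = f * z := fun f hf => (h8.2.2.2.2.1 f hf).symm
  have hlt := Coprime.commutator_lt_of_isPGroup (hX.to_le hQX) hX hXQ hQne
  have hmem : ∀ x ∈ X, ∀ q ∈ Q, ⁅x, q⁆ ∈ ⁅Q, X⁆ := fun x hx q hq =>
    commutator_comm X Q ▸ commutator_mem_commutator hx hq
  have hZX : X ≤ centralizer (zpowers z : Set G) := h8.centralizer_zpowers hXQ
  have hXZ : ∀ x ∈ X, ∀ f ∈ zpowers z, x * f = f * x := fun x hx f hf =>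
    (mem_centralizer_iff.1 (hZX hx) f hf).symm
  -- elements inducing inner automorphisms
  have hinner : ∀ x ∈ X, ∀ p ∈ Q, ∀ q ∈ Q, zpowers p ⊔ zpowers q = Q → ⁅p, q⁆ = z →
      ⁅x, p⁆ ∈ zpowers z → ⁅x, q⁆ ∈ zpowers z → x ∈ Q := by
    intro x hx p hp q hq hgen hpq h1 h2
    have key : ∀ f ∈ Q, ⁅x, f⁆ ∈ zpowers z → x * f * x⁻¹ = f ∨ x * f * x⁻¹ = f * z := by
      intro f hf hh
      rw [commutatorElement_def] at hh
      rcases mem_zpowers_sq_one hzz hh with he | he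
      · left
        calc x * f * x⁻¹ = (x * f * x⁻¹ * f⁻¹) * f := by group
          _ = f := by rw [he, one_mul]
      · right
        calc x * f * x⁻¹ = (x * f * x⁻¹ * f⁻¹) * f := by group
          _ = f * z := by rw [he, cz f hf]
    have hqp : ⁅q, p⁆ = z := by rw [← commutatorElement_inv, hpq, hzinv]
    have hab' : p * q * p⁻¹ = q * z := by
      rw [← cz q hq, ← hpq, commutatorElement_def]; group
    have hba' : q * p * q⁻¹ = p * z := by
      rw [← cz p hp, ← hqp, commutatorElement_def]; group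
    obtain ⟨e, he, hep, heq⟩ : ∃ e ∈ Q, e * p * e⁻¹ = x * p * x⁻¹ ∧ e * q * e⁻¹ = x * q * x⁻¹ := by
      rcases key p hp h1 with h1 | h1 <;> rcases key q hq h2 with h2 | h2 <;> rw [h1, h2]
      · exact ⟨1, one_mem _, by group, by group⟩
      · exact ⟨p, hp, by group, hab'⟩
      · exact ⟨q, hq, hba', by group⟩
      · refine ⟨p * q, mul_mem hp hq, ?_, ?_⟩
        · calc p * q * p * (p * q)⁻¹ = p * (q * p * q⁻¹) * p⁻¹ := by group
            _ = p * (z * p) * p⁻¹ := by rw [hba', cz p hp]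
            _ = p * z := by group
        · calc p * q * q * (p * q)⁻¹ = p * q * p⁻¹ := by group
            _ = q * z := hab'
    have hle : Q ≤ centralizer ({e⁻¹ * x} : Set G) := by
      rw [← hgen, sup_le_iff, zpowers_le, zpowers_le, mem_centralizer_singleton_iff,
        mem_centralizer_singleton_iff]
      constructor
      · calc p * (e⁻¹ * x) = e⁻¹ * (e * p * e⁻¹) * x := by group
          _ = e⁻¹ * x * p := by rw [hep]; group
      · calc q * (e⁻¹ * x) = e⁻¹ * (e * q * e⁻¹) * x := by group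
          _ = e⁻¹ * x * q := by rw [heq]; group
    have hmem : e⁻¹ * x ∈ Q :=
      hcQ (mem_centralizer_iff.2 fun f hf => mem_centralizer_singleton_iff.1 (hle hf))
    have := mul_mem he hmem
    rwa [mul_inv_cancel_left] at this
  -- `[Q, X]` is cyclic of order 4
  obtain ⟨g₁, hg₁, g₂, hg₂, -, -, hg12, hgen⟩ := h8.exists_gens
  have hzQ1 : z ∈ ⁅Q, X⁆ := hg12 ▸ commutator_mem_commutator hg₁ (hQX hg₂)
  obtain ⟨y, hy, hyz⟩ := SetLike.not_le_iff_exists.1 fun hle : ⁅Q, X⁆ ≤ zpowers z =>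
    haQ (hinner a (hA ha) g₁ hg₁ g₂ hg₂ hgen hg12 (hle (hmem a (hA ha) g₁ hg₁))
      (hle (hmem a (hA ha) g₂ hg₂)))
  have hyQ := hlt.le hy
  have hy4 : Nat.card ↥(zpowers y) = 4 := (Nat.card_zpowers y).trans (h8.card_zpowers_of_notMem hyQ hyz)
  have hQ1 : ⁅Q, X⁆ = zpowers y := by
    refine (eq_of_le_of_card_ge (zpowers_le.2 hy) ?_).symm
    obtain ⟨d, hd⟩ := card_dvd_of_le hlt.le
    have hne : Nat.card ↥(⁅Q, X⁆ : Subgroup G) ≠ 8 := fun he =>
      hlt.ne (eq_of_le_of_card_ge hlt.le (by rw [h8.1, he]))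
    have hge := card_le_of_le (zpowers_le.2 hy)
    rw [h8.1] at hd
    rw [hy4] at hge ⊢
    have h2 := Nat.le_of_dvd (by norm_num : 8 > 0) ⟨d, hd⟩
    generalize Nat.card ↥(⁅Q, X⁆ : Subgroup G) = n at hd hne hge h2
    interval_cases n <;> omega
  have hzy : z ∈ zpowers y := hQ1 ▸ hzQ1
  have hy2 : y ^ 2 = z := h8.2.2.2.2.2 y hyQ hyz
  have hyodd : ∀ q ∈ zpowers y, q ∉ zpowers z → q = y ∨ q = y * z := by
    intro q hq hqz
    obtain ⟨i, rfl⟩ := mem_zpowers_iff.1 hq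
    rcases Int.even_or_odd i with ⟨j, rfl⟩ | ⟨j, rfl⟩
    · exfalso; apply hqz
      rw [← two_mul, zpow_mul, show (2 : ℤ) = ((2 : ℕ) : ℤ) from rfl, zpow_natCast, hy2]
      exact zpow_mem (mem_zpowers z) j
    · rw [zpow_add_one, zpow_mul, show (2 : ℤ) = ((2 : ℕ) : ℤ) from rfl, zpow_natCast, hy2]
      rcases mem_zpowers_sq_one hzz (zpow_mem (mem_zpowers z) j) with he | he <;> rw [he]
      · left; rw [one_mul]
      · right; rw [cz y hyQ]
  have hpair : ∀ q ∈ zpowers y, ∀ q' ∈ zpowers y, q ∉ zpowers z → q' ∉ zpowers z →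
      q * q'⁻¹ ∈ zpowers z := by
    intro q hq q' hq' h1 h1'
    rcases hyodd q hq h1 with e | e <;> rcases hyodd q' hq' h1' with e' | e' <;> rw [e, e']
    · rw [mul_inv_cancel]; exact one_mem _
    · rw [← cz y hyQ, mul_inv_rev, mul_inv_cancel_left, hzinv]; exact mem_zpowers z
    · rw [← cz y hyQ, mul_inv_cancel_right]; exact mem_zpowers z
    · rw [mul_inv_cancel]; exact one_mem _
  have hker : ∀ w ∈ Q, w ∉ zpowers y → ∀ x ∈ X, ⁅x, w⁆ ∈ zpowers z → x ∈ Q := by
    intro w hw hwy x hx h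
    have hwz : w ∉ zpowers z := fun hh => hwy ((zpowers_le.2 hzy) hh)
    have hgen : zpowers y ⊔ zpowers w = Q := by
      refine eq_of_le_of_card_ge (sup_le (zpowers_le.2 hyQ) (zpowers_le.2 hw)) ?_
      have h1 : zpowers y < zpowers y ⊔ zpowers w := lt_of_le_of_ne le_sup_left fun he =>
        hwy (he ▸ mem_sup_right (mem_zpowers w))
      have h2 := Nat.lt_of_le_of_ne (card_le_of_le h1.le) fun he => h1.ne (eq_of_le_of_card_ge h1.le he.ge)
      obtain ⟨e, he⟩ := card_dvd_of_le h1.le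
      have h3 := card_dvd_of_le (sup_le (zpowers_le.2 hyQ) (zpowers_le.2 hw))
      rw [h8.1] at h3 ⊢
      rw [hy4] at h2 he
      have := Nat.le_of_dvd (by norm_num) h3
      omega
    have hyw : ⁅y, w⁆ = z := by
      have hyw' : y * w ∉ zpowers z := fun hh => hwy (by
        have := mul_mem (inv_mem (mem_zpowers y)) ((zpowers_le.2 hzy) hh)
        rwa [inv_mul_cancel_left] at this)
      have e : ⁅y, w⁆ = (y * w) ^ 2 * ((w ^ 2)⁻¹) * (w * (y ^ 2)⁻¹ * w⁻¹) := by
        rw [commutatorElement_def, pow_two, pow_two, pow_two]; group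
      rw [e, h8.2.2.2.2.2 _ (mul_mem hyQ hw) hyw', hy2, h8.2.2.2.2.2 w hw hwz, hzinv,
        ← cz w hw, mul_inv_cancel_right, ← pow_two, hzz, one_mul]
    refine hinner x hx y hyQ w hw hgen hyw ?_ h
    -- `x y x⁻¹` is a generator of the invariant subgroup
    rw [commutatorElement_def]
    have hn : x * y * x⁻¹ ∈ zpowers y := hQ1 ▸ (mem_normalizer_iff.1
      (Coprime.mem_normalizer_commutator (hXQ hx) (le_normalizer hx)) y).1 hy
    refine hpair _ hn y (mem_zpowers y) (fun hh => hyz ?_) hyz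
    have h1 := hXZ x hx _ hh
    have : y = x * y * x⁻¹ := by
      calc y = x⁻¹ * (x * y * x⁻¹ * x) := by group
        _ = x⁻¹ * (x * (x * y * x⁻¹)) := by rw [h1]
        _ = x * y * x⁻¹ := by group
    exact this ▸ hh
  obtain ⟨w, hw, hwy⟩ := SetLike.not_le_iff_exists.1 fun hle : Q ≤ zpowers y => by
    have := card_le_of_le hle
    rw [h8.1, hy4] at this; omega
  have hidx : (Q.subgroupOf A).index = 2 := by
    rw [index_eq_two_iff]
    refine ⟨⟨a, ha⟩, fun b => ?_⟩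
    by_cases hb : (b : G) ∈ Q
    · refine .inr ⟨hb, fun h => haQ ?_⟩
      have h' : (b : G) * a ∈ Q := h
      have := mul_mem (inv_mem hb) h'
      rwa [inv_mul_cancel_left] at this
    · refine .inl ⟨?_, hb⟩
      show (b : G) * a ∈ Q
      have := inv_mul_mem hpair hXZ
        (fun x hx => hQ1 ▸ hmem x hx w hw) (hker w hw hwy) (inv_mem (hA b.2)) (hA ha)
        (fun h => hb (inv_mem_iff.1 h)) haQ
      rwa [inv_inv] at this
  have hA0 : Nat.card ↥(Q ⊓ A : Subgroup G) = 4 := by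
    have h := card_mul_index (Q.subgroupOf A)
    rw [hidx, hA8, ← card_map_of_injective A.subtype_injective, subgroupOf_map_subtype] at h
    omega
  obtain ⟨v, hv, hvz⟩ := SetLike.not_le_iff_exists.1 fun hle : Q ⊓ A ≤ zpowers z => by
    have := card_le_of_le hle
    rw [hA0, card_zpowers_two h8.2.2.1 hzz] at this; omega
  obtain ⟨hvQ, hvA⟩ := mem_inf.1 hv
  have hav : ⁅a, v⁆ = 1 := commutatorElement_eq_one_iff_commute.2 (hcomm a ha v hvA)
  by_cases hvy : v ∈ zpowers y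
  swap
  · exact haQ (hker v hvQ hvy a (hA ha) (hav ▸ one_mem _))
  -- `a` centralizes `[Q, X]`
  have hacy : ∀ q ∈ zpowers y, a * q = q * a := by
    intro q hq
    have hay : a * y = y * a := by
      rcases hyodd v hvy hvz with rfl | hvv
      · exact hcomm a ha v hvA
      · have : y = v * z := by rw [hvv, mul_assoc, ← pow_two, hzz, mul_one]
        rw [this]
        exact ((show Commute a v from hcomm a ha v hvA).mul_right
          (hXZ a (hA ha) z (mem_zpowers z))).eq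
    obtain ⟨i, rfl⟩ := mem_zpowers_iff.1 hq
    exact ((show Commute a y from hay).zpow_right i).eq
  have ha2 : a * a ∈ Q := (mul_mem_iff_of_index_two hidx (a := (⟨a, ha⟩ : ↥A)) (b := ⟨a, ha⟩)).2 Iff.rfl
  have ha2z : a * a ∈ zpowers z := by
    by_contra h
    have h1 := h8.2.2.2.2.2 _ ha2 h
    rw [← pow_two, ← pow_mul, pow_four_of_card_eight hAn hA8 ha] at h1
    exact h8.2.2.1 h1.symm
  set q := ⁅a, w⁆ with hq
  have hqy : q ∈ zpowers y := hQ1 ▸ hmem a (hA ha) w hw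
  have hqz : q ∉ zpowers z := fun h => haQ (hker w hw hwy a (hA ha) h)
  have h1 : ⁅a * a, w⁆ = 1 := by
    rw [commutatorElement_eq_one_iff_commute]
    rcases mem_zpowers_sq_one hzz ha2z with he | he <;> rw [he]
    · exact Commute.one_left w
    · exact cz w hw
  have h2 : ⁅a * a, w⁆ = q * q := by
    rw [commutatorElement_mul_left_eq_conj_mul, ← hq, hacy q hqy, mul_inv_cancel_right]
  rw [h1, ← pow_two, h8.2.2.2.2.2 q ((zpowers_le.2 hyQ) hqy) hqz] at h2
  exact h8.2.2.1 h2.symm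

end Cfsg.Agent.Cores.MinimalEight
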