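import Cfsg.Agent.Cores.AutomizerPrime
import Cfsg.Agent.H77.AutPGroup
import Cfsg.Agent.H41.NormalElementary
import Cfsg.Agent.S0013
import Cfsg.Agent.S0640

/-!
Automorphisms of prime order of an elementary abelian 2-group with small commutator space
(order 3 moving a four-group, order 7 moving an eight-group) inside odd order solvable groups.
-/

set_option autoImplicit false

namespace Cfsg.Agent.Cores.MovedFour

open Subgroup

variable {V : Type*} [CommGroup V]

theorem app_inv (e : MulAut V) (x : V) : e (e⁻¹ x) = x := MulEquiv.apply_symm_apply e x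

theorem inv_app (e : MulAut V) (x : V) : e⁻¹ (e x) = x := MulEquiv.symm_apply_apply e x

/-- The commutator space of an automorphism of an abelian group. -/
def moved (φ : MulAut V) : Subgroup V := (φ.toMonoidHom / MonoidHom.id V).range

theorem mem_moved (φ : MulAut V) (x : V) : φ x / x ∈ moved φ := ⟨x, rfl⟩

theorem exists_of_mem_moved {φ : MulAut V} {y : V} (h : y ∈ moved φ) : ∃ x, φ x / x = y := h

theorem apply_div_iterate {g : MulAut V} {x w : V} (hx : g x = x * w) (hw : g w = w) :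
    ∀ n : ℕ, (g ^ n) x = x * w ^ n
  | 0 => by simp
  | n + 1 => by
    rw [pow_succ', MulAut.mul_apply, apply_div_iterate hx hw n, map_mul, hx, map_pow, hw, pow_succ',
      mul_assoc]

theorem eq_one_of_fixed {g : MulAut V} {x : V} (hV : ∀ v : V, v ^ 2 = 1) {n : ℕ} (hn : Odd n)
    (hg : g ^ n = 1) (hfix : g (g x / x) = g x / x) : g x / x = 1 := by
  have h := apply_div_iterate (g := g) (x := x) (w := g x / x) (by simp) hfix n
  rw [hg, MulAut.one_apply, eq_comm, mul_eq_left] at h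
  obtain ⟨m, rfl⟩ := hn
  rwa [pow_succ, pow_mul, hV, one_pow, one_mul] at h

theorem eq_one_of_fixed_moved {g : MulAut V} (hV : ∀ v : V, v ^ 2 = 1) {n : ℕ} (hn : Odd n)
    (hg : g ^ n = 1) (hfix : ∀ x ∈ moved g, g x = x) : g = 1 :=
  MulEquiv.ext fun x => div_eq_one.1 (eq_one_of_fixed hV hn hg (hfix _ (mem_moved g x)))

/-- The automorphisms stabilizing `U`. -/
def stab (U : Subgroup V) : Subgroup (MulAut V) where
  carrier := {ψ | ∀ x, ψ x ∈ U ↔ x ∈ U}
  one_mem' := fun x => Iff.rfl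
  mul_mem' := fun {a b} ha hb x => (ha (b x)).trans (hb x)
  inv_mem' := fun {a} ha x => by
    conv_rhs => rw [← app_inv a x]
    exact (ha _).symm

theorem mem_stab_moved_of_commute {φ ψ : MulAut V} (h : Commute φ ψ) : ψ ∈ stab (moved φ) := by
  have key : ∀ ψ : MulAut V, Commute φ ψ → ∀ y ∈ moved φ, ψ y ∈ moved φ := by
    rintro ψ h y hy
    obtain ⟨x, rfl⟩ := exists_of_mem_moved hy
    rw [map_div]
    have h1 : ψ (φ x) = φ (ψ x) := (DFunLike.congr_fun h.eq x).symm
    rw [h1]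
    exact mem_moved φ _
  intro x
  refine ⟨fun hx => ?_, key ψ h x⟩
  have := key ψ⁻¹ h.inv_right _ hx
  rwa [inv_app] at this

theorem moved_conj (φ ψ : MulAut V) :
    moved (ψ * φ * ψ⁻¹) = (moved φ).map ψ.toMonoidHom := by
  ext y
  constructor
  · intro hy
    obtain ⟨x, rfl⟩ := exists_of_mem_moved hy
    refine ⟨_, mem_moved φ (ψ⁻¹ x), ?_⟩
    show ψ (φ (ψ⁻¹ x) / ψ⁻¹ x) = _
    rw [map_div, app_inv]
    rfl
  · rintro ⟨w, hw, rfl⟩
    obtain ⟨x, rfl⟩ := exists_of_mem_moved hw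
    refine ⟨ψ x, ?_⟩
    show ψ (φ (ψ⁻¹ (ψ x))) / ψ x = ψ (φ x / x)
    rw [inv_app, map_div]

theorem mem_stab_of_map_eq {U : Subgroup V} {ψ : MulAut V} (h : U.map ψ.toMonoidHom = U) :
    ψ ∈ stab U := by
  intro x
  conv_rhs => rw [← mem_map_iff_mem (f := ψ.toMonoidHom) ψ.injective, h]
  rfl

/-- An element of prime order moving a space on which it is irreducible and fixed-point-free. -/
def Good (r : ℕ) (φ : MulAut V) : Prop :=
  φ ^ r = 1 ∧ (r = 3 ∧ Nat.card (moved φ) = 4 ∨ r = 7 ∧ Nat.card (moved φ) = 8)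

variable [Finite V] {r : ℕ} {φ χ ψ : MulAut V}

theorem Good.prime (h : Good r φ) : r.Prime := by
  rcases h.2 with ⟨rfl, -⟩ | ⟨rfl, -⟩ <;> norm_num

theorem Good.odd (h : Good r φ) : Odd r := by
  rcases h.2 with ⟨rfl, -⟩ | ⟨rfl, -⟩ <;> decide

theorem Good.moved_ne_bot (h : Good r φ) : moved φ ≠ ⊥ := fun h0 => by
  have := h.2
  rw [h0, card_bot] at this
  omega

theorem card_modEq_one (hV : ∀ v : V, v ^ 2 = 1) [Fact r.Prime] (hr : Odd r) (hφ : φ ^ r = 1)
    {W : Subgroup V} (hW : W ≤ moved φ) (hinv : ∀ x ∈ W, φ x ∈ W) :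
    Nat.card ↥W ≡ 1 [MOD r] := by
  let f : ↥W ≃ ↥W := Equiv.ofBijective (fun x => (⟨φ x, hinv x x.2⟩ : ↥W))
    (Finite.injective_iff_bijective.1 fun a b e =>
      Subtype.ext (φ.injective (congrArg Subtype.val e)))
  have hiter : ∀ (n : ℕ) (x : ↥W), ((f ^ n) x : V) = (φ ^ n) x := by
    intro n
    induction n with
    | zero => intro x; rfl
    | succ n ih =>
      intro x
      rw [pow_succ', pow_succ', Equiv.Perm.mul_apply, MulAut.mul_apply, ← ih]
      rfl
  have hf : f ^ r = 1 := Equiv.ext fun x => Subtype.ext (by rw [hiter, hφ]; rfl)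
  have hp : IsPGroup r ↥(zpowers f) := by
    obtain ⟨j, -, hj⟩ := (Nat.dvd_prime_pow (Fact.out : r.Prime)).1
      ((orderOf_dvd_of_pow_eq_one hf).trans (pow_one r).symm.dvd)
    exact IsPGroup.of_card (n := j) (by rw [Nat.card_zpowers, hj])
  have h := hp.card_modEq_card_fixedPoints ↥W
  have hfix : Nat.card ↥(MulAction.fixedPoints ↥(zpowers f) ↥W) = 1 := by
    rw [Nat.card_eq_one_iff_unique]
    refine ⟨⟨fun a b => ?_⟩, ⟨⟨1, ?_⟩⟩⟩
    · have key : ∀ a : ↥(MulAction.fixedPoints ↥(zpowers f) ↥W), ((a : ↥W) : V) = 1 := by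
        intro a
        have ha : φ ((a : ↥W) : V) = ((a : ↥W) : V) :=
          congrArg Subtype.val (a.2 ⟨f, mem_zpowers f⟩)
        obtain ⟨x, hx⟩ := exists_of_mem_moved (hW (a : ↥W).2)
        rw [← hx] at ha ⊢
        exact eq_one_of_fixed hV hr hφ ha
      exact Subtype.ext (Subtype.ext ((key a).trans (key b).symm))
    · rintro ⟨g, hg⟩
      obtain ⟨i, rfl⟩ := mem_zpowers_iff.1 hg
      have h1 : f (1 : ↥W) = 1 := Subtype.ext (map_one φ)
      exact Equiv.Perm.zpow_apply_eq_self_of_apply_eq_self h1 i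
  rwa [hfix] at h

theorem isPGroup_of_exponent_two (hV : ∀ v : V, v ^ 2 = 1) : IsPGroup 2 V :=
  fun v => ⟨1, by rw [pow_one]; exact hV v⟩

theorem eq_bot_or_eq (hV : ∀ v : V, v ^ 2 = 1) (h : Good r φ) {W : Subgroup V} (hW : W ≤ moved φ)
    (hinv : ∀ x ∈ W, φ x ∈ W) : W = ⊥ ∨ W = moved φ := by
  have := Fact.mk h.prime
  have h1 : Nat.card ↥W ≡ 1 [MOD r] := card_modEq_one hV h.odd h.1 hW hinv
  obtain ⟨j, hj⟩ := IsPGroup.iff_card.1 ((isPGroup_of_exponent_two hV).to_subgroup W)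
  have hle : Nat.card ↥W ≤ Nat.card ↥(moved φ) := card_le_of_le hW
  by_cases hlt : Nat.card ↥W = Nat.card ↥(moved φ)
  · exact .inr (eq_of_le_of_card_ge hW hlt.ge)
  left
  refine eq_bot_of_card_le _ ?_
  rw [hj] at h1 hle hlt ⊢
  rcases h.2 with ⟨rfl, h4⟩ | ⟨rfl, h8⟩
  · rw [h4] at hle hlt
    have : j ≤ 2 := (Nat.pow_le_pow_iff_right one_lt_two).1 hle
    interval_cases j <;> simp_all (config := { decide := true }) [Nat.ModEq]
  · rw [h8] at hle hlt
    have : j ≤ 3 := (Nat.pow_le_pow_iff_right one_lt_two).1 hle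
    interval_cases j <;> simp_all (config := { decide := true }) [Nat.ModEq]

/-- A commuting conjugate with another moved space fixes the moved space. -/
theorem fixed_of_moved_ne (hV : ∀ v : V, v ^ 2 = 1) (h : Good r φ) (hc : Commute φ χ)
    (hcard : Nat.card ↥(moved χ) = Nat.card ↥(moved φ)) (hne : moved χ ≠ moved φ) :
    ∀ x ∈ moved φ, χ x = x := by
  intro x hx
  have hW := eq_bot_or_eq hV h (W := moved φ ⊓ moved χ) inf_le_left fun y hy =>
    ⟨mem_stab_moved_of_commute (Commute.refl φ) y |>.2 hy.1,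
      mem_stab_moved_of_commute hc.symm y |>.2 hy.2⟩
  rcases hW with hW | hW
  · refine div_eq_one.1 (mem_bot.1 (hW ▸ mem_inf.2 ⟨?_, mem_moved χ x⟩))
    exact div_mem ((mem_stab_moved_of_commute hc x).2 hx) hx
  · exact absurd (eq_of_le_of_card_ge (hW.ge.trans inf_le_right) hcard.le).symm hne

theorem card_moved_conj (φ ψ : MulAut V) :
    Nat.card ↥(moved (ψ * φ * ψ⁻¹)) = Nat.card ↥(moved φ) := by
  rw [moved_conj, card_map_of_injective ψ.injective]

theorem Good.conj (h : Good r φ) (ψ : MulAut V) : Good r (ψ * φ * ψ⁻¹) := by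
  refine ⟨by rw [conj_pow, h.1]; group, ?_⟩
  rw [card_moved_conj]
  exact h.2

/-- The quadratic argument. -/
theorem mem_stab_of_quadratic (hV : ∀ v : V, v ^ 2 = 1) (h : Good r φ) {n : ℕ} (hn : Odd n)
    (hψ : ψ ^ n = 1) (hc1 : Commute φ (ψ * φ * ψ⁻¹))
    (hc2 : Commute φ (ψ * (ψ * φ * ψ⁻¹) * ψ⁻¹))
    (hquad : Commute ψ (φ * (ψ * φ * ψ⁻¹)⁻¹)) : ψ ∈ stab (moved φ) := by
  set χ := ψ * φ * ψ⁻¹ with hχ
  set ω := ψ * χ * ψ⁻¹ with hω
  by_contra hcon
  have hne : moved χ ≠ moved φ := fun he => hcon (mem_stab_of_map_eq ((moved_conj φ ψ).symm.trans he))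
  have hωeq : χ * ω⁻¹ = φ * χ⁻¹ := by
    have h1 : ψ * (φ * χ⁻¹) * ψ⁻¹ = φ * χ⁻¹ := by rw [hquad.eq, mul_inv_cancel_right]
    rw [← h1, hω, hχ]; group
  have hω' : ω = χ * φ⁻¹ * χ := by
    have h1 : ω⁻¹ = χ⁻¹ * (φ * χ⁻¹) := by rw [← hωeq, inv_mul_cancel_left]
    rw [← inv_inv ω, h1]; group
  have hfχ := fixed_of_moved_ne hV h hc1 (card_moved_conj φ ψ) hne
  have hωU : ∀ x ∈ moved φ, ω x = φ⁻¹ x := fun x hx => by
    rw [hω', MulAut.mul_apply, MulAut.mul_apply, hfχ x hx, hfχ]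
    exact ((stab (moved φ)).inv_mem (mem_stab_moved_of_commute (Commute.refl φ)) x).2 hx
  have hcard : Nat.card ↥(moved ω) = Nat.card ↥(moved φ) := by
    rw [card_moved_conj, card_moved_conj]
  by_cases hω2 : moved ω = moved φ
  · have hsq : ψ * ψ ∈ stab (moved φ) := by
      refine mem_stab_of_map_eq ?_
      rw [← moved_conj]
      refine (congrArg moved ?_).trans hω2
      rw [hω, hχ]; group
    obtain ⟨m, rfl⟩ := hn
    apply hcon
    have : ψ = (ψ * ψ) ^ (m + 1) := by
      rw [← pow_two, ← pow_mul, show 2 * (m + 1) = 2 * m + 1 + 1 by ring, pow_succ, hψ, one_mul]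
    rw [this]
    exact pow_mem hsq _
  · have hfω := fixed_of_moved_ne hV h hc2 hcard hω2
    refine h.moved_ne_bot ?_
    have : φ = 1 := eq_one_of_fixed_moved hV h.odd h.1 fun x hx => by
      have := (hωU x hx).symm.trans (hfω x hx)
      conv_lhs => rw [← this]
      exact app_inv φ x
    rw [this, eq_bot_iff]
    intro y hy
    obtain ⟨x, rfl⟩ := exists_of_mem_moved hy
    simp

/-! ### Orders -/

/-- Elements whose moved space lies in `U`. -/
def movesInto (U : Subgroup V) : Subgroup (MulAut V) where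
  carrier := {g | ∀ x, g x / x ∈ U}
  one_mem' := fun x => by simp
  mul_mem' := fun {a b} ha hb x => by
    have := mul_mem (ha (b x)) (hb x)
    rwa [div_mul_div_cancel] at this
  inv_mem' := fun {a} ha x => by
    have := inv_mem (ha (a⁻¹ x))
    rwa [app_inv, inv_div] at this

theorem movesInto_le_stab (U : Subgroup V) : movesInto U ≤ stab U := fun g hg x =>
  ⟨fun h => by simpa using div_mem h (hg x), fun h => by simpa using mul_mem (hg x) h⟩

/-- Restriction of stabilizing automorphisms. -/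
noncomputable def restrict (U : Subgroup V) : ↥(stab U) →* MulAut ↥U where
  toFun g :=
    { toFun := fun x => ⟨(g : MulAut V) (x : V), (g.2 (x : V)).2 x.2⟩
      invFun := fun x => ⟨(g : MulAut V)⁻¹ (x : V), ((g⁻¹).2 (x : V)).2 x.2⟩
      left_inv := fun x => Subtype.ext (inv_app (g : MulAut V) (x : V))
      right_inv := fun x => Subtype.ext (app_inv (g : MulAut V) (x : V))
      map_mul' := fun x y => Subtype.ext (map_mul (g : MulAut V) (x : V) y) }
  map_one' := rfl
  map_mul' := fun _ _ => rfl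

theorem card_mulAut_dvd_prod (hV : ∀ v : V, v ^ 2 = 1) (U : Subgroup V) {k : ℕ}
    (hk : Nat.card ↥U = 2 ^ k) :
    Nat.card (MulAut ↥U) ∣ ∏ i ∈ Finset.range k, (2 ^ k - 2 ^ i) := by
  have hU : ∀ x : ↥U, x ^ 2 = 1 := fun x => Subtype.ext (hV x)
  have hf : frattini ↥U = ⊥ := S0013.frattini_eq_bot 2 (fun a b => mul_comm a b) hU
  have h := H77.card_mulAut_dvd (p := 2) ((isPGroup_of_exponent_two hV).to_subgroup U) (r := k)
    (by rw [hf, index_bot, hk])
  rwa [hf, card_bot, one_pow, one_mul] at h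

/-- An odd order group of automorphisms moving into `U` embeds in `MulAut U`. -/
theorem card_dvd_of_movesInto (hV : ∀ v : V, v ^ 2 = 1) {U : Subgroup V} {G0 : Subgroup (MulAut V)}
    (hG : G0 ≤ movesInto U) (hodd : Odd (Nat.card ↥G0)) {k : ℕ} (hk : Nat.card ↥U = 2 ^ k) :
    Nat.card ↥G0 ∣ ∏ i ∈ Finset.range k, (2 ^ k - 2 ^ i) := by
  refine dvd_trans ?_ (card_mulAut_dvd_prod hV U hk)
  refine card_dvd_of_injective ((restrict U).comp (inclusion (hG.trans (movesInto_le_stab U))))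
    ((injective_iff_map_eq_one _).2 fun g hg => Subtype.ext ?_)
  refine eq_one_of_fixed_moved hV hodd ?_ fun x hx => ?_
  · have h : g ^ Nat.card ↥G0 = 1 := pow_card_eq_one'
    exact congrArg Subtype.val h
  · obtain ⟨y, rfl⟩ := exists_of_mem_moved hx
    exact congrArg Subtype.val (DFunLike.congr_fun hg (⟨_, hG g.2 y⟩ : ↥U))

theorem card_sup_dvd {U U' : Subgroup V} :
    Nat.card ↥(U ⊔ U') ∣ Nat.card ↥U * Nat.card ↥U' :=
  ⟨Nat.card ↥(U ⊓ U'), (card_sup_mul_card_inf U U').symm⟩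

/-- The group generated by two elements moving into their spaces. -/
theorem closure_le_movesInto (φ χ : MulAut V) :
    closure {φ, χ} ≤ movesInto (moved φ ⊔ moved χ) := by
  rw [closure_le]
  rintro g (rfl | rfl) x
  · exact mem_sup_left (mem_moved _ _)
  · exact mem_sup_right (mem_moved _ _)

theorem card_closure_dvd (hV : ∀ v : V, v ^ 2 = 1) {j : ℕ}
    (hφ : Nat.card ↥(moved φ) = 2 ^ j) (hχ : Nat.card ↥(moved χ) = 2 ^ j)
    (hodd : Odd (Nat.card ↥(closure {φ, χ} : Subgroup (MulAut V)))) :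
    ∃ k, k ≤ 2 * j ∧ Nat.card ↥(moved φ ⊔ moved χ) = 2 ^ k ∧
      Nat.card ↥(closure {φ, χ} : Subgroup (MulAut V)) ∣
        ∏ i ∈ Finset.range k, (2 ^ k - 2 ^ i) := by
  have hd := card_sup_dvd (U := moved φ) (U' := moved χ)
  rw [hφ, hχ, ← pow_add, ← two_mul] at hd
  obtain ⟨k, hk, hk'⟩ := (Nat.dvd_prime_pow Nat.prime_two).1 hd
  exact ⟨k, hk, hk', card_dvd_of_movesInto hV (closure_le_movesInto φ χ) hodd hk'⟩

theorem commute_of_seven (hV : ∀ v : V, v ^ 2 = 1) (hφ : Nat.card ↥(moved φ) = 8)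
    (hχ : Nat.card ↥(moved χ) = 8)
    (hp : IsPGroup 7 ↥(closure {φ, χ} : Subgroup (MulAut V))) : Commute φ χ := by
  have : Fact (Nat.Prime 7) := ⟨by norm_num⟩
  obtain ⟨a, ha⟩ := hp.exists_card_eq
  have hodd : Odd (Nat.card ↥(closure {φ, χ} : Subgroup (MulAut V))) := ha ▸ Odd.pow (by decide)
  obtain ⟨k, hk, -, hdvd⟩ := card_closure_dvd (j := 3) hV hφ hχ hodd
  rw [ha] at hdvd
  have ha2 : a ≤ 2 := by
    by_contra hcon
    have h := (pow_dvd_pow 7 (show 3 ≤ a by omega)).trans hdvd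
    interval_cases k <;> revert h <;> decide
  have hcomm : IsMulCommutative ↥(closure {φ, χ} : Subgroup (MulAut V)) := by
    interval_cases a
    · have : Subsingleton ↥(closure {φ, χ} : Subgroup (MulAut V)) :=
        (Nat.card_eq_one_iff_unique.1 (by simpa using ha)).1
      exact ⟨⟨fun _ _ => Subsingleton.elim _ _⟩⟩
    · have := isCyclic_of_prime_card (p := 7) (by simpa using ha)
      exact ⟨⟨fun a b => IsCyclic.commGroup.mul_comm a b⟩⟩
    · exact IsPGroup.isMulCommutative_of_card_eq_prime_sq ha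
  exact congrArg Subtype.val (hcomm.is_comm.comm
    (⟨φ, subset_closure (by simp)⟩ : ↥(closure {φ, χ})) ⟨χ, subset_closure (by simp)⟩)

/-- Two elements of order 3 with moved four-groups: commute, or an element of order 7 appears. -/
theorem commute_or_seven (hV : ∀ v : V, v ^ 2 = 1) (hφ : Good 3 φ) (hχ : Good 3 χ)
    (hodd : Odd (Nat.card ↥(closure {φ, χ} : Subgroup (MulAut V))))
    (h35 : ¬ 35 ∣ Nat.card ↥(closure {φ, χ} : Subgroup (MulAut V))) :
    Commute φ χ ∨ (7 ∣ Nat.card ↥(closure {φ, χ} : Subgroup (MulAut V)) ∧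
      ∃ z ∈ (closure {φ, χ} : Subgroup (MulAut V)), Good 7 z ∧ moved φ ≤ moved z) := by
  set G0 := (closure {φ, χ} : Subgroup (MulAut V)) with hG0
  have h4 : ∀ {ω : MulAut V}, Good 3 ω → Nat.card ↥(moved ω) = 2 ^ 2 := fun hω => by
    rcases hω.2 with ⟨-, h⟩ | ⟨h, -⟩
    · exact h
    · norm_num at h
  obtain ⟨k, hk, hkU, hdvd⟩ := card_closure_dvd (j := 2) hV (h4 hφ) (h4 hχ) hodd
  have hdvd' : Nat.card ↥G0 ∣ 315 := by
    have hcop : (Nat.card ↥G0).Coprime 64 := by
      rw [show (64 : ℕ) = 2 ^ 6 by norm_num]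
      exact (Nat.coprime_two_right.2 hodd).pow_right 6
    refine hcop.dvd_of_dvd_mul_left (hdvd.trans ?_)
    interval_cases k <;> decide
  have h3 : Fact (Nat.Prime 3) := ⟨by norm_num⟩
  have hmem : φ ∈ G0 ∧ χ ∈ G0 := ⟨subset_closure (by simp), subset_closure (by simp)⟩
  by_contra hcon
  rw [not_or] at hcon
  obtain ⟨hnc, hseven⟩ := hcon
  have hT9 : ∀ T : Sylow 3 ↥G0, ∀ a b : ↥G0, a ∈ T → b ∈ T → a * b = b * a := by
    intro T a b ha hb
    obtain ⟨n, hn⟩ := T.isPGroup'.exists_card_eq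
    have hn2 : n ≤ 2 := by
      by_contra hlt
      have := (pow_dvd_pow 3 (show 3 ≤ n by omega)).trans
        ((hn ▸ card_subgroup_dvd_card (T : Subgroup ↥G0)).trans hdvd')
      norm_num at this
    have hcomm : IsMulCommutative ↥(T : Subgroup ↥G0) := by
      interval_cases n
      · have : Subsingleton ↥(T : Subgroup ↥G0) :=
          (Nat.card_eq_one_iff_unique.1 (by simpa using hn)).1
        exact ⟨⟨fun _ _ => Subsingleton.elim _ _⟩⟩
      · have := isCyclic_of_prime_card (p := 3) (by simpa using hn)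
        exact ⟨⟨fun a b => IsCyclic.commGroup.mul_comm a b⟩⟩
      · exact IsPGroup.isMulCommutative_of_card_eq_prime_sq hn
    exact congrArg Subtype.val (hcomm.is_comm.comm (⟨a, ha⟩ : ↥(T : Subgroup ↥G0)) ⟨b, hb⟩)
  have hord : ∀ {ω : MulAut V} (hω : ω ∈ G0), ω ^ 3 = 1 →
      IsPGroup 3 ↥(zpowers (⟨ω, hω⟩ : ↥G0)) := by
    intro ω hω h
    obtain ⟨j, -, hj⟩ := (Nat.dvd_prime_pow Nat.prime_three).1
      ((orderOf_dvd_of_pow_eq_one (show (⟨ω, hω⟩ : ↥G0) ^ 3 = 1 from Subtype.ext h)).trans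
        (pow_one 3).symm.dvd)
    exact IsPGroup.of_card (n := j) (by rw [Nat.card_zpowers, hj])
  by_cases h7 : 7 ∣ Nat.card ↥G0
  · have h7' : Fact (Nat.Prime 7) := ⟨by norm_num⟩
    obtain ⟨⟨z, hz⟩, hzo⟩ := exists_prime_orderOf_dvd_card' (G := ↥G0) 7 h7
    have hzo' : orderOf z = 7 := (Subgroup.orderOf_mk z hz).symm.trans hzo
    have hz7 : z ^ 7 = 1 := hzo' ▸ pow_orderOf_eq_one z
    set U0 := moved φ ⊔ moved χ
    have hzU : moved z ≤ U0 := fun y hy => by
      obtain ⟨x, rfl⟩ := exists_of_mem_moved hy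
      exact closure_le_movesInto φ χ hz x
    have hz8 : Nat.card ↥(moved z) = 8 := by
      obtain ⟨j, hj⟩ := IsPGroup.iff_card.1 ((isPGroup_of_exponent_two hV).to_subgroup (moved z))
      have hj4 : j ≤ 4 := by
        have := Nat.le_of_dvd (by positivity) (hkU ▸ card_dvd_of_le hzU)
        rw [hj] at this
        exact ((Nat.pow_le_pow_iff_right one_lt_two).1 this).trans hk
      have hm := card_modEq_one (r := 7) hV (by decide) hz7 le_rfl fun y hy =>
        (mem_stab_moved_of_commute (Commute.refl z) y).2 hy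
      rw [hj] at hm ⊢
      interval_cases j <;> simp_all (config := { decide := true }) [Nat.ModEq]
      -- `z ≠ 1`
      refine absurd hzo' ?_
      have : z = 1 := eq_one_of_fixed_moved hV (by decide) hz7 fun x hx => by
        have : moved z = ⊥ := by
          refine eq_bot_of_card_eq _ ?_
          simpa using hj
        rw [this, mem_bot] at hx
        rw [hx, map_one]
      rw [this, orderOf_one]
      norm_num
    have hgood : Good 7 z := ⟨hz7, .inr ⟨rfl, hz8⟩⟩
    refine hseven ⟨h7, z, hz, hgood, ?_⟩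
    -- `φ` normalizes `⟨z⟩`
    obtain ⟨T7, hT7⟩ := (IsPGroup.of_card (p := 7) (n := 1) (G := ↥(zpowers (⟨z, hz⟩ : ↥G0)))
      (by rw [Nat.card_zpowers, hzo, pow_one])).exists_le_sylow
    have hT7c : Nat.card ↥(T7 : Subgroup ↥G0) = 7 := by
      obtain ⟨n, hn⟩ := T7.isPGroup'.exists_card_eq
      have h1 : n ≤ 1 := by
        by_contra hlt
        have := (pow_dvd_pow 7 (show 2 ≤ n by omega)).trans
          ((hn ▸ card_subgroup_dvd_card (T7 : Subgroup ↥G0)).trans hdvd')
        norm_num at this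
      have h2 := card_le_of_le hT7
      rw [Nat.card_zpowers, hzo, hn] at h2
      interval_cases n <;> simp_all
    have hT7z : (T7 : Subgroup ↥G0) = zpowers (⟨z, hz⟩ : ↥G0) :=
      (eq_of_le_of_card_ge hT7 (by rw [hT7c, Nat.card_zpowers, hzo])).symm
    have hn7 : Nat.card (Sylow 7 ↥G0) = 1 := by
      have h5 : (Nat.card ↥G0).Coprime 5 :=
        Nat.Coprime.symm ((Nat.prime_five.coprime_iff_not_dvd).2 fun h5 =>
          h35 (Nat.Coprime.mul_dvd_of_dvd_of_dvd (by norm_num) h5 h7 : 5 * 7 ∣ Nat.card ↥G0))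
      have h63 : Nat.card ↥G0 ∣ 63 :=
        h5.dvd_of_dvd_mul_left (show Nat.card ↥G0 ∣ 5 * 63 from hdvd')
      have h1 : Nat.card (Sylow 7 ↥G0) ∣ 9 := by
        refine (Sylow.card_dvd_index T7).trans ?_
        have h2 : Nat.card ↥(T7 : Subgroup ↥G0) * (T7 : Subgroup ↥G0).index ∣ 7 * 9 := by
          rw [card_mul_index]; exact h63
        rw [hT7c] at h2
        exact (Nat.mul_dvd_mul_iff_left (by norm_num)).1 h2
      have h2 := card_sylow_modEq_one 7 ↥G0
      have h3 : Nat.card (Sylow 7 ↥G0) ∈ Nat.divisors 9 := Nat.mem_divisors.2 ⟨h1, by norm_num⟩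
      revert h2 h3
      generalize Nat.card (Sylow 7 ↥G0) = m
      intro h2 h3
      fin_cases h3 <;> revert h2 <;> decide
    have hTn : (T7 : Subgroup ↥G0).Normal := by
      rw [← normalizer_eq_top_iff, ← index_eq_one]
      exact (Sylow.card_eq_index_normalizer T7).symm.trans hn7
    have hconj : (⟨φ, hmem.1⟩ : ↥G0) * ⟨z, hz⟩ * (⟨φ, hmem.1⟩ : ↥G0)⁻¹ ∈
        zpowers (⟨z, hz⟩ : ↥G0) := hT7z ▸ hTn.conj_mem _ (hT7z.symm ▸ mem_zpowers _) _
    obtain ⟨i, hi⟩ := mem_zpowers_iff.1 hconj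
    have hi' : z ^ i = φ * z * φ⁻¹ := congrArg Subtype.val hi
    have hφU : φ ∈ stab (moved z) := by
      refine mem_stab_of_map_eq ?_
      rw [← moved_conj, ← hi']
      refine eq_of_le_of_card_ge ?_ (by rw [hi', card_moved_conj])
      intro y hy
      obtain ⟨x, rfl⟩ := exists_of_mem_moved hy
      exact zpow_mem (K := movesInto (moved z)) (fun x => mem_moved z x) i x
    rcases eq_bot_or_eq hV hφ (W := moved φ ⊓ moved z) inf_le_left (fun y hy =>
        ⟨(mem_stab_moved_of_commute (Commute.refl φ) y).2 hy.1, (hφU y).2 hy.2⟩) with hW | hW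
    · exfalso
      have hfix : ∀ y ∈ moved z, φ y = y := fun y hy =>
        div_eq_one.1 (mem_bot.1 (hW ▸ mem_inf.2 ⟨mem_moved φ y, div_mem ((hφU y).2 hy) hy⟩))
      have hcz : Commute φ z := by
        have h1 : z⁻¹ * (φ * z * φ⁻¹) = 1 := by
          refine eq_one_of_fixed_moved hV (n := 7) (by decide) ?_ fun y hy => ?_
          · rw [← hi', ← zpow_neg_one, ← zpow_add, ← zpow_natCast, ← zpow_mul, mul_comm, zpow_mul,
              zpow_natCast, hz7, one_zpow]
          · have hyU : y ∈ moved z := by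
              obtain ⟨x, rfl⟩ := exists_of_mem_moved hy
              rw [← hi']
              exact mul_mem (inv_mem (show z ∈ movesInto (moved z) from fun x => mem_moved z x))
                (zpow_mem (K := movesInto (moved z)) (fun x => mem_moved z x) i) x
            have hy2 : φ⁻¹ y = y := by
              conv_lhs => rw [← hfix y hyU]
              exact inv_app φ y
            rw [MulAut.mul_apply, MulAut.mul_apply, MulAut.mul_apply, hy2,
              hfix _ ((mem_stab_moved_of_commute (Commute.refl z) y).2 hyU)]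
            exact inv_app z y
        rw [inv_mul_eq_one] at h1
        show φ * z = z * φ
        calc φ * z = φ * z * φ⁻¹ * φ := by group
          _ = z * φ := by rw [← h1]
      obtain ⟨T, hT⟩ := (hord hmem.1 hφ.1).exists_le_sylow
      have htop : centralizer ({(⟨φ, hmem.1⟩ : ↥G0)} : Set ↥G0) = ⊤ := by
        set C := centralizer ({(⟨φ, hmem.1⟩ : ↥G0)} : Set ↥G0)
        have hT' : (T : Subgroup ↥G0) ≤ C := fun t ht => mem_centralizer_singleton_iff.2
          (hT9 T t ⟨φ, hmem.1⟩ ht (hT (mem_zpowers _)))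
        have hz' : (T7 : Subgroup ↥G0) ≤ C := hT7z ▸ zpowers_le.2
          (mem_centralizer_singleton_iff.2 (Subtype.ext hcz.eq.symm))
        have h5 : ¬ 5 ∣ Nat.card ↥G0 := fun h5 =>
          h35 ((Nat.Coprime.mul_dvd_of_dvd_of_dvd (by norm_num) h5 h7 : 5 * 7 ∣ Nat.card ↥G0))
        rw [← index_eq_one, Nat.eq_one_iff_not_exists_prime_dvd]
        intro q hq hqd
        have hq' := ((hqd.trans (index_dvd_card C)).trans hdvd')
        have : q ≤ 315 := Nat.le_of_dvd (by norm_num) hq'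
        have hq357 : q = 3 ∨ q = 5 ∨ q = 7 := by
          have e : (315 : ℕ) = 3 ^ 2 * (5 * 7) := by norm_num
          rw [e, hq.dvd_mul, hq.dvd_mul] at hq'
          rcases hq' with h | h | h
          · exact .inl ((Nat.prime_dvd_prime_iff_eq hq Nat.prime_three).1 (hq.dvd_of_dvd_pow h))
          · exact .inr (.inl ((Nat.prime_dvd_prime_iff_eq hq Nat.prime_five).1 h))
          · exact .inr (.inr ((Nat.prime_dvd_prime_iff_eq hq (by norm_num)).1 h))
        rcases hq357 with rfl | rfl | rfl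
        · exact T.not_dvd_index (hqd.trans (index_dvd_of_le hT'))
        · exact h5 (hqd.trans (index_dvd_card C))
        · exact T7.not_dvd_index (hqd.trans (index_dvd_of_le hz'))
      have := mem_centralizer_singleton_iff.1 (htop ▸ mem_top (⟨χ, hmem.2⟩ : ↥G0))
      exact hnc (congrArg Subtype.val this).symm
    · exact hW.ge.trans inf_le_right
  · have h45 : Nat.card ↥G0 ∣ 45 :=
      ((Nat.Prime.coprime_iff_not_dvd (by norm_num : Nat.Prime 7)).2 h7).symm.dvd_of_dvd_mul_left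
        (show Nat.card ↥G0 ∣ 7 * 45 from hdvd')
    obtain ⟨T, hT⟩ := (hord hmem.1 hφ.1).exists_le_sylow
    obtain ⟨T', hT'⟩ := (hord hmem.2 hχ.1).exists_le_sylow
    have hT3 : Nat.card (Sylow 3 ↥G0) = 1 := by
      have h1 : Nat.card (Sylow 3 ↥G0) ∣ 5 := by
        refine Nat.Coprime.dvd_of_dvd_mul_left ?_
          ((Sylow.card_dvd_index T).trans ((index_dvd_card _).trans
            (show Nat.card ↥G0 ∣ 3 ^ 2 * 5 from h45)))
        refine (Nat.Coprime.pow_right 2 ?_)
        rw [Nat.coprime_comm, Nat.prime_three.coprime_iff_not_dvd]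
        have := card_sylow_modEq_one 3 ↥G0
        intro h3'
        have := (Nat.ModEq.dvd_iff this dvd_rfl).1 h3'
        norm_num at this
      rcases (Nat.dvd_prime Nat.prime_five).1 h1 with h | h
      · exact h
      · have := card_sylow_modEq_one 3 ↥G0
        rw [h] at this
        exact absurd this (by decide)
    have : Subsingleton (Sylow 3 ↥G0) := (Nat.card_eq_one_iff_unique.1 hT3).1
    exact hnc (congrArg Subtype.val
      (hT9 T ⟨φ, hmem.1⟩ ⟨χ, hmem.2⟩ (hT (mem_zpowers _))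
        (Subsingleton.elim T' T ▸ hT' (mem_zpowers _))))

end Cfsg.Agent.Cores.MovedFour
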