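import Cfsg.Agent.Cores.ThirdMain
import Cfsg.Agent.BlockBasic.PSection
import Cfsg.Agent.BlockBasic.Covering
import Cfsg.Agent.H81.CoverParity

/-!
# The principal block and normal subgroups
-/

open scoped ComplexConjugate

namespace Cfsg.Agent.Cores

open MonoidAlgebra BlockBasic CharBasic

universe u

variable {G : Type u} [Group G] [Fintype G] {p : ℕ} {M : Ideal AlgInt} [Fact p.Prime]

/-- Pairs `(u, y)` of a `p`-element and a `p`-regular element with `p`-regular product in `N`,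
counted modulo `p`. -/
theorem not_dvd_card_pairs_mem (N : Subgroup G) [N.Normal] :
    ¬ p ∣ Nat.card {xy : G × G // ((∃ k : ℕ, orderOf xy.1 = p ^ k) ∧ ¬ p ∣ orderOf xy.2) ∧
      xy.1 * xy.2 ∈ N ∧ ¬ p ∣ orderOf (xy.1 * xy.2)} := by
  classical
  let P : Sylow p G := default
  let C := Subgroup.centralizer ((P : Subgroup G) : Set G)
  set X := {xy : G × G // ((∃ k : ℕ, orderOf xy.1 = p ^ k) ∧ ¬ p ∣ orderOf xy.2) ∧
      xy.1 * xy.2 ∈ N ∧ ¬ p ∣ orderOf (xy.1 * xy.2)}
  have hord : ∀ c g : G, orderOf (c * g * c⁻¹) = orderOf g := fun c g => by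
    rw [← MulAut.conj_apply, MulEquiv.orderOf_eq]
  have hmul : ∀ c a b : G, c * a * c⁻¹ * (c * b * c⁻¹) = c * (a * b) * c⁻¹ := fun c a b => by group
  let act : MulAction P X :=
    { smul := fun q x => ⟨((q : G) * x.1.1 * (q : G)⁻¹, (q : G) * x.1.2 * (q : G)⁻¹), by
        simp only [hord, hmul]
        exact ⟨x.2.1, ‹N.Normal›.conj_mem _ x.2.2.1 _, x.2.2.2⟩⟩
      one_smul := fun x => Subtype.ext (Prod.ext
        (by show ((1 : P) : G) * x.1.1 * ((1 : P) : G)⁻¹ = x.1.1; simp)
        (by show ((1 : P) : G) * x.1.2 * ((1 : P) : G)⁻¹ = x.1.2; simp))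
      mul_smul := fun a b x => Subtype.ext (Prod.ext
        (by show ((a * b : P) : G) * x.1.1 * ((a * b : P) : G)⁻¹ =
              (a : G) * ((b : G) * x.1.1 * (b : G)⁻¹) * (a : G)⁻¹
            rw [Subgroup.coe_mul]; group)
        (by show ((a * b : P) : G) * x.1.2 * ((a * b : P) : G)⁻¹ =
              (a : G) * ((b : G) * x.1.2 * (b : G)⁻¹) * (a : G)⁻¹
            rw [Subgroup.coe_mul]; group)) }
  have hmod := P.isPGroup'.card_modEq_card_fixedPoints X
  have hfix : ∀ x : X, x ∈ MulAction.fixedPoints P X → x.1.1 = 1 ∧ x.1.2 ∈ C := by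
    intro x hx
    rw [MulAction.mem_fixedPoints] at hx
    have h1 : ∀ q ∈ (P : Subgroup G), q * x.1.1 = x.1.1 * q := fun q hq =>
      mul_inv_eq_iff_eq_mul.1 (congrArg (fun z : X => z.1.1) (hx ⟨q, hq⟩))
    have h2 : ∀ q ∈ (P : Subgroup G), q * x.1.2 = x.1.2 * q := fun q hq =>
      mul_inv_eq_iff_eq_mul.1 (congrArg (fun z : X => z.1.2) (hx ⟨q, hq⟩))
    obtain ⟨k, hk⟩ := x.2.1.1
    have hu : x.1.1 ∈ (P : Subgroup G) := by
      have hn : x.1.1 ∈ Subgroup.normalizer (P : Set G) :=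
        Subgroup.centralizer_le_normalizer _ (Subgroup.mem_centralizer_iff.2 fun q hq => h1 q hq)
      have hz : IsPGroup p (Subgroup.zpowers x.1.1) :=
        IsPGroup.of_card (by rw [Nat.card_zpowers, hk])
      have hle := hz.inf_normalizer_sylow P
      rw [inf_eq_left.2 (Subgroup.zpowers_le.2 hn)] at hle
      have := (inf_eq_left.1 hle.symm) (Subgroup.mem_zpowers x.1.1)
      exact this
    have hcomm : Commute x.1.1 x.1.2 := h2 _ hu
    have hcop : (orderOf x.1.1).Coprime (orderOf x.1.2) := by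
      rw [hk]
      exact Nat.Coprime.pow_left _ ((Fact.out : p.Prime).coprime_iff_not_dvd.2 x.2.1.2)
    have hu1 : x.1.1 = 1 := by
      have h3 := hcomm.orderOf_mul_eq_mul_orderOf_of_coprime hcop
      have h4 := x.2.2.2
      rw [h3, hk] at h4
      rcases k with _ | k
      · exact orderOf_eq_one_iff.1 (by simpa using hk)
      · exact absurd (dvd_mul_of_dvd_left (dvd_pow_self p k.succ_ne_zero) _) h4
    exact ⟨hu1, Subgroup.mem_centralizer_iff.2 fun q hq => h2 q hq⟩
  have hcard : Nat.card (MulAction.fixedPoints P X) =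
      Nat.card {y : (N ⊓ C : Subgroup G) // ¬ p ∣ orderOf y} := by
    refine Nat.card_congr
      { toFun := fun x => ⟨⟨x.1.1.2, by
            have h := x.1.2.2.1
            rw [(hfix x.1 x.2).1, one_mul] at h
            exact ⟨h, (hfix x.1 x.2).2⟩⟩, by rw [← Subgroup.orderOf_coe]; exact x.1.2.1.2⟩
        invFun := fun y => ⟨⟨(1, ((y : (N ⊓ C : Subgroup G)) : G)),
          ⟨⟨0, by simp⟩, by rw [Subgroup.orderOf_coe]; exact y.2⟩,
          by rw [one_mul]; exact y.1.2.1,
          by rw [one_mul, Subgroup.orderOf_coe]; exact y.2⟩, ?_⟩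
        left_inv := fun x => Subtype.ext (Subtype.ext (Prod.ext (hfix x.1 x.2).1.symm rfl))
        right_inv := fun y => rfl }
    rw [MulAction.mem_fixedPoints]
    intro q
    refine Subtype.ext (Prod.ext ?_ ?_)
    · show (q : G) * 1 * (q : G)⁻¹ = 1
      simp
    · show (q : G) * ((y : (N ⊓ C : Subgroup G)) : G) * (q : G)⁻¹ = ((y : (N ⊓ C : Subgroup G)) : G)
      rw [mul_inv_eq_iff_eq_mul]
      exact Subgroup.mem_centralizer_iff.1 y.1.2.2 q q.2
  intro hdvd
  refine not_dvd_card_regular (G := (N ⊓ C : Subgroup G)) (p := p) ?_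
  rw [← hcard]
  exact hmod.dvd_iff (dvd_refl p) |>.1 hdvd

/-- The principal idempotent has non-vanishing augmentation on every normal subgroup. -/
theorem not_memLocalIdeal_sum_blockCoeff_normal (hM : IsPModular p M) (N : Subgroup G) [N.Normal]
    [Fintype N] :
    ¬ MemLocalIdeal M (∑ n : N, blockCoeff (principalBlock M G) n) := by
  classical
  intro hmem
  set S : Finset G := Finset.univ.filter fun y => ¬ p ∣ orderOf y
  set T : Finset N := Finset.univ.filter fun n => ¬ p ∣ orderOf (n : G)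
  have hsum : (S.card : ℂ) * (∑ n : N, blockCoeff (principalBlock M G) n) =
      ∑ n ∈ T, (S.card : ℂ) * blockCoeff (principalBlock M G) n := by
    rw [Finset.mul_sum]
    refine (Finset.sum_subset (Finset.subset_univ T) fun n _ hn => ?_).symm
    rw [blockCoeff_eq_zero_of_singular hM (isPBlock_principalBlock M) (by simpa [T] using hn), mul_zero]
  have hcard : (Nat.card {xy : G × G // ((∃ k : ℕ, orderOf xy.1 = p ^ k) ∧ ¬ p ∣ orderOf xy.2) ∧
      xy.1 * xy.2 ∈ N ∧ ¬ p ∣ orderOf (xy.1 * xy.2)} : ℂ) = ∑ n ∈ T, (Nat.card {xy : G × G //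
        (∃ k : ℕ, orderOf xy.1 = p ^ k) ∧ ¬ p ∣ orderOf xy.2 ∧ xy.1 * xy.2 = (n : G)} : ℂ) := by
    rw [← Nat.cast_sum]
    congr 1
    rw [← Finset.sum_coe_sort T, ← Nat.card_sigma]
    exact Nat.card_congr
      { toFun := fun x => ⟨⟨⟨x.1.1 * x.1.2, x.2.2.1⟩,
            Finset.mem_filter.2 ⟨Finset.mem_univ _, x.2.2.2⟩⟩,
          ⟨x.1, x.2.1.1, x.2.1.2, rfl⟩⟩
        invFun := fun s => ⟨s.2.1, ⟨s.2.2.1, s.2.2.2.1⟩, by rw [s.2.2.2.2]; exact s.1.1.2,
          by rw [s.2.2.2.2]; exact (Finset.mem_filter.1 s.1.2).2⟩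
        left_inv := fun x => rfl
        right_inv := by rintro ⟨⟨⟨n, hn⟩, hT⟩, ⟨xy, h1, h2, (h3 : xy.1 * xy.2 = n)⟩⟩; subst h3; rfl }
  have h1 : MemLocalIdeal M (∑ n ∈ T, ((S.card : ℂ) * blockCoeff (principalBlock M G) n -
      (Nat.card {xy : G × G //
        (∃ k : ℕ, orderOf xy.1 = p ^ k) ∧ ¬ p ∣ orderOf xy.2 ∧ xy.1 * xy.2 = (n : G)} : ℂ))) :=
    memLocalIdeal_sum hM _ _ fun n hn =>
      principalBlock_coeff_congr hM (n : G) (Finset.mem_filter.1 hn).2
  rw [Finset.sum_sub_distrib, ← hsum, ← hcard] at h1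
  have h2 := memLocalIdeal_add hM (memLocalIdeal_mul hM (memLocalRing_natCast hM S.card) hmem)
    (memLocalIdeal_neg h1)
  rw [neg_sub, add_sub_cancel] at h2
  exact not_dvd_card_pairs_mem N ((memLocalIdeal_natCast_iff hM _).1 h2)

/-- Every character in the principal block of a normal subgroup lies under one in the principal
block. -/
theorem exists_over_principalBlock (hM : IsPModular p M) (N : Subgroup G) [N.Normal] [Fintype N]
    {θ : IrrCharacter N} (hθ : θ ∈ principalBlock M N) :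
    ∃ χ ∈ principalBlock M G, classInner (fun n : N => (χ : G → ℂ) n) (θ : N → ℂ) ≠ 0 := by
  classical
  by_contra! h
  set z := blockElem (principalBlock M G)
  have hc := omega_congr hM (χ := fun _ : N => (1 : ℂ)) (fun _ _ => rfl) (IsIrr.isClassFunction θ.2)
    hθ (isCentralElt_resMap (H := N) (isCentralElt_blockElem (principalBlock M G)))
    (isIntElt_resMap (H := N) (isIntElt_blockElem hM (isPBlock_principalBlock M)))
  have h0 : chiLin (θ : N → ℂ) (resMap N z) = 0 := by
    have hL : chiLin (θ : N → ℂ) (resMap N z) = (Nat.card G : ℂ)⁻¹ * ∑ᶠ χ ∈ principalBlock M G,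
        (χ : G → ℂ) 1 * ((Nat.card N : ℂ) * conj (classInner (fun n : N => (χ : G → ℂ) n) (θ : N → ℂ))) := by
      simp only [chiLin, coeff_resMap, z, coeff_blockElem, blockCoeff, finsum_mem_eq_sum_ite,
        Finset.mul_sum, Finset.sum_mul]
      rw [Finset.sum_comm]
      refine Finset.sum_congr rfl fun χ _ => ?_
      split_ifs
      · rw [classInner_def, map_mul, map_inv₀, Complex.conj_natCast, ← mul_assoc (Nat.card N : ℂ),
          mul_inv_cancel₀ (Nat.cast_ne_zero.2 Nat.card_pos.ne'), one_mul, map_sum, Finset.mul_sum,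
          Finset.mul_sum]
        exact Finset.sum_congr rfl fun n _ => by rw [map_mul, Complex.conj_conj]; ring
      · simp
    rw [hL, finsum_mem_congr rfl (g := fun _ => (0 : ℂ)) fun χ hχ => by rw [h χ hχ]; simp]
    simp
  rw [show omega (θ : N → ℂ) (resMap N z) = 0 by rw [omega, h0, zero_div], sub_zero] at hc
  refine not_memLocalIdeal_sum_blockCoeff_normal hM N ?_
  simpa [omega, chiLin, coeff_resMap, coeff_blockElem] using hc

end Cfsg.Agent.Cores
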