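import Cfsg.Agent.Cores.ThirdMain
import Cfsg.Agent.CharBasic.Kernel
import Cfsg.Agent.CharBasic.Complete
import Cfsg.Agent.BlockBasic.Kernel
import Cfsg.Agent.CharInduce.Ops
import Mathlib.FieldTheory.Minpoly.Field

/-!
# The principal block through the sum over `p`-regular elements: rationality and inflation
-/

open scoped ComplexConjugate

namespace Cfsg.Agent.Cores

open MonoidAlgebra BlockBasic CharBasic Polynomial

universe u

variable {G : Type u} [Group G] [Fintype G] {p : ℕ} {M : Ideal AlgInt} [Fact p.Prime]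

theorem omega_regElt_ne_zero_iff (hM : IsPModular p M) (χ : IrrCharacter G) :
    omega (χ : G → ℂ) (regElt p) ≠ 0 ↔ χ ∈ principalBlock M G := by
  refine ⟨fun h => by_contra fun hn => h (omega_regElt_eq_zero hM hn), fun h h0 => ?_⟩
  have hc := omega_congr hM (χ := fun _ : G => (1 : ℂ)) (fun _ _ => rfl) (IsIrr.isClassFunction χ.2) h
    (isCentralElt_regElt p) (isIntElt_regElt hM)
  rw [h0, sub_zero] at hc
  exact not_memLocalIdeal_omega_regElt hM hc

/-- The principal block consists of the characters with non-zero sum over `p`-regular elements. -/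
theorem mem_principalBlock_iff_sum_regular (hM : IsPModular p M) (χ : IrrCharacter G)
    [DecidablePred fun x : G => ¬ p ∣ orderOf x] :
    χ ∈ principalBlock M G ↔ ∑ x : G with ¬ p ∣ orderOf x, (χ : G → ℂ) x ≠ 0 := by
  classical
  rw [← omega_regElt_ne_zero_iff hM, omega, chiLin]
  simp only [regElt, coeff_ofFun, ite_mul, one_mul, zero_mul, ← Finset.sum_filter]
  rw [Ne, Ne, div_eq_zero_iff, or_iff_left (irr_one_ne_zero χ.2)]

omit [Fact p.Prime] in
theorem omega_aeval {χ : G → ℂ} (hχ : IsIrrCharacter G χ) {z : MonoidAlgebra ℂ G}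
    (hz : IsCentralElt z) (f : Polynomial ℚ) :
    IsCentralElt (aeval z f) ∧ omega χ (aeval z f) = aeval (omega χ z) f := by
  induction f using Polynomial.induction_on' with
  | add f g hf hg =>
    rw [map_add, map_add, omega_add, hf.2, hg.2]
    exact ⟨hf.1.add hg.1, rfl⟩
  | monomial n q =>
    rw [aeval_monomial, aeval_monomial, ← Algebra.smul_def, ← Algebra.smul_def,
      ← algebraMap_smul ℂ q (z ^ n), omega_smul, omega_pow hχ hz]
    exact ⟨(hz.pow n).smul _, rfl⟩

/-- The coefficients of the principal block idempotent are rational. -/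
theorem exists_rat_blockCoeff_principal (hM : IsPModular p M) (g : G) :
    ∃ q : ℚ, blockCoeff (principalBlock M G) g = (q : ℂ) := by
  classical
  let z' : MonoidAlgebra ℚ G :=
    .ofCoeff (Finsupp.equivFunOnFinite.symm fun x => if ¬ p ∣ orderOf x then 1 else 0)
  let φ : MonoidAlgebra ℚ G →ₐ[ℚ] MonoidAlgebra ℂ G :=
    (MonoidAlgebra.mapRingHom G (algebraMap ℚ ℂ)).toRatAlgHom
  have hφz : φ z' = regElt p := by
    apply MonoidAlgebra.coeff_injective
    ext x
    simp [φ, z', regElt, apply_ite (algebraMap ℚ ℂ)]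
  haveI : Module.Finite ℚ (MonoidAlgebra ℚ G) := Module.Finite.of_basis (MonoidAlgebra.basis G ℚ)
  have hint : IsIntegral ℚ z' := IsIntegral.of_finite ℚ z'
  obtain ⟨f, hf, hf0⟩ := Polynomial.exists_eq_pow_rootMultiplicity_mul_and_not_dvd
    (minpoly ℚ z') (minpoly.ne_zero hint) 0
  rw [map_zero, sub_zero] at hf hf0
  set m := (minpoly ℚ z').rootMultiplicity 0
  have hfz : f.coeff 0 ≠ 0 := fun h => hf0 (X_dvd_iff.2 h)
  set q : Polynomial ℚ := 1 - Polynomial.C (f.coeff 0)⁻¹ * f with hq
  have he : blockElem (principalBlock M G) = aeval (regElt (G := G) p) q := by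
    refine eq_of_omega_eq (isCentralElt_blockElem _) (omega_aeval trivialIrr.2 (isCentralElt_regElt p) q).1
      fun χ => ?_
    rw [omega_blockElem, (omega_aeval χ.2 (isCentralElt_regElt p) q).2]
    have hroot : aeval (omega (χ : G → ℂ) (regElt p)) (minpoly ℚ z') = 0 := by
      rw [← (omega_aeval χ.2 (isCentralElt_regElt p) _).2, ← hφz, aeval_algHom_apply, minpoly.aeval,
        map_zero]
      simp [omega, chiLin]
    simp only [hq, map_sub, map_one, map_mul, aeval_C]
    by_cases hχ : χ ∈ principalBlock M G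
    · rw [if_pos hχ]
      rw [hf, map_mul, map_pow, aeval_X] at hroot
      rw [(mul_eq_zero.1 hroot).resolve_left
        (pow_ne_zero _ ((omega_regElt_ne_zero_iff hM χ).2 hχ)), mul_zero, sub_zero]
    · rw [if_neg hχ, omega_regElt_eq_zero hM hχ, Polynomial.aeval_def, Polynomial.eval₂_at_zero,
        ← map_mul, inv_mul_cancel₀ hfz, map_one, sub_self]
  rw [← coeff_blockElem, he, ← hφz, aeval_algHom_apply]
  refine ⟨(aeval z' q).coeff g, ?_⟩
  simp [φ]

/-- `∑ |χ(x)|²` over the principal block is a positive rational integer. -/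
theorem exists_nat_blockKernel_principal (hM : IsPModular p M) (x : G) :
    ∃ n : ℕ, 0 < n ∧ blockKernel (principalBlock M G) x x = (n : ℂ) := by
  classical
  have hrat : ∃ q : ℚ, blockKernel (principalBlock M G) x x = (q : ℂ) := by
    choose q hq using exists_rat_blockCoeff_principal (G := G) hM
    refine ⟨(Nat.card (Subgroup.centralizer ({x} : Set G)) : ℚ) *
      ∑ h with IsConj x h, q (h * x⁻¹), ?_⟩
    rw [← card_centralizer_mul_sum_blockElem]
    push_cast
    congr 1
    exact Finset.sum_congr (by ext; simp) fun h _ => by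
      rw [coeff_mul_single_apply, mul_one, coeff_blockElem, hq]
  obtain ⟨q, hq⟩ := hrat
  have hint : IsIntegral ℤ (blockKernel (principalBlock M G) x x) := by
    rw [blockKernel, finsum_mem_eq_sum_ite]
    refine IsIntegral.sum _ fun χ _ => ?_
    split_ifs
    · exact (isIntegral_apply χ x).mul (isIntegral_conj_apply χ x)
    · exact isIntegral_zero
  rw [hq] at hint
  have hint' : IsIntegral ℤ q :=
    (isIntegral_algebraMap_iff (algebraMap ℚ ℂ).injective).1 (by simpa using hint)
  obtain ⟨z, hz⟩ := IsIntegrallyClosed.isIntegral_iff.1 hint'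
  have hre : ((∑ χ : IrrCharacter G, if χ ∈ principalBlock M G then
      Complex.normSq ((χ : G → ℂ) x) else 0 : ℝ) : ℂ) = ((z : ℝ) : ℂ) := by
    have h1 : blockKernel (principalBlock M G) x x = ((z : ℝ) : ℂ) := by
      rw [hq, ← hz]; simp
    rw [← h1, blockKernel, finsum_mem_eq_sum_ite, Complex.ofReal_sum]
    refine Finset.sum_congr rfl fun χ _ => ?_
    split_ifs
    · rw [Complex.mul_conj]
    · simp
  have hpos : (1 : ℝ) ≤ z := by
    rw [← Complex.ofReal_injective hre]
    refine le_trans (le_of_eq ?_) (Finset.single_le_sum (fun χ _ => ?_) (Finset.mem_univ trivialIrr))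
    · rw [if_pos (show trivialIrr ∈ principalBlock M G from sameBlock_refl hM _)]
      simp [trivialIrr]
    · split_ifs
      · exact Complex.normSq_nonneg _
      · exact le_rfl
  have hz1 : (1 : ℤ) ≤ z := by exact_mod_cast hpos
  refine ⟨z.toNat, by omega, ?_⟩
  obtain ⟨k, rfl⟩ := Int.eq_ofNat_of_zero_le (show 0 ≤ z by omega)
  rw [hq, ← hz]
  simp

omit [Fact p.Prime] in
/-- The inflation of a character. -/
noncomputable def inflIrr (N : Subgroup G) [N.Normal] (ψ : IrrCharacter (G ⧸ N)) : IrrCharacter G :=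
  ⟨fun g => (ψ : G ⧸ N → ℂ) g,
    CharInduce.IsIrr.comp ψ.2 (QuotientGroup.mk' N) (QuotientGroup.mk'_surjective N)⟩

/-- Inflation from a quotient by a `p'`-group respects the principal block. -/
theorem inflIrr_mem_principalBlock_iff (hM : IsPModular p M) (N : Subgroup G) [N.Normal]
    (hN : ¬ p ∣ Nat.card N) (ψ : IrrCharacter (G ⧸ N)) :
    inflIrr N ψ ∈ principalBlock M G ↔ ψ ∈ principalBlock M (G ⧸ N) := by
  classical
  haveI : Fintype (G ⧸ N) := Fintype.ofFinite _
  have hreg : ∀ g : G, p ∣ orderOf g ↔ p ∣ orderOf (g : G ⧸ N) := by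
    intro g
    refine ⟨fun h => ?_, fun h => h.trans (orderOf_map_dvd (QuotientGroup.mk' N) g)⟩
    set d := orderOf (g : G ⧸ N) with hd
    have hmem : g ^ d ∈ N := by
      rw [← QuotientGroup.eq_one_iff, QuotientGroup.mk_pow, hd, pow_orderOf_eq_one]
    have hdvd : orderOf g ∣ d * Nat.card N := by
      rw [orderOf_dvd_iff_pow_eq_one, pow_mul]
      exact congrArg Subtype.val (pow_card_eq_one' (x := (⟨g ^ d, hmem⟩ : N)))
    exact ((Fact.out : p.Prime).dvd_mul.1 (h.trans hdvd)).resolve_right hN
  rw [mem_principalBlock_iff_sum_regular hM, mem_principalBlock_iff_sum_regular hM]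
  have key : ∑ x : G with ¬ p ∣ orderOf x, (inflIrr N ψ : G → ℂ) x =
      (Nat.card N : ℂ) * ∑ y : G ⧸ N with ¬ p ∣ orderOf y, (ψ : G ⧸ N → ℂ) y := by
    rw [Finset.sum_filter, Finset.sum_filter, ← Finset.sum_fiberwise Finset.univ
      (fun x : G => (x : G ⧸ N)), Finset.mul_sum]
    refine Finset.sum_congr rfl fun y _ => ?_
    rw [Finset.sum_congr rfl (g := fun _ => if ¬ p ∣ orderOf y then (ψ : G ⧸ N → ℂ) y else 0)
      (fun x hx => ?_), Finset.sum_const, nsmul_eq_mul]
    · congr 1
      obtain ⟨g, rfl⟩ := QuotientGroup.mk_surjective y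
      rw [← Fintype.card_subtype, ← Nat.card_eq_fintype_card]
      norm_cast
      refine Nat.card_congr
        { toFun := fun x => ⟨g⁻¹ * x.1, QuotientGroup.eq.1 x.2.symm⟩
          invFun := fun n => ⟨g * n.1, (QuotientGroup.eq.2 (by simpa using n.2)).symm⟩
          left_inv := fun x => Subtype.ext (by simp)
          right_inv := fun n => Subtype.ext (by simp) }
    · have hxy : (x : G ⧸ N) = y := (Finset.mem_filter.1 hx).2
      rw [← hxy]
      simp only [inflIrr, hreg]
  rw [key, mul_ne_zero_iff, and_iff_right (Nat.cast_ne_zero.2 (Nat.card_pos (α := N)).ne')]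

/-- Summing over the principal blocks of `G` and of `G/N` for a normal `p'`-subgroup `N`. -/
theorem sum_principalBlock_quotient {A : Type*} [AddCommMonoid A] (hM : IsPModular p M)
    (N : Subgroup G) [N.Normal] (hN : ¬ p ∣ Nat.card N) (F : (G → ℂ) → A) :
    ∑ᶠ χ ∈ principalBlock M G, F (χ : G → ℂ) =
      ∑ᶠ ψ ∈ principalBlock M (G ⧸ N), F (fun g => (ψ : G ⧸ N → ℂ) g) := by
  classical
  have hinj : Set.InjOn (inflIrr N) (principalBlock M (G ⧸ N)) := fun a _ b _ h => by
    apply Subtype.ext
    funext y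
    obtain ⟨g, rfl⟩ := QuotientGroup.mk_surjective y
    exact congrArg (fun c : IrrCharacter G => (c : G → ℂ) g) h
  have himg : inflIrr N '' principalBlock M (G ⧸ N) = principalBlock M G := by
    ext χ
    constructor
    · rintro ⟨ψ, hψ, rfl⟩
      exact (inflIrr_mem_principalBlock_iff hM N hN ψ).2 hψ
    · intro hχ
      obtain ⟨f, -, hf, hirr⟩ := CharInduce.IsChar.exists_deflate (IsIrr.isCharacter χ.2) N
        fun n hn => H82.apply_eq_of_mem_principalBlock hM hχ N hN hn
      have he : inflIrr N ⟨f, hirr χ.2⟩ = χ := Subtype.ext (funext fun g => (hf g).symm)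
      refine ⟨⟨f, hirr χ.2⟩, (inflIrr_mem_principalBlock_iff hM N hN _).1 ?_, he⟩
      rw [he]; exact hχ
  rw [← himg, finsum_mem_image hinj]
  rfl

end Cfsg.Agent.Cores
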