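import Cfsg.Agent.H80.Glauberman
import Cfsg.Agent.CharBasic.Kernel
import Cfsg.Agent.CharInduce.Ops
import Cfsg.Agent.Coprime.Generation
import Mathlib.GroupTheory.SchurZassenhaus
import Mathlib.GroupTheory.Abelianization.Defs

/-!
# Groups in which irreducible characters are multiplicative on elements of coprime prime power order
-/

set_option linter.unusedSectionVars false
set_option linter.style.haveILetI false

open scoped ComplexConjugate commutatorElement

namespace Cfsg.Agent.Cores.ProductRule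

open Subgroup CharBasic

universe u

variable {G : Type u} [Group G] [Fintype G]

/-- The product rule. -/
def Rule (G : Type u) [Group G] : Prop :=
  ∀ (x y : G) (χ : Cfsg.IrrCharacter G), x ≠ 1 → y ≠ 1 →
    (∃ p q a b : ℕ, p.Prime ∧ q.Prime ∧ p ≠ q ∧ orderOf x = p ^ a ∧ orderOf y = q ^ b) →
    (χ : G → ℂ) (x * y) = (χ : G → ℂ) x * (χ : G → ℂ) y

theorem linear_mul {χ : Cfsg.IrrCharacter G} (h : (χ : G → ℂ) 1 = 1) (x y : G) :
    (χ : G → ℂ) (x * y) = (χ : G → ℂ) x * (χ : G → ℂ) y := by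
  obtain ⟨l, hl⟩ := CharInduce.IsChar.exists_hom_of_degree_one (IsIrr.isCharacter χ.2) h
  rw [hl, hl, hl, map_mul, Units.val_mul]

theorem linear_commutator {χ : Cfsg.IrrCharacter G} (h : (χ : G → ℂ) 1 = 1) {d : G}
    (hd : d ∈ commutator G) (g : G) : (χ : G → ℂ) (g * d) = (χ : G → ℂ) g := by
  obtain ⟨l, hl⟩ := CharInduce.IsChar.exists_hom_of_degree_one (IsIrr.isCharacter χ.2) h
  have hd1 : l d = 1 := Abelianization.commutator_subset_ker l hd
  rw [hl, hl, map_mul, hd1, mul_one]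

theorem apply_conj (χ : Cfsg.IrrCharacter G) (g x : G) :
    (χ : G → ℂ) (x * g * x⁻¹) = (χ : G → ℂ) g :=
  IsIrr.isClassFunction χ.2 g x

theorem mul_eq_zero_of_rule (h : Rule G) {x y : G} (hx : x ≠ 1) (hy : y ≠ 1) {p q a b : ℕ}
    (hp : p.Prime) (hq : q.Prime) (hpq : p ≠ q) (ha : orderOf x = p ^ a) (hb : orderOf y = q ^ b)
    {χ : Cfsg.IrrCharacter G} (hχ : (χ : G → ℂ) 1 ≠ 1) :
    (χ : G → ℂ) x * (χ : G → ℂ) y = 0 := by
  have hterm : ∀ c : G, (χ : G → ℂ) (x * (c * y * c⁻¹)) = (χ : G → ℂ) x * (χ : G → ℂ) y := by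
    intro c
    rw [h x (c * y * c⁻¹) χ hx (fun e => hy (by simpa using e))
      ⟨p, q, a, b, hp, hq, hpq, ha, by rw [← MulAut.conj_apply, MulEquiv.orderOf_eq]; exact hb⟩,
      apply_conj]
  have h1 := H80.sum_conj_mul χ x y
  simp only [hterm, Finset.sum_const, Finset.card_univ, nsmul_eq_mul, ← Nat.card_eq_fintype_card]
    at h1
  have hG : (Nat.card G : ℂ) ≠ 0 := Nat.cast_ne_zero.2 Nat.card_pos.ne'
  have h2 : ((χ : G → ℂ) 1 - 1) * ((χ : G → ℂ) x * (χ : G → ℂ) y) = 0 := by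
    apply mul_left_cancel₀ hG
    linear_combination h1
  exact (mul_eq_zero.1 h2).resolve_left (sub_ne_zero.2 hχ)

/-- Vanishing on all non-trivial elements of a Sylow subgroup forces full divisibility. -/
theorem dvd_degree_of_vanish {q : ℕ} [Fact q.Prime] {χ : Cfsg.IrrCharacter G} {n : ℕ}
    (hn : (χ : G → ℂ) 1 = n)
    (h : ∀ y : G, y ≠ 1 → (∃ b, orderOf y = q ^ b) → (χ : G → ℂ) y = 0) {k : ℕ}
    (hk : q ^ k ∣ Nat.card G) : q ^ k ∣ n := by
  classical
  let Q : Sylow q G := default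
  haveI := Fintype.ofFinite (Q : Subgroup G)
  refine (Q.pow_dvd_card_of_pow_dvd_card hk).trans ?_
  obtain ⟨m, hm⟩ := classInner_isChar_nat
    (CharInduce.IsChar.res (IsIrr.isCharacter χ.2) (Q : Subgroup G))
    (CharInduce.IsChar.one (G := (Q : Subgroup G)))
  rw [classInner_def] at hm
  simp only [map_one, mul_one] at hm
  have e1 : ∑ y : (Q : Subgroup G), (χ : G → ℂ) y = n := by
    rw [← hn, ← Subgroup.coe_one (Q : Subgroup G)]
    refine Finset.sum_eq_single (1 : (Q : Subgroup G)) (fun y _ hy => ?_) (by simp)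
    obtain ⟨b, hb⟩ := IsPGroup.iff_orderOf.1 Q.isPGroup' y
    exact h y (fun e => hy (Subtype.ext e)) ⟨b, by rw [Subgroup.orderOf_coe]; exact hb⟩
  rw [e1, inv_mul_eq_iff_eq_mul₀ (Nat.cast_ne_zero.2 Nat.card_pos.ne')] at hm
  exact ⟨m, by exact_mod_cast hm⟩

theorem sq_degree_lt {χ : Cfsg.IrrCharacter G} (hχ : (χ : G → ℂ) 1 ≠ 1) {n : ℕ}
    (hn : (χ : G → ℂ) 1 = n) : n ^ 2 < Nat.card G := by
  classical
  choose d hd using fun ψ : Cfsg.IrrCharacter G => IsIrr.exists_degree ψ.2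
  have hsum : ∑ ψ : Cfsg.IrrCharacter G, d ψ ^ 2 = Nat.card G := by
    have h := sum_sq_degree (G := G)
    simp only [(hd _).2] at h
    exact_mod_cast h
  let one : Cfsg.IrrCharacter G := ⟨_, CharInduce.isIrrCharacter_hom (1 : G →* ℂˣ)⟩
  have hone : d one = 1 := by
    have h := (hd one).2
    simp only [one, MonoidHom.one_apply, Units.val_one] at h
    exact_mod_cast h.symm
  have hne : χ ≠ one := by
    intro e
    apply hχ
    rw [(hd χ).2, e, hone, Nat.cast_one]
  have hnd : d χ = n := by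
    have h := (hd χ).2
    rw [hn] at h
    exact_mod_cast h.symm
  have hle := Finset.sum_le_sum_of_subset (f := fun ψ => d ψ ^ 2)
    (Finset.subset_univ ({χ, one} : Finset (Cfsg.IrrCharacter G)))
  rw [Finset.sum_pair hne, hsum, hone, hnd] at hle
  omega

/-- All non-linear irreducible characters vanish at `g`. -/
def Vanish (g : G) : Prop := ∀ χ : Cfsg.IrrCharacter G, (χ : G → ℂ) 1 ≠ 1 → (χ : G → ℂ) g = 0

theorem isConj_mul_commutator {g d : G} (hg : Vanish g) (hd : d ∈ commutator G) :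
    IsConj g (g * d) := by
  classical
  by_contra hne
  have h := second_orthogonality_not_isConj hne
  let one : Cfsg.IrrCharacter G := ⟨_, CharInduce.isIrrCharacter_hom (1 : G →* ℂˣ)⟩
  have hterm : ∀ χ : Cfsg.IrrCharacter G, (χ : G → ℂ) g * conj ((χ : G → ℂ) (g * d)) =
      if (χ : G → ℂ) 1 = 1 then 1 else 0 := by
    intro χ
    split_ifs with h1
    · rw [linear_commutator h1 hd]
      obtain ⟨l, hl⟩ := CharInduce.IsChar.exists_hom_of_degree_one (IsIrr.isCharacter χ.2) h1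
      rw [hl, Complex.mul_conj', CharInduce.norm_hom, Complex.ofReal_one, one_pow]
    · rw [hg χ h1, zero_mul]
  simp only [hterm, Finset.sum_boole, Nat.cast_eq_zero, Finset.card_eq_zero] at h
  exact Finset.notMem_empty one (h ▸ Finset.mem_filter.2 ⟨Finset.mem_univ _, by simp [one]⟩)

/-- There is one prime `p` such that non-linear characters vanish on elements of prime power
order for the other primes. -/
theorem exists_prime (h : Rule G) (hG : ¬ IsMulCommutative G) :
    ∃ p : ℕ, p.Prime ∧ ∀ y : G, y ≠ 1 → (∃ q b : ℕ, q.Prime ∧ q ≠ p ∧ orderOf y = q ^ b) →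
      Vanish y := by
  classical
  obtain ⟨χ, hχ⟩ : ∃ χ : Cfsg.IrrCharacter G, (χ : G → ℂ) 1 ≠ 1 := by
    by_contra hc
    simp only [not_exists, not_not] at hc
    exact hG ⟨⟨fun a b => commutative_iff_forall_linear.2 hc a b⟩⟩
  obtain ⟨n, hn0, hn⟩ := IsIrr.exists_degree χ.2
  by_cases hall : ∀ y : G, y ≠ 1 → (∃ q b : ℕ, q.Prime ∧ orderOf y = q ^ b) → (χ : G → ℂ) y = 0
  · exfalso
    have hd : Nat.card G ∣ n := by
      refine (Nat.dvd_iff_prime_pow_dvd_dvd _ _).2 fun q k hq hk => ?_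
      haveI := Fact.mk hq
      exact dvd_degree_of_vanish hn (fun y hy ⟨b, hb⟩ => hall y hy ⟨q, b, hq, hb⟩) hk
    have h1 := Nat.le_of_dvd hn0 hd
    have h2 := sq_degree_lt hχ hn
    have h3 : n ≤ n ^ 2 := Nat.le_self_pow (by norm_num) n
    omega
  simp only [not_forall] at hall
  obtain ⟨x, hx1, ⟨p, a, hp, ha⟩, hx⟩ := hall
  refine ⟨p, hp, fun y hy ⟨q, b, hq, hqp, hb⟩ ψ hψ => ?_⟩
  by_contra hy0
  obtain ⟨m, hm0, hm⟩ := IsIrr.exists_degree ψ.2
  have hd : Nat.card G ∣ n * m := by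
    refine (Nat.dvd_iff_prime_pow_dvd_dvd _ _).2 fun r k hr hk => ?_
    haveI := Fact.mk hr
    by_cases hrp : r = p
    · subst hrp
      refine Dvd.dvd.mul_left (dvd_degree_of_vanish hm (fun z hz ⟨c, hc⟩ => ?_) hk) _
      exact (mul_eq_zero.1 (mul_eq_zero_of_rule h hz hy hr hq (Ne.symm hqp) hc hb hψ)).resolve_right hy0
    · refine Dvd.dvd.mul_right (dvd_degree_of_vanish hn (fun z hz ⟨c, hc⟩ => ?_) hk) _
      exact (mul_eq_zero.1 (mul_eq_zero_of_rule h hx1 hz hp hr (Ne.symm hrp) ha hc hχ)).resolve_left hx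
  have h1 := Nat.le_of_dvd (Nat.mul_pos hn0 hm0) hd
  have h2 := sq_degree_lt hχ hn
  have h3 := sq_degree_lt hψ hm
  rcases le_total n m with hle | hle <;> nlinarith

/-- The structure forced by the product rule. -/
theorem structure_of_rule (h : Rule G) (hG : ¬ IsMulCommutative G)
    (hnp : ∀ p : ℕ, p.Prime → ¬ IsPGroup p G) :
    ∃ (p : ℕ) (_ : Fact p.Prime) (P : Sylow p G) (A : Subgroup G), (P : Subgroup G).Normal ∧
      IsCyclic ↥A ∧ A ≠ ⊥ ∧ (Nat.card ↥A).Coprime p ∧ A ⊔ (P : Subgroup G) = ⊤ ∧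
      IsMulCommutative ↥((P : Subgroup G) ⊓ centralizer (A : Set G)) ∧
      (⁅A, (P : Subgroup G)⁆).Normal ∧
      ((P : Subgroup G) ⊓ centralizer (A : Set G)) ⊔ ⁅A, (P : Subgroup G)⁆ = (P : Subgroup G) ∧
      ((P : Subgroup G) ⊓ centralizer (A : Set G)) ⊓ ⁅A, (P : Subgroup G)⁆ = ⊥ ∧
      ∀ a ∈ A, a ≠ 1 → ∀ d ∈ ⁅A, (P : Subgroup G)⁆, a * d = d * a → d = 1 := by
  classical
  obtain ⟨p, hp, hvan⟩ := exists_prime h hG
  haveI := Fact.mk hp
  have hcomm : IsPGroup p (commutator G) := by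
    refine IsPGroup.iff_orderOf.2 fun ⟨g, hg⟩ => ?_
    rw [Subgroup.orderOf_mk]
    by_contra hno
    obtain ⟨q, hq, hqd, hqp⟩ : ∃ q : ℕ, q.Prime ∧ q ∣ orderOf g ∧ q ≠ p := by
      by_contra hc
      simp only [not_exists, not_and, not_not] at hc
      exact hno ⟨_, Nat.eq_prime_pow_of_unique_prime_dvd (orderOf_pos g).ne'
        fun {d} hd hdd => hc d hd hdd⟩
    have hy : orderOf (g ^ (orderOf g / q)) = q :=
      orderOf_pow_orderOf_div (orderOf_pos g).ne' hqd
    have hy1 : g ^ (orderOf g / q) ≠ 1 := fun e => by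
      rw [e, orderOf_one] at hy
      exact hq.one_lt.ne hy
    have hconj := isConj_mul_commutator (hvan _ hy1 ⟨q, 1, hq, hqp, by rw [hy, pow_one]⟩)
      (inv_mem (pow_mem hg (orderOf g / q)))
    rw [mul_inv_cancel, isConj_one_left] at hconj
    exact hy1 hconj
  obtain ⟨P, hP⟩ := hcomm.exists_le_sylow
  haveI hPn : (P : Subgroup G).Normal := ⟨fun x hx g => by
    rw [show g * x * g⁻¹ = ⁅g, x⁆ * x by rw [commutatorElement_def]; group]
    exact mul_mem (hP (commutator_mem_commutator (mem_top g) (mem_top x))) hx⟩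
  obtain ⟨A, hA⟩ := exists_right_complement'_of_coprime (N := (P : Subgroup G)) P.card_coprime_index
  have hAcop : (Nat.card A).Coprime p := by
    rw [← hA.symm.index_eq_card]
    exact (hp.coprime_iff_not_dvd.2 P.not_dvd_index).symm
  have hAP : A ⊓ (P : Subgroup G) = ⊥ := hA.symm.disjoint.eq_bot
  have hsup : A ⊔ (P : Subgroup G) = ⊤ := hA.symm.sup_eq_top
  have hA0 : A ≠ ⊥ := by
    intro hb
    rw [hb, bot_sup_eq] at hsup
    refine hnp p hp fun g => ?_
    obtain ⟨k, hk⟩ := P.isPGroup' ⟨g, hsup ▸ mem_top g⟩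
    exact ⟨k, congrArg Subtype.val hk⟩
  have hAc : ∀ a ∈ A, ∀ b ∈ A, a * b = b * a := by
    intro a ha b hb
    have : ⁅a, b⁆ ∈ A ⊓ (P : Subgroup G) :=
      mem_inf.2 ⟨mul_mem (mul_mem (mul_mem ha hb) (inv_mem ha)) (inv_mem hb),
        hP (commutator_mem_commutator (mem_top a) (mem_top b))⟩
    rw [hAP, mem_bot, commutatorElement_eq_one_iff_mul_comm] at this
    exact this
  haveI : IsMulCommutative A := ⟨⟨fun a b => Subtype.ext (hAc a a.2 b b.2)⟩⟩
  set D := ⁅A, (P : Subgroup G)⁆ with hD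
  have hDle : D ≤ commutator G := commutator_mono le_top le_top
  -- elements of prime order in `A`
  have hprime : ∀ b ∈ A, b ≠ 1 → ∃ a : G, a ∈ A ∧ a ∈ zpowers b ∧ a ≠ 1 ∧
      ∃ q : ℕ, q.Prime ∧ q ≠ p ∧ orderOf a = q := by
    intro b hb hb1
    obtain ⟨q, hq, hqd⟩ := Nat.exists_prime_and_dvd
      (fun e : orderOf b = 1 => hb1 (orderOf_eq_one_iff.1 e))
    have hy : orderOf (b ^ (orderOf b / q)) = q := orderOf_pow_orderOf_div (orderOf_pos b).ne' hqd
    refine ⟨_, pow_mem hb _, pow_mem (mem_zpowers b) _, fun e => ?_, q, hq, fun e => ?_, hy⟩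
    · rw [e, orderOf_one] at hy
      exact hq.one_lt.ne hy
    · have hd : p ∣ Nat.card A := by
        rw [← e]
        exact hqd.trans (by rw [← Subgroup.orderOf_mk b hb]; exact orderOf_dvd_natCard _)
      exact hp.coprime_iff_not_dvd.1 hAcop.symm hd
  -- the key properties of one such element
  have key : ∀ a ∈ A, a ≠ 1 → ∀ q : ℕ, q.Prime → q ≠ p → orderOf a = q →
      (∀ d ∈ commutator G, ∃ u ∈ (P : Subgroup G), ⁅u, a⁆ = d) ∧
      (∀ d ∈ commutator G, a * d = d * a → d = 1) := by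
    intro a haA ha1 q hq hqp haq
    have hv := hvan a ha1 ⟨q, 1, hq, hqp, by rw [haq, pow_one]⟩
    have h1 : ∀ d ∈ commutator G, ∃ u ∈ (P : Subgroup G), ⁅u, a⁆ = d := by
      intro d hd
      obtain ⟨g, hg⟩ := isConj_iff.1 (isConj_mul_commutator hv
        (Normal.conj_mem (inferInstance : (commutator G).Normal) d hd a⁻¹))
      have hgm : g ∈ (P : Subgroup G) ⊔ A := by rw [sup_comm, hsup]; exact mem_top g
      obtain ⟨u, hu, b, hb, rfl⟩ := mem_sup_of_normal_left.1 hgm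
      refine ⟨u, hu, ?_⟩
      have hba := hAc b hb a haA
      calc ⁅u, a⁆ = u * (a * b) * b⁻¹ * u⁻¹ * a⁻¹ := by rw [commutatorElement_def]; group
        _ = u * b * a * (u * b)⁻¹ * a⁻¹ := by rw [← hba]; group
        _ = a * (a⁻¹ * d * a⁻¹⁻¹) * a⁻¹ := by rw [hg]
        _ = d := by group
    refine ⟨h1, fun d hd hda => ?_⟩
    obtain ⟨u, -, hud⟩ := h1 d hd
    have hconj : d * a = u * a * u⁻¹ := by rw [← hud, commutatorElement_def]; group
    have h2 : d ^ q = 1 := by
      have h3 : (d * a) ^ q = 1 := by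
        rw [hconj, conj_pow, ← haq, pow_orderOf_eq_one, mul_one, mul_inv_cancel]
      rw [(show Commute d a from hda.symm).mul_pow, ← haq, pow_orderOf_eq_one, mul_one] at h3
      rwa [← haq]
    obtain ⟨k, hk⟩ := hcomm ⟨d, hd⟩
    have hk' : d ^ p ^ k = 1 := congrArg Subtype.val hk
    exact orderOf_eq_one_iff.1 (Nat.eq_one_of_dvd_coprimes
      (Nat.Coprime.pow_right k ((Nat.coprime_primes hq hp).2 hqp))
      (orderOf_dvd_of_pow_eq_one h2) (orderOf_dvd_of_pow_eq_one hk'))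
  obtain ⟨b₀, hb₀, hb₀1⟩ := (bot_or_exists_ne_one A).resolve_left hA0
  obtain ⟨a, haA, -, ha1, q, hq, hqp, haq⟩ := hprime b₀ hb₀ hb₀1
  obtain ⟨ksurj, kfix⟩ := key a haA ha1 q hq hqp haq
  have hDeq : D = commutator G := le_antisymm hDle fun d hd => by
    obtain ⟨u, hu, rfl⟩ := ksurj d hd
    rw [hD, commutator_comm]
    exact commutator_mem_commutator hu haA
  have hDP : D ≤ (P : Subgroup G) := hDle.trans hP
  -- centraliser of `a` in `P`
  have hCa : ∀ c ∈ (P : Subgroup G), a * c = c * a → c ∈ centralizer (A : Set G) := by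
    intro c hc hac
    rw [mem_centralizer_iff]
    intro b hb
    rw [← commutatorElement_eq_one_iff_mul_comm]
    refine kfix _ (commutator_mem_commutator (mem_top b) (mem_top c)) ?_
    have hab : Commute a b := hAc a haA b hb
    exact ((hab.mul_right hac).mul_right hab.inv_right).mul_right (Commute.inv_right hac)
  refine ⟨p, ⟨hp⟩, P, A, hPn, ?_, hA0, hAcop, hsup, ?_, ?_, ?_, ?_, ?_⟩
  · by_contra hnc
    have hDn : A ≤ normalizer (D : Set G) := by
      rw [hDeq]
      simp [normalizer_eq_top]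
    have hcop : (Nat.card A).Coprime (Nat.card D) := by
      obtain ⟨k, hk⟩ := IsPGroup.iff_card.1 (hDeq ▸ hcomm)
      rw [hk]
      exact hAcop.pow_right k
    refine hG ⟨⟨fun x y => ?_⟩⟩
    have hb := Coprime.le_of_centralizer_noncyclic_le (M := ⊥) hnc hDn hcop fun b hb hb1 => by
      obtain ⟨a', ha'A, ha'z, ha'1, q', hq', hqp', haq'⟩ := hprime b hb hb1
      rintro d ⟨hd, hdc⟩
      refine mem_bot.2 ((key a' ha'A ha'1 q' hq' hqp' haq').2 d (hDle hd) ?_)
      obtain ⟨i, rfl⟩ := mem_zpowers_iff.1 ha'z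
      exact (Commute.zpow_left (show Commute b d from (mem_centralizer_singleton_iff.1 hdc).symm) i).eq
    rw [← commutatorElement_eq_one_iff_mul_comm, ← mem_bot]
    exact hb (hDeq.ge (commutator_mem_commutator (mem_top x) (mem_top y)))
  · refine ⟨⟨fun c c' => Subtype.ext ?_⟩⟩
    show (c : G) * c' = c' * c
    rw [← commutatorElement_eq_one_iff_mul_comm]
    refine kfix _ (commutator_mem_commutator (mem_top _) (mem_top _)) ?_
    have h1 : Commute a (c : G) := (mem_centralizer_iff.1 c.2.2 a haA)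
    have h2 : Commute a (c' : G) := (mem_centralizer_iff.1 c'.2.2 a haA)
    exact ((h1.mul_right h2).mul_right h1.inv_right).mul_right h2.inv_right
  · show D.Normal
    rw [hDeq]; infer_instance
  · refine le_antisymm (sup_le inf_le_left hDP) fun u hu => ?_
    have hinj : Function.Injective fun v : D => (⟨⁅(v : G), a⁆, hDeq.ge
        (commutator_mem_commutator (mem_top _) (mem_top _))⟩ : D) := by
      intro v v' e
      have e' : ⁅(v : G), a⁆ = ⁅(v' : G), a⁆ := congrArg Subtype.val e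
      have h1 : (v : G) * a * (v : G)⁻¹ = (v' : G) * a * (v' : G)⁻¹ :=
        mul_right_cancel (b := a⁻¹) e'
      have h2 := kfix ((v' : G)⁻¹ * v) (hDle (mul_mem (inv_mem v'.2) v.2)) (by
        calc a * ((v' : G)⁻¹ * v) = (v' : G)⁻¹ * (v' * a * (v' : G)⁻¹) * v := by group
          _ = (v' : G)⁻¹ * v * a := by rw [← h1]; group)
      exact Subtype.ext (inv_mul_eq_one.1 h2).symm
    obtain ⟨v, hv⟩ := (Finite.injective_iff_surjective.1 hinj)
      ⟨⁅u, a⁆, hDeq.ge (commutator_mem_commutator (mem_top _) (mem_top _))⟩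
    have e' : (v : G) * a * (v : G)⁻¹ = u * a * u⁻¹ :=
      mul_right_cancel (b := a⁻¹) (congrArg Subtype.val hv)
    rw [show u = (v : G) * ((v : G)⁻¹ * u) by group]
    refine mul_mem (mem_sup_right v.2) (mem_sup_left
      (mem_inf.2 ⟨mul_mem (inv_mem (hDP v.2)) hu, hCa _ (mul_mem (inv_mem (hDP v.2)) hu) ?_⟩))
    calc a * ((v : G)⁻¹ * u) = (v : G)⁻¹ * (v * a * (v : G)⁻¹) * u := by group
      _ = (v : G)⁻¹ * u * a := by rw [e']; group
  · rw [eq_bot_iff]
    rintro d ⟨⟨-, hdc⟩, hd⟩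
    exact mem_bot.2 (kfix d (hDle hd) (mem_centralizer_iff.1 hdc a haA))
  · intro b hb hb1 d hd hbd
    obtain ⟨a', ha'A, ha'z, ha'1, q', hq', hqp', haq'⟩ := hprime b hb hb1
    refine (key a' ha'A ha'1 q' hq' hqp' haq').2 d (hDle hd) ?_
    obtain ⟨i, rfl⟩ := mem_zpowers_iff.1 ha'z
    exact (Commute.zpow_left (show Commute b d from hbd) i).eq

/-- The converse. -/
theorem rule_of_structure {p : ℕ} [Fact p.Prime] (P : Sylow p G) (A : Subgroup G)
    (hPn : (P : Subgroup G).Normal) (hAc : IsCyclic A) (hcop : (Nat.card A).Coprime p)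
    (hsup : A ⊔ (P : Subgroup G) = ⊤)
    (hC : IsMulCommutative ↥((P : Subgroup G) ⊓ centralizer (A : Set G)))
    (hDn : (⁅A, (P : Subgroup G)⁆).Normal)
    (hCD : ((P : Subgroup G) ⊓ centralizer (A : Set G)) ⊔ ⁅A, (P : Subgroup G)⁆ = (P : Subgroup G))
    (hfpf : ∀ a ∈ A, a ≠ 1 → ∀ d ∈ ⁅A, (P : Subgroup G)⁆, a * d = d * a → d = 1) :
    Rule G := by
  classical
  set D := ⁅A, (P : Subgroup G)⁆
  set C := (P : Subgroup G) ⊓ centralizer (A : Set G)
  haveI := hDn
  haveI := hPn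
  have hdec : ∀ g : G, ∃ d ∈ D, ∃ c ∈ C, ∃ b ∈ A, g = d * (c * b) := by
    intro g
    have hgm : g ∈ (P : Subgroup G) ⊔ A := by rw [sup_comm, hsup]; exact mem_top g
    obtain ⟨u, hu, b, hb, rfl⟩ := mem_sup_of_normal_left.1 hgm
    rw [← hCD, sup_comm] at hu
    obtain ⟨d, hd, c, hc, rfl⟩ := mem_sup_of_normal_left.1 hu
    exact ⟨d, hd, c, hc, b, hb, mul_assoc _ _ _⟩
  have hcomm : commutator G ≤ D := by
    rw [commutator_def, commutator_le]
    intro x _ y _
    obtain ⟨d₁, hd₁, c₁, hc₁, b₁, hb₁, rfl⟩ := hdec x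
    obtain ⟨d₂, hd₂, c₂, hc₂, b₂, hb₂, rfl⟩ := hdec y
    rw [← QuotientGroup.eq_one_iff (N := D), ← QuotientGroup.mk'_apply, map_commutatorElement,
      commutatorElement_eq_one_iff_mul_comm]
    have hq : ∀ d ∈ D, QuotientGroup.mk' D d = 1 := fun d hd => (QuotientGroup.eq_one_iff d).2 hd
    have hcb : Commute (c₁ * b₁) (c₂ * b₂) := by
      have e1 : Commute c₁ c₂ := congrArg Subtype.val (hC.is_comm.comm ⟨c₁, hc₁⟩ ⟨c₂, hc₂⟩)
      have e2 : Commute c₁ b₂ := (mem_centralizer_iff.1 hc₁.2 b₂ hb₂).symm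
      have e3 : Commute b₁ c₂ := mem_centralizer_iff.1 hc₂.2 b₁ hb₁
      have e4 : Commute b₁ b₂ := congrArg Subtype.val
        (IsCyclic.commGroup.mul_comm (⟨b₁, hb₁⟩ : A) ⟨b₂, hb₂⟩)
      exact (e1.mul_right e2).mul_left (e3.mul_right e4)
    rw [map_mul _ d₁, map_mul _ d₂, hq d₁ hd₁, hq d₂ hd₂, one_mul, one_mul]
    exact (hcb.map (QuotientGroup.mk' D)).eq
  -- cosets of `D` outside `P` are classes
  have hclass : ∀ g : G, g ∉ (P : Subgroup G) → ∀ d ∈ D, IsConj g (g * d) := by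
    intro g hg d hd
    obtain ⟨d₀, hd₀, c, hc, b, hb, rfl⟩ := hdec g
    have hb1 : b ≠ 1 := by
      rintro rfl
      rw [mul_one] at hg
      refine hg (hCD ▸ mul_mem (mem_sup_right hd₀) (mem_sup_left hc))
    have hinj : Function.Injective fun e : D => (⟨⁅(e : G), c * b⁆, by
        rw [commutatorElement_def, mul_assoc (e : G), mul_assoc (e : G)]
        exact mul_mem e.2 (Normal.conj_mem hDn _ (inv_mem e.2) _)⟩ : D) := by
      intro v v' e
      have h1 : (v : G) * (c * b) * (v : G)⁻¹ = (v' : G) * (c * b) * (v' : G)⁻¹ :=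
        mul_right_cancel (b := (c * b)⁻¹) (congrArg Subtype.val e)
      have h2 : Commute (c * b) ((v' : G)⁻¹ * v) := by
        calc c * b * ((v' : G)⁻¹ * v) = (v' : G)⁻¹ * (v' * (c * b) * (v' : G)⁻¹) * v := by group
          _ = (v' : G)⁻¹ * v * (c * b) := by rw [← h1]; group
      obtain ⟨k, hk⟩ := P.isPGroup' ⟨c, hc.1⟩
      have hk' : c ^ p ^ k = 1 := congrArg Subtype.val hk
      have h3 := h2.pow_left (p ^ k)
      rw [(show Commute c b from (mem_centralizer_iff.1 hc.2 b hb).symm).mul_pow, hk', one_mul] at h3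
      have hb2 : b ^ p ^ k ≠ 1 := by
        intro e
        refine hb1 (orderOf_eq_one_iff.1 (Nat.eq_one_of_dvd_coprimes (hcop.pow_right k) ?_
          (orderOf_dvd_of_pow_eq_one e)))
        rw [← Subgroup.orderOf_mk b hb]
        exact orderOf_dvd_natCard _
      exact Subtype.ext (inv_mul_eq_one.1
        (hfpf _ (pow_mem hb _) hb2 _ (mul_mem (inv_mem v'.2) v.2) h3.eq)).symm
    have hall : ∀ e ∈ D, IsConj (c * b) (e * (c * b)) := by
      intro e he
      obtain ⟨v, hv⟩ := (Finite.injective_iff_surjective.1 hinj) ⟨e, he⟩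
      refine isConj_iff.2 ⟨v, ?_⟩
      have hv' : ⁅(v : G), c * b⁆ = e := congrArg Subtype.val hv
      rw [← hv', commutatorElement_def]
      group
    refine (hall d₀ hd₀).symm.trans ?_
    rw [show d₀ * (c * b) * d = d₀ * (c * b * d * (c * b)⁻¹) * (c * b) by group]
    exact hall _ (mul_mem hd₀ (Normal.conj_mem hDn d hd _))
  have hvan : ∀ g : G, g ∉ (P : Subgroup G) → Vanish g := by
    intro g hg χ hχ
    by_contra h0
    apply hχ
    have hker : ∀ d ∈ D, (χ : G → ℂ) d = (χ : G → ℂ) 1 := by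
      intro d hd
      have h1 := H80.sum_conj_mul χ g d
      have hterm : ∀ x : G, (χ : G → ℂ) (g * (x * d * x⁻¹)) = (χ : G → ℂ) g := fun x => by
        obtain ⟨y, hy⟩ := isConj_iff.1 (hclass g hg _ (Normal.conj_mem hDn d hd x))
        rw [← hy, apply_conj]
      simp only [hterm, Finset.sum_const, Finset.card_univ, nsmul_eq_mul,
        ← Nat.card_eq_fintype_card] at h1
      have hG : (Nat.card G : ℂ) ≠ 0 := Nat.cast_ne_zero.2 Nat.card_pos.ne'
      apply mul_left_cancel₀ (mul_ne_zero hG h0)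
      linear_combination -h1
    haveI : Fintype (G ⧸ D) := Fintype.ofFinite _
    obtain ⟨φ, -, hφ, hφi⟩ := CharInduce.IsChar.exists_deflate (IsIrr.isCharacter χ.2) D hker
    rw [hφ 1]
    have habel : ∀ a b : G ⧸ D, a * b = b * a := by
      intro a b
      obtain ⟨a, rfl⟩ := QuotientGroup.mk'_surjective D a
      obtain ⟨b, rfl⟩ := QuotientGroup.mk'_surjective D b
      rw [← commutatorElement_eq_one_iff_mul_comm, ← map_commutatorElement]
      exact (QuotientGroup.eq_one_iff _).2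
        (hcomm (commutator_mem_commutator (mem_top a) (mem_top b)))
    exact commutative_iff_forall_linear.1 habel ⟨φ, hφi χ.2⟩
  rintro x y χ hx hy ⟨r, s, a, b, hr, hs, hrs, ha, hb⟩
  by_cases hχ : (χ : G → ℂ) 1 = 1
  · exact linear_mul hχ x y
  have hnot : ∀ (z : G) (t c : ℕ), z ≠ 1 → t.Prime → t ≠ p → orderOf z = t ^ c →
      z ∉ (P : Subgroup G) := by
    intro z t c hz ht htp hc hzP
    obtain ⟨k, hk⟩ := IsPGroup.iff_orderOf.1 P.isPGroup' ⟨z, hzP⟩
    rw [Subgroup.orderOf_mk, hc] at hk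
    refine hz (orderOf_eq_one_iff.1 (Nat.eq_one_of_dvd_coprimes
      (Nat.Coprime.pow c k ((Nat.coprime_primes ht Fact.out).2 htp)) (dvd_of_eq hc) ?_))
    rw [hc, hk]
  have hxy : x * y ∉ (P : Subgroup G) := by
    intro h
    have h1 : QuotientGroup.mk' (P : Subgroup G) x = (QuotientGroup.mk' (P : Subgroup G) y)⁻¹ := by
      rw [eq_inv_iff_mul_eq_one, ← map_mul]
      exact (QuotientGroup.eq_one_iff _).2 h
    have h2 : orderOf (QuotientGroup.mk' (P : Subgroup G) x) = 1 := by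
      refine Nat.eq_one_of_dvd_coprimes (Nat.Coprime.pow a b ((Nat.coprime_primes hr hs).2 hrs))
        (ha ▸ orderOf_map_dvd _ x) ?_
      rw [h1, orderOf_inv]
      exact hb ▸ orderOf_map_dvd _ y
    have hxP : x ∈ (P : Subgroup G) := (QuotientGroup.eq_one_iff x).1 (orderOf_eq_one_iff.1 h2)
    have hyP : y ∈ (P : Subgroup G) := by
      have := mul_mem (inv_mem hxP) h
      rwa [inv_mul_cancel_left] at this
    by_cases hsp : s = p
    · exact hnot x r a hx hr (hsp ▸ hrs) ha hxP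
    · exact hnot y s b hy hs hsp hb hyP
  rw [hvan _ hxy χ hχ]
  by_cases hsp : s = p
  · rw [hvan x (hnot x r a hx hr (hsp ▸ hrs) ha) χ hχ, zero_mul]
  · rw [hvan y (hnot y s b hy hs hsp hb) χ hχ, mul_zero]

end Cfsg.Agent.Cores.ProductRule
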