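import Cfsg.Agent.Cores.BlockRes

/-!
# Brauer's second main theorem on ordinary characters
-/

namespace Cfsg.Agent.Cores

open MonoidAlgebra BlockBasic CharBasic

universe u

variable {G : Type u} [Group G] [Fintype G] {p : ℕ} {M : Ideal AlgInt} {H : Subgroup G}

theorem omega_resElt_eq_sum (ξ : H → ℂ) [Fintype H] {z : MonoidAlgebra ℂ G} (hz : IsCentralElt z)
    [Fintype (ConjClasses G)] :
    omega ξ (resElt H z) = ∑ C : ConjClasses G, z.coeff C.out * inducedCentralChar H ξ C.out := by
  classical
  rw [omega, chiLin, Finset.sum_div,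
    ← Finset.sum_fiberwise Finset.univ (fun h : H => ConjClasses.mk (h : G))]
  refine Finset.sum_congr rfl fun C _ => ?_
  have hmem : ∀ h : H, IsConj C.out (h : G) ↔ ConjClasses.mk (h : G) = C := fun h => by
    conv_rhs => rw [← Quotient.out_eq C]
    exact ⟨fun e => (ConjClasses.mk_eq_mk_iff_isConj.2 e).symm,
      fun e => (ConjClasses.mk_eq_mk_iff_isConj.1 e).symm⟩
  rw [inducedCentralChar, finsum_mem_eq_toFinset_sum, Finset.mul_sum]
  refine (Finset.sum_congr ?_ fun h hh => ?_)
  · ext h
    simp only [Finset.mem_filter, Finset.mem_univ, true_and, Set.mem_toFinset, Set.mem_ofPred_eq]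
    exact (hmem h).symm
  · rw [Set.mem_toFinset, Set.mem_ofPred_eq] at hh
    obtain ⟨c, hc⟩ := isConj_iff.1 hh
    rw [coeff_resElt, ← hc, show z.coeff (c * C.out * c⁻¹) = z.coeff C.out from hz _ c,
      mul_div_assoc]

/-- The induced central character congruence, extended to all central elements. -/
theorem omega_resElt_congr (hM : IsPModular p M) [Fintype H] {ξ : H → ℂ} {χ : G → ℂ}
    (hχ : IsClassFunction G χ)
    (h : ∀ g : G, MemLocalIdeal M (inducedCentralChar H ξ g - centralChar χ g))
    {z : MonoidAlgebra ℂ G} (hz : IsCentralElt z) (hzi : IsIntElt M z) :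
    MemLocalIdeal M (omega ξ (resElt H z) - omega χ z) := by
  haveI : Finite (ConjClasses G) := Finite.of_surjective _ ConjClasses.mk_surjective
  haveI : Fintype (ConjClasses G) := Fintype.ofFinite _
  rw [omega_resElt_eq_sum ξ hz, omega_eq_sum_classes hχ hz, ← Finset.sum_sub_distrib]
  exact memLocalIdeal_sum hM _ _ fun C _ => by
    rw [← mul_sub]; exact memLocalIdeal_mul hM (hzi _) (h _)

theorem omega_resElt_classSum [Fintype H] (ξ : H → ℂ) (g : G) :
    omega ξ (resElt H (classSum g)) = inducedCentralChar H ξ g := by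
  classical
  rw [omega, chiLin, inducedCentralChar, finsum_mem_eq_toFinset_sum, Finset.sum_div]
  rw [Finset.sum_congr rfl (g := fun h : H => if IsConj g (h : G) then ξ h / ξ 1 else 0)
    (fun h _ => by rw [coeff_resElt, classSum, coeff_ofFun]; split_ifs <;> simp), ← Finset.sum_filter]
  exact Finset.sum_congr (by ext h; simp) fun h _ => rfl

omit [Fintype G] in
theorem omega_sub_congr {K : Type*} [Group K] [Fintype K] (hM : IsPModular p M) {ξ : K → ℂ}
    (hξ : IsIrrCharacter K ξ) {z w : MonoidAlgebra ℂ K} (hz : IsCentralElt z) (hw : IsCentralElt w)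
    (h : ∀ k, MemLocalIdeal M (z.coeff k - w.coeff k)) :
    MemLocalIdeal M (omega ξ z - omega ξ w) := by
  haveI : Finite (ConjClasses K) := Finite.of_surjective _ ConjClasses.mk_surjective
  haveI : Fintype (ConjClasses K) := Fintype.ofFinite _
  rw [omega_eq_sum_classes (IsIrr.isClassFunction hξ) hz,
    omega_eq_sum_classes (IsIrr.isClassFunction hξ) hw, ← Finset.sum_sub_distrib]
  refine memLocalIdeal_sum hM _ _ fun C _ => ?_
  rw [← sub_mul, mul_comm]
  exact memLocalIdeal_mul hM (memLocalRing_centralChar hM hξ _) (h _)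

theorem congrAt_resElt_pow (hM : IsPModular p M) {x : G} {e : ℕ} (hx : orderOf x = p ^ e)
    (xH : H) (hxH : (xH : G) = x) (hC : Subgroup.centralizer ({x} : Set G) ≤ H) [Fintype H]
    {z : MonoidAlgebra ℂ G} (hz : IsCentralElt z) (hzi : IsIntElt M z) (n : ℕ) :
    CongrAt M xH (resElt H (z ^ n)) (resElt H z ^ n) := by
  induction n with
  | zero => rw [pow_zero, pow_zero, resElt_one]; exact CongrAt.rfl' hM _ _
  | succ n ih =>
    rw [pow_succ, pow_succ]
    refine (congrAt_resElt_mul hM hx xH hxH hC (hz.pow n) (hzi.pow hM n) hz hzi).trans' hM ?_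
    exact CongrAt.mul hM (x := xH) (e := e) (by rw [← Subgroup.orderOf_coe, hxH, hx])
      (isCentralElt_resElt (hz.pow n)) ((isCentralElt_resElt hz).pow n)
      (isCentralElt_resElt hz) (isCentralElt_resElt hz)
      (isIntElt_resElt (hzi.pow hM n)) ((isIntElt_resElt hzi).pow hM n)
      (isIntElt_resElt hzi) (isIntElt_resElt hzi) ih (CongrAt.rfl' hM _ _)

omit [Fintype G] in
theorem pow_succ_of_idem {R : Type*} [Monoid R] {e : R} (he : e * e = e) (n : ℕ) :
    e ^ (n + 1) = e := by
  induction n with
  | zero => rw [zero_add, pow_one]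
  | succ n ih => rw [pow_succ, ih, he]

/-- If the central characters of `b` kill the restriction of the idempotent of `B'`, the product
of the two idempotents vanishes modulo `M` on the centraliser of `x`. -/
theorem memLocalIdeal_resElt_mul_blockElem (hM : IsPModular p M) {x : G} {e : ℕ}
    (hx : orderOf x = p ^ e) (xH : H) (hxH : (xH : G) = x)
    (hC : Subgroup.centralizer ({x} : Set G) ≤ H) [Fintype H] {b : Set (IrrCharacter H)}
    (hb : IsPBlock M b) {B' : Set (IrrCharacter G)} (hB' : IsPBlock M B')
    (hker : ∀ ξ ∈ b, MemLocalIdeal M (omega (ξ : H → ℂ) (resElt H (blockElem B'))))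
    (u : H) (hu : Commute xH u) :
    MemLocalIdeal M ((resElt H (blockElem B') * blockElem b).coeff u) := by
  classical
  have hEc := isCentralElt_blockElem B'
  have hEi := isIntElt_blockElem hM hB'
  have hec := isCentralElt_blockElem b
  have hei := isIntElt_blockElem hM hb
  set z := resElt H (blockElem B') * blockElem b with hz
  have hzc : IsCentralElt z := (isCentralElt_resElt hEc).mul hec
  obtain ⟨n, hn1, hn⟩ := exists_pow_memLocalIdeal hM hzc fun ξ => by
    rw [hz, omega_mul ξ.2 (isCentralElt_resElt hEc), omega_blockElem]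
    split_ifs with h
    · simpa using hker ξ h
    · simpa using memLocalIdeal_zero hM
  obtain ⟨m, rfl⟩ : ∃ m, n = m + 1 := ⟨n - 1, by omega⟩
  have hxo : orderOf xH = p ^ e := by rw [← Subgroup.orderOf_coe, hxH, hx]
  have h1 := congrAt_resElt_pow hM hx xH hxH hC hEc hEi (m + 1)
  rw [pow_succ_of_idem (blockElem_idem B')] at h1
  have h2 : CongrAt M xH (resElt H (blockElem B') * blockElem b)
      (resElt H (blockElem B') ^ (m + 1) * blockElem b) :=
    CongrAt.mul hM hxo (isCentralElt_resElt hEc) ((isCentralElt_resElt hEc).pow _) hec hec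
      (isIntElt_resElt hEi) ((isIntElt_resElt hEi).pow hM _) hei hei h1 (CongrAt.rfl' hM _ _)
  have h3 : z ^ (m + 1) = resElt H (blockElem B') ^ (m + 1) * blockElem b := by
    rw [hz, (show Commute _ (blockElem b) from
      isCentralElt_comm (isCentralElt_resElt hEc) _).mul_pow, pow_succ_of_idem (blockElem_idem b)]
  have h4 := hn u
  rw [h3] at h4
  simpa using memLocalIdeal_add hM (h2 u hu) h4

/-- The vanishing behind the second main theorem. -/
theorem chiLin_block_section_eq_zero (hM : IsPModular p M) {x : G} {e : ℕ}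
    (hx : orderOf x = p ^ e) (xH : H) (hxH : (xH : G) = x)
    (hC : Subgroup.centralizer ({x} : Set G) ≤ H) [Fintype H] {b : Set (IrrCharacter H)}
    (hb : IsPBlock M b) (χ : IrrCharacter G)
    (hker : ∀ ξ ∈ b, MemLocalIdeal M
      (omega (ξ : H → ℂ) (resElt H (blockElem (blockOf M (χ : G → ℂ))))))
    {s : H} (hxs : Commute xH s) (hs : ¬ p ∣ orderOf s) :
    chiLin (fun k : H => (χ : G → ℂ) k) (blockElem b * single (xH * s) 1) = 0 := by
  classical
  set B' := blockOf M (χ : G → ℂ) with hB'def
  have hB' : IsPBlock M B' := isPBlock_blockOf M χ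
  obtain ⟨hwi, hwx, hwp⟩ := necklace_hyps hM hb hxs hs
  set w := blockElem b * single s (1 : ℂ) with hw
  set c := blockElem B' * inclElt H w with hcdef
  have hEc := isCentralElt_blockElem B'
  have hxw : single x (1 : ℂ) * inclElt H w = inclElt H w * single x 1 := by
    rw [← hxH, ← inclElt_single, ← map_mul, commute_single_of_coeff_conj hwx, map_mul]
  have hci : ∀ g, MemLocalRing M (c.coeff g) := fun g => by
    rw [hcdef, coeff_mul_inclElt]
    exact (locRing hM).sum_mem fun k _ =>
      (locRing hM).mul_mem (isIntElt_blockElem hM hB' _) (hwi k)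
  have hcx : ∀ g, c.coeff (x * g * x⁻¹) = c.coeff g := coeff_conj_of_commute (by
    rw [hcdef, ← mul_assoc, ← isCentralElt_comm hEc, mul_assoc, hxw, mul_assoc])
  have hcp : ∀ N : ℕ, ∃ n ≥ N, c ^ (p ^ n) = c := fun N => by
    obtain ⟨n, hn, hwn⟩ := hwp N
    refine ⟨n, hn, ?_⟩
    obtain ⟨m, hm⟩ : ∃ m, p ^ n = m + 1 := ⟨p ^ n - 1, by have := Nat.one_le_pow n p hM.1.pos; omega⟩
    rw [hcdef, (show Commute _ (inclElt H w) from isCentralElt_comm hEc _).mul_pow, ← map_pow, hwn,
      hm, pow_succ_of_idem (blockElem_idem B')]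
  have hcC : ∀ g, Commute x g → MemLocalIdeal M (c.coeff g) := by
    intro g hg
    have hgH : g ∈ H := hC (Subgroup.mem_centralizer_singleton_iff.mpr hg.eq.symm)
    rw [show g = ((⟨g, hgH⟩ : H) : G) from rfl, hcdef, coeff_mul_inclElt_coe, hw, ← mul_assoc,
      coeff_mul_single_apply, mul_one]
    refine memLocalIdeal_resElt_mul_blockElem hM hx xH hxH hC hb hB' hker _ ?_
    exact Commute.mul_right (Subtype.ext (by simpa [hxH] using hg.eq)) hxs.inv_right
  haveI : Finite (ConjClasses G) := Finite.of_surjective _ ConjClasses.mk_surjective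
  haveI : Fintype (ConjClasses G) := Fintype.ofFinite _
  have hzero : chiLin (χ : G → ℂ) (single x 1 * c) = 0 := by
    rw [chiLin, ← Finset.sum_fiberwise Finset.univ ConjClasses.mk]
    refine Finset.sum_eq_zero fun C _ => ?_
    set T := Finset.univ.filter fun g : G => ConjClasses.mk g = C with hT
    have hTc : ∀ g h : G, g ∈ T → h * g * h⁻¹ ∈ T := fun g h hg => by
      rw [hT, Finset.mem_filter] at hg ⊢
      exact ⟨Finset.mem_univ _, by
        rw [← hg.2, ConjClasses.mk_eq_mk_iff_isConj]
        exact (isConj_iff.2 ⟨h, rfl⟩).symm⟩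
    have h0 := sum_coeff_eq_zero hM x hx c hci hcx hcp T hTc (Or.inr hcC)
    rcases T.eq_empty_or_nonempty with hT0 | ⟨g₀, hg₀⟩
    · rw [hT0, Finset.sum_empty]
    rw [Finset.sum_congr rfl (g := fun g => c.coeff (x⁻¹ * g) * (χ : G → ℂ) g₀) (fun g hg => ?_),
      ← Finset.sum_mul, h0, zero_mul]
    rw [coeff_single_mul_apply, one_mul]
    congr 1
    obtain ⟨d, rfl⟩ := isConj_iff.1 (ConjClasses.mk_eq_mk_iff_isConj.1
      ((Finset.mem_filter.1 hg₀).2.trans (Finset.mem_filter.1 hg).2.symm))
    exact IsIrr.isClassFunction χ.2 g₀ d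
  have hEχ : omega (χ : G → ℂ) (blockElem B') = 1 := by
    rw [omega_blockElem, if_pos (self_mem_blockOf hM χ)]
  have hrw : single x (1 : ℂ) * c = blockElem B' * inclElt H (single xH 1 * w) := by
    rw [hcdef, map_mul (inclElt H) (single xH (1 : ℂ)) w, inclElt_single, hxH, ← mul_assoc, ← isCentralElt_comm hEc, mul_assoc]
  rw [hrw, chiLin_central_mul χ.2 hEc, hEχ, one_mul, chiLin_inclElt] at hzero
  rw [hw, ← mul_assoc, ← isCentralElt_comm (isCentralElt_blockElem b), mul_assoc,
    MonoidAlgebra.single_mul_single, one_mul] at hzero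
  exact hzero

/-- Idempotent form of the second main theorem. -/
theorem chiLin_blockElem_single_eq_zero [Fact p.Prime] (hM : IsPModular p M) [Fintype H]
    {b : Set (IrrCharacter H)} {B : Set (IrrCharacter G)} (hind : IsInducedBlock M H b B) (h : H)
    (hC : ∀ z : G, IsPPart p (h : G) z → Subgroup.centralizer ({z} : Set G) ≤ H)
    {χ : IrrCharacter G} (hχ : χ ∉ B) :
    chiLin (fun k : H => (χ : G → ℂ) k) (blockElem b * single h 1) = 0 := by
  classical
  obtain ⟨e, he⟩ := exists_orderOf_pPart (p := p) h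
  have hxs := commute_pPart_pReg (p := p) h
  have hpp : IsPPart p (h : G) (pPart (p := p) h : H) :=
    ⟨(pReg (p := p) h : H), by rw [← Subgroup.coe_mul, pPart_mul_pReg],
      congrArg Subtype.val hxs.eq, ⟨e, by rw [Subgroup.orderOf_coe, he]⟩,
      by rw [Subgroup.orderOf_coe]; exact not_dvd_orderOf_pReg h⟩
  have := chiLin_block_section_eq_zero hM (x := ((pPart (p := p) h : H) : G)) (e := e)
    (by rw [Subgroup.orderOf_coe, he]) (pPart (p := p) h) rfl (hC _ hpp) hind.1 χ
    (fun ξ hξ => ?_) hxs (not_dvd_orderOf_pReg h)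
  · rwa [pPart_mul_pReg] at this
  obtain ⟨χ0, hχ0⟩ := isPBlock_nonempty hM hind.2.1
  have hB' : IsPBlock M (blockOf M (χ : G → ℂ)) := isPBlock_blockOf M χ
  have h1 := omega_resElt_congr hM (IsIrr.isClassFunction χ0.2) (hind.2.2 ξ hξ χ0 hχ0)
    (isCentralElt_blockElem _) (isIntElt_blockElem hM hB')
  rw [omega_blockElem, if_neg, sub_zero] at h1
  · exact h1
  · intro hmem
    exact hχ (isPBlock_eq_of_mem hM hind.2.1 hB' hχ0 hmem ▸ self_mem_blockOf hM χ)

/-- For the centraliser of a `p`-element, a block that does not induce the block of `χ` has central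
characters killing the restricted idempotent. -/
theorem memLocalIdeal_omega_resElt_of_not_induced (hM : IsPModular p M) {x : G} {e : ℕ}
    (hx : orderOf x = p ^ e) (hH : H = Subgroup.centralizer ({x} : Set G)) [Fintype H]
    {b : Set (IrrCharacter H)} (hb : IsPBlock M b) {B : Set (IrrCharacter G)} (hB : IsPBlock M B)
    (hnot : ¬ IsInducedBlock M H b B) :
    ∀ ξ ∈ b, MemLocalIdeal M (omega (ξ : H → ℂ) (resElt H (blockElem B))) := by
  classical
  intro ξ hξ
  by_contra hne
  apply hnot
  refine ⟨hb, hB, fun ξ' hξ' χ hχ g => ?_⟩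
  set E := blockElem B with hE
  have hEc := isCentralElt_blockElem B
  have hEi := isIntElt_blockElem hM hB
  let xH : H := ⟨x, by rw [hH]; exact Subgroup.mem_centralizer_singleton_iff.mpr rfl⟩
  have hall : ∀ u : H, Commute xH u := fun u => Subtype.ext (by
    have := Subgroup.mem_centralizer_singleton_iff.mp (hH.le u.2)
    exact this.symm)
  set lam : MonoidAlgebra ℂ G → ℂ := fun z => omega (ξ' : H → ℂ) (resElt H z) with hlam
  have hlmul : ∀ z w, IsCentralElt z → IsIntElt M z → IsCentralElt w → IsIntElt M w →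
      MemLocalIdeal M (lam (z * w) - lam z * lam w) := by
    intro z w hz hzi hw hwi
    rw [hlam]
    dsimp only
    rw [← omega_mul ξ'.2 (isCentralElt_resElt hz)]
    exact omega_sub_congr hM ξ'.2 (isCentralElt_resElt (hz.mul hw))
      ((isCentralElt_resElt hz).mul (isCentralElt_resElt hw))
      fun k => congrAt_resElt_mul hM hx xH rfl (le_of_eq hH.symm) hz hzi hw hwi k (hall k)
  have hlring : ∀ z, IsCentralElt z → IsIntElt M z → MemLocalRing M (lam z) := fun z hz hzi =>
    memLocalRing_omega hM ξ'.2 (isCentralElt_resElt hz) (isIntElt_resElt hzi)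
  have hlE : ¬ MemLocalIdeal M (lam E) := fun h => hne (by
    have := omega_congr hM (IsIrr.isClassFunction ξ.2) (IsIrr.isClassFunction ξ'.2)
      (isPBlock_sameBlock hM hb hξ hξ') (isCentralElt_resElt (H := H) hEc) (isIntElt_resElt hEi)
    simpa [hlam, hE] using memLocalIdeal_add hM this h)
  have hlE1 : MemLocalIdeal M (lam E - 1) := by
    have h1 := hlmul E E hEc hEi hEc hEi
    rw [hE, blockElem_idem, ← hE] at h1
    have h2 : MemLocalIdeal M (lam E * (lam E - 1)) := by
      convert memLocalIdeal_neg h1 using 1; ring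
    exact ((memLocalIdeal_mul_iff hM (hlring E hEc hEi)
      ((locRing hM).sub_mem (hlring E hEc hEi) (locRing hM).one_mem)).1 h2).resolve_left hlE
  set z := classSum g with hz
  have hzc := isCentralElt_classSum g
  have hzi := isIntElt_classSum (M := M) hM g
  set c := omega (χ : G → ℂ) z with hc
  have hci : MemLocalRing M c := memLocalRing_omega hM χ.2 hzc hzi
  set d := z - c • (1 : MonoidAlgebra ℂ G) with hd
  have hdc : IsCentralElt d := hzc.sub (IsCentralElt.one.smul c)
  have hdi : IsIntElt M d := hzi.sub hM ((isIntElt_one hM).smul hM hci)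
  have huc : IsCentralElt (E * d) := hEc.mul hdc
  have hui : IsIntElt M (E * d) := hEi.mul hM hdi
  obtain ⟨n, hn1, hn⟩ := exists_pow_memLocalIdeal hM huc fun ψ => by
    rw [omega_mul ψ.2 hEc, omega_blockElem]
    split_ifs with hψ
    · rw [one_mul, hd, omega_sub, omega_smul, omega_one ψ.2, mul_one, hc]
      exact omega_congr hM (IsIrr.isClassFunction ψ.2) (IsIrr.isClassFunction χ.2)
        (isPBlock_sameBlock hM hB hψ hχ) hzc hzi
    · simpa using memLocalIdeal_zero hM
  have hpow : ∀ m : ℕ, MemLocalIdeal M (lam ((E * d) ^ m) - lam (E * d) ^ m) := by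
    intro m
    induction m with
    | zero =>
      simp only [pow_zero, hlam, resElt_one, omega_one ξ'.2, sub_self]
      exact memLocalIdeal_zero hM
    | succ m ih =>
      have h1 := hlmul _ _ (huc.pow m) (hui.pow hM m) huc hui
      rw [← pow_succ] at h1
      have := memLocalIdeal_add hM h1 (memLocalIdeal_mul hM (hlring _ huc hui) ih)
      convert this using 1
      rw [pow_succ (lam (E * d))]
      ring
  have hlu : MemLocalIdeal M (lam (E * d)) := by
    have h1 : MemLocalIdeal M (lam ((E * d) ^ n)) := by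
      have := omega_sub_congr hM ξ'.2 (isCentralElt_resElt (H := H) (huc.pow n))
        (w := 0) (fun _ _ => by simp) (fun k => by simpa using hn (k : G))
      simpa [hlam, omega, chiLin] using this
    have h2 : MemLocalIdeal M (lam (E * d) ^ n) := by
      simpa using memLocalIdeal_sub hM h1 (hpow n)
    clear hn1 hn h1
    induction n with
    | zero => exact absurd (by simpa using h2) (not_memLocalIdeal_one hM)
    | succ m ih =>
      rw [pow_succ] at h2
      exact ((memLocalIdeal_mul_iff hM ((locRing hM).pow_mem (hlring _ huc hui) m)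
        (hlring _ huc hui)).1 h2).elim ih id
  have hld : MemLocalIdeal M (lam d) := by
    have h2 : MemLocalIdeal M (lam E * lam d) := by
      simpa using memLocalIdeal_sub hM hlu (hlmul E d hEc hEi hdc hdi)
    exact ((memLocalIdeal_mul_iff hM (hlring E hEc hEi) (hlring d hdc hdi)).1 h2).resolve_left hlE
  rw [hlam, hd] at hld
  simp only [resElt_sub, resElt_smul, resElt_one, omega_sub, omega_smul, omega_one ξ'.2, mul_one,
    hz, omega_resElt_classSum] at hld
  rwa [hc, hz, omega_classSum (IsIrr.isClassFunction χ.2)] at hld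

omit [Fintype G] in
/-- The block part of a class function through the block idempotent. -/
theorem blockPart_eq_chiLin {K : Type*} [Group K] [Fintype K] (b : Set (IrrCharacter K))
    {θ : K → ℂ} (hθ : IsClassFunction K θ) (y : K) :
    blockPart b θ y = chiLin θ (blockElem b * single y 1) := by
  classical
  conv_rhs => rw [classFunction_expansion hθ]
  rw [chiLin]
  simp only [Finset.sum_apply, Pi.smul_apply, smul_eq_mul, Finset.mul_sum]
  rw [Finset.sum_comm, blockPart]
  rw [Subsingleton.elim (Fintype.ofFinite K) ‹Fintype K›, finsum_mem_eq_sum_ite]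
  refine Finset.sum_congr rfl fun ψ _ => ?_
  symm
  have h := chiLin_blockElem_mul b ψ (single y 1)
  rw [chiLin_single, one_mul, chiLin] at h
  rw [show ∑ g, (blockElem b * single y (1 : ℂ)).coeff g * (classInner θ (ψ : K → ℂ) * (ψ : K → ℂ) g) =
    classInner θ (ψ : K → ℂ) * ∑ g, (blockElem b * single y (1 : ℂ)).coeff g * (ψ : K → ℂ) g by
      rw [Finset.mul_sum]; exact Finset.sum_congr rfl fun g _ => by ring, h]
  split_ifs <;> simp

omit [Fintype G] in
/-- Brauer's second main theorem. -/
theorem second_main [Finite G] (hM : IsPModular p M) {x : G} {e : ℕ} (hx : orderOf x = p ^ e)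
    {B : Set (IrrCharacter G)} (hB : IsPBlock M B) {χ : IrrCharacter G} (hχ : χ ∈ B)
    {b : Set (IrrCharacter (Subgroup.centralizer ({x} : Set G)))} (hb : IsPBlock M b)
    (hnot : ¬ IsInducedBlock M (Subgroup.centralizer ({x} : Set G)) b B)
    (y : Subgroup.centralizer ({x} : Set G)) (hy : ¬ p ∣ orderOf y) :
    blockPart b (fun c : Subgroup.centralizer ({x} : Set G) => (χ : G → ℂ) (x * (c : G))) y
      = 0 := by
  classical
  cases nonempty_fintype G
  let xH : Subgroup.centralizer ({x} : Set G) := ⟨x, Subgroup.mem_centralizer_singleton_iff.mpr rfl⟩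
  have hxu : ∀ c : Subgroup.centralizer ({x} : Set G), (c : G) * x = x * (c : G) := fun c =>
    Subgroup.mem_centralizer_singleton_iff.mp c.2
  have hθ : IsClassFunction (Subgroup.centralizer ({x} : Set G))
      (fun c : Subgroup.centralizer ({x} : Set G) => (χ : G → ℂ) (x * (c : G))) := fun g k => by
    show (χ : G → ℂ) (x * ((k * g * k⁻¹ : Subgroup.centralizer ({x} : Set G)) : G)) = _
    rw [show x * ((k * g * k⁻¹ : Subgroup.centralizer ({x} : Set G)) : G) = (k : G) * (x * (g : G)) * (k : G)⁻¹ by
      push_cast; rw [← mul_assoc (k : G) x, hxu]; group]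
    exact IsIrr.isClassFunction χ.2 _ _
  rw [blockPart_eq_chiLin b hθ]
  have hBeq : B = blockOf M (χ : G → ℂ) := isPBlock_eq_blockOf hM hB hχ
  have h := chiLin_block_section_eq_zero hM hx xH rfl le_rfl hb χ
    (by rw [← hBeq]; exact memLocalIdeal_omega_resElt_of_not_induced hM hx rfl hb hB hnot)
    (s := y) (Subtype.ext (hxu y).symm) hy
  have heq : blockElem b * single (xH * y) (1 : ℂ) = single xH 1 * (blockElem b * single y 1) := by
    rw [← mul_assoc, ← isCentralElt_comm (isCentralElt_blockElem b), mul_assoc,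
      MonoidAlgebra.single_mul_single, one_mul]
  rw [heq] at h
  rw [← h, chiLin, chiLin]
  refine Fintype.sum_equiv (Equiv.mulLeft xH) _ _ fun c => ?_
  simp [coeff_single_mul_apply, xH]

end Cfsg.Agent.Cores
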