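import Cfsg.Agent.Cores.LBalanceMain
import Cfsg.Agent.Components.Layer
import Cfsg.Agent.S1754

/-!
# The trichotomy for a standard subgroup in a core-free group

For a standard subgroup `A` of even order in a group with `O(G) = 1`, centralised by an involution `t`:
`A` is normal, or `E(G)` is simple, or `E(G)` is the product of two simple components swapped by `t`
with `A` the diagonal.
-/

set_option linter.unusedSectionVars false
set_option linter.style.haveILetI false

namespace Cfsg.Agent.Cores

open Subgroup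
open scoped commutatorElement

universe u

variable {G : Type u} [Group G] [Finite G]

/-- An involution of `D` fixed by the involution `t` normalising `D`. -/
theorem exists_involution_fixed {D : Subgroup G} {t : G} (ht : orderOf t = 2)
    (htD : ∀ x ∈ D, t * x * t⁻¹ ∈ D) (hD : 2 ∣ Nat.card D) :
    ∃ e ∈ D ⊓ centralizer ({t} : Set G), orderOf e = 2 := by
  classical
  haveI : Fact (Nat.Prime 2) := ⟨Nat.prime_two⟩
  haveI := Fintype.ofFinite D
  have htt : t * t = 1 := by rw [← pow_two, ← ht, pow_orderOf_eq_one]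
  let f : D → D := fun x => ⟨t * x * t⁻¹, htD x x.2⟩
  have hf : Function.Involutive f := fun x => Subtype.ext <| by
    show t * (t * x * t⁻¹) * t⁻¹ = x
    calc t * (t * (x : G) * t⁻¹) * t⁻¹ = t * t * x * (t * t)⁻¹ := by group
      _ = x := by rw [htt]; group
  let σ : Equiv.Perm D := hf.toPerm f
  have hσ : σ ^ 2 ^ 1 = 1 := by
    ext x
    simp [pow_two, σ, Function.Involutive.toPerm, hf x]
  have h := Equiv.Perm.card_compl_support_modEq hσ
  rw [← Nat.card_eq_fintype_card (α := D)] at h
  have hcard : σ.supportᶜ.card = Nat.card ↥(D ⊓ centralizer ({t} : Set G)) := by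
    rw [← Fintype.card_coe, ← Nat.card_eq_fintype_card]
    refine Nat.card_congr
      ⟨fun x => ⟨x.1.1, x.1.2, ?_⟩, fun x => ⟨⟨x.1, x.2.1⟩, ?_⟩, fun x => rfl, fun x => rfl⟩
    · have hx := x.2
      rw [Finset.mem_compl, Equiv.Perm.notMem_support] at hx
      have hx' : t * (x.1 : G) * t⁻¹ = x.1 := congrArg Subtype.val hx
      show (x.1 : G) ∈ centralizer ({t} : Set G)
      rw [mem_centralizer_singleton_iff]
      calc (x.1 : G) * t = t * x.1 * t⁻¹ * t := by rw [hx']
        _ = t * x.1 := by group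
    · rw [Finset.mem_compl, Equiv.Perm.notMem_support]
      apply Subtype.ext
      show t * (x : G) * t⁻¹ = x
      rw [← mem_centralizer_singleton_iff.1 x.2.2, mul_inv_cancel_right]
  rw [hcard] at h
  obtain ⟨e, he⟩ := exists_prime_orderOf_dvd_card' 2 ((Nat.ModEq.dvd_iff h dvd_rfl).2 hD)
  exact ⟨e, e.2, by rw [Subgroup.orderOf_coe, he]⟩

theorem isSimpleGroup_of_qs_center {D : Subgroup G} (h : Cfsg.IsQuasisimple D)
    (hz : center D = ⊥) : IsSimpleGroup D := by
  haveI := h.2
  let e : D ≃* D ⧸ center D :=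
    MulEquiv.ofBijective (QuotientGroup.mk' (center D))
      ⟨(MonoidHom.ker_eq_bot_iff _).1 ((QuotientGroup.ker_mk' _).trans hz),
        QuotientGroup.mk'_surjective _⟩
  haveI := e.toEquiv.nontrivial
  exact IsSimpleGroup.isSimpleGroup_of_surjective e.symm.toMonoidHom e.symm.surjective

/-- A quasisimple `A` not inside `N`, which it normalises, centralises what of `N` normalises it. -/
theorem commutator_eq_bot_of_not_le {A N B : Subgroup G} (hA : Cfsg.IsQuasisimple A)
    (hle : ¬ A ≤ N) (hAN : A ≤ normalizer (N : Set G)) (hBN : B ≤ N)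
    (hBA : B ≤ normalizer (A : Set G)) : ⁅A, B⁆ = ⊥ := by
  have h := (Components.qsSub_normal hA hAN).resolve_left hle
  have h1 : ⁅A, B⁆ ≤ A ⊓ N := by
    refine le_inf ?_ ((commutator_mono le_rfl hBN).trans
      (Components.commutator_le_of_le_normalizer hAN))
    rw [commutator_comm]
    exact Components.commutator_le_of_le_normalizer hBA
  refine Components.commutator_eq_bot_of_perfect (Components.qsSub_perfect hA) (le_bot_iff.1 ?_)
  rw [commutator_comm]
  exact (commutator_mono le_rfl h1).trans h.le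

/-- A subgroup of a simple group normalised by it. -/
theorem eq_of_le_of_simple {A D : Subgroup G} [IsSimpleGroup D] (hle : A ≤ D)
    (hn : D ≤ normalizer (A : Set G)) (hne : A ≠ ⊥) : A = D := by
  rcases ((normal_subgroupOf_iff_le_normalizer hle).2 hn).eq_bot_or_eq_top with h | h
  · exfalso
    apply hne
    rw [← Components.map_subgroupOf hle, h, Subgroup.map_bot]
  · exact le_antisymm hle (subgroupOf_eq_top.1 h)

variable {A : Subgroup G}

theorem mem_centralizer_of_commutator_eq_bot {B : Subgroup G} (h : ⁅A, B⁆ = ⊥) :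
    B ≤ centralizer (A : Set G) := by
  rw [← commutator_eq_bot_iff_le_centralizer, commutator_comm]
  exact h

/-- A standard subgroup with a normal subgroup of even order in its centraliser is normal. -/
theorem standard_normal_of_normal_le_centralizer (hA : Cfsg.IsStandardSubgroup A) {N : Subgroup G}
    [N.Normal] (hN : N ≤ centralizer (A : Set G)) (h2 : 2 ∣ Nat.card N) : A.Normal := by
  rw [← normalizer_eq_top_iff, hA.2.2.2, eq_top_iff]
  intro g _
  by_contra hg
  have hle : N ≤ centralizer (A : Set G) ⊓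
      (centralizer (A : Set G)).map (MulAut.conj g).toMonoidHom := by
    intro x hx
    refine ⟨hN hx, ⟨g⁻¹ * x * g, hN ?_, ?_⟩⟩
    · simpa using Normal.conj_mem (inferInstance : N.Normal) x hx g⁻¹
    · show g * (g⁻¹ * x * g) * g⁻¹ = x
      group
  exact Nat.not_even_iff_odd.2 (hA.2.1.2 g hg) (even_iff_two_dvd.2 (h2.trans (card_dvd_of_le hle)))

/-- The trichotomy, for `A` of even order. -/
theorem standard_trichotomy (hA : Cfsg.IsStandardSubgroup A) (hO : Cfsg.oddCore G = ⊥) {t : G}
    (ht : orderOf t = 2) (htA : t ∈ centralizer (A : Set G)) (h2A : 2 ∣ Nat.card A) :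
    A.Normal ∨ (∃ X : Subgroup G, IsSimpleGroup ↥X ∧ ¬ IsMulCommutative ↥X ∧ Nonempty (↥X ≃* ↥A) ∧
      (∀ a ∈ X, ∀ b ∈ X.map (MulAut.conj t).toMonoidHom, a * b = b * a) ∧
      X ⊓ X.map (MulAut.conj t).toMonoidHom = ⊥ ∧
      X ⊔ X.map (MulAut.conj t).toMonoidHom = Cfsg.layer G ∧
      centralizer (A : Set G) = zpowers t) ∨
    (A ≤ Cfsg.layer G ∧ IsSimpleGroup ↥(Cfsg.layer G) ∧ ¬ IsMulCommutative ↥(Cfsg.layer G)) := by
  classical
  haveI : Fact (Nat.Prime 2) := ⟨Nat.prime_two⟩
  rw [or_iff_not_imp_left]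
  intro hAn
  have hqs := hA.1
  have hA0 : A ≠ ⊥ := Components.qsSub_ne_bot hqs
  let K := centralizer (A : Set G)
  have hCe : ∀ e ∈ K, orderOf e = 2 → centralizer ({e} : Set G) ≤ normalizer (A : Set G) :=
    fun e he h2 => (S1754.result A hA e h2 he).1
  let C := centralizer ({t} : Set G)
  have hAC : A ≤ C := fun a ha => by
    show a ∈ centralizer ({t} : Set G)
    rw [mem_centralizer_singleton_iff]
    exact mem_centralizer_iff.1 htA a ha
  have hCA : C ≤ normalizer (A : Set G) := hCe t htA ht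
  have htt : t * t = 1 := by rw [← pow_two, ← ht, pow_orderOf_eq_one]
  have htinv : t⁻¹ = t := inv_eq_of_mul_eq_one_right htt
  have hO' : Cfsg.pPrimeCore 2 G = ⊥ := hO
  -- `A ≤ E(G)`
  have hAE : A ≤ Cfsg.layer G := by
    have hlay : Cfsg.pLayer 2 G ≤ Cfsg.layer G := by
      refine Components.map_layer_eq_iff.1 (Components.map_layer_equiv
        (MulEquiv.ofBijective (Components.qmap 2 G)
          ⟨(MonoidHom.ker_eq_bot_iff _).1 (Components.ker_qmap.trans hO'),
            Components.qmap_surjective⟩))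
    let T := zpowers t
    have hT : IsPGroup 2 T := IsPGroup.of_card (n := 1) (by rw [Nat.card_zpowers, ht, pow_one])
    have hCT : centralizer (T : Set G) = C := by
      show centralizer ((zpowers t : Subgroup G) : Set G) = centralizer {t}
      rw [zpowers_eq_closure, centralizer_closure]
    have hAT : A ≤ centralizer (T : Set G) := hCT ▸ hAC
    refine le_trans ?_ ((lBalance_two hT).trans hlay)
    have hcomp : Cfsg.IsComponent (A.subgroupOf (centralizer (T : Set G))) := by
      rw [hCT]; exact (S1754.result A hA t ht htA).2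
    refine le_trans (Components.map_subgroupOf hAT).ge (Subgroup.map_mono
      (Components.pComponent_le_pLayer (Components.isPComponent_of_component hcomp ?_)))
    intro hle
    refine not_dvd_card_pPrimeCore (p := 2) (G := ↥(centralizer (T : Set G))) (dvd_trans ?_ (card_dvd_of_le hle))
    rw [Nat.card_congr (subgroupOfEquivOfLe hAT).toEquiv]
    exact h2A
  -- `F(G) = 1`
  have hFit : Cfsg.fittingSubgroup G = ⊥ := by
    by_contra hne
    refine hAn (standard_normal_of_normal_le_centralizer hA (N := Cfsg.fittingSubgroup G) ?_ ?_)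
    · refine mem_centralizer_of_commutator_eq_bot (le_bot_iff.1 ?_)
      exact (commutator_mono hAE le_rfl).trans Components.layer_commutator_fitting.le
    · have hp : IsPGroup 2 (Cfsg.fittingSubgroup G) :=
        pCore_isPGroup.to_le (Components.fitting_le_pCore hO')
      haveI := (nontrivial_iff_ne_bot _).2 hne
      obtain ⟨n, hn, hcard⟩ := hp.nontrivial_iff_card.1 inferInstance
      exact hcard ▸ dvd_pow_self 2 hn.ne'
  have hCE : centralizer (Cfsg.layer G : Set G) ≤ Cfsg.layer G := by
    have h := Components.centralizer_genFitting_le (G := G)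
    rwa [Cfsg.generalizedFittingSubgroup, hFit, sup_bot_eq] at h
  have hzE : ∀ x ∈ Cfsg.layer G, x ∈ centralizer (Cfsg.layer G : Set G) → x = 1 := by
    intro x hx hxc
    have : x ∈ (center (Cfsg.layer G)).map (Cfsg.layer G).subtype :=
      (Components.mem_center_map_iff _ x).2 ⟨hx, fun y hy => mem_centralizer_iff.1 hxc y hy⟩
    rw [Components.center_layer_eq_fitting_inf, hFit, bot_inf_eq] at this
    exact mem_bot.1 this
  have hsimple : ∀ D : Subgroup G, Cfsg.IsComponent D → IsSimpleGroup D := by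
    intro D hD
    refine isSimpleGroup_of_qs_center hD.2 ?_
    have h : (center D).map D.subtype ≤ (center (Cfsg.layer G)).map (Cfsg.layer G).subtype := by
      rw [Components.center_layer]
      exact le_iSup (fun L : {K : Subgroup G // Cfsg.IsComponent K} =>
        (center (L : Subgroup G)).map (L : Subgroup G).subtype) ⟨D, hD⟩
    rw [Components.center_layer_eq_fitting_inf, hFit, bot_inf_eq, le_bot_iff,
      map_eq_bot_iff_of_injective _ D.subtype_injective] at h
    exact h
  have hnocomm : ∀ D : Subgroup G, Cfsg.IsComponent D → ¬ IsMulCommutative D := by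
    intro D hD h
    refine Components.qsSub_ne_bot hD.2 (le_bot_iff.1 ?_)
    rw [← Components.component_perfect hD, commutator_eq_bot_iff_le_centralizer.2]
    intro x hx
    rw [mem_centralizer_iff]
    exact fun y hy => congrArg Subtype.val (h.is_comm.comm (⟨y, hy⟩ : D) ⟨x, hx⟩)
  -- `A` is not a component
  have hAnc : ¬ Cfsg.IsComponent A := by
    intro hc
    refine hAn ⟨fun a ha g => ?_⟩
    have hg : A.map (MulAut.conj g).toMonoidHom = A := by
      by_contra hne
      exact hA.2.2.1 g hne (Components.components_commute hc (Components.component_conj hc g)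
        (Ne.symm hne))
    exact hg.le ⟨a, ha, rfl⟩
  have hAD : ∀ D : Subgroup G, Cfsg.IsComponent D → A ≤ normalizer (D : Set G) :=
    fun D hD => hAE.trans (Components.layer_le_normalizer_component hD)
  have hcommN : ∀ D : Subgroup G, Cfsg.IsComponent D → D ≤ normalizer (A : Set G) → ⁅A, D⁆ = ⊥ := by
    intro D hD hn
    haveI := hsimple D hD
    exact commutator_eq_bot_of_not_le hqs
      (fun hle => hAnc ((eq_of_le_of_simple hle hn hA0) ▸ hD)) (hAD D hD) le_rfl hn
  have hall : ¬ ∀ D : Subgroup G, Cfsg.IsComponent D → ⁅A, D⁆ = ⊥ := by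
    intro h
    apply hA0
    rw [eq_bot_iff]
    intro x hx
    refine mem_bot.2 (hzE x (hAE hx) ?_)
    have : Cfsg.layer G ≤ centralizer (A : Set G) :=
      Components.layer_le_iff.2 fun D hD => mem_centralizer_of_commutator_eq_bot (h D hD)
    exact le_centralizer_iff.1 this hx
  have hother : ∀ D : Subgroup G, Cfsg.IsComponent D → ∀ e ∈ D, e ∈ K → orderOf e = 2 →
      ∀ D' : Subgroup G, Cfsg.IsComponent D' → D' ≠ D → ⁅A, D'⁆ = ⊥ := by
    intro D hD e he heK h2 D' hD' hne
    refine hcommN D' hD' (le_trans (fun x hx => ?_) (hCe e heK h2))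
    rw [mem_centralizer_singleton_iff]
    exact Components.commute_of_commutator_eq_bot (Components.components_commute hD' hD hne) hx he
  have hstar : ∀ D : Subgroup G, Cfsg.IsComponent D → ⁅A, D⁆ ≠ ⊥ := by
    intro D hD h
    obtain ⟨e, he⟩ := exists_prime_orderOf_dvd_card' 2 (Components.dvd_card_component hO' hD)
    refine hall fun D' hD' => ?_
    by_cases hne : D' = D
    · rw [hne]; exact h
    · exact hother D hD e e.2 (mem_centralizer_of_commutator_eq_bot h e.2)
        (by rw [Subgroup.orderOf_coe, he]) D' hD' hne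
  have hone : ∀ D : Subgroup G, Cfsg.IsComponent D → D.map (MulAut.conj t).toMonoidHom = D →
      ∀ D' : Subgroup G, Cfsg.IsComponent D' → D' = D := by
    intro D hD hfix D' hD'
    by_contra hne
    by_cases hle : A ≤ D
    · exact hstar D' hD' (le_bot_iff.1 ((commutator_mono hle le_rfl).trans
        (Components.components_commute hD hD' (Ne.symm hne)).le))
    · obtain ⟨e, ⟨heD, heC⟩, h2⟩ := exists_involution_fixed (D := D) ht
        (fun x hx => hfix.le ⟨x, hx, rfl⟩) (Components.dvd_card_component hO' hD)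
      have h := commutator_eq_bot_of_not_le hqs (B := D ⊓ C) hle (hAD D hD) inf_le_left
        (inf_le_right.trans hCA)
      exact hstar D' hD' (hother D hD e heD
        (mem_centralizer_of_commutator_eq_bot h ⟨heD, heC⟩) h2 D' hD' hne)
  obtain ⟨D, hD⟩ : ∃ D : Subgroup G, Cfsg.IsComponent D := by
    by_contra h
    exact hall fun D hD => absurd ⟨D, hD⟩ h
  haveI := hsimple D hD
  set D₂ := D.map (MulAut.conj t).toMonoidHom with hD₂def
  have hD₂ : Cfsg.IsComponent D₂ := Components.component_conj hD t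
  by_cases hfix : D₂ = D
  · right
    have hlay : Cfsg.layer G = D :=
      le_antisymm (Components.layer_le_iff.2 fun L hL => (hone D hD hfix L hL).le)
        (Components.component_le_layer hD)
    refine ⟨hAE, ?_⟩
    rw [hlay]
    exact ⟨inferInstance, hnocomm D hD⟩
  left
  have hcomm : ⁅D, D₂⁆ = ⊥ := Components.components_commute hD hD₂ (Ne.symm hfix)
  have hc : ∀ x ∈ D, ∀ y ∈ D₂, x * y = y * x := fun x hx y hy =>
    Components.commute_of_commutator_eq_bot hcomm hx hy
  have hinf : D ⊓ D₂ = ⊥ := by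
    rw [eq_bot_iff]
    rintro x ⟨hx, hx'⟩
    have hz : (⟨x, hx⟩ : D) ∈ center D :=
      mem_center_iff.2 fun y => Subtype.ext (hc y y.2 x hx')
    rcases (inferInstance : (center D).Normal).eq_bot_or_eq_top with h | h
    · rw [h, mem_bot] at hz
      exact mem_bot.2 (congrArg Subtype.val hz)
    · exfalso
      exact hnocomm D hD ⟨⟨fun a b => ((mem_center_iff.1 (h ▸ mem_top b : b ∈ center D)) a)⟩⟩
  have huniq : ∀ x ∈ D, ∀ y ∈ D₂, ∀ x' ∈ D, ∀ y' ∈ D₂, x * y = x' * y' → x = x' ∧ y = y' := by
    intro x hx y hy x' hx' y' hy' h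
    have h1 : x'⁻¹ * x = y' * y⁻¹ := by
      calc x'⁻¹ * x = x'⁻¹ * (x * y) * y⁻¹ := by group
        _ = y' * y⁻¹ := by rw [h]; group
    have h2 : x'⁻¹ * x ∈ D ⊓ D₂ :=
      mem_inf.2 ⟨mul_mem (inv_mem hx') hx, h1 ▸ mul_mem hy' (inv_mem hy)⟩
    rw [hinf, mem_bot] at h2
    have h3 : x = x' := (inv_mul_eq_one.1 h2).symm
    subst h3
    exact ⟨rfl, mul_left_cancel h⟩
  have ht2 : ∀ y ∈ D₂, t * y * t⁻¹ ∈ D := by
    rintro _ ⟨x, hx, rfl⟩
    show t * (t * x * t⁻¹) * t⁻¹ ∈ D
    rwa [show t * (t * x * t⁻¹) * t⁻¹ = t * t * x * (t * t)⁻¹ by group, htt, inv_one, one_mul,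
      mul_one]
  have ht1 : ∀ x ∈ D, t * x * t⁻¹ ∈ D₂ := fun x hx => ⟨x, hx, rfl⟩
  let δ : D →* G := MonoidHom.mk' (fun x => x * (t * x * t⁻¹)) fun x y => by
    show ((x : G) * y) * (t * (x * y) * t⁻¹) = (x * (t * x * t⁻¹)) * (y * (t * y * t⁻¹))
    calc ((x : G) * y) * (t * (x * y) * t⁻¹)
        = x * (y * (t * x * t⁻¹)) * (t * y * t⁻¹) := by group
      _ = (x * (t * x * t⁻¹)) * (y * (t * y * t⁻¹)) := by
        rw [hc y y.2 _ (ht1 x x.2)]; group
  have hδinj : Function.Injective δ := by
    rw [← MonoidHom.ker_eq_bot_iff, eq_bot_iff]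
    intro x hx
    have hx' : (x : G) * (t * x * t⁻¹) = 1 * 1 := by rw [one_mul]; exact hx
    exact mem_bot.2 (Subtype.ext
      (huniq x x.2 _ (ht1 x x.2) 1 D.one_mem 1 D₂.one_mem hx').1)
  have hδC : δ.range ≤ C := by
    rintro _ ⟨x, rfl⟩
    show (x : G) * (t * x * t⁻¹) ∈ centralizer ({t} : Set G)
    rw [mem_centralizer_singleton_iff]
    have h := hc x x.2 _ (ht1 x x.2)
    calc (x : G) * (t * x * t⁻¹) * t = (t * x * t⁻¹) * x * t := by rw [h]
      _ = t * (x * (t * x * t)) := by rw [htinv]; group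
      _ = t * (x * (t * x * t⁻¹)) := by rw [htinv]
  let M := D ⊔ D₂
  have hAM : A ≤ normalizer (M : Set G) := by
    intro a ha
    apply mem_normalizer_of_conjMap_eq
    rw [Subgroup.map_sup, Components.map_conj_eq_of_mem_normalizer (hAD D hD ha),
      Components.map_conj_eq_of_mem_normalizer (hAD D₂ hD₂ ha)]
  have hle : A ≤ M := by
    by_contra hle
    have hδM : δ.range ≤ M := by
      rintro _ ⟨x, rfl⟩
      exact mul_mem (mem_sup_left x.2) (mem_sup_right (ht1 x x.2))
    have h := commutator_eq_bot_of_not_le hqs hle hAM hδM (hδC.trans hCA)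
    refine hstar D hD (commutator_eq_bot_iff_le_centralizer.2 fun a ha => ?_)
    rw [mem_centralizer_iff]
    intro x hx
    have he : a * (x * (t * x * t⁻¹)) = (x * (t * x * t⁻¹)) * a :=
      Components.commute_of_commutator_eq_bot h ha ⟨⟨x, hx⟩, rfl⟩
    have h1 : a * x * a⁻¹ ∈ D := (mem_normalizer_iff.1 (hAD D hD ha) x).1 hx
    have h2 : a * (t * x * t⁻¹) * a⁻¹ ∈ D₂ :=
      (mem_normalizer_iff.1 (hAD D₂ hD₂ ha) _).1 (ht1 x hx)
    have h3 := (huniq _ h1 _ h2 x hx _ (ht1 x hx) (by
      calc a * x * a⁻¹ * (a * (t * x * t⁻¹) * a⁻¹) = a * (x * (t * x * t⁻¹)) * a⁻¹ := by group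
        _ = x * (t * x * t⁻¹) := by rw [he]; group)).1
    calc x * a = a * x * a⁻¹ * a := by rw [h3]
      _ = a * x := by group
  have honly : ∀ L : Subgroup G, Cfsg.IsComponent L → L = D ∨ L = D₂ := by
    intro L hL
    by_contra hne
    simp only [not_or] at hne
    refine hstar L hL (le_bot_iff.1 ((commutator_mono hle le_rfl).trans ?_))
    refine (commutator_eq_bot_iff_le_centralizer.2 (sup_le ?_ ?_)).le
    · exact commutator_eq_bot_iff_le_centralizer.1 (Components.components_commute hD hL (Ne.symm hne.1))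
    · exact commutator_eq_bot_iff_le_centralizer.1
        (Components.components_commute hD₂ hL (Ne.symm hne.2))
  have hE : D ⊔ D₂ = Cfsg.layer G := by
    refine le_antisymm (sup_le (Components.component_le_layer hD) (Components.component_le_layer hD₂))
      (Components.layer_le_iff.2 fun L hL => ?_)
    rcases honly L hL with rfl | rfl
    · exact le_sup_left
    · exact le_sup_right
  have hAeq : A = δ.range := by
    have hsub : A ≤ δ.range := by
      intro a ha
      have ha' : a ∈ (D ⊔ D₂ : Subgroup G) := hle ha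
      rw [← SetLike.mem_coe, Subgroup.coe_mul_of_left_le_normalizer_right _ _
        (Components.le_normalizer_of_commutator_eq_bot hcomm)] at ha'
      obtain ⟨x, hx, y, hy, rfl⟩ := ha'
      have hfixa : t * (x * y) * t⁻¹ = x * y := by
        rw [← mem_centralizer_singleton_iff.1 (hAC ha), mul_inv_cancel_right]
      have h := (huniq _ (ht2 y hy) _ (ht1 x hx) x hx y hy (by
        rw [hc _ (ht2 y hy) _ (ht1 x hx)]
        calc t * x * t⁻¹ * (t * y * t⁻¹) = t * (x * y) * t⁻¹ := by group
          _ = x * y := hfixa)).2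
      exact ⟨⟨x, hx⟩, by show x * (t * x * t⁻¹) = x * y; rw [h]⟩
    haveI : IsSimpleGroup δ.range := by
      haveI := (MonoidHom.ofInjective hδinj).toEquiv.symm.nontrivial
      exact IsSimpleGroup.isSimpleGroup_of_surjective (MonoidHom.ofInjective hδinj).toMonoidHom
        (MonoidHom.ofInjective hδinj).surjective
    exact eq_of_le_of_simple hsub (hδC.trans hCA) hA0
  refine ⟨D, inferInstance, hnocomm D hD,
    ⟨(MonoidHom.ofInjective hδinj).trans (MulEquiv.subgroupCongr hAeq.symm)⟩, hc, hinf, hE, ?_⟩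
  refine le_antisymm ?_ ((zpowers_le).2 htA)
  -- elements of `C(A)` fixing `D`
  have hfixD : ∀ k ∈ K, D.map (MulAut.conj k).toMonoidHom = D → k = 1 := by
    intro k hk hkD
    have hkD2 : D₂.map (MulAut.conj k).toMonoidHom = D₂ := by
      rcases honly _ (Components.component_conj hD₂ k) with h | h
      · exfalso
        exact hfix (Subgroup.map_injective (MulAut.conj k).injective (h.trans hkD.symm))
      · exact h
    have hcent : k ∈ centralizer ((D ⊔ D₂ : Subgroup G) : Set G) := by
      have hk' : ∀ x ∈ D, k * x * k⁻¹ = x ∧ k * (t * x * t⁻¹) * k⁻¹ = t * x * t⁻¹ := by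
        intro x hx
        have he : x * (t * x * t⁻¹) * k = k * (x * (t * x * t⁻¹)) :=
          mem_centralizer_iff.1 hk _ (hAeq ▸ ⟨⟨x, hx⟩, rfl⟩ : x * (t * x * t⁻¹) ∈ A)
        refine huniq _ (hkD.le ⟨x, hx, rfl⟩) _ (hkD2.le ⟨_, ht1 x hx, rfl⟩) x hx _ (ht1 x hx) ?_
        show k * x * k⁻¹ * (k * (t * x * t⁻¹) * k⁻¹) = _
        calc k * x * k⁻¹ * (k * (t * x * t⁻¹) * k⁻¹) = k * (x * (t * x * t⁻¹)) * k⁻¹ := by group
          _ = x * (t * x * t⁻¹) := by rw [← he]; group
      have hmem : (D ⊔ D₂ : Subgroup G) ≤ centralizer ({k} : Set G) := by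
        refine sup_le (fun x hx => ?_) ?_
        · rw [mem_centralizer_singleton_iff]
          calc x * k = k * x * k⁻¹ * k := by rw [(hk' x hx).1]
            _ = k * x := by group
        · rintro _ ⟨x, hx, rfl⟩
          show t * x * t⁻¹ ∈ centralizer ({k} : Set G)
          rw [mem_centralizer_singleton_iff]
          calc t * x * t⁻¹ * k = k * (t * x * t⁻¹) * k⁻¹ * k := by rw [(hk' x hx).2]
            _ = k * (t * x * t⁻¹) := by group
      rw [mem_centralizer_iff]
      exact fun y hy => mem_centralizer_singleton_iff.1 (hmem hy)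
    rw [hE] at hcent
    exact hzE k (hCE hcent) hcent
  intro k hk
  by_cases hkD : D.map (MulAut.conj k).toMonoidHom = D
  · rw [hfixD k hk hkD]; exact one_mem _
  · have h := (honly _ (Components.component_conj hD k)).resolve_left hkD
    have hkt : D.map (MulAut.conj (t * k)).toMonoidHom = D := by
      refine le_antisymm ?_ ?_
      · rintro _ ⟨x, hx, rfl⟩
        show t * k * x * (t * k)⁻¹ ∈ D
        rw [show t * k * x * (t * k)⁻¹ = t * (k * x * k⁻¹) * t⁻¹ by group]
        exact ht2 _ (h.le ⟨x, hx, rfl⟩)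
      · intro x hx
        obtain ⟨y, hy, hyx⟩ := h.ge (ht1 x hx)
        refine ⟨y, hy, ?_⟩
        have hyx' : k * y * k⁻¹ = t * x * t⁻¹ := hyx
        show t * k * y * (t * k)⁻¹ = x
        rw [show t * k * y * (t * k)⁻¹ = t * (k * y * k⁻¹) * t⁻¹ by group, hyx',
          show t * (t * x * t⁻¹) * t⁻¹ = t * t * x * (t * t)⁻¹ by group, htt]
        group
    have := hfixD (t * k) (mul_mem htA hk) hkt
    rw [eq_inv_of_mul_eq_one_right this]
    exact inv_mem (mem_zpowers t)

end Cfsg.Agent.Cores

namespace Cfsg.Agent.Cores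

universe u

/-- The trichotomy, given the odd order theorem. -/
theorem standard_trichotomy_of_oddOrder {G : Type u} [Group G] [Finite G]
    (hFT : ∀ H : Subgroup G, Odd (Nat.card H) → Group.IsSolvable H) {A : Subgroup G}
    (hA : Cfsg.IsStandardSubgroup A) (hO : Cfsg.oddCore G = ⊥) {t : G}
    (ht : orderOf t = 2) (htA : t ∈ Subgroup.centralizer (A : Set G)) :
    A.Normal ∨ (∃ X : Subgroup G, IsSimpleGroup ↥X ∧ ¬ IsMulCommutative ↥X ∧ Nonempty (↥X ≃* ↥A) ∧
      (∀ a ∈ X, ∀ b ∈ X.map (MulAut.conj t).toMonoidHom, a * b = b * a) ∧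
      X ⊓ X.map (MulAut.conj t).toMonoidHom = ⊥ ∧
      X ⊔ X.map (MulAut.conj t).toMonoidHom = Cfsg.layer G ∧
      Subgroup.centralizer (A : Set G) = Subgroup.zpowers t) ∨
    (A ≤ Cfsg.layer G ∧ IsSimpleGroup ↥(Cfsg.layer G) ∧ ¬ IsMulCommutative ↥(Cfsg.layer G)) := by
  refine standard_trichotomy hA hO ht htA ?_
  rcases Nat.even_or_odd (Nat.card A) with h | h
  · exact even_iff_two_dvd.1 h
  · exact absurd (hFT A h) (Components.qs_not_isSolvable hA.1)

end Cfsg.Agent.Cores
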