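import Cfsg.Agent.Cores.SecondMain
import Cfsg.Agent.H82.PrincipalBlock
import Mathlib.GroupTheory.Perm.Cycle.Type

/-!
# Brauer's third main theorem for ordinary characters

The sum of all `p`-regular elements separates the principal block from all other blocks.
-/

namespace Cfsg.Agent.Cores

open MonoidAlgebra BlockBasic CharBasic

universe u

variable {G : Type u} [Group G] {p : ℕ} {M : Ideal AlgInt}

/-- The sum of all `p`-regular elements. -/
noncomputable def regElt [Finite G] (p : ℕ) : MonoidAlgebra ℂ G :=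
  ofFun fun g => if ¬ p ∣ orderOf g then 1 else 0

theorem isCentralElt_regElt [Finite G] (p : ℕ) : IsCentralElt (regElt (G := G) p) :=
  isCentralElt_ofFun fun g h => by
    rw [← MulAut.conj_apply, MulEquiv.orderOf_eq]

theorem isIntElt_regElt [Finite G] (hM : IsPModular p M) : IsIntElt M (regElt (G := G) p) :=
  fun g => by
    rw [regElt, coeff_ofFun]
    split
    · exact (locRing hM).one_mem
    · exact (locRing hM).zero_mem

theorem resElt_regElt [Finite G] (H : Subgroup G) (p : ℕ) :
    resElt H (regElt (G := G) p) = regElt (G := H) p := by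
  apply coeff_injective
  ext h
  simp [resElt, regElt, Subgroup.orderOf_coe]

/-- A group with a central Sylow `p`-subgroup has a number of `p`-regular elements prime to `p`. -/
theorem not_dvd_card_regular_of_central [Finite G] [Fact p.Prime] {Z : Subgroup G}
    (hZc : Z ≤ Subgroup.center G) (hZp : IsPGroup p Z)
    (hZ : ∀ y : G, (∃ k, orderOf y = p ^ k) → y ∈ Z) :
    ¬ p ∣ Nat.card {g : G // ¬ p ∣ orderOf g} := by
  have hn : Z.Normal := ⟨fun n hn g => by
    rw [Subgroup.mem_center_iff.1 (hZc hn) g]; simpa using hn⟩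
  let f : {g : G // ¬ p ∣ orderOf g} → G ⧸ Z := fun g => QuotientGroup.mk g.1
  have hcoset : ∀ g : G, QuotientGroup.mk (pReg (p := p) g) = (QuotientGroup.mk g : G ⧸ Z) := by
    intro g
    rw [QuotientGroup.eq]
    have h : (pReg (p := p) g)⁻¹ * g = pPart (p := p) g := by
      rw [inv_mul_eq_iff_eq_mul, ← (commute_pPart_pReg g).eq, pPart_mul_pReg]
    rw [h]
    exact hZ _ (exists_orderOf_pPart g)
  have hinj : Function.Injective f := by
    rintro ⟨a, ha⟩ ⟨b, hb⟩ hab
    have hz : a⁻¹ * b ∈ Z := QuotientGroup.eq.1 hab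
    have hc : Commute a (a⁻¹ * b) := (Subgroup.mem_center_iff.1 (hZc hz) a)
    have hp : pPart (p := p) ((a⁻¹ * b) * a) = a⁻¹ * b := by
      obtain ⟨k, hk⟩ := IsPGroup.iff_orderOf.1 hZp ⟨_, hz⟩
      exact pPart_mul_of hc.symm ⟨k, by rw [← hk, ← Subgroup.orderOf_coe]⟩ ha
    rw [← hc.eq, mul_inv_cancel_left, (pPart_eq_one_iff b).2 hb] at hp
    exact Subtype.ext (inv_mul_eq_one.1 hp.symm)
  have hsurj : Function.Surjective f := fun q => by
    obtain ⟨g, rfl⟩ := QuotientGroup.mk_surjective q
    exact ⟨⟨pReg (p := p) g, not_dvd_orderOf_pReg g⟩, hcoset g⟩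
  rw [Nat.card_eq_of_bijective f ⟨hinj, hsurj⟩]
  intro hd
  obtain ⟨q, hq⟩ := exists_prime_orderOf_dvd_card' p hd
  obtain ⟨g, rfl⟩ := QuotientGroup.mk_surjective q
  apply not_dvd_orderOf_pReg (p := p) g
  have := orderOf_map_dvd (QuotientGroup.mk' Z) (pReg (p := p) g)
  rw [QuotientGroup.mk'_apply, hcoset, hq] at this
  exact this

/-- The number of `p`-regular elements is prime to `p`. -/
theorem not_dvd_card_regular [Finite G] [Fact p.Prime] :
    ¬ p ∣ Nat.card {g : G // ¬ p ∣ orderOf g} := by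
  let P : Sylow p G := default
  let C := Subgroup.centralizer ((P : Subgroup G) : Set G)
  let act : MulAction P {g : G // ¬ p ∣ orderOf g} :=
    { smul := fun q g => ⟨(q : G) * g.1 * (q : G)⁻¹, by
        rw [← MulAut.conj_apply, MulEquiv.orderOf_eq]; exact g.2⟩
      one_smul := fun g => Subtype.ext (by show ((1 : P) : G) * g.1 * ((1 : P) : G)⁻¹ = g.1; simp)
      mul_smul := fun a b g => Subtype.ext (by
        show ((a * b : P) : G) * g.1 * ((a * b : P) : G)⁻¹ =
          (a : G) * ((b : G) * g.1 * (b : G)⁻¹) * (a : G)⁻¹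
        rw [Subgroup.coe_mul]; group) }
  have hmod := P.isPGroup'.card_modEq_card_fixedPoints {g : G // ¬ p ∣ orderOf g}
  have hcomm : ∀ g : {g : G // ¬ p ∣ orderOf g},
      g ∈ MulAction.fixedPoints P {g : G // ¬ p ∣ orderOf g} ↔ g.1 ∈ C := by
    intro g
    rw [MulAction.mem_fixedPoints, Subgroup.mem_centralizer_iff]
    refine ⟨fun h q hq => ?_, fun h q => Subtype.ext ?_⟩
    · exact mul_inv_eq_iff_eq_mul.1 (congrArg Subtype.val (h ⟨q, hq⟩))
    · exact mul_inv_eq_iff_eq_mul.2 (h q q.2)
  have hcard : Nat.card (MulAction.fixedPoints P {g : G // ¬ p ∣ orderOf g}) =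
      Nat.card {c : C // ¬ p ∣ orderOf c} :=
    Nat.card_congr
      { toFun := fun g => ⟨⟨g.1.1, (hcomm g.1).1 g.2⟩, by rw [← Subgroup.orderOf_coe]; exact g.1.2⟩
        invFun := fun c => ⟨⟨c.1.1, by rw [Subgroup.orderOf_coe]; exact c.2⟩,
          (hcomm ⟨c.1.1, by rw [Subgroup.orderOf_coe]; exact c.2⟩).2 c.1.2⟩
        left_inv := fun _ => rfl
        right_inv := fun _ => rfl }
  rw [Nat.ModEq, hcard] at hmod
  intro hd
  refine not_dvd_card_regular_of_central (G := C) (Z := (P : Subgroup G).subgroupOf C) ?_ ?_ ?_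
    (Nat.dvd_of_mod_eq_zero (hmod ▸ Nat.mod_eq_zero_of_dvd hd))
  · intro z hz
    rw [Subgroup.mem_center_iff]
    intro c
    exact Subtype.ext (Subgroup.mem_centralizer_iff.1 c.2 z.1 hz).symm
  · exact P.isPGroup'.comap_subtype
  · intro y hy
    show (y : G) ∈ (P : Subgroup G)
    have hyp : IsPGroup p (Subgroup.zpowers (y : G)) := by
      obtain ⟨k, hk⟩ := hy
      exact IsPGroup.of_card (n := k) (by rw [Nat.card_zpowers, Subgroup.orderOf_coe, hk])
    have hmem : (y : G) ∈ Subgroup.zpowers (y : G) ⊓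
        Subgroup.normalizer ((P : Subgroup G) : Set G) :=
      ⟨Subgroup.mem_zpowers _, Subgroup.centralizer_le_normalizer _ y.2⟩
    have h2 := hyp.inf_normalizer_sylow P
    exact (h2.le hmem).2

variable [Fact p.Prime]

theorem omega_regElt_eq_zero [Fintype G] (hM : IsPModular p M) {ψ : IrrCharacter G}
    (hψ : ψ ∉ principalBlock M G) : omega (ψ : G → ℂ) (regElt p) = 0 := by
  classical
  have h := sum_regular_eq_zero hM (isPBlock_principalBlock M) (χ := trivialIrr)
    (sameBlock_refl hM _) hψ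
  have hconj : ∑ x : G with ¬ p ∣ orderOf x, (ψ : G → ℂ) x = 0 := by
    have := congrArg (starRingEnd ℂ) h
    simpa [trivialIrr] using this
  rw [omega, chiLin]
  simp only [regElt, coeff_ofFun, ite_mul, one_mul, zero_mul]
  rw [← Finset.sum_filter, hconj, zero_div]

theorem not_memLocalIdeal_omega_regElt [Fintype G] (hM : IsPModular p M) :
    ¬ MemLocalIdeal M (omega (fun _ : G => (1 : ℂ)) (regElt p)) := by
  classical
  rw [omega, chiLin]
  simp only [regElt, coeff_ofFun, mul_one, div_one, Finset.sum_boole]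
  rw [memLocalIdeal_natCast_iff hM, ← Fintype.card_subtype, ← Nat.card_eq_fintype_card]
  exact not_dvd_card_regular

omit [Fact p.Prime] in
theorem isInducedBlock_unique (hM : IsPModular p M) {H : Subgroup G} {b : Set (IrrCharacter H)}
    {B B' : Set (IrrCharacter G)} (h : IsInducedBlock M H b B) (h' : IsInducedBlock M H b B') :
    B = B' := by
  obtain ⟨ξ, hξ⟩ := isPBlock_nonempty hM h.1
  obtain ⟨χ, hχ⟩ := isPBlock_nonempty hM h.2.1
  obtain ⟨χ', hχ'⟩ := isPBlock_nonempty hM h'.2.1
  rw [isPBlock_eq_blockOf hM h.2.1 hχ, isPBlock_eq_blockOf hM h'.2.1 hχ']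
  refine blockOf_eq_of_sameBlock hM fun g => ?_
  have := memLocalIdeal_sub hM (h'.2.2 ξ hξ χ' hχ' g) (h.2.2 ξ hξ χ hχ g)
  simpa using this

/-- Brauer's third main theorem. -/
theorem third_main [Finite G] (hM : IsPModular p M) {H : Subgroup G}
    {b : Set (IrrCharacter H)} {B : Set (IrrCharacter G)} (hind : IsInducedBlock M H b B) :
    B = principalBlock M G ↔ b = principalBlock M H := by
  classical
  cases nonempty_fintype G
  haveI : Fintype H := Fintype.ofFinite H
  have hkey : ∀ ξ ∈ b, ∀ χ ∈ B, MemLocalIdeal M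
      (omega (ξ : H → ℂ) (regElt p) - omega (χ : G → ℂ) (regElt p)) := fun ξ hξ χ hχ => by
    rw [← resElt_regElt]
    exact omega_resElt_congr hM (IsIrr.isClassFunction χ.2) (hind.2.2 ξ hξ χ hχ)
      (isCentralElt_regElt p) (isIntElt_regElt hM)
  constructor
  · rintro rfl
    obtain ⟨ξ, hξ⟩ := isPBlock_nonempty hM hind.1
    refine isPBlock_eq_of_mem hM hind.1 (isPBlock_principalBlock M) hξ (by_contra fun hne => ?_)
    have := hkey ξ hξ trivialIrr (sameBlock_refl hM _)
    rw [omega_regElt_eq_zero hM hne, zero_sub] at this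
    exact not_memLocalIdeal_omega_regElt (G := G) hM
      (by simpa [trivialIrr] using memLocalIdeal_neg this)
  · rintro rfl
    obtain ⟨χ, hχ⟩ := isPBlock_nonempty hM hind.2.1
    refine isPBlock_eq_of_mem hM hind.2.1 (isPBlock_principalBlock M) hχ (by_contra fun hne => ?_)
    have := hkey trivialIrr (sameBlock_refl hM _) χ hχ
    rw [omega_regElt_eq_zero hM hne, sub_zero] at this
    exact not_memLocalIdeal_omega_regElt (G := H) hM (by simpa [trivialIrr] using this)

omit [Fact p.Prime] in
open scoped Classical in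
/-- A sum over all irreducible characters reduces to one block when all other blocks vanish. -/
theorem sum_eq_sum_of_block {K : Type*} [Group K] [Finite K] (hM : IsPModular p M)
    {b0 : Set (IrrCharacter K)} (hb0 : IsPBlock M b0) (f : IrrCharacter K → ℂ)
    [Fintype (IrrCharacter K)]
    (h : ∀ b, IsPBlock M b → b ≠ b0 → ∑ ψ with ψ ∈ b, f ψ = 0) :
    ∑ ψ, f ψ = ∑ ψ with ψ ∈ b0, f ψ := by
  rw [← Finset.sum_fiberwise_of_maps_to (g := fun ψ : IrrCharacter K => blockOf M (ψ : K → ℂ))
    (t := Finset.univ.image fun ψ : IrrCharacter K => blockOf M (ψ : K → ℂ))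
    (fun ψ hψ => Finset.mem_image_of_mem _ hψ) f]
  have hfib : ∀ b, IsPBlock M b → (Finset.univ.filter fun ψ : IrrCharacter K =>
      blockOf M (ψ : K → ℂ) = b) = Finset.univ.filter fun ψ => ψ ∈ b := by
    intro b hb
    ext ψ
    simp only [Finset.mem_filter, Finset.mem_univ, true_and]
    exact ⟨fun e => e ▸ self_mem_blockOf hM ψ, fun hψ => (isPBlock_eq_blockOf hM hb hψ).symm⟩
  obtain ⟨ψ0, hψ0⟩ := hb0
  subst hψ0
  rw [Finset.sum_eq_single (blockOf M (ψ0 : K → ℂ))]
  · rw [hfib _ (isPBlock_blockOf M ψ0)]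
  · intro b hb hne
    obtain ⟨ψ, -, rfl⟩ := Finset.mem_image.1 hb
    rw [hfib _ (isPBlock_blockOf M ψ)]
    exact h _ (isPBlock_blockOf M ψ) hne
  · exact fun hn => absurd (Finset.mem_image_of_mem _ (Finset.mem_univ ψ0)) hn

/-- A character of the principal block is constant on `x O_{p'}(C(x))` for a `p`-element `x`. -/
theorem principalBlock_apply_mul [Finite G] (hM : IsPModular p M) {x : G} {e : ℕ}
    (hx : orderOf x = p ^ e) {χ : IrrCharacter G} (hχ : χ ∈ principalBlock M G)
    (N : Subgroup (Subgroup.centralizer ({x} : Set G))) [N.Normal] (hN : ¬ p ∣ Nat.card N)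
    {y : Subgroup.centralizer ({x} : Set G)} (hy : y ∈ N) :
    (χ : G → ℂ) (x * (y : G)) = (χ : G → ℂ) x := by
  classical
  cases nonempty_fintype G
  haveI : Fintype (Subgroup.centralizer ({x} : Set G)) := Fintype.ofFinite _
  set θ : Subgroup.centralizer ({x} : Set G) → ℂ := fun c => (χ : G → ℂ) (x * (c : G)) with hθdef
  have hθ : IsClassFunction (Subgroup.centralizer ({x} : Set G)) θ := fun g k => by
    show (χ : G → ℂ) (x * ((k * g * k⁻¹ : Subgroup.centralizer ({x} : Set G)) : G)) = _
    have hk := Subgroup.mem_centralizer_singleton_iff.mp k.2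
    rw [show x * ((k * g * k⁻¹ : Subgroup.centralizer ({x} : Set G)) : G) =
      (k : G) * (x * (g : G)) * (k : G)⁻¹ by push_cast; rw [← mul_assoc (k : G) x, hk]; group]
    exact IsIrr.isClassFunction χ.2 _ _
  have hyreg : ¬ p ∣ orderOf y := fun hd => hN (hd.trans (by
    rw [show orderOf y = orderOf (⟨y, hy⟩ : N) from (Subgroup.orderOf_mk y hy).symm]
    exact orderOf_dvd_natCard _))
  set b0 := principalBlock M (Subgroup.centralizer ({x} : Set G)) with hb0
  have hval : ∀ c : Subgroup.centralizer ({x} : Set G), ¬ p ∣ orderOf c →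
      θ c = ∑ ψ with ψ ∈ b0, classInner θ (ψ : _ → ℂ) * (ψ : _ → ℂ) c := by
    intro c hc
    conv_lhs => rw [classFunction_expansion hθ]
    simp only [Finset.sum_apply, Pi.smul_apply, smul_eq_mul]
    refine sum_eq_sum_of_block hM (isPBlock_principalBlock M) _ fun b hb hne => ?_
    have h2 := second_main hM hx (isPBlock_principalBlock M) hχ (b := b) hb
      (fun h => hne ((third_main hM h).1 rfl)) c hc
    rw [blockPart, finsum_mem_eq_sum_ite,
      Subsingleton.elim (Fintype.ofFinite (Subgroup.centralizer ({x} : Set G)))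
        ‹Fintype (Subgroup.centralizer ({x} : Set G))›, ← Finset.sum_filter] at h2
    exact h2
  have h1 : θ y = θ 1 := by
    rw [hval y hyreg, hval 1 (by rw [orderOf_one, Nat.dvd_one]; exact (Fact.out : p.Prime).ne_one)]
    refine Finset.sum_congr rfl fun ψ hψ => ?_
    rw [H82.apply_eq_of_mem_principalBlock hM (Finset.mem_filter.1 hψ).2 N hN hy]
  simpa [hθdef] using h1

end Cfsg.Agent.Cores
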