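import Cfsg.Agent.PGroups.Basic
import Cfsg.Prelude.Def_CaseTheorems
import Mathlib.GroupTheory.NoncommCoprod
import Mathlib.GroupTheory.GroupAction.ConjAct

/-!
# Normal subgroups with different centres of order two in a group of sectional rank at most four

MacWilliams' lemmas.
-/

set_option linter.unusedSectionVars false
set_option linter.style.haveILetI false

open scoped commutatorElement Pointwise

namespace Cfsg.Agent.Cores.TwoCentre

open Subgroup

variable {S : Type*} [Group S] [Finite S]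

/-- The centre of `P`, as a subgroup of the ambient group. -/
abbrev cz (P : Subgroup S) : Subgroup S := (center P).map P.subtype

theorem card_cz (P : Subgroup S) : Nat.card (cz P) = Nat.card (center P) :=
  (Nat.card_congr (equivMapOfInjective _ _ P.subtype_injective).toEquiv).symm

theorem mem_cz {P : Subgroup S} {x : S} : x ∈ cz P ↔ x ∈ P ∧ ∀ y ∈ P, y * x = x * y := by
  constructor
  · rintro ⟨c, hc, rfl⟩
    exact ⟨c.2, fun y hy => congrArg Subtype.val (mem_center_iff.1 hc ⟨y, hy⟩)⟩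
  · rintro ⟨hx, h⟩
    exact ⟨⟨x, hx⟩, mem_center_iff.2 fun y => Subtype.ext (h y y.2), rfl⟩

/-- Two normal subgroups of a `2`-group with distinct centres of order two meet trivially. -/
theorem inf_eq_bot {T P Q : Subgroup S} (hT : IsPGroup 2 T) (hPT : P ≤ T) (hQT : Q ≤ T)
    (hTP : T ≤ normalizer (P : Set S)) (hTQ : T ≤ normalizer (Q : Set S))
    (hP : Nat.card (center P) = 2) (hQ : Nat.card (center Q) = 2) (hne : cz P ≠ cz Q) :
    P ⊓ Q = ⊥ := by
  haveI : Fact (Nat.Prime 2) := ⟨Nat.prime_two⟩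
  by_contra h
  haveI : ((P ⊓ Q).subgroupOf T).Normal :=
    (normal_subgroupOf_iff_le_normalizer (inf_le_left.trans hPT)).2
      ((le_inf hTP hTQ).trans inf_normalizer_le_normalizer_inf)
  have h' : (P ⊓ Q).subgroupOf T ≠ ⊥ := by
    intro e
    rw [subgroupOf_eq_bot, disjoint_iff, inf_of_le_left (inf_le_left.trans hPT)] at e
    exact h e
  obtain ⟨c, hc, hcc, hco⟩ := PGroups.exists_mem_center_orderOf_eq hT _ h'
  have hco' : orderOf (c : S) = 2 := by rw [Subgroup.orderOf_coe]; exact hco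
  have hcent : ∀ y ∈ T, y * c = c * y := fun y hy =>
    congrArg Subtype.val (mem_center_iff.1 hcc ⟨y, hy⟩)
  have key : ∀ R : Subgroup S, R ≤ T → (c : S) ∈ R → Nat.card (center R) = 2 →
      cz R = zpowers (c : S) := by
    intro R hRT hcR hR
    refine (eq_of_le_of_card_ge (zpowers_le.2 (mem_cz.2 ⟨hcR, fun y hy => hcent y (hRT hy)⟩)) ?_).symm
    rw [Nat.card_zpowers, hco', card_cz, hR]
  exact hne ((key P hPT hc.1 hP).trans (key Q hQT hc.2 hQ).symm)

theorem commute_of_inf_eq_bot {T P Q : Subgroup S} (hPT : P ≤ T) (hQT : Q ≤ T)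
    (hTP : T ≤ normalizer (P : Set S)) (hTQ : T ≤ normalizer (Q : Set S)) (hd : P ⊓ Q = ⊥)
    {a b : S} (ha : a ∈ P) (hb : b ∈ Q) : a * b = b * a := by
  have h1 : ⁅a, b⁆ ∈ P := by
    rw [show ⁅a, b⁆ = a * (b * a⁻¹ * b⁻¹) by rw [commutatorElement_def]; group]
    exact mul_mem ha ((mem_normalizer_iff.1 (hTP (hQT hb)) _).1 (inv_mem ha))
  have h2 : ⁅a, b⁆ ∈ Q := by
    rw [commutatorElement_def]
    exact mul_mem ((mem_normalizer_iff.1 (hTQ (hPT ha)) _).1 hb) (inv_mem hb)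
  have h3 : ⁅a, b⁆ ∈ P ⊓ Q := ⟨h1, h2⟩
  rwa [hd, mem_bot, commutatorElement_eq_one_iff_mul_comm] at h3

theorem two_dvd_index_frattini {P : Type*} [Group P] [Finite P] (hP : IsPGroup 2 P)
    (hn : ¬ IsMulCommutative P) : 4 ≤ (frattini P).index := by
  haveI : Fact (Nat.Prime 2) := ⟨Nat.prime_two⟩
  by_contra hlt
  obtain ⟨k, hk⟩ := hP.index (frattini P)
  haveI : IsCyclic (P ⧸ frattini P) := by
    rcases k with _ | _ | k
    · haveI : Subsingleton (P ⧸ frattini P) :=
        (Nat.card_eq_one_iff_unique.1 (by rw [← index_eq_card, hk, pow_zero])).1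
      infer_instance
    · exact isCyclic_of_prime_card (p := 2) (by rw [← index_eq_card, hk]; norm_num)
    · exfalso
      apply hlt
      rw [hk]
      calc 4 = 2 ^ 2 := by norm_num
        _ ≤ 2 ^ (k + 1 + 1) := Nat.pow_le_pow_right (by norm_num) (by omega)
  haveI := PGroups.isCyclic_of_frattini (G := P)
  exact hn inferInstance

theorem center_le_frattini {P : Type*} [Group P] [Finite P] (hP : IsPGroup 2 P)
    (hn : ¬ IsMulCommutative P) (hz : Nat.card (center P) = 2) : center P ≤ frattini P := by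
  haveI : Fact (Nat.Prime 2) := ⟨Nat.prime_two⟩
  refine le_trans ?_ (PGroups.commutator_le_frattini hP)
  have hne : commutator P ≠ ⊥ := by
    intro e
    refine hn ⟨⟨fun a b => ?_⟩⟩
    rw [← commutatorElement_eq_one_iff_mul_comm, ← mem_bot, ← e]
    exact commutator_mem_commutator (mem_top a) (mem_top b)
  have h := PGroups.inf_center_ne_bot hP (commutator P) hne
  have hle : commutator P ⊓ center P = center P := by
    refine eq_of_le_of_card_ge inf_le_right ?_
    haveI := (nontrivial_iff_ne_bot _).2 h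
    rw [hz]
    exact Finite.one_lt_card
  exact hle ▸ inf_le_left

/-- The Frattini subgroup of `P`, as a subgroup of the ambient group. -/
abbrev fr (P : Subgroup S) : Subgroup S := (frattini P).map P.subtype

theorem sq_mem_fr {P : Subgroup S} (hP : IsPGroup 2 P) {a : S} (ha : a ∈ P) : a * a ∈ fr P := by
  haveI : Fact (Nat.Prime 2) := ⟨Nat.prime_two⟩
  exact ⟨⟨a, ha⟩ ^ 2, PGroups.pow_mem_frattini hP _, by simp [pow_two]⟩

theorem commutator_mem_fr {P : Subgroup S} (hP : IsPGroup 2 P) {a b : S} (ha : a ∈ P) (hb : b ∈ P) :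
    ⁅a, b⁆ ∈ fr P := by
  haveI : Fact (Nat.Prime 2) := ⟨Nat.prime_two⟩
  exact ⟨⁅(⟨a, ha⟩ : P), ⟨b, hb⟩⁆,
    PGroups.commutator_le_frattini hP (commutator_mem_commutator (mem_top _) (mem_top _)), rfl⟩

theorem conj_mem_fr {P : Subgroup S} {a n : S} (ha : a ∈ P) (hn : n ∈ fr P) :
    a * n * a⁻¹ ∈ fr P := by
  obtain ⟨m, hm, rfl⟩ := hn
  exact ⟨⟨a, ha⟩ * m * ⟨a, ha⟩⁻¹, Normal.conj_mem inferInstance m hm _, rfl⟩

/-- The product map of two commuting subgroups. -/
def prodHom (P Q : Subgroup S) (hc : ∀ a ∈ P, ∀ b ∈ Q, a * b = b * a) : P × Q →* S :=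
  MonoidHom.noncommCoprod P.subtype Q.subtype
    fun (a : P) (b : Q) => (show Commute (P.subtype a) (Q.subtype b) from hc a a.2 b b.2)

theorem prodHom_injective {P Q : Subgroup S} (hc : ∀ a ∈ P, ∀ b ∈ Q, a * b = b * a)
    (hd : P ⊓ Q = ⊥) : Function.Injective (prodHom P Q hc) := by
  rw [← MonoidHom.ker_eq_bot_iff, eq_bot_iff]
  rintro ⟨a, b⟩ h
  have h' : (a : S) * b = 1 := h
  have hb : (b : S) ∈ P ⊓ Q := mem_inf.2 ⟨(eq_inv_of_mul_eq_one_right h') ▸ inv_mem a.2, b.2⟩
  rw [hd, mem_bot] at hb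
  rw [hb, mul_one] at h'
  exact mem_bot.2 (Prod.ext (Subtype.ext h') (Subtype.ext hb))

theorem range_prodHom {P Q : Subgroup S} (hc : ∀ a ∈ P, ∀ b ∈ Q, a * b = b * a) :
    (prodHom P Q hc).range = P ⊔ Q := by
  rw [prodHom, MonoidHom.noncommCoprod_range, range_subtype, range_subtype]

theorem mem_sup_split {P Q : Subgroup S} (hc : ∀ a ∈ P, ∀ b ∈ Q, a * b = b * a) {w : S}
    (hw : w ∈ P ⊔ Q) : ∃ a ∈ P, ∃ b ∈ Q, w = a * b := by
  rw [← range_prodHom hc] at hw
  obtain ⟨⟨a, b⟩, rfl⟩ := hw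
  exact ⟨a, a.2, b, b.2, rfl⟩

theorem map_prod_eq {P Q : Subgroup S} (hc : ∀ a ∈ P, ∀ b ∈ Q, a * b = b * a) :
    ((frattini P).prod (frattini Q)).map (prodHom P Q hc) = fr P ⊔ fr Q := by
  refine le_antisymm ?_ (sup_le ?_ ?_)
  · rintro _ ⟨⟨a, b⟩, ⟨ha, hb⟩, rfl⟩
    exact mul_mem (mem_sup_left (⟨a, ha, rfl⟩ : (a : S) ∈ fr P))
      (mem_sup_right (⟨b, hb, rfl⟩ : (b : S) ∈ fr Q))
  · rintro _ ⟨a, ha, rfl⟩
    exact ⟨(a, 1), ⟨ha, one_mem _⟩, show (a : S) * 1 = a from mul_one _⟩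
  · rintro _ ⟨b, hb, rfl⟩
    exact ⟨(1, b), ⟨one_mem _, hb⟩, show (1 : S) * b = b from one_mul _⟩

/-- An element acting trivially on `W/Φ(W)` with square in `Φ(W)` lies in `W = P × Q`. -/
theorem mem_sup_of_rank (h2 : IsPGroup 2 S) (hr : Cfsg.SectionalPRankLE 2 4 S) {P Q : Subgroup S}
    (hc : ∀ a ∈ P, ∀ b ∈ Q, a * b = b * a) (hd : P ⊓ Q = ⊥)
    (hP : ¬ IsMulCommutative P) (hQ : ¬ IsMulCommutative Q) {x : S}
    (hsq : x * x ∈ fr P ⊔ fr Q) (hcomm : ∀ w ∈ P ⊔ Q, ⁅w, x⁆ ∈ fr P ⊔ fr Q) :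
    x ∈ P ⊔ Q := by
  by_contra hx
  set W := P ⊔ Q with hW
  set N := fr P ⊔ fr Q with hN
  have hNW : N ≤ W := sup_le ((map_subtype_le _).trans le_sup_left)
    ((map_subtype_le _).trans le_sup_right)
  set H := W ⊔ zpowers x with hH
  have hxW : zpowers x ≤ normalizer (W : Set S) := by
    refine zpowers_le.2 (mem_normalizer_iff_map_conj_eq.2 ?_)
    refine eq_of_le_of_card_ge ?_
      (Nat.card_congr (equivMapOfInjective W _ (MulAut.conj x).injective).toEquiv).le
    rintro _ ⟨w, hw, rfl⟩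
    show x * w * x⁻¹ ∈ W
    rw [show x * w * x⁻¹ = ⁅w, x⁆⁻¹ * w by rw [commutatorElement_def]; group]
    exact mul_mem (inv_mem (hNW (hcomm w hw))) hw
  have hcP : ∀ a ∈ P, ∀ m ∈ fr Q, a * m * a⁻¹ = m := fun a ha m hm => by
    rw [hc a ha m (map_subtype_le _ hm), mul_inv_cancel_right]
  have hconjW : ∀ w ∈ W, ∀ n ∈ N, w * n * w⁻¹ ∈ N := by
    intro w hw n hn
    obtain ⟨a, ha, b, hb, rfl⟩ := mem_sup_split hc hw
    have hle : N ≤ N.comap (MulAut.conj (a * b)).toMonoidHom := by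
      refine sup_le (fun m hm => ?_) fun m hm => ?_
      · show a * b * m * (a * b)⁻¹ ∈ N
        refine mem_sup_left ?_
        rw [show a * b * m * (a * b)⁻¹ = a * (b * m * b⁻¹) * a⁻¹ by group,
          ← hc m (map_subtype_le _ hm) b hb, mul_inv_cancel_right]
        exact conj_mem_fr ha hm
      · show a * b * m * (a * b)⁻¹ ∈ N
        refine mem_sup_right ?_
        rw [show a * b * m * (a * b)⁻¹ = a * (b * m * b⁻¹) * a⁻¹ by group,
          hcP a ha _ (conj_mem_fr hb hm)]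
        exact conj_mem_fr hb hm
    exact hle hn
  have hxN : ∀ n ∈ N, x * n * x⁻¹ ∈ N := fun n hn => by
    rw [show x * n * x⁻¹ = ⁅n, x⁆⁻¹ * n by rw [commutatorElement_def]; group]
    exact mul_mem (inv_mem (hcomm n (hNW hn))) hn
  have hHN : H ≤ normalizer (N : Set S) := by
    refine sup_le (fun w hw => ?_) (zpowers_le.2 ?_)
    · rw [mem_normalizer_iff]
      refine fun n => ⟨fun hn => hconjW w hw n hn, fun hn => ?_⟩
      simpa [mul_assoc] using hconjW w⁻¹ (inv_mem hw) _ hn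
    · refine mem_normalizer_iff_map_conj_eq.2 (eq_of_le_of_card_ge ?_
        (Nat.card_congr (equivMapOfInjective N _ (MulAut.conj x).injective).toEquiv).le)
      rintro _ ⟨n, hn, rfl⟩
      exact hxN n hn
  have hNH : N ≤ H := hNW.trans le_sup_left
  haveI : (N.subgroupOf H).Normal := (normal_subgroupOf_iff_le_normalizer hNH).2 hHN
  let q := QuotientGroup.mk' (N.subgroupOf H)
  have hq : ∀ {h : H}, (h : S) ∈ N → q h = 1 := fun {h} hh =>
    (QuotientGroup.eq_one_iff h).2 (mem_subgroupOf.2 hh)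
  have hWP : IsPGroup 2 P := h2.to_subgroup P
  have hWQ : IsPGroup 2 Q := h2.to_subgroup Q
  have hWcomm : ∀ v ∈ W, ∀ w ∈ W, ⁅v, w⁆ ∈ N ∧ w * w ∈ N := by
    intro v hv w hw
    obtain ⟨a, ha, b, hb, rfl⟩ := mem_sup_split hc hv
    obtain ⟨a', ha', b', hb', rfl⟩ := mem_sup_split hc hw
    have e1 : b * a' = a' * b := (hc a' ha' b hb).symm
    have e2 : b' * a' = a' * b' := (hc a' ha' b' hb').symm
    refine ⟨?_, ?_⟩
    · have e : ⁅a * b, a' * b'⁆ = ⁅a, a'⁆ * ⁅b, b'⁆ := by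
        have h := map_commutatorElement (prodHom P Q hc) (⟨a, ha⟩, ⟨b, hb⟩) (⟨a', ha'⟩, ⟨b', hb'⟩)
        exact h.symm
      rw [e]
      exact mul_mem (mem_sup_left (commutator_mem_fr hWP ha ha'))
        (mem_sup_right (commutator_mem_fr hWQ hb hb'))
    · rw [show a' * b' * (a' * b') = a' * a' * (b' * b') by
        rw [mul_assoc a' b', ← mul_assoc b' a', e2]; group]
      exact mul_mem (mem_sup_left (sq_mem_fr hWP ha')) (mem_sup_right (sq_mem_fr hWQ hb'))
  let K : Subgroup (H ⧸ N.subgroupOf H) := ⊤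
  -- generators commute and square to one
  let gens : Set H := {h : H | (h : S) ∈ W ∨ (h : S) = x}
  have hgen : closure gens = ⊤ := by
    apply Subgroup.map_injective H.subtype_injective
    rw [← MonoidHom.range_eq_map, range_subtype, MonoidHom.map_closure]
    refine le_antisymm ((closure_le _).2 ?_) (sup_le (fun w hw => ?_) (zpowers_le.2 ?_))
    · rintro _ ⟨h, -, rfl⟩
      exact h.2
    · exact subset_closure ⟨⟨w, mem_sup_left hw⟩, Or.inl hw, rfl⟩
    · exact subset_closure ⟨⟨x, mem_sup_right (mem_zpowers x)⟩, Or.inr rfl, rfl⟩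
  have hgc : ∀ g ∈ gens, ∀ h ∈ gens, q g * q h = q h * q g := by
    intro g hg h hh
    rw [← commutatorElement_eq_one_iff_mul_comm, ← map_commutatorElement]
    apply hq
    have e : ((⁅g, h⁆ : H) : S) = ⁅(g : S), (h : S)⁆ := rfl
    rw [e]
    rcases hg with hg | hg <;> rcases hh with hh | hh
    · exact (hWcomm _ hg _ hh).1
    · rw [hh]; exact hcomm _ hg
    · rw [hg, ← commutatorElement_inv]; exact inv_mem (hcomm _ hh)
    · rw [hg, hh, commutatorElement_self]; exact one_mem _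
  have hgsq : ∀ g ∈ gens, q g * q g = 1 := by
    intro g hg
    rw [← map_mul]
    apply hq
    rcases hg with hg | hg
    · exact (hWcomm _ hg _ hg).2
    · rw [Subgroup.coe_mul, hg]; exact hsq
  have hqtop : closure (q '' gens) = ⊤ := by
    rw [← MonoidHom.map_closure, hgen,
      Subgroup.map_top_of_surjective q (QuotientGroup.mk'_surjective _)]
  have habel : ∀ a b : H ⧸ N.subgroupOf H, a * b = b * a := by
    intro a b
    haveI : IsMulCommutative (closure (q '' gens)) := isMulCommutative_closure (by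
      rintro _ ⟨g, hg, rfl⟩ _ ⟨h, hh, rfl⟩
      exact hgc g hg h hh)
    exact congrArg Subtype.val ((inferInstance : IsMulCommutative (closure (q '' gens))).is_comm.comm
      ⟨a, hqtop ▸ mem_top a⟩ ⟨b, hqtop ▸ mem_top b⟩)
  have hexp : ∀ a : H ⧸ N.subgroupOf H, a ^ 2 = 1 := by
    intro a
    have ha : a ∈ closure (q '' gens) := hqtop ▸ mem_top a
    induction ha using closure_induction with
    | mem y hy => obtain ⟨g, hg, rfl⟩ := hy; rw [pow_two]; exact hgsq g hg
    | one => exact one_pow 2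
    | mul a b _ _ iha ihb => rw [(show Commute a b from habel a b).mul_pow, iha, ihb, one_mul]
    | inv a _ iha => rw [inv_pow, iha, inv_one]
  have hle := hr H (N.subgroupOf H) ⊤ ⟨⟨fun a b => Subtype.ext (habel a b)⟩⟩ fun a _ => hexp a
  rw [Subgroup.card_top, ← index_eq_card] at hle
  have hmul : N.relIndex W * W.relIndex H = N.relIndex H :=
    relIndex_mul_relIndex N W H hNW le_sup_left
  have h1 : 16 ≤ N.relIndex W := by
    have e := relIndex_map_map_of_injective ((frattini P).prod (frattini Q)) ⊤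
      (prodHom_injective hc hd)
    rw [← MonoidHom.range_eq_map, range_prodHom, map_prod_eq, relIndex_top_right, index_prod] at e
    rw [e]
    calc 16 = 4 * 4 := rfl
      _ ≤ _ := Nat.mul_le_mul (two_dvd_index_frattini hWP hP) (two_dvd_index_frattini hWQ hQ)
  have h2' : 2 ≤ W.relIndex H := by
    have h0 : W.relIndex H ≠ 0 := index_ne_zero_of_finite
    have h1' : W.relIndex H ≠ 1 := fun e =>
      hx (relIndex_eq_one.1 e (mem_sup_right (mem_zpowers x)))
    omega
  have := Nat.mul_le_mul h1 h2'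
  rw [hmul] at this
  have hle' : N.relIndex H ≤ 2 ^ 4 := hle
  omega

theorem exists_sq_mem {W : Subgroup S} {x : S} (h2 : IsPGroup 2 S) (hx : x ∉ W) :
    ∃ y : S, y ∈ zpowers x ∧ y ∉ W ∧ y * y ∈ W := by
  obtain ⟨k, hk⟩ := h2 x
  induction k generalizing x with
  | zero => exact absurd ((by simpa using hk : x = 1) ▸ one_mem W) hx
  | succ k ih =>
    by_cases hxx : x * x ∈ W
    · exact ⟨x, mem_zpowers x, hx, hxx⟩
    · obtain ⟨y, hy, hy1, hy2⟩ := ih hxx (by rw [← pow_two, ← pow_mul, ← pow_succ', hk])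
      exact ⟨y, (zpowers_le.2 (mul_mem (mem_zpowers x) (mem_zpowers x))) hy, hy1, hy2⟩

/-- The elements commuting with `P × Q` lie in it. -/
theorem centralizer_sup_le (h2 : IsPGroup 2 S) (hr : Cfsg.SectionalPRankLE 2 4 S) {P Q : Subgroup S}
    (hc : ∀ a ∈ P, ∀ b ∈ Q, a * b = b * a) (hd : P ⊓ Q = ⊥)
    (hP : ¬ IsMulCommutative P) (hQ : ¬ IsMulCommutative Q)
    (hPz : Nat.card (center P) = 2) (hQz : Nat.card (center Q) = 2) :
    centralizer ((P ⊔ Q : Subgroup S) : Set S) ≤ P ⊔ Q := by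
  intro x hx
  by_contra hxW
  obtain ⟨y, hy, hyW, hyy⟩ := exists_sq_mem h2 hxW
  have hyc : y ∈ centralizer ((P ⊔ Q : Subgroup S) : Set S) := zpowers_le.2 hx hy
  refine hyW (mem_sup_of_rank h2 hr hc hd hP hQ ?_ fun w hw => ?_)
  · obtain ⟨a, ha, b, hb, hab⟩ := mem_sup_split hc hyy
    have hyyc := mul_mem hyc hyc
    rw [hab] at hyyc ⊢
    have haz : (⟨a, ha⟩ : P) ∈ center P := mem_center_iff.2 fun v => Subtype.ext <| by
      have e := mem_centralizer_iff.1 hyyc v (mem_sup_left v.2)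
      have e' : (v : S) * b = b * v := hc v v.2 b hb
      show (v : S) * a = a * v
      apply mul_right_cancel (b := b)
      calc (v : S) * a * b = a * b * v := by rw [mul_assoc]; exact e
        _ = a * v * b := by rw [mul_assoc a b, ← e']; group
    have hbz : (⟨b, hb⟩ : Q) ∈ center Q := mem_center_iff.2 fun v => Subtype.ext <| by
      have e := mem_centralizer_iff.1 hyyc v (mem_sup_right v.2)
      have e' : a * (v : S) = v * a := hc a ha v v.2
      show (v : S) * b = b * v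
      apply mul_left_cancel (a := a)
      calc a * ((v : S) * b) = v * (a * b) := by rw [← mul_assoc, e']; group
        _ = a * (b * v) := by rw [e]; group
    exact mul_mem (mem_sup_left ⟨⟨a, ha⟩, center_le_frattini (h2.to_subgroup P) hP hPz haz, rfl⟩)
      (mem_sup_right ⟨⟨b, hb⟩, center_le_frattini (h2.to_subgroup Q) hQ hQz hbz, rfl⟩)
  · rw [(commutatorElement_eq_one_iff_mul_comm).2 (mem_centralizer_iff.1 hyc w hw)]
    exact one_mem _

/-- The sectional rank of a subgroup with an isomorphic commuting disjoint copy is halved. -/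
theorem sectional_rank_half (hr : Cfsg.SectionalPRankLE 2 4 S) {P Q : Subgroup S}
    (hc : ∀ a ∈ P, ∀ b ∈ Q, a * b = b * a) (hd : P ⊓ Q = ⊥) (e : P ≃* Q) :
    Cfsg.SectionalPRankLE 2 2 P := by
  intro H N _ A hA hA2
  let μ : P × P →* S := (prodHom P Q hc).comp ((MonoidHom.id P).prodMap e.toMonoidHom)
  have hμ : Function.Injective μ :=
    (prodHom_injective hc hd).comp (Prod.map_injective.2 ⟨Function.injective_id, e.injective⟩)
  let H' : Subgroup S := (H.prod H).map μ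
  let f : H' →* (H ⧸ N) × (H ⧸ N) :=
    (((QuotientGroup.mk' N).prodMap (QuotientGroup.mk' N)).comp (prodEquiv H H).toMonoidHom).comp
      (equivMapOfInjective (H.prod H) μ hμ).symm.toMonoidHom
  have hf : Function.Surjective f :=
    ((Prod.map_surjective.2 ⟨QuotientGroup.mk'_surjective N, QuotientGroup.mk'_surjective N⟩).comp
      (prodEquiv H H).surjective).comp (equivMapOfInjective (H.prod H) μ hμ).symm.surjective
  let ε := QuotientGroup.quotientKerEquivOfSurjective f hf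
  let A' : Subgroup (H' ⧸ f.ker) := (A.prod A).map ε.symm.toMonoidHom
  have hA'c : IsMulCommutative A' := by
    refine ⟨⟨?_⟩⟩
    rintro ⟨_, u, hu, rfl⟩ ⟨_, v, hv, rfl⟩
    apply Subtype.ext
    show ε.symm u * ε.symm v = ε.symm v * ε.symm u
    rw [← map_mul, ← map_mul]
    congr 1
    exact Prod.ext (congrArg Subtype.val (hA.is_comm.comm ⟨u.1, hu.1⟩ ⟨v.1, hv.1⟩))
      (congrArg Subtype.val (hA.is_comm.comm ⟨u.2, hu.2⟩ ⟨v.2, hv.2⟩))
  have hA'2 : ∀ a ∈ A', a ^ 2 = 1 := by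
    rintro _ ⟨u, hu, rfl⟩
    show ε.symm u ^ 2 = 1
    rw [← map_pow, show u ^ 2 = 1 from Prod.ext (hA2 _ hu.1) (hA2 _ hu.2), map_one]
  have hle := hr H' f.ker A' hA'c hA'2
  have hcard : Nat.card A' = Nat.card A * Nat.card A := by
    rw [← Nat.card_congr (equivMapOfInjective (A.prod A) _ ε.symm.injective).toEquiv,
      Nat.card_congr (prodEquiv A A).toEquiv, Nat.card_prod]
  rw [hcard] at hle
  by_contra hlt
  have := Nat.mul_le_mul (Nat.le_of_lt (not_le.1 hlt)) (Nat.le_of_lt (not_le.1 hlt))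
  nlinarith [not_le.1 hlt]

theorem mem_zpowers_of_sq {z w : S} (hz : z * z = 1) (h : w ∈ zpowers z) : w = 1 ∨ w = z := by
  obtain ⟨i, rfl⟩ := mem_zpowers_iff.1 h
  have hz' : z ^ (2 : ℤ) = 1 := by rw [zpow_two]; exact hz
  rcases Int.even_or_odd i with ⟨j, rfl⟩ | ⟨j, rfl⟩
  · left
    rw [← two_mul, zpow_mul, hz', one_zpow]
  · right
    rw [zpow_add, zpow_mul, hz', one_zpow, one_mul, zpow_one]

/-- MacWilliams' second lemma. -/
theorem centre_centralizer (h2 : IsPGroup 2 S) (hr : Cfsg.SectionalPRankLE 2 4 S) {P S₀ : Subgroup S}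
    (hP : ¬ IsMulCommutative P) (hPz : Nat.card (center P) = 2)
    (hS₀ : S₀ = centralizer (cz P : Set S)) (hPn : ∀ s ∈ S₀, ∀ x ∈ P, s * x * s⁻¹ ∈ P) :
    S₀ = ⊤ ∨ (Cfsg.SectionalPRankLE 2 2 P ∧ S₀.index = 2) := by
  haveI : Fact (Nat.Prime 2) := ⟨Nat.prime_two⟩
  rw [or_iff_not_imp_left]
  intro hne
  -- the central involution
  obtain ⟨z, hzc, hzo⟩ : ∃ z ∈ cz P, orderOf z = 2 := by
    obtain ⟨z, hz⟩ := exists_prime_orderOf_dvd_card' (G := cz P) 2 (by rw [card_cz, hPz])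
    exact ⟨z, z.2, by rw [Subgroup.orderOf_coe, hz]⟩
  have hcz : cz P = zpowers z :=
    (eq_of_le_of_card_ge (zpowers_le.2 hzc) (by rw [Nat.card_zpowers, hzo, card_cz, hPz])).symm
  have hzz : z * z = 1 := by rw [← pow_two, ← hzo, pow_orderOf_eq_one]
  have hz1 : z ≠ 1 := fun e => by rw [e, orderOf_one] at hzo; omega
  have hS : ∀ {g : S}, g ∈ S₀ ↔ g * z * g⁻¹ = z := by
    intro g
    rw [hS₀, hcz, mem_centralizer_iff, mul_inv_eq_iff_eq_mul]
    refine ⟨fun h => (h z (mem_zpowers z)).symm, fun h y hy => ?_⟩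
    rcases mem_zpowers_of_sq hzz hy with rfl | rfl
    · simp
    · exact h.symm
  have hzP : z ∈ P := (mem_cz.1 hzc).1
  have hPS : P ≤ S₀ := fun y hy => hS.2 (by rw [(mem_cz.1 hzc).2 y hy, mul_inv_cancel_right])
  haveI : Group.IsNilpotent S := h2.isNilpotent
  have hlt := (Group.normalizerCondition_of_isNilpotent (G := S)) S₀ (lt_top_iff_ne_top.2 hne)
  obtain ⟨s, hsN, hs⟩ := SetLike.exists_of_lt hlt
  set Q := P.map (MulAut.conj s).toMonoidHom with hQdef
  let e : P ≃* Q := P.equivMapOfInjective _ (MulAut.conj s).injective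
  have hQn : ¬ IsMulCommutative Q := fun h => hP ⟨⟨fun a b => e.injective (by
    rw [map_mul, map_mul]; exact h.is_comm.comm _ _)⟩⟩
  have hQz : Nat.card (center Q) = 2 := by
    rw [← hPz]
    exact Nat.card_congr (Subgroup.centerCongr e).symm.toEquiv
  set z' := s * z * s⁻¹ with hz'
  have hzne : z' ≠ z := fun h => hs (hS.2 h)
  have hconj : ∀ a ∈ S₀, s⁻¹ * a * s ∈ S₀ := fun a ha => by
    simpa using (mem_normalizer_iff.1 (inv_mem hsN) a).1 ha
  have hQS : Q ≤ S₀ := by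
    rintro _ ⟨y, hy, rfl⟩
    exact (mem_normalizer_iff.1 hsN y).1 (hPS hy)
  have hSP : S₀ ≤ normalizer (P : Set S) := fun g hg => mem_normalizer_iff.2 fun y =>
    ⟨fun hy => hPn g hg y hy, fun hy => by simpa [mul_assoc] using hPn g⁻¹ (inv_mem hg) _ hy⟩
  have hSQ : S₀ ≤ normalizer (Q : Set S) := by
    have key : ∀ g ∈ S₀, ∀ y ∈ Q, g * y * g⁻¹ ∈ Q := by
      rintro g hg _ ⟨y, hy, rfl⟩
      refine ⟨s⁻¹ * g * s * y * (s⁻¹ * g * s)⁻¹, hPn _ (hconj g hg) y hy, ?_⟩
      show s * (s⁻¹ * g * s * y * (s⁻¹ * g * s)⁻¹) * s⁻¹ = g * (s * y * s⁻¹) * g⁻¹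
      group
    exact fun g hg => mem_normalizer_iff.2 fun y =>
      ⟨fun hy => key g hg y hy, fun hy => by simpa [mul_assoc] using key g⁻¹ (inv_mem hg) _ hy⟩
  have hzQ : z' ∈ cz Q := by
    refine mem_cz.2 ⟨⟨z, hzP, rfl⟩, ?_⟩
    rintro _ ⟨y, hy, rfl⟩
    show s * y * s⁻¹ * (s * z * s⁻¹) = s * z * s⁻¹ * (s * y * s⁻¹)
    calc s * y * s⁻¹ * (s * z * s⁻¹) = s * (y * z) * s⁻¹ := by group
      _ = _ := by rw [(mem_cz.1 hzc).2 y hy]; group
  have hczQ : cz Q = zpowers z' := (eq_of_le_of_card_ge (zpowers_le.2 hzQ) (by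
    rw [Nat.card_zpowers, hz', ← MulAut.conj_apply, MulEquiv.orderOf_eq, hzo, card_cz, hQz])).symm
  have hzz' : z' * z' = 1 := by rw [hz', show s * z * s⁻¹ * (s * z * s⁻¹) = s * (z * z) * s⁻¹ by group, hzz]; group
  have hz'1 : z' ≠ 1 := fun h => hz1 (by simpa [hz'] using h)
  have hneZ : cz P ≠ cz Q := by
    intro h
    rw [hcz, hczQ] at h
    rcases mem_zpowers_of_sq hzz (h.ge (mem_zpowers z')) with h' | h'
    · exact hz'1 h'
    · exact hzne h'
  have hd : P ⊓ Q = ⊥ :=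
    inf_eq_bot (h2.to_subgroup S₀) hPS hQS hSP hSQ hPz hQz hneZ
  have hc : ∀ a ∈ P, ∀ b ∈ Q, a * b = b * a := fun a ha b hb =>
    commute_of_inf_eq_bot hPS hQS hSP hSQ hd ha hb
  refine ⟨sectional_rank_half hr hc hd e, ?_⟩
  have hCW := centralizer_sup_le h2 hr hc hd hP hQn hPz hQz
  have hz'S : z' ∈ S₀ := hQS (mem_cz.1 hzQ).1
  have hzz'c : z * z' = z' * z := hc z hzP z' (mem_cz.1 hzQ).1
  -- elements of the centraliser of `P × Q`
  have hfour : ∀ w ∈ centralizer ((P ⊔ Q : Subgroup S) : Set S),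
      w = 1 ∨ w = z ∨ w = z' ∨ w = z * z' := by
    intro w hw
    obtain ⟨a, ha, b, hb, rfl⟩ := mem_sup_split hc (hCW hw)
    have haz : a ∈ cz P := mem_cz.2 ⟨ha, fun v hv => by
      have h := mem_centralizer_iff.1 hw v (mem_sup_left hv)
      apply mul_right_cancel (b := b)
      calc v * a * b = a * b * v := by rw [mul_assoc]; exact h
        _ = a * v * b := by rw [mul_assoc a b, ← hc v hv b hb]; group⟩
    have hbz : b ∈ cz Q := mem_cz.2 ⟨hb, fun v hv => by
      have h := mem_centralizer_iff.1 hw v (mem_sup_right hv)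
      apply mul_left_cancel (a := a)
      calc a * (v * b) = v * (a * b) := by rw [← mul_assoc, hc a ha v hv]; group
        _ = a * (b * v) := by rw [h]; group⟩
    rw [hcz] at haz
    rw [hczQ] at hbz
    rcases mem_zpowers_of_sq hzz haz with rfl | rfl <;>
      rcases mem_zpowers_of_sq hzz' hbz with rfl | rfl <;> simp
  -- `N(S₀)` moves `z` to `z` or `z'`
  have horb : ∀ n ∈ normalizer (S₀ : Set S), n ∉ S₀ → n * z * n⁻¹ = z' := by
    intro n hn hn0
    by_contra hnz
    set R := P.map (MulAut.conj n).toMonoidHom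
    let eR : P ≃* R := P.equivMapOfInjective _ (MulAut.conj n).injective
    have hRS : R ≤ S₀ := by
      rintro _ ⟨y, hy, rfl⟩
      exact (mem_normalizer_iff.1 hn y).1 (hPS hy)
    have hSR : S₀ ≤ normalizer (R : Set S) := by
      have key : ∀ g ∈ S₀, ∀ y ∈ R, g * y * g⁻¹ ∈ R := by
        rintro g hg _ ⟨y, hy, rfl⟩
        refine ⟨n⁻¹ * g * n * y * (n⁻¹ * g * n)⁻¹, hPn _ ?_ y hy, ?_⟩
        · simpa using (mem_normalizer_iff.1 (inv_mem hn) g).1 hg
        · show n * (n⁻¹ * g * n * y * (n⁻¹ * g * n)⁻¹) * n⁻¹ = g * (n * y * n⁻¹) * g⁻¹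
          group
      exact fun g hg => mem_normalizer_iff.2 fun y =>
        ⟨fun hy => key g hg y hy, fun hy => by simpa [mul_assoc] using key g⁻¹ (inv_mem hg) _ hy⟩
    have hRz : Nat.card (center R) = 2 := by
      rw [← hPz]
      exact Nat.card_congr (Subgroup.centerCongr eR).symm.toEquiv
    have hzR : n * z * n⁻¹ ∈ cz R := by
      refine mem_cz.2 ⟨⟨z, hzP, rfl⟩, ?_⟩
      rintro _ ⟨y, hy, rfl⟩
      show n * y * n⁻¹ * (n * z * n⁻¹) = n * z * n⁻¹ * (n * y * n⁻¹)
      calc n * y * n⁻¹ * (n * z * n⁻¹) = n * (y * z) * n⁻¹ := by group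
        _ = _ := by rw [(mem_cz.1 hzc).2 y hy]; group
    have hnz1 : n * z * n⁻¹ ≠ 1 := fun h => hz1 (by simpa using h)
    have hne1 : cz P ≠ cz R := by
      intro h
      rw [hcz] at h
      rcases mem_zpowers_of_sq hzz (h.ge hzR) with h' | h'
      · exact hnz1 h'
      · exact hn0 (hS.2 h')
    have hne2 : cz Q ≠ cz R := by
      intro h
      rw [hczQ] at h
      rcases mem_zpowers_of_sq hzz' (h.ge hzR) with h' | h'
      · exact hnz1 h'
      · exact hnz h'
    have d1 := inf_eq_bot (h2.to_subgroup S₀) hPS hRS hSP hSR hPz hRz hne1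
    have d2 := inf_eq_bot (h2.to_subgroup S₀) hQS hRS hSQ hSR hQz hRz hne2
    have hcen : R ≤ centralizer ((P ⊔ Q : Subgroup S) : Set S) := by
      intro r hr'
      rw [mem_centralizer_iff]
      intro w hw
      obtain ⟨a, ha, b, hb, rfl⟩ := mem_sup_split hc hw
      rw [mul_assoc, commute_of_inf_eq_bot hQS hRS hSQ hSR d2 hb hr', ← mul_assoc,
        commute_of_inf_eq_bot hPS hRS hSP hSR d1 ha hr', mul_assoc]
    refine hP ⟨⟨fun a b => eR.injective (Subtype.ext ?_)⟩⟩
    simp only [map_mul, Subgroup.coe_mul]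
    exact mem_centralizer_iff.1 (hcen (eR b).2) _ (hCW (hcen (eR a).2))
  have hmul : ∀ a ∈ normalizer (S₀ : Set S), a ∉ S₀ → ∀ b ∈ normalizer (S₀ : Set S), b ∉ S₀ →
      a⁻¹ * b ∈ S₀ := by
    intro a ha ha0 b hb hb0
    rw [hS, show a⁻¹ * b * z * (a⁻¹ * b)⁻¹ = a⁻¹ * (b * z * b⁻¹) * a by group, horb b hb hb0,
      ← horb a ha ha0]
    group
  have hidx : S₀.relIndex (normalizer (S₀ : Set S)) = 2 := by
    rw [relIndex_eq_two_iff_exists_notMem_and]
    refine ⟨s, hsN, hs, fun b hb => ?_⟩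
    by_cases hb0 : b ∈ S₀
    · exact Or.inr hb0
    · left
      have h := hmul b⁻¹ (inv_mem hb) (fun h => hb0 (by simpa using inv_mem h)) s hsN hs
      rwa [inv_inv] at h
  suffices htop : normalizer (S₀ : Set S) = ⊤ by rwa [htop, relIndex_top_right] at hidx
  by_contra hNtop
  obtain ⟨u, huN, hu⟩ := SetLike.exists_of_lt
    ((Group.normalizerCondition_of_isNilpotent (G := S)) _ (lt_top_iff_ne_top.2 hNtop))
  have huconj : ∀ n, n ∈ normalizer (S₀ : Set S) ↔ u * n * u⁻¹ ∈ normalizer (S₀ : Set S) :=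
    fun n => mem_normalizer_iff.1 huN n
  set x := u * z * u⁻¹ with hx
  have hsz' : s * z' * s⁻¹ = z := by
    have h := hS.1 (hmul s⁻¹ (inv_mem hsN) (fun h => hs (by simpa using inv_mem h)) s hsN hs)
    rw [inv_inv] at h
    rw [hz', show s * (s * z * s⁻¹) * s⁻¹ = s * s * z * (s * s)⁻¹ by group]
    exact h
  -- the central element `c` of `N(S₀)`
  have hcN : ∀ n ∈ normalizer (S₀ : Set S), n * (z * z') * n⁻¹ = z * z' := by
    intro n hn
    by_cases hn0 : n ∈ S₀
    · have e' : n * z' * n⁻¹ = z' := by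
        have h := hS.1 (hconj n hn0)
        rw [hz']
        calc n * (s * z * s⁻¹) * n⁻¹ = s * (s⁻¹ * n * s * z * (s⁻¹ * n * s)⁻¹) * s⁻¹ := by group
          _ = s * z * s⁻¹ := by rw [h]
      rw [show n * (z * z') * n⁻¹ = n * z * n⁻¹ * (n * z' * n⁻¹) by group, hS.1 hn0, e']
    · have e' : n * z' * n⁻¹ = z := by
        have h := hmul n⁻¹ (inv_mem hn) (fun h => hn0 (by simpa using inv_mem h)) s hsN hs
        rw [inv_inv] at h
        rw [hz', show n * (s * z * s⁻¹) * n⁻¹ = n * s * z * (n * s)⁻¹ by group]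
        exact hS.1 h
      rw [show n * (z * z') * n⁻¹ = n * z * n⁻¹ * (n * z' * n⁻¹) by group, horb n hn hn0, e',
        hzz'c]
  have huc : u * (z * z') * u⁻¹ = z * z' := by
    set c := u * (z * z') * u⁻¹
    have hc1 : ∀ n ∈ normalizer (S₀ : Set S), n * c * n⁻¹ = c := by
      intro n hn
      have hn' : u⁻¹ * n * u ∈ normalizer (S₀ : Set S) := (huconj _).2 (by
        simpa [mul_assoc] using hn)
      calc n * c * n⁻¹ = u * (u⁻¹ * n * u * (z * z') * (u⁻¹ * n * u)⁻¹) * u⁻¹ := by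
            simp only [c]; group
        _ = c := by rw [hcN _ hn']
    have hcen : c ∈ centralizer ((P ⊔ Q : Subgroup S) : Set S) := by
      rw [mem_centralizer_iff]
      intro w hw
      exact mul_inv_eq_iff_eq_mul.1 (hc1 w (le_normalizer ((sup_le hPS hQS) hw)))
    rcases hfour c hcen with h | h | h | h
    · exfalso
      have h1 : z * z' = 1 := by simpa [c] using h
      exact hzne (by rw [eq_inv_of_mul_eq_one_right h1, inv_eq_of_mul_eq_one_right hzz])
    · exact absurd (h ▸ hc1 s hsN) (by rw [← hz']; exact hzne)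
    · exact absurd (h ▸ hc1 s hsN) (by rw [hsz']; exact hzne.symm)
    · exact h
  -- commutators with `x`
  have hcx : ∀ w ∈ normalizer (S₀ : Set S), ⁅w, x⁆ = 1 ∨ ⁅w, x⁆ = z * z' := by
    intro w hw
    have hw' : u⁻¹ * w * u ∈ normalizer (S₀ : Set S) := (huconj _).2 (by
      simpa [mul_assoc] using hw)
    have e : ⁅w, x⁆ = u * ((u⁻¹ * w * u) * z * (u⁻¹ * w * u)⁻¹ * z⁻¹) * u⁻¹ := by
      rw [commutatorElement_def, hx]; group
    rw [e]
    by_cases hw0 : u⁻¹ * w * u ∈ S₀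
    · left; rw [hS.1 hw0]; group
    · right
      rw [horb _ hw' hw0, inv_eq_of_mul_eq_one_right hzz, ← hzz'c]
      exact huc
  have hxN : x ∈ normalizer (S₀ : Set S) := (huconj z).1 (le_normalizer (hPS hzP))
  have hc'P : z * z' ∉ P := fun h => by
    have : z' ∈ P ⊓ Q := ⟨by have := mul_mem (inv_mem hzP) h; rwa [inv_mul_cancel_left] at this,
      (mem_cz.1 hzQ).1⟩
    rw [hd, mem_bot] at this
    exact hz'1 this
  have hc'Q : z * z' ∉ Q := fun h => by
    have : z ∈ P ⊓ Q := ⟨hzP, by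
      have := mul_mem h (inv_mem (mem_cz.1 hzQ).1); rwa [mul_inv_cancel_right] at this⟩
    rw [hd, mem_bot] at this
    exact hz1 this
  have hxS : x ∈ S₀ := by
    by_contra hx0
    apply hP
    have hall : ∀ a ∈ P, a = 1 ∨ a = z := by
      intro a ha
      have hb : x * a⁻¹ * x⁻¹ ∈ Q := by
        have hsx : s⁻¹ * x ∈ S₀ := hmul s hsN hs x hxN hx0
        exact ⟨s⁻¹ * x * a⁻¹ * (s⁻¹ * x)⁻¹, hPn _ hsx _ (inv_mem ha),
          show s * (s⁻¹ * x * a⁻¹ * (s⁻¹ * x)⁻¹) * s⁻¹ = x * a⁻¹ * x⁻¹ by group⟩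
      have e : ⁅a, x⁆ = a * (x * a⁻¹ * x⁻¹) := by rw [commutatorElement_def]; group
      have hinj := prodHom_injective hc hd
      rcases hcx a (le_normalizer (hPS ha)) with h | h
      · left
        have := @hinj (⟨a, ha⟩, ⟨_, hb⟩) (1, 1) (by
          show a * (x * a⁻¹ * x⁻¹) = (1 : S) * 1
          rw [← e, h, one_mul])
        exact congrArg Subtype.val (congrArg Prod.fst this)
      · right
        have := @hinj (⟨a, ha⟩, ⟨_, hb⟩) (⟨z, hzP⟩, ⟨z', (mem_cz.1 hzQ).1⟩) (by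
          show a * (x * a⁻¹ * x⁻¹) = z * z'
          rw [← e, h])
        exact congrArg Subtype.val (congrArg Prod.fst this)
    refine ⟨⟨fun a b => Subtype.ext ?_⟩⟩
    show (a : S) * b = b * a
    rcases hall a a.2 with ha | ha <;> rcases hall b b.2 with hb | hb <;> simp [ha, hb]
  have hxx : x * x = 1 := by
    rw [hx, show u * z * u⁻¹ * (u * z * u⁻¹) = u * (z * z) * u⁻¹ by group, hzz]; group
  have hcfr : z * z' ∈ fr P ⊔ fr Q := by
    refine mul_mem (mem_sup_left ?_) (mem_sup_right ?_)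
    · obtain ⟨c, hc1, hc2⟩ := hzc
      exact ⟨c, center_le_frattini (h2.to_subgroup P) hP hPz hc1, hc2⟩
    · obtain ⟨c, hc1, hc2⟩ := hzQ
      exact ⟨c, center_le_frattini (h2.to_subgroup Q) hQn hQz hc1, hc2⟩
  have hxW := mem_sup_of_rank h2 hr hc hd hP hQn (by rw [hxx]; exact one_mem _) fun w hw => by
    rcases hcx w (le_normalizer ((sup_le hPS hQS) hw)) with h | h <;> rw [h]
    · exact one_mem _
    · exact hcfr
  have hxcen : x ∈ centralizer ((P ⊔ Q : Subgroup S) : Set S) := by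
    rw [mem_centralizer_iff]
    intro w hw
    obtain ⟨a, ha, b, hb, rfl⟩ := mem_sup_split hc hw
    obtain ⟨a', ha', b', hb', hab'⟩ := mem_sup_split hc hxW
    have h1 : a * x = x * a := by
      rw [← commutatorElement_eq_one_iff_mul_comm]
      refine (hcx a (le_normalizer (hPS ha))).resolve_right fun h => hc'P ?_
      rw [← h, commutatorElement_def, mul_assoc a, mul_assoc a]
      exact mul_mem ha (hPn x hxS _ (inv_mem ha))
    have h2' : b * x = x * b := by
      rw [← commutatorElement_eq_one_iff_mul_comm]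
      refine (hcx b (le_normalizer (hQS hb))).resolve_right fun h => hc'Q ?_
      rw [← h, commutatorElement_def, mul_assoc b, mul_assoc b]
      exact mul_mem hb ((mem_normalizer_iff.1 (hSQ hxS) _).1 (inv_mem hb))
    rw [mul_assoc, h2', ← mul_assoc, h1, mul_assoc]
  rcases hfour x hxcen with h | h | h | h
  · exact hz1 (by simpa [hx] using h)
  · exact hu (le_normalizer (hS.2 (hx ▸ h)))
  · -- `u z u⁻¹ = z'`, so `s⁻¹ u` fixes `z`
    refine hu ?_
    have h1 : s⁻¹ * u ∈ S₀ := hS.2 (by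
      rw [show s⁻¹ * u * z * (s⁻¹ * u)⁻¹ = s⁻¹ * (u * z * u⁻¹) * s by group, ← hx, h, hz']
      group)
    have := mul_mem hsN (le_normalizer h1)
    rwa [mul_inv_cancel_left] at this
  · exfalso
    have h1 : z = z * z' := by
      have := h.trans huc.symm
      simpa [hx] using this
    exact hz'1 (by simpa using h1.symm)

end Cfsg.Agent.Cores.TwoCentre
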