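import Cfsg.Agent.Cores.ThirdMain
import Cfsg.Agent.Cores.PCore
import Cfsg.Agent.H26.Invol
import Cfsg.Agent.H39.Isolated
import Cfsg.Agent.CharBasic.Kernel
import Mathlib.GroupTheory.SchurZassenhaus

/-!
# Glauberman's Z*-theorem

Induction on the group order.  The case in which the isolated involution is the only involution of
its centralizer is taken as a hypothesis (`UniqueInvolutionCase`).
-/

namespace Cfsg.Agent.Cores

open MonoidAlgebra BlockBasic CharBasic

universe u

section Elementary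

variable {G : Type u} [Group G]

theorem mem_of_pow_two_mem_of_odd {N : Subgroup G} {y : G} (hodd : Odd (orderOf y))
    (h : y ^ 2 ∈ N) : y ∈ N := by
  obtain ⟨j, hj⟩ := hodd
  have : (y ^ 2) ^ (j + 1) = y := by
    rw [← pow_mul, show 2 * (j + 1) = (2 * j + 1) + 1 by ring, pow_succ, ← hj, pow_orderOf_eq_one,
      one_mul]
  exact this ▸ N.pow_mem h _

theorem eq_one_of_sq_of_odd {y : G} (hodd : Odd (orderOf y)) (h : y ^ 2 = 1) : y = 1 := by
  simpa using mem_of_pow_two_mem_of_odd (N := (⊥ : Subgroup G)) hodd (by simpa using h)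

theorem orderOf_swap (a b : G) : orderOf (a * b) = orderOf (b * a) := by
  rw [← MulEquiv.orderOf_eq (MulAut.conj b) (a * b), MulAut.conj_apply]
  congr 1
  group

variable [Finite G]

theorem isolated_subgroup {H : Subgroup G} {u : G} (hu : Cfsg.IsIsolatedInvolution u)
    (huH : u ∈ H) : Cfsg.IsIsolatedInvolution (⟨u, huH⟩ : H) :=
  ⟨by rw [Subgroup.orderOf_mk]; exact hu.1,
    fun g h => Subtype.ext (hu.2 (g : G) (congrArg Subtype.val h))⟩

theorem isolated_quotient {N : Subgroup G} [N.Normal] {u : G} (hu : Cfsg.IsIsolatedInvolution u)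
    (huN : u ∉ N) : Cfsg.IsIsolatedInvolution (QuotientGroup.mk u : G ⧸ N) := by
  have hu2 : u * u = 1 := by rw [← sq, ← hu.1, pow_orderOf_eq_one]
  have h2 : orderOf (QuotientGroup.mk u : G ⧸ N) = 2 := by
    refine orderOf_eq_prime ?_ fun h => huN ((QuotientGroup.eq_one_iff u).1 h)
    rw [← QuotientGroup.mk_pow, sq, hu2, QuotientGroup.mk_one]
  refine ⟨h2, fun q hq => ?_⟩
  obtain ⟨g, rfl⟩ := QuotientGroup.mk_surjective q
  set b := g * u * g⁻¹ with hb
  have hb2 : b * b = 1 := by rw [hb, show g * u * g⁻¹ * (g * u * g⁻¹) = g * (u * u) * g⁻¹ by group, hu2]; simp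
  have hd : Odd (orderOf (QuotientGroup.mk (b * u) : G ⧸ N)) :=
    (H39.isolated_odd hu g).of_dvd_nat (orderOf_map_dvd (QuotientGroup.mk' N) _)
  have hbu : (QuotientGroup.mk g * QuotientGroup.mk u * (QuotientGroup.mk g)⁻¹ : G ⧸ N) =
      QuotientGroup.mk b := by rw [hb]; simp
  rw [hbu] at hq ⊢
  have hsq : (QuotientGroup.mk (b * u) : G ⧸ N) ^ 2 = 1 := by
    rw [QuotientGroup.mk_mul, (Commute.symm hq).mul_pow, sq, sq, ← QuotientGroup.mk_mul,
      ← QuotientGroup.mk_mul, hb2, hu2, QuotientGroup.mk_one, one_mul]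
  have := eq_one_of_sq_of_odd hd hsq
  rw [QuotientGroup.mk_mul, mul_eq_one_iff_eq_inv, ← QuotientGroup.mk_inv,
    inv_eq_of_mul_eq_one_left hu2] at this
  exact this

omit [Finite G] in
theorem commutator_eq_mul_conj {u : G} (hu : u * u = 1) (g : G) :
    u * g * u⁻¹ * g⁻¹ = u * (g * u * g⁻¹) := by
  rw [inv_eq_of_mul_eq_one_left hu]; group

theorem odd_orderOf_commutator {u : G} (hu : Cfsg.IsIsolatedInvolution u) (g : G) :
    Odd (orderOf (u * g * u⁻¹ * g⁻¹)) := by
  rw [commutator_eq_mul_conj (by rw [← sq, ← hu.1, pow_orderOf_eq_one]), orderOf_swap]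
  exact H39.isolated_odd hu g

/-- The odd-order elements of a normal subgroup with central Sylow subgroup of order two lie in the
odd core. -/
theorem mem_oddCore_of_central {z : G} (hz : orderOf z = 2) (hzc : z ∈ Subgroup.center G)
    (N : Subgroup G) [hN : N.Normal] (hzN : z ∈ N) {m : ℕ} (hm : Odd m)
    (hcard : Nat.card N = 2 * m) {y : G} (hy : y ∈ N) (hyodd : Odd (orderOf y)) :
    y ∈ oddCore G := by
  set Z : Subgroup N := Subgroup.zpowers (⟨z, hzN⟩ : N)
  have hZn : Z.Normal := ⟨by
    rintro n ⟨i, rfl⟩ g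
    refine ⟨i, Subtype.ext ?_⟩
    have := Subgroup.mem_center_iff.1 (Subgroup.zpow_mem _ hzc i) (g : G)
    push_cast
    rw [this]
    group⟩
  have hZ : Nat.card Z = 2 := by rw [Nat.card_zpowers, Subgroup.orderOf_mk, hz]
  have hidx : Z.index = m := by
    have := Z.card_mul_index
    rw [hZ, hcard] at this
    omega
  obtain ⟨K, hK⟩ := Subgroup.exists_right_complement'_of_coprime (N := Z)
    (by rw [hZ, hidx]; exact Nat.coprime_two_left.2 hm)
  have hKi : K.index = 2 := by rw [hK.index_eq_card, hZ]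
  have hKcard : Nat.card K = m := by
    have := K.card_mul_index
    rw [hKi, hcard] at this
    omega
  have hKmem : ∀ k : N, k ∈ K ↔ Odd (orderOf k) := fun k =>
    ⟨fun hk => hm.of_dvd_nat (hKcard ▸ Subgroup.orderOf_dvd_natCard K hk),
      fun hk => mem_of_pow_two_mem_of_odd hk (Subgroup.sq_mem_of_index_two hKi k)⟩
  have : (K.map N.subtype).Normal := ⟨by
    rintro _ ⟨k, hk, rfl⟩ g
    refine ⟨⟨g * (k : G) * g⁻¹, hN.conj_mem _ k.2 g⟩, ?_, rfl⟩
    rw [SetLike.mem_coe, hKmem] at hk ⊢
    rwa [Subgroup.orderOf_mk, ← MulAut.conj_apply, MulEquiv.orderOf_eq, Subgroup.orderOf_coe]⟩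
  refine le_oddCore (N := K.map N.subtype) ?_ ⟨⟨y, hy⟩, ?_, rfl⟩
  · rw [Subgroup.card_map_of_injective N.subtype_injective, hKcard]; exact hm
  · rw [SetLike.mem_coe, hKmem, Subgroup.orderOf_mk]; exact hyodd

end Elementary

/-- The `Z*`-property of a group. -/
def ZStarProp (G : Type u) [Group G] [Finite G] : Prop :=
  ∀ u : G, Cfsg.IsIsolatedInvolution u → ∀ g : G, u * g * u⁻¹ * g⁻¹ ∈ oddCore G

/-- The case in which the isolated involution is the only involution centralising it. -/
def UniqueInvolutionCase : Prop :=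
  ∀ (G : Type u) [Group G] [Finite G], oddCore G = ⊥ → ∀ u : G, Cfsg.IsIsolatedInvolution u →
    (∀ v : G, orderOf v = 2 → Commute u v → v = u) → u ∈ Subgroup.center G

section Induction

variable {G : Type u} [Group G] [Finite G]
  (IH : ∀ (K : Type u) [Group K] [Finite K], Nat.card K < Nat.card G → ZStarProp K)

include IH

/-- The product of `u` with a conjugate `s` of another involution `v` of `C(u)`. -/
theorem exists_decomp_of_mul {u v : G} (hu : Cfsg.IsIsolatedInvolution u) (hv : orderOf v = 2)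
    (huv : Commute u v) (hne : v ≠ u)
    (hnc : ∀ z : G, orderOf z = 2 → z ∉ Subgroup.center G) (s : G) (hs : IsConj v s) :
    ∃ w y : G, u * s = w * y ∧ IsConj (u * v) w ∧ orderOf w = 2 ∧
      ∃ h : y ∈ Subgroup.centralizer ({w} : Set G),
        (⟨y, h⟩ : Subgroup.centralizer ({w} : Set G)) ∈
          oddCore (Subgroup.centralizer ({w} : Set G)) := by
  have hu2 : u * u = 1 := by rw [← sq, ← hu.1, pow_orderOf_eq_one]
  have hs2 : s * s = 1 := by
    rw [← sq, ← (H26.isConj_orderOf hs).symm.trans hv, pow_orderOf_eq_one]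
  have hnconj : ¬ IsConj u v := by
    intro h
    obtain ⟨g, hg⟩ := isConj_iff.1 h
    exact hne (hg ▸ hu.2 g (hg.symm ▸ huv))
  set d := u * s with hd
  have heven : Even (orderOf d) :=
    H26.even_orderOf_of_not_isConj hu2 hs2 fun h => hnconj (h.trans hs.symm)
  obtain ⟨m, hm⟩ := heven
  have hm0 : 0 < m := by have := orderOf_pos d; omega
  have hconj : u * d * u⁻¹ = d⁻¹ := by
    rw [hd, mul_inv_rev, inv_eq_of_mul_eq_one_left hu2, inv_eq_of_mul_eq_one_left hs2, ← mul_assoc,
      hu2, one_mul]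
  have hw2 : d ^ m * d ^ m = 1 := by rw [← pow_add, ← hm, pow_orderOf_eq_one]
  have hwne : d ^ m ≠ 1 := pow_ne_one_of_lt_orderOf (by omega) (by omega)
  have huw : Commute u (d ^ m) := by
    have : u * d ^ m * u⁻¹ = d ^ m := by
      rw [← conj_pow, hconj, inv_pow, inv_eq_of_mul_eq_one_left hw2]
    exact mul_inv_eq_iff_eq_mul.1 this
  have hmodd : Odd m := by
    by_contra hcon
    obtain ⟨l, hl⟩ := Nat.not_odd_iff_even.1 hcon
    have h1 : u * (d ^ l)⁻¹ * u⁻¹ = d ^ l := by
      rw [← inv_inj]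
      simp only [mul_inv_rev, inv_inv, ← mul_assoc]
      rw [← conj_pow, hconj, inv_pow]
    have h2 : d ^ l * u * (d ^ l)⁻¹ = d ^ m * u := by
      rw [hl, pow_add, mul_assoc (d ^ l) (d ^ l) u, mul_assoc]
      congr 1
      exact mul_inv_eq_iff_eq_mul.1 h1
    have h3 := hu.2 (d ^ l) (h2 ▸ huw.mul_right (Commute.refl u))
    rw [h2] at h3
    exact hwne (mul_eq_right.1 h3)
  obtain ⟨k, hk⟩ := hmodd
  set w := d ^ m with hw
  set y := d ^ (m + 1) with hy
  have hwo : orderOf w = 2 := orderOf_eq_prime (by rw [sq]; exact hw2) hwne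
  have hyo : Odd (orderOf y) := by
    refine Odd.of_dvd_nat (show Odd m from ⟨k, hk⟩) (orderOf_dvd_of_pow_eq_one ?_)
    rw [hy, ← pow_mul, show (m + 1) * m = (m + m) * (k + 1) by rw [hk]; ring, pow_mul, ← hm,
      pow_orderOf_eq_one, one_pow]
  have hdwy : d = w * y := by
    rw [hw, hy, ← pow_add, show m + (m + 1) = (m + m) + 1 by ring, pow_succ, ← hm,
      pow_orderOf_eq_one, one_mul]
  refine ⟨w, y, hdwy, ?_, hwo, ?_⟩
  · -- `u * w` is a conjugate of `v` commuting with `u`; the conjugation can be done inside `C(u)`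
    have hs' : IsConj v (u * w) := by
      refine hs.trans (isConj_iff.2 ⟨d ^ (-(k : ℤ)), ?_⟩)
      rw [hd, H26.zpow_conj_snd hu2 hs2, hw, hd, ← zpow_natCast]
      congr 2
      rw [hk]; push_cast; ring
    obtain ⟨g, hg⟩ := isConj_iff.1 hs'
    have hcs : Commute (u * w) u := (Commute.refl u).mul_left huw.symm
    have hcs' : Commute (u * w) (g * u * g⁻¹) := by
      rw [← hg]
      simpa using (huv.symm.map (MulAut.conj g).toMonoidHom)
    have hodd : Odd (orderOf (u * (g * u * g⁻¹))) := by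
      rw [orderOf_swap]; exact H39.isolated_odd hu g
    have hg2 : (g * u * g⁻¹) * (g * u * g⁻¹) = 1 := by
      rw [show g * u * g⁻¹ * (g * u * g⁻¹) = g * (u * u) * g⁻¹ by group, hu2]; simp
    obtain ⟨j, hj⟩ := H26.exists_conj_of_odd hu2 hg2 hodd
    set c := (u * (g * u * g⁻¹)) ^ j with hc
    have hcc : Commute (u * w) c := (hcs.mul_right hcs').zpow_right j
    refine isConj_iff.2 ⟨c⁻¹ * g, ?_⟩
    have e1 : c⁻¹ * g * (u * v) * (c⁻¹ * g)⁻¹ =
        (c⁻¹ * (g * u * g⁻¹) * c) * (c⁻¹ * (g * v * g⁻¹) * c) := by group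
    rw [e1, hg, ← hj, mul_assoc c⁻¹ (u * w) c, hcc.eq]
    calc c⁻¹ * (c * u * c⁻¹) * c * (c⁻¹ * (c * (u * w))) = u * (u * w) := by group
      _ = w := by rw [← mul_assoc, hu2, one_mul]
  · have hdw : Commute d w := (Commute.refl d).pow_right m
    have hyw : y ∈ Subgroup.centralizer ({w} : Set G) :=
      Subgroup.mem_centralizer_singleton_iff.2 (hdw.pow_left (m + 1)).eq
    refine ⟨hyw, ?_⟩
    set C := Subgroup.centralizer ({w} : Set G)
    have hlt : Nat.card C < Nat.card G := by
      refine lt_of_le_of_ne (Nat.le_of_dvd Nat.card_pos C.card_subgroup_dvd_card) fun he => ?_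
      have htop : C = ⊤ := Subgroup.eq_top_of_card_eq _ he
      refine hnc w hwo (Subgroup.mem_center_iff.2 fun g => ?_)
      exact Subgroup.mem_centralizer_singleton_iff.1 (htop ▸ Subgroup.mem_top g : g ∈ C)
    have huC : u ∈ C := Subgroup.mem_centralizer_singleton_iff.2 huw.eq
    have h := IH C hlt ⟨u, huC⟩ (isolated_subgroup hu huC) (⟨y, hyw⟩ : C)
    have hsq : (⟨u, huC⟩ : C) * ⟨y, hyw⟩ * (⟨u, huC⟩ : C)⁻¹ * (⟨y, hyw⟩ : C)⁻¹ =
        ((⟨y, hyw⟩ : C) ^ 2)⁻¹ := by
      apply Subtype.ext
      push_cast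
      rw [hy, ← conj_pow, hconj, inv_pow, sq, mul_inv_rev]
    rw [hsq, inv_mem_iff] at h
    exact mem_of_pow_two_mem_of_odd (by rwa [Subgroup.orderOf_mk]) h

/-- The character relation `χ(u) χ(v) = χ(1) χ(uv)` on the principal `2`-block. -/
theorem apply_mul_apply_eq [Fact (Nat.Prime 2)] {M : Ideal AlgInt} (hM : IsPModular 2 M) {u v : G}
    (hu : Cfsg.IsIsolatedInvolution u) (hv : orderOf v = 2) (huv : Commute u v) (hne : v ≠ u)
    (hnc : ∀ z : G, orderOf z = 2 → z ∉ Subgroup.center G) {χ : IrrCharacter G}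
    (hχ : χ ∈ principalBlock M G) :
    (χ : G → ℂ) u * (χ : G → ℂ) v = (χ : G → ℂ) 1 * (χ : G → ℂ) (u * v) := by
  classical
  cases nonempty_fintype G
  have hcl := IsIrr.isClassFunction χ.2
  have hprod : ∀ a b, IsConj u a → IsConj v b → (χ : G → ℂ) (a * b) = (χ : G → ℂ) (u * v) := by
    intro a b ha hb
    obtain ⟨c, rfl⟩ := isConj_iff.1 ha
    have hb' : IsConj v (c⁻¹ * b * c) := hb.trans (isConj_iff.2 ⟨c⁻¹, by simp⟩)
    obtain ⟨w, y, hwy, hw, hwo, hyC, hyO⟩ := exists_decomp_of_mul IH hu hv huv hne hnc _ hb'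
    haveI : (oddCore (Subgroup.centralizer ({w} : Set G))).Normal := inferInstance
    have h1 := principalBlock_apply_mul hM (x := w) (e := 1) (by rw [hwo]; rfl) hχ
      (oddCore (Subgroup.centralizer ({w} : Set G)))
      (not_dvd_card_pPrimeCore (p := 2)) hyO
    obtain ⟨e, he⟩ := isConj_iff.1 hw
    rw [show c * u * c⁻¹ * b = c * (u * (c⁻¹ * b * c)) * c⁻¹ by group, hcl, hwy, h1, ← he, hcl]
  have hA : ∀ t : G, chiLin (χ : G → ℂ) (classSum t) =
      (∑ a, (classSum t).coeff a) * (χ : G → ℂ) t := by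
    intro t
    rw [chiLin, Finset.sum_mul]
    refine Finset.sum_congr rfl fun a _ => ?_
    by_cases h : IsConj t a
    · obtain ⟨c, rfl⟩ := isConj_iff.1 h
      rw [hcl t c]
    · rw [classSum, coeff_ofFun, if_neg h, zero_mul, zero_mul]
  have hcard : ∀ t : G, (∑ a, (classSum t).coeff a) ≠ 0 := by
    intro t
    rw [Finset.sum_congr rfl (g := fun a => if IsConj t a then (1 : ℂ) else 0)
      (fun a _ => by rw [classSum, coeff_ofFun]; split_ifs <;> rfl), Finset.sum_boole]
    exact Nat.cast_ne_zero.2 (Finset.card_ne_zero.2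
      ⟨t, Finset.mem_filter.2 ⟨Finset.mem_univ t, IsConj.refl t⟩⟩)
  have hB : chiLin (χ : G → ℂ) (classSum u * classSum v) =
      (∑ a, (classSum u).coeff a) * (∑ b, (classSum v).coeff b) * (χ : G → ℂ) (u * v) := by
    rw [chiLin]
    simp only [coeff_mul_eq_sum, Finset.sum_mul]
    rw [Finset.sum_comm]
    refine Finset.sum_congr rfl fun a _ => ?_
    rw [Finset.mul_sum, Finset.sum_mul]
    refine Fintype.sum_equiv (Equiv.mulLeft a⁻¹) _ _ fun g => ?_
    simp only [Equiv.coe_mulLeft]
    by_cases ha : IsConj u a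
    · by_cases hb : IsConj v (a⁻¹ * g)
      · rw [← hprod a (a⁻¹ * g) ha hb, mul_inv_cancel_left]
      · have h0 : (classSum v).coeff (a⁻¹ * g) = 0 := by rw [classSum, coeff_ofFun, if_neg hb]
        simp [h0]
    · have h0 : (classSum u).coeff a = 0 := by rw [classSum, coeff_ofFun, if_neg ha]
      simp [h0]
  rw [chiLin_central_mul χ.2 (isCentralElt_classSum u), omega, hA, hA] at hB
  have h1 := irr_one_ne_zero χ.2
  field_simp at hB
  refine mul_left_cancel₀ (mul_ne_zero (hcard u) (hcard v)) ?_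
  linear_combination hB

/-- The inductive step, with no central involution and a second involution in `C(u)`. -/
theorem false_of_second_involution {u v : G} (hO : oddCore G = ⊥)
    (hu : Cfsg.IsIsolatedInvolution u) (hv : orderOf v = 2) (huv : Commute u v) (hne : v ≠ u)
    (hnc : ∀ z : G, orderOf z = 2 → z ∉ Subgroup.center G) : False := by
  classical
  cases nonempty_fintype G
  obtain ⟨M, hM⟩ := exists_isPModular Nat.prime_two
  have hu2 : u * u = 1 := by rw [← sq, ← hu.1, pow_orderOf_eq_one]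
  have hv2 : v * v = 1 := by rw [← sq, ← hv, pow_orderOf_eq_one]
  have huvo : orderOf (u * v) = 2 := orderOf_eq_prime
    (by rw [huv.mul_pow, sq, sq, hu2, hv2, one_mul])
    (fun h => hne (by rw [← inv_eq_of_mul_eq_one_right h, inv_eq_of_mul_eq_one_left hu2]))
  have hne' : u * v ≠ u := fun h => by
    rw [mul_eq_left.1 h, orderOf_one] at hv; omega
  have hcuv : Commute u (u * v) := (Commute.refl u).mul_right huv
  have huuv : u * (u * v) = v := by rw [← mul_assoc, hu2, one_mul]
  -- every normal subgroup containing `u` is the whole group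
  have hnormal : ∀ N : Subgroup G, N.Normal → u ∈ N → N = ⊤ := by
    intro N hN huN
    by_contra hNt
    refine hnc u hu.1 (Subgroup.mem_center_iff.2 fun g => ?_)
    have hlt : Nat.card N < Nat.card G :=
      lt_of_le_of_ne (Nat.le_of_dvd Nat.card_pos N.card_subgroup_dvd_card)
        fun he => hNt (Subgroup.eq_top_of_card_eq _ he)
    have hcen : ∀ n : N, Commute u (n : G) := fun n => by
      have h := IH N hlt ⟨u, huN⟩ (isolated_subgroup hu huN) n
      have h2 : ((⟨u, huN⟩ : N) * n * (⟨u, huN⟩ : N)⁻¹ * n⁻¹ : N).1 ∈ oddCore G :=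
        map_pPrimeCore_le_of_normal (p := 2) N ⟨_, h, rfl⟩
      rw [hO, Subgroup.mem_bot] at h2
      push_cast at h2
      exact commutatorElement_eq_one_iff_commute.1 h2
    have := hu.2 g (hcen ⟨g * u * g⁻¹, hN.conj_mem u huN g⟩)
    rw [mul_inv_eq_iff_eq_mul] at this
    exact this
  have hrel : ∀ χ ∈ principalBlock M G, χ ≠ trivialIrr →
      (χ : G → ℂ) (u * v) = -(χ : G → ℂ) v := by
    intro χ hχ hχt
    have h1 := apply_mul_apply_eq IH hM hu hv huv hne hnc hχ
    have h2 := apply_mul_apply_eq IH hM hu huvo hcuv hne' hnc hχ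
    rw [huuv] at h2
    have h0 := irr_one_ne_zero χ.2
    by_cases hv0 : (χ : G → ℂ) v = 0
    · rw [hv0, mul_zero, eq_comm, mul_eq_zero] at h1
      rw [h1.resolve_left h0, hv0, neg_zero]
    have hsq : ((χ : G → ℂ) u - (χ : G → ℂ) 1) * ((χ : G → ℂ) u + (χ : G → ℂ) 1) = 0 := by
      refine mul_left_cancel₀ hv0 ?_
      linear_combination (χ : G → ℂ) u * h1 + (χ : G → ℂ) 1 * h2
    rcases mul_eq_zero.1 hsq with h | h
    · exfalso
      apply hχt
      obtain ⟨n, ρ, hρ, he⟩ := χ.2
      obtain ⟨N, hN, hmem, -⟩ := IsChar.exists_kernel (χ := (χ : G → ℂ)) ⟨n, ρ, he⟩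
      have htop := hnormal N hN ((hmem u).2 (sub_eq_zero.1 h))
      have hconst : ∀ g, (χ : G → ℂ) g = (χ : G → ℂ) 1 := fun g =>
        (hmem g).1 (htop ▸ Subgroup.mem_top g)
      by_contra hne2
      have hin := classInner_irrCharacter χ trivialIrr
      rw [if_neg hne2, classInner_def] at hin
      have : ∑ g : G, (χ : G → ℂ) g * (starRingEnd ℂ) ((trivialIrr (G := G) : G → ℂ) g) =
          (Nat.card G : ℂ) * (χ : G → ℂ) 1 := by
        simp [trivialIrr, hconst, Finset.sum_const, Nat.card_eq_fintype_card]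
      rw [this, ← mul_assoc, inv_mul_cancel₀ (Nat.cast_ne_zero.2 Nat.card_pos.ne'), one_mul] at hin
      exact h0 hin
    · have hu1 : (χ : G → ℂ) u = -(χ : G → ℂ) 1 := eq_neg_of_add_eq_zero_left h
      rw [hu1] at h1
      refine mul_left_cancel₀ h0 ?_
      linear_combination -h1
  have horth : ∀ t : G, orderOf t = 2 →
      ∑ χ : IrrCharacter G, (if χ ∈ principalBlock M G then
        (χ : G → ℂ) 1 * (starRingEnd ℂ) ((χ : G → ℂ) t) else 0) = 0 := by
    intro t ht
    rw [← finsum_mem_eq_sum_ite]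
    exact blockKernel_eq_zero_of_regular_of_singular (p := 2) hM (isPBlock_principalBlock M)
      (g := 1) (h := t) (by rw [orderOf_one]; omega) (by rw [ht])
  have hsum := congrArg₂ (· + ·) (horth v hv) (horth (u * v) huvo)
  simp only [← Finset.sum_add_distrib, add_zero] at hsum
  rw [Finset.sum_eq_single (trivialIrr (G := G))] at hsum
  · rw [if_pos (show trivialIrr ∈ principalBlock M G from sameBlock_refl hM _), if_pos
      (show trivialIrr ∈ principalBlock M G from sameBlock_refl hM _)] at hsum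
    norm_num [trivialIrr] at hsum
  · intro χ _ hne2
    split_ifs with h
    · rw [hrel χ h hne2, map_neg, mul_neg, add_neg_cancel]
    · simp
  · simp

end Induction

/-- The `Z*`-theorem for isolated involutions. -/
theorem zStarProp (hUIC : UniqueInvolutionCase.{u}) (G : Type u) [Group G] [Finite G] :
    ZStarProp G := by
  generalize hn : Nat.card G = n
  induction n using Nat.strong_induction_on generalizing G with
  | _ n ih =>
    subst hn
    have IH : ∀ (K : Type u) [Group K] [Finite K], Nat.card K < Nat.card G → ZStarProp K :=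
      fun K _ _ hK => ih _ hK K rfl
    intro u hu g
    have hu2 : u * u = 1 := by rw [← sq, ← hu.1, pow_orderOf_eq_one]
    by_cases hO : oddCore G = ⊥
    · suffices hc : u ∈ Subgroup.center G by
        rw [(Subgroup.mem_center_iff.1 hc g).symm, mul_inv_cancel_right, mul_inv_cancel]
        exact one_mem _
      by_cases hnc : ∀ z : G, orderOf z = 2 → z ∉ Subgroup.center G
      · by_cases hv : ∀ v : G, orderOf v = 2 → Commute u v → v = u
        · exact hUIC G hO u hu hv
        · push Not at hv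
          obtain ⟨v, hv, huv, hne⟩ := hv
          exact (false_of_second_involution IH hO hu hv huv hne hnc).elim
      push Not at hnc
      obtain ⟨z, hz, hzc⟩ := hnc
      rcases eq_or_ne z u with rfl | hzu
      · exact hzc
      set Z := Subgroup.zpowers z with hZ
      have hZc : Z ≤ Subgroup.center G := Subgroup.zpowers_le.2 hzc
      haveI : Z.Normal := ⟨fun n hn h => by
        rw [Subgroup.mem_center_iff.1 (hZc hn) h]; simpa using hn⟩
      have hcardZ : Nat.card Z = 2 := by rw [hZ, Nat.card_zpowers, hz]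
      have huZ : u ∉ Z := fun h => by
        obtain ⟨i, hi⟩ := Subgroup.mem_zpowers_iff.1 (hZ ▸ h)
        rcases Int.even_or_odd i with ⟨j, rfl⟩ | ⟨j, rfl⟩
        · rw [← two_mul, zpow_mul, zpow_ofNat, ← hz, pow_orderOf_eq_one, one_zpow] at hi
          have := hu.1; rw [← hi, orderOf_one] at this; omega
        · rw [zpow_add, zpow_mul, zpow_ofNat, ← hz, pow_orderOf_eq_one, one_zpow, zpow_one,
            one_mul] at hi
          exact hzu hi
      have hlt : Nat.card (G ⧸ Z) < Nat.card G := by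
        have := Subgroup.card_eq_card_quotient_mul_card_subgroup Z
        rw [hcardZ] at this
        have := Nat.card_pos (α := G ⧸ Z)
        omega
      have hq := IH (G ⧸ Z) hlt _ (isolated_quotient hu huZ)
      set N := (oddCore (G ⧸ Z)).comap (QuotientGroup.mk' Z) with hN
      have hcardN : Nat.card N = 2 * Nat.card (oddCore (G ⧸ Z)) := by
        rw [hN, ← hcardZ, mul_comm]
        have h1 := Subgroup.card_eq_card_quotient_mul_card_subgroup Z
        have h2 := ((oddCore (G ⧸ Z)).comap (QuotientGroup.mk' Z)).card_mul_index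
        have h3 := (oddCore (G ⧸ Z)).card_mul_index
        rw [Subgroup.index_comap_of_surjective _ (QuotientGroup.mk'_surjective Z)] at h2
        have h4 : 0 < (oddCore (G ⧸ Z)).index := Nat.pos_of_ne_zero Subgroup.index_ne_zero_of_finite
        refine Nat.eq_of_mul_eq_mul_right h4 ?_
        rw [h2, h1, mul_right_comm, h3]
      have hall : ∀ h : G, u * h * u⁻¹ * h⁻¹ = 1 := fun h => by
        have := mem_oddCore_of_central hz hzc N (z := z)
          (show z ∈ N by
            rw [hN, Subgroup.mem_comap, QuotientGroup.mk'_apply,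
              (QuotientGroup.eq_one_iff z).2 (Subgroup.mem_zpowers z)]
            exact one_mem _)
          (odd_card_oddCore) hcardN (y := u * h * u⁻¹ * h⁻¹)
          (by simpa [hN] using hq (QuotientGroup.mk h)) (odd_orderOf_commutator hu h)
        rwa [hO, Subgroup.mem_bot] at this
      exact Subgroup.mem_center_iff.2 fun h =>
        (commutatorElement_eq_one_iff_commute.1 (hall h)).eq.symm
    · have huO : u ∉ oddCore G := fun h => by
        have h1 := Subgroup.orderOf_dvd_natCard (oddCore G) h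
        rw [hu.1] at h1
        exact Nat.not_even_iff_odd.2 odd_card_oddCore (even_iff_two_dvd.2 h1)
      have hlt : Nat.card (G ⧸ oddCore G) < Nat.card G := by
        have h1 := Subgroup.card_eq_card_quotient_mul_card_subgroup (oddCore G)
        have h2 : 1 < Nat.card (oddCore G) := Finite.one_lt_card_iff_nontrivial.2
          ((Subgroup.nontrivial_iff_ne_bot _).2 hO)
        rw [h1]
        exact (Nat.lt_mul_iff_one_lt_right Nat.card_pos).2 h2
      have h := IH _ hlt _ (isolated_quotient hu huO) (QuotientGroup.mk g)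
      rw [show oddCore (G ⧸ oddCore G) = ⊥ from pPrimeCore_quotient_pPrimeCore,
        Subgroup.mem_bot] at h
      refine (QuotientGroup.eq_one_iff _).1 ?_
      simpa using h

end Cfsg.Agent.Cores
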